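import Cfsg.Agent.Lib.Aschbacher.Basic

/-!
Algebras of matrices normalised by an irreducible group: commutative ones give a decomposition
or an extension field, those with scalar centre give a tensor decomposition.
-/

set_option autoImplicit false

namespace Cfsg.Agent.Aschbacher

open scoped MatrixGroups Matrix Kronecker
open Matrix

variable {ι : Type} [Fintype ι] [DecidableEq ι] {F : Type*} [Field F]

section Kemb

variable {κ β : Type} [Fintype κ] [DecidableEq κ] [Fintype β] [DecidableEq β]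

/-- `X ↦ P (X ⊗ 1) P⁻¹`, the left factor of a tensor decomposition. -/
def kemb (eq : ι ≃ κ × β) (P : GL ι F) : Matrix κ κ F →ₐ[F] Matrix ι ι F where
  toFun X := cj P ((X ⊗ₖ (1 : Matrix β β F)).submatrix eq eq)
  map_one' := by simp [Matrix.submatrix_one_equiv]
  map_mul' X Y := by
    rw [← map_mul, Matrix.submatrix_mul_equiv, ← Matrix.mul_kronecker_mul, one_mul]
  map_zero' := by simp [Matrix.submatrix_zero]
  map_add' X Y := by rw [← map_add, Matrix.add_kronecker]; rfl
  commutes' r := by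
    simp [Algebra.algebraMap_eq_smul_one, Matrix.smul_kronecker, Matrix.submatrix_smul,
      Matrix.submatrix_one_equiv]

/-- `Y ↦ P (1 ⊗ Y) P⁻¹`, the right factor of a tensor decomposition. -/
def kembR (eq : ι ≃ κ × β) (P : GL ι F) : Matrix β β F →ₐ[F] Matrix ι ι F where
  toFun Y := cj P (((1 : Matrix κ κ F) ⊗ₖ Y).submatrix eq eq)
  map_one' := by simp [Matrix.submatrix_one_equiv]
  map_mul' X Y := by
    rw [← map_mul, Matrix.submatrix_mul_equiv, ← Matrix.mul_kronecker_mul, one_mul]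
  map_zero' := by simp [Matrix.submatrix_zero]
  map_add' X Y := by rw [← map_add, Matrix.kronecker_add]; rfl
  commutes' r := by
    simp [Algebra.algebraMap_eq_smul_one, Matrix.kronecker_smul, Matrix.submatrix_smul,
      Matrix.submatrix_one_equiv]

lemma kemb_apply (eq : ι ≃ κ × β) (P : GL ι F) (X : Matrix κ κ F) :
    kemb eq P X = cj P ((X ⊗ₖ (1 : Matrix β β F)).submatrix eq eq) := rfl

lemma kembR_apply (eq : ι ≃ κ × β) (P : GL ι F) (Y : Matrix β β F) :
    kembR eq P Y = cj P (((1 : Matrix κ κ F) ⊗ₖ Y).submatrix eq eq) := rfl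

lemma kemb_mul_kembR (eq : ι ≃ κ × β) (P : GL ι F) (X : Matrix κ κ F) (Y : Matrix β β F) :
    kemb eq P X * kembR eq P Y = cj P ((X ⊗ₖ Y).submatrix eq eq) := by
  rw [kemb_apply, kembR_apply, ← map_mul, Matrix.submatrix_mul_equiv, ← Matrix.mul_kronecker_mul,
    one_mul, mul_one]

lemma kembR_mul_kemb (eq : ι ≃ κ × β) (P : GL ι F) (X : Matrix κ κ F) (Y : Matrix β β F) :
    kembR eq P Y * kemb eq P X = cj P ((X ⊗ₖ Y).submatrix eq eq) := by
  rw [kemb_apply, kembR_apply, ← map_mul, Matrix.submatrix_mul_equiv, ← Matrix.mul_kronecker_mul,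
    one_mul, mul_one]

/-- The centraliser of the left factor is the right factor. -/
lemma exists_kembR_of_comm [Nonempty κ] (eq : ι ≃ κ × β) (P : GL ι F) (x : Matrix ι ι F)
    (hx : ∀ i j : κ, x * kemb eq P (Matrix.single i j 1) = kemb eq P (Matrix.single i j 1) * x) :
    ∃ Y, x = kembR eq P Y := by
  obtain ⟨i₀⟩ := ‹Nonempty κ›
  let y : Matrix (κ × β) (κ × β) F := (cj P⁻¹ x).submatrix eq.symm eq.symm
  have hy : ∀ i j : κ, y * (Matrix.single i j (1 : F) ⊗ₖ (1 : Matrix β β F)) =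
      (Matrix.single i j (1 : F) ⊗ₖ (1 : Matrix β β F)) * y := by
    intro i j
    have h := congrArg (fun z => (cj P⁻¹ z).submatrix eq.symm eq.symm) (hx i j)
    simpa [y, kemb_apply, map_mul, cj_inv_cj, ← Matrix.submatrix_mul_equiv _ _ _ eq.symm,
      Matrix.submatrix_submatrix] using h
  refine ⟨Matrix.of fun s t => y (i₀, s) (i₀, t), ?_⟩
  have key : ∀ i j s t, y (i, s) (j, t) = if i = j then y (i₀, s) (i₀, t) else 0 := by
    intro i j s t
    have h := congrFun (congrFun (hy i₀ i) (i₀, s)) (i, t)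
    have h' := congrFun (congrFun (hy j j) (i, s)) (j, t)
    simp [Matrix.mul_apply, Fintype.sum_prod_type, Matrix.single_apply, Matrix.one_apply,
      Finset.sum_ite_eq, Finset.sum_ite_eq', ite_and] at h h'
    split_ifs with hij
    · subst hij
      simpa using h.symm
    · simpa [hij, Ne.symm hij] using h'
  rw [kembR_apply, ← cj_cj_inv P x]
  congr 1
  ext r c
  have h2 := key (eq r).1 (eq c).1 (eq r).2 (eq c).2
  simp [y] at h2
  simp [Matrix.one_apply, y]
  exact h2

lemma kemb_injective [Nonempty β] (eq : ι ≃ κ × β) (P : GL ι F) :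
    Function.Injective (kemb eq P) := by
  intro X X' h
  obtain ⟨t⟩ := ‹Nonempty β›
  ext i j
  have h' := congrFun (congrFun ((cj P).injective h) (eq.symm (i, t))) (eq.symm (j, t))
  simpa using h'

lemma kembR_injective [Nonempty κ] (eq : ι ≃ κ × β) (P : GL ι F) :
    Function.Injective (kembR eq P) := by
  intro X X' h
  obtain ⟨t⟩ := ‹Nonempty κ›
  ext i j
  have h' := congrFun (congrFun ((cj P).injective h) (eq.symm (t, i))) (eq.symm (t, j))
  simpa using h'

end Kemb

/-- Two algebra homomorphisms out of a matrix algebra that agree on matrix units are equal. -/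
lemma algHom_ext_single {κ : Type} [Fintype κ] [DecidableEq κ] {R : Type*} [Semiring R]
    [Algebra F R] {f g : Matrix κ κ F →ₐ[F] R}
    (h : ∀ i j, f (Matrix.single i j 1) = g (Matrix.single i j 1)) : f = g := by
  ext X
  rw [Matrix.matrix_eq_sum_single X]
  simp only [map_sum]
  refine Finset.sum_congr rfl fun i _ => Finset.sum_congr rfl fun j _ => ?_
  rw [← mul_one (X i j), ← smul_eq_mul, ← Matrix.smul_single, map_smul, map_smul, h]

/-- An algebra homomorphism from a matrix algebra is a left tensor factor embedding. -/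
lemma exists_eq_kemb {κ : Type} [Fintype κ] [DecidableEq κ] [Nonempty κ]
    (f : Matrix κ κ F →ₐ[F] Matrix ι ι F) :
    ∃ (b : ℕ) (eq : ι ≃ κ × Fin b) (P : GL ι F), f = kemb eq P := by
  obtain ⟨b, eq, P, h⟩ := ((isMatUnits_single F (κ := κ)).map f.toRingHom).exists_conj
  exact ⟨b, eq, P, algHom_ext_single h⟩

/-- The permutation matrix of a permutation, as an invertible matrix. -/
def permGL (π : Equiv.Perm ι) : GL ι F where
  val := (1 : Matrix ι ι F).submatrix π id
  inv := (1 : Matrix ι ι F).submatrix id π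
  val_inv := by
    rw [← Matrix.submatrix_mul _ _ _ _ _ Function.bijective_id, one_mul,
      Matrix.submatrix_one_equiv]
  inv_val := by
    rw [← Matrix.submatrix_mul _ _ _ _ _ π.bijective, one_mul, Matrix.submatrix_id_id]

lemma cj_permGL (π : Equiv.Perm ι) (X : Matrix ι ι F) :
    cj (permGL π) X = X.submatrix π π := by
  rw [cj_apply]
  show (1 : Matrix ι ι F).submatrix π id * X * (1 : Matrix ι ι F).submatrix id π = _
  ext r c
  simp [Matrix.mul_apply, Matrix.one_apply]

/-- Skolem–Noether for matrix algebras. -/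
lemma exists_cj_of_algHom (f : Matrix ι ι F →ₐ[F] Matrix ι ι F) :
    ∃ x : GL ι F, ∀ X, f X = cj x X := by
  rcases isEmpty_or_nonempty ι with h | h
  · exact ⟨1, fun X => Subsingleton.elim _ _⟩
  obtain ⟨b, eq, P, rfl⟩ := exists_eq_kemb f
  have hb : b = 1 := by
    have := Fintype.card_congr eq
    simp only [Fintype.card_prod, Fintype.card_fin] at this
    exact (mul_left_cancel₀ (Fintype.card_ne_zero (α := ι)) ((mul_one _).trans this)).symm
  subst hb
  refine ⟨P * permGL (eq.trans (Equiv.prodUnique ι (Fin 1))), fun X => ?_⟩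
  rw [cj_mul, cj_permGL, kemb_apply]
  congr 1
  ext r c
  rw [Matrix.submatrix_apply, Matrix.submatrix_apply, Matrix.kroneckerMap_apply,
    Subsingleton.elim (eq r).2 (eq c).2, Matrix.one_apply_eq, mul_one]
  rfl

/-! ### Commutative algebras -/

variable [Fintype F]

/-- The centre of a subalgebra, as a subalgebra of the whole matrix algebra. -/
def centre (A : Subalgebra F (Matrix ι ι F)) : Subalgebra F (Matrix ι ι F) :=
  A ⊓ Subalgebra.centralizer F (A : Set (Matrix ι ι F))

lemma mem_centre {A : Subalgebra F (Matrix ι ι F)} {x : Matrix ι ι F} :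
    x ∈ centre A ↔ x ∈ A ∧ ∀ y ∈ A, y * x = x * y := Iff.rfl

lemma Normalises.centre {H : Subgroup (GL ι F)} {A : Subalgebra F (Matrix ι ι F)}
    (hA : Normalises H (A : Set (Matrix ι ι F))) :
    Normalises H (Aschbacher.centre A : Set (Matrix ι ι F)) := by
  intro g hg x hx
  refine ⟨hA g hg x hx.1, fun y hy => ?_⟩
  have h := congrArg (cj g) (hx.2 (cj g⁻¹ y) (hA g⁻¹ (inv_mem hg) y hy))
  simpa [map_mul, cj_cj_inv] using h

/-- `e` is a primitive idempotent of the commutative algebra `C`. -/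
structure IsPrim (C : Subalgebra F (Matrix ι ι F)) (e : Matrix ι ι F) : Prop where
  mem : e ∈ C
  idem : e * e = e
  ne_zero : e ≠ 0
  minimal : ∀ f ∈ C, f * f = f → e * f = e ∨ e * f = 0

lemma IsPrim.cj {H : Subgroup (GL ι F)} {C : Subalgebra F (Matrix ι ι F)}
    (hC : Normalises H (C : Set (Matrix ι ι F))) {g : GL ι F} (hg : g ∈ H) {e : Matrix ι ι F}
    (he : IsPrim C e) : IsPrim C (Aschbacher.cj g e) where
  mem := hC g hg e he.mem
  idem := by rw [← map_mul, he.idem]
  ne_zero h := he.ne_zero ((Aschbacher.cj g).injective (h.trans (map_zero _).symm))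
  minimal f hf hff := by
    rcases he.minimal _ (hC g⁻¹ (inv_mem hg) f hf) (by rw [← map_mul, hff]) with h | h
    · left; simpa [map_mul, cj_cj_inv] using congrArg (Aschbacher.cj g) h
    · right; simpa [map_mul, cj_cj_inv] using congrArg (Aschbacher.cj g) h

lemma exists_pow_isIdempotent {M : Type*} [Monoid M] [Finite M] (x : M) :
    ∃ m : ℕ, 0 < m ∧ x ^ m * x ^ m = x ^ m := by
  obtain ⟨a, b, hab, h⟩ := Finite.exists_ne_map_eq_of_infinite (fun n : ℕ => x ^ n)
  wlog hlt : a < b generalizing a b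
  · exact this b a hab.symm h.symm (by omega)
  obtain ⟨d, hd, rfl⟩ : ∃ d, 0 < d ∧ b = a + d := ⟨b - a, by omega, by omega⟩
  have hstep : ∀ m, a ≤ m → ∀ j, x ^ (m + j * d) = x ^ m := by
    intro m hm j
    induction j with
    | zero => simp
    | succ j ih =>
      obtain ⟨c, hc⟩ : ∃ c, m + j * d = a + c := ⟨m + j * d - a, by omega⟩
      rw [show m + (j + 1) * d = (a + d) + c by rw [Nat.succ_mul]; omega, pow_add]
      rw [← show x ^ a = x ^ (a + d) from h, ← pow_add, ← hc, ih]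
  refine ⟨(a + 1) * d, Nat.mul_pos (Nat.succ_pos a) hd, ?_⟩
  rw [← pow_add, hstep _ (by nlinarith) (a + 1)]

lemma exists_prim {C : Subalgebra F (Matrix ι ι F)} (hcomm : ∀ x ∈ C, ∀ y ∈ C, x * y = y * x)
    {f : Matrix ι ι F} (hf : f ∈ C) (hff : f * f = f) (hf0 : f ≠ 0) :
    ∃ e, IsPrim C e ∧ e * f = e := by
  classical
  let T := {g : Matrix ι ι F | g ∈ C ∧ g * g = g ∧ g ≠ 0 ∧ g * f = g}
  have hT : T.Finite := Set.toFinite T
  obtain ⟨e, ⟨he, hee, he0, hef⟩, hmin⟩ :=
    Set.exists_min_image T (fun g => g.rank) hT ⟨f, hf, hff, hf0, hff⟩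
  refine ⟨e, ⟨he, hee, he0, fun g hg hgg => ?_⟩, hef⟩
  by_cases h0 : e * g = 0
  · exact Or.inr h0
  left
  have hT' : e * g ∈ T := by
    refine ⟨mul_mem he hg, ?_, h0, ?_⟩
    · rw [mul_assoc, ← mul_assoc g, hcomm g hg e he, mul_assoc, hgg, ← mul_assoc, hee]
    · rw [mul_assoc, hcomm g hg f hf, ← mul_assoc, hef]
  have hle : LinearMap.range (e * g).mulVecLin ≤ LinearMap.range e.mulVecLin := by
    rw [Matrix.mulVecLin_mul]; exact LinearMap.range_comp_le_range _ _
  have heq := Submodule.eq_of_le_of_finrank_le hle (hmin _ hT')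
  refine mulVec_ext fun v => ?_
  obtain ⟨w, hw⟩ : e *ᵥ v ∈ LinearMap.range (e * g).mulVecLin := by rw [heq]; exact ⟨v, rfl⟩
  simp only [Matrix.mulVecLin_apply] at hw
  have h2 : e * g * e = e * g := by rw [mul_assoc, hcomm g hg e he, ← mul_assoc, hee]
  have h3 := congrArg (fun z => (e * g) *ᵥ z) hw
  simp only [Matrix.mulVec_mulVec, hT'.2.1, h2] at h3
  rw [← h3, hw]

lemma sum_prim_eq_one {C : Subalgebra F (Matrix ι ι F)}
    (hcomm : ∀ x ∈ C, ∀ y ∈ C, x * y = y * x) :
    ∑ e ∈ (Set.toFinite {e | IsPrim C e}).toFinset, e = 1 := by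
  classical
  set S := (Set.toFinite {e | IsPrim C e}).toFinset with hS
  have hmem : ∀ e, e ∈ S ↔ IsPrim C e := by simp [hS]
  have horth : ∀ e ∈ S, ∀ f ∈ S, e ≠ f → e * f = 0 := by
    intro e he f hf hne
    rw [hmem] at he hf
    refine (he.minimal f hf.mem hf.idem).resolve_left fun h => ?_
    rcases hf.minimal e he.mem he.idem with h' | h'
    · exact hne (h ▸ hcomm e he.mem f hf.mem ▸ h')
    · exact he.ne_zero (h ▸ hcomm e he.mem f hf.mem ▸ h')
  have hsC : ∑ e ∈ S, e ∈ C := sum_mem fun e he => ((hmem e).1 he).mem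
  have hes : ∀ e ∈ S, e * ∑ f ∈ S, f = e := by
    intro e he
    rw [Finset.mul_sum, Finset.sum_eq_single e (fun f hf hne => horth e he f hf hne.symm)
      (fun h => (h he).elim), ((hmem e).1 he).idem]
  by_contra hne
  have hid : (1 - ∑ e ∈ S, e) * (1 - ∑ e ∈ S, e) = 1 - ∑ e ∈ S, e := by
    have : (∑ e ∈ S, e) * ∑ e ∈ S, e = ∑ e ∈ S, e := by
      rw [Finset.sum_mul]; exact Finset.sum_congr rfl hes
    rw [mul_sub, mul_one, sub_mul, one_mul, this, sub_self, sub_zero]
  obtain ⟨e, he, hef⟩ := exists_prim hcomm (sub_mem (one_mem C) hsC) hid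
    (sub_ne_zero.2 (Ne.symm hne))
  rw [mul_sub, mul_one, hes e ((hmem e).2 he), sub_self] at hef
  exact he.ne_zero hef.symm

/-- A reduced commutative algebra without non-trivial idempotents is a field. -/
lemma isFieldSubalgebra_of_prim {C : Subalgebra F (Matrix ι ι F)}
    (hcomm : ∀ x ∈ C, ∀ y ∈ C, x * y = y * x)
    (hred : ∀ x ∈ C, IsNilpotent x → x = 0) (hidem : ∀ e, IsPrim C e → e = 1) :
    Geo.IsFieldSubalgebra (Module.finrank F C) C := by
  refine ⟨hcomm, fun x hx hx0 => ?_, rfl⟩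
  obtain ⟨m, hm, hmm⟩ := exists_pow_isIdempotent x
  have h0 : x ^ m ≠ 0 := fun h => hx0 (hred x hx ⟨m, h⟩)
  obtain ⟨e, he, hex⟩ := exists_prim hcomm (pow_mem hx m) hmm h0
  rw [hidem e he, one_mul] at hex
  obtain ⟨k, rfl⟩ := Nat.exists_eq_succ_of_ne_zero hm.ne'
  exact ⟨x ^ k, pow_mem hx k, by rw [← pow_succ']; exact hex⟩

/-- Commuting nilpotent matrices have a common kernel. -/
lemma exists_common_kernel [Nonempty ι] (S : Finset (Matrix ι ι F))
    (hnil : ∀ x ∈ S, IsNilpotent x) (hcomm : ∀ x ∈ S, ∀ y ∈ S, x * y = y * x) :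
    ∃ v : ι → F, v ≠ 0 ∧ ∀ x ∈ S, x *ᵥ v = 0 := by
  classical
  induction S using Finset.induction_on with
  | empty =>
    obtain ⟨i⟩ := ‹Nonempty ι›
    exact ⟨Pi.single i 1, by simp, by simp⟩
  | @insert a T ha ih =>
    obtain ⟨v, hv, hvT⟩ := ih (fun x hx => hnil x (Finset.mem_insert_of_mem hx))
      (fun x hx y hy => hcomm x (Finset.mem_insert_of_mem hx) y (Finset.mem_insert_of_mem hy))
    obtain ⟨k, hk⟩ := hnil a (Finset.mem_insert_self a T)
    have hex : ∃ j, a ^ j *ᵥ v = 0 := ⟨k, by simp [hk]⟩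
    obtain ⟨j, hj⟩ : ∃ j, Nat.find hex = j + 1 := by
      refine Nat.exists_eq_succ_of_ne_zero fun h => hv ?_
      have := Nat.find_spec hex
      rw [h] at this
      simpa using this
    refine ⟨a ^ j *ᵥ v, Nat.find_min hex (by omega), fun x hx => ?_⟩
    rcases Finset.mem_insert.1 hx with rfl | hxT
    · have := Nat.find_spec hex
      rw [hj, pow_succ'] at this
      rwa [Matrix.mulVec_mulVec]
    · have hc : Commute x a :=
        hcomm x (Finset.mem_insert_of_mem hxT) a (Finset.mem_insert_self a T)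
      rw [Matrix.mulVec_mulVec, (hc.pow_right j).eq,
        ← Matrix.mulVec_mulVec, hvT x hxT, Matrix.mulVec_zero]

/-- A commutative algebra normalised by an irreducible group is reduced. -/
lemma eq_zero_of_isNilpotent [Nonempty ι] {H : Subgroup (GL ι F)}
    (hirr : Geo.ActsIrreducibly (Geo.matrixSet H)) {C : Subalgebra F (Matrix ι ι F)}
    (hcomm : ∀ x ∈ C, ∀ y ∈ C, x * y = y * x) (hC : Normalises H (C : Set (Matrix ι ι F)))
    {x : Matrix ι ι F} (hx : x ∈ C) (hnil : IsNilpotent x) : x = 0 := by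
  classical
  let S := (Set.toFinite {y | y ∈ C ∧ IsNilpotent y}).toFinset
  have hS : ∀ y, y ∈ S ↔ y ∈ C ∧ IsNilpotent y := by simp [S]
  obtain ⟨v, hv, hvS⟩ := exists_common_kernel S (fun y hy => ((hS y).1 hy).2)
    (fun y hy z hz => hcomm y ((hS y).1 hy).1 z ((hS z).1 hz).1)
  let W : Submodule F (ι → F) :=
    { carrier := {w | ∀ y ∈ S, y *ᵥ w = 0}
      add_mem' := fun {a b} ha hb y hy => by rw [Matrix.mulVec_add, ha y hy, hb y hy, add_zero]
      zero_mem' := fun y _ => Matrix.mulVec_zero y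
      smul_mem' := fun c a ha y hy => by rw [Matrix.mulVec_smul, ha y hy, smul_zero] }
  have hW : W = ⊤ := by
    refine eq_top_of_invariant hirr ?_ (v := v) hvS hv
    rintro _ ⟨g, hg, rfl⟩ w hw y hy
    have hy' : cj g⁻¹ y ∈ S :=
      (hS _).2 ⟨hC g⁻¹ (inv_mem hg) y ((hS y).1 hy).1, ((hS y).1 hy).2.map _⟩
    have h := cj_mulVec g (cj g⁻¹ y) w
    rw [cj_cj_inv, hw _ hy', Matrix.mulVec_zero] at h
    exact h
  refine mulVec_ext fun w => ?_
  rw [Matrix.zero_mulVec]
  exact (hW.ge (Submodule.mem_top : w ∈ ⊤)) x ((hS x).2 ⟨hx, hnil⟩)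

/-- Primitive idempotents other than `1` give a permuted decomposition. -/
lemma exists_decomposition [Nonempty ι] {H : Subgroup (GL ι F)}
    (hirr : Geo.ActsIrreducibly (Geo.matrixSet H)) {C : Subalgebra F (Matrix ι ι F)}
    (hcomm : ∀ x ∈ C, ∀ y ∈ C, x * y = y * x) (hC : Normalises H (C : Set (Matrix ι ι F)))
    {e₀ : Matrix ι ι F} (he₀ : IsPrim C e₀) (hne : e₀ ≠ 1) :
    ∃ (t m : ℕ) (E : Fin t → Matrix ι ι F),
      Function.Injective E ∧ (∀ x, IsPrim C x ↔ ∃ i, E i = x) ∧
      Geo.IsMDecomposition m (fun i => LinearMap.range (Matrix.toLin' (E i))) ∧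
      H ≤ Geo.decompositionStabilizer (fun i => LinearMap.range (Matrix.toLin' (E i))) ∧
      ∀ i j, ∃ g ∈ H, cj g (E i) = E j := by
  classical
  let O : Set (Matrix ι ι F) := {x | ∃ g ∈ H, cj g e₀ = x}
  have hO : ∀ x ∈ O, IsPrim C x := by rintro _ ⟨g, hg, rfl⟩; exact he₀.cj hC hg
  have horth : ∀ x y, IsPrim C x → IsPrim C y → x ≠ y → x * y = 0 := by
    intro x y hx hy hxy
    refine (hx.minimal y hy.mem hy.idem).resolve_left fun h => ?_
    rcases hy.minimal x hx.mem hx.idem with h' | h'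
    · exact hxy (h ▸ hcomm x hx.mem y hy.mem ▸ h')
    · exact hx.ne_zero (h ▸ hcomm x hx.mem y hy.mem ▸ h')
  let Of := (Set.toFinite O).toFinset
  have hOf : ∀ x, x ∈ Of ↔ x ∈ O := by simp [Of, O]
  let s := ∑ x ∈ Of, x
  have hse : ∀ x ∈ O, x * s = x := by
    intro x hx
    rw [Finset.mul_sum, Finset.sum_eq_single x
      (fun y hy hne => horth x y (hO x hx) (hO y ((hOf y).1 hy)) hne.symm)
      (fun h => (h ((hOf x).2 hx)).elim), (hO x hx).idem]
  have he₀O : e₀ ∈ O := ⟨1, one_mem H, by simp [cj_apply]⟩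
  have hs : ∀ g ∈ H, cj g s = s := by
    intro g hg
    rw [map_sum]
    refine Finset.sum_bij' (fun x _ => cj g x) (fun x _ => cj g⁻¹ x) ?_ ?_ ?_ ?_ ?_
    · intro x hx
      obtain ⟨k, hk, rfl⟩ := (hOf x).1 hx
      exact (hOf _).2 ⟨g * k, mul_mem hg hk, cj_mul g k e₀⟩
    · intro x hx
      obtain ⟨k, hk, rfl⟩ := (hOf x).1 hx
      exact (hOf _).2 ⟨g⁻¹ * k, mul_mem (inv_mem hg) hk, cj_mul g⁻¹ k e₀⟩
    · exact fun x _ => cj_inv_cj g x
    · exact fun x _ => cj_cj_inv g x
    · exact fun x _ => rfl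
  have hs1 : s = 1 := by
    obtain ⟨v, hv⟩ : ∃ v, e₀ *ᵥ v ≠ 0 := by
      by_contra h
      push Not at h
      exact he₀.ne_zero (mulVec_ext fun v => by rw [h v, Matrix.zero_mulVec])
    have hmem : e₀ *ᵥ v ∈ LinearMap.range s.mulVecLin :=
      ⟨e₀ *ᵥ v, by
        rw [Matrix.mulVecLin_apply, Matrix.mulVec_mulVec]
        congr 1
        exact (hcomm _ (sum_mem fun x hx => (hO x ((hOf x).1 hx)).mem) _ he₀.mem).trans
          (hse e₀ he₀O)⟩
    have htop : LinearMap.range s.mulVecLin = ⊤ := by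
      refine eq_top_of_invariant hirr ?_ hmem hv
      rintro _ ⟨g, hg, rfl⟩ _ ⟨w, rfl⟩
      refine ⟨(g : Matrix ι ι F) *ᵥ w, ?_⟩
      have h := cj_mulVec g s w
      rw [hs g hg] at h
      simpa using h
    have hss : s * s = s := by
      rw [Finset.sum_mul]
      exact Finset.sum_congr rfl fun x hx => hse x ((hOf x).1 hx)
    refine mulVec_ext fun w => ?_
    obtain ⟨u, rfl⟩ : w ∈ LinearMap.range s.mulVecLin := by rw [htop]; trivial
    simp [Matrix.mulVec_mulVec, hss]
  have hall : ∀ x, IsPrim C x → x ∈ O := by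
    intro x hx
    by_contra hxO
    refine hx.ne_zero ?_
    rw [← mul_one x, ← hs1, Finset.mul_sum]
    exact Finset.sum_eq_zero fun y hy =>
      horth x y hx (hO y ((hOf y).1 hy)) (fun h => hxO (h ▸ (hOf y).1 hy))
  let E : Fin Of.card → Matrix ι ι F := fun i => (Of.equivFin.symm i : Matrix ι ι F)
  have hEinj : Function.Injective E := fun i j h => Of.equivFin.symm.injective (Subtype.ext h)
  have hEO : ∀ i, E i ∈ O := fun i => (hOf _).1 (Of.equivFin.symm i).2
  have hEsurj : ∀ x ∈ O, ∃ i, E i = x := fun x hx =>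
    ⟨Of.equivFin ⟨x, (hOf x).2 hx⟩, by simp [E]⟩
  have htrans : ∀ i j, ∃ g ∈ H, cj g (E i) = E j := by
    intro i j
    obtain ⟨a, ha, hai⟩ := hEO i
    obtain ⟨c, hc, hcj⟩ := hEO j
    exact ⟨c * a⁻¹, mul_mem hc (inv_mem ha), by rw [cj_mul, ← hai, cj_inv_cj, hcj]⟩
  have hmap : ∀ g ∈ H, ∀ i j, cj g (E i) = E j →
      (LinearMap.range (Matrix.toLin' (E i))).map (Matrix.toLin' (g : Matrix ι ι F)) =
        LinearMap.range (Matrix.toLin' (E j)) := by
    intro g hg i j h
    rw [← LinearMap.range_comp, ← Matrix.toLin'_mul,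
      show (g : Matrix ι ι F) * E i = E j * (g : Matrix ι ι F) by rw [← h, cj_apply]; simp [mul_assoc],
      Matrix.toLin'_mul, LinearMap.range_comp_of_range_eq_top]
    refine LinearMap.range_eq_top.2 fun w => ⟨((g⁻¹ : GL ι F) : Matrix ι ι F) *ᵥ w, ?_⟩
    simp [Matrix.toLin'_apply, Matrix.mulVec_mulVec]
  have hsum : ∑ i, E i = 1 := by
    rw [← hs1]
    exact (Equiv.sum_comp Of.equivFin.symm (fun x : Of => (x : Matrix ι ι F))).trans
      (Finset.sum_coe_sort Of id)
  have hcard : 2 ≤ Of.card := by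
    by_contra hlt
    obtain ⟨i, hi⟩ := hEsurj e₀ he₀O
    haveI : Subsingleton (Fin Of.card) := ⟨fun a b => Fin.ext (by omega)⟩
    refine hne ?_
    rw [← hsum, Finset.sum_eq_single i (fun j _ hj => absurd (Subsingleton.elim j i) hj)
      (fun h => (h (Finset.mem_univ i)).elim), hi]
  obtain ⟨i₀, hi₀⟩ := hEsurj e₀ he₀O
  refine ⟨_, Module.finrank F (LinearMap.range (Matrix.toLin' (E i₀))), E, hEinj,
    fun x => ⟨fun hx => hEsurj x (hall x hx), fun ⟨i, hi⟩ => hi ▸ hO _ (hEO i)⟩,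
    ⟨hcard, ?_, fun i => ?_, ?_, ?_⟩, fun g hg => ?_, htrans⟩
  · refine Module.finrank_pos_iff.2 ?_
    obtain ⟨v, hv⟩ : ∃ v, e₀ *ᵥ v ≠ 0 := by
      by_contra h
      push Not at h
      exact he₀.ne_zero (mulVec_ext fun v => by rw [h v, Matrix.zero_mulVec])
    exact ⟨⟨_, ⟨v, rfl⟩⟩, 0, fun h => hv (by simpa [hi₀, Matrix.toLin'_apply] using congrArg Subtype.val h)⟩
  · obtain ⟨g, hg, hgi⟩ := htrans i₀ i
    rw [← hmap g hg i₀ i hgi]
    exact (LinearEquiv.finrank_eq (Submodule.equivMapOfInjective _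
      (fun a b h => by
        simpa [Matrix.toLin'_apply, Matrix.mulVec_mulVec] using
          congrArg (fun z => ((g⁻¹ : GL ι F) : Matrix ι ι F) *ᵥ z) h) _)).symm
  · rw [iSupIndep_def]
    intro i
    rw [Submodule.disjoint_def]
    intro v hv hv'
    have h1 : E i *ᵥ v = v := by
      obtain ⟨w, rfl⟩ := hv
      simp [Matrix.toLin'_apply, Matrix.mulVec_mulVec, (hO _ (hEO i)).idem]
    have h2 : (⨆ j, ⨆ (_ : j ≠ i), LinearMap.range (Matrix.toLin' (E j))) ≤
        LinearMap.ker (Matrix.toLin' (E i)) := by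
      refine iSup₂_le fun j hj => ?_
      rintro _ ⟨w, rfl⟩
      simp [Matrix.toLin'_apply, Matrix.mulVec_mulVec,
        horth _ _ (hO _ (hEO i)) (hO _ (hEO j)) (fun h => hj (hEinj h).symm)]
    have h3 := h2 hv'
    rw [LinearMap.mem_ker, Matrix.toLin'_apply, h1] at h3
    exact h3
  · refine eq_top_iff.2 fun v _ => ?_
    rw [show v = ∑ i, E i *ᵥ v by rw [← Matrix.sum_mulVec, hsum, Matrix.one_mulVec]]
    exact sum_mem fun i _ => Submodule.mem_iSup_of_mem i ⟨v, rfl⟩
  · have hg' : ∀ i, ∃ j, cj g (E i) = E j := fun i => by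
      obtain ⟨a, ha, hai⟩ := hEO i
      obtain ⟨j, hj⟩ := hEsurj _ ⟨g * a, mul_mem hg ha, cj_mul g a e₀⟩
      exact ⟨j, by rw [hj, hai]⟩
    choose σ hσ using hg'
    have hσinj : Function.Injective σ := fun a b h =>
      hEinj ((cj g).injective (by rw [hσ a, hσ b, h]))
    exact ⟨Equiv.ofBijective σ (Finite.injective_iff_bijective.1 hσinj),
      fun i => hmap g hg i (σ i) (hσ i)⟩

/-- Outcome for a commutative algebra normalised by an irreducible group. -/
theorem commAlg_cases [Nonempty ι] {H : Subgroup (GL ι F)}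
    (hirr : Geo.ActsIrreducibly (Geo.matrixSet H)) {C : Subalgebra F (Matrix ι ι F)}
    (hcomm : ∀ x ∈ C, ∀ y ∈ C, x * y = y * x) (hC : Normalises H (C : Set (Matrix ι ι F))) :
    Geo.IsFieldSubalgebra (Module.finrank F C) C ∨ ∃ e, IsPrim C e ∧ e ≠ 1 := by
  by_cases h : ∀ e, IsPrim C e → e = 1
  · exact Or.inl (isFieldSubalgebra_of_prim hcomm
      (fun x hx => eq_zero_of_isNilpotent hirr hcomm hC hx) h)
  · push Not at h
    exact Or.inr h

/-! ### Algebras with scalar centre -/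

/-- The Jacobson radical of a normalised algebra vanishes. -/
lemma jacobson_eq_bot [Nonempty ι] {H : Subgroup (GL ι F)}
    (hirr : Geo.ActsIrreducibly (Geo.matrixSet H)) {A : Subalgebra F (Matrix ι ι F)}
    (hA : Normalises H (A : Set (Matrix ι ι F))) : Ring.jacobson A = ⊥ := by
  haveI : IsArtinianRing A := inferInstance
  set J := Ring.jacobson A with hJ
  by_contra hne
  obtain ⟨n, hn⟩ : IsNilpotent J := IsSemiprimaryRing.isNilpotent
  have hex : ∃ k, J ^ k = ⊥ := ⟨n, by simpa using hn⟩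
  obtain ⟨k, hk⟩ : ∃ k, Nat.find hex = k + 1 := by
    refine Nat.exists_eq_succ_of_ne_zero fun h => hne ?_
    have := Nat.find_spec hex
    rw [h, Submodule.pow_zero, Ideal.one_eq_top] at this
    exact eq_bot_iff.2 (le_top.trans this.le)
  obtain ⟨x, hx, hx0⟩ := Submodule.exists_mem_ne_zero_of_ne_bot
    (Nat.find_min hex (show k < Nat.find hex by omega))
  obtain ⟨v, hv⟩ : ∃ v, (x : Matrix ι ι F) *ᵥ v ≠ 0 := by
    by_contra h
    push Not at h
    exact hx0 (Subtype.ext (mulVec_ext fun v => by simp [h v]))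
  let W : Submodule F (ι → F) :=
    { carrier := {w | ∀ y ∈ J, (y : Matrix ι ι F) *ᵥ w = 0}
      add_mem' := fun {a b} ha hb y hy => by rw [Matrix.mulVec_add, ha y hy, hb y hy, add_zero]
      zero_mem' := fun y _ => Matrix.mulVec_zero _
      smul_mem' := fun c a ha y hy => by rw [Matrix.mulVec_smul, ha y hy, smul_zero] }
  have hvW : (x : Matrix ι ι F) *ᵥ v ∈ W := by
    intro y hy
    have hyx : y * x ∈ J ^ (k + 1) := by
      rw [Ideal.IsTwoSided.pow_succ]; exact Ideal.mul_mem_mul hy hx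
    rw [← hk, Nat.find_spec hex, Submodule.mem_bot] at hyx
    rw [Matrix.mulVec_mulVec, ← Subalgebra.coe_mul, hyx]
    simp
  have hW : W = ⊤ := by
    refine eq_top_of_invariant hirr ?_ hvW hv
    rintro _ ⟨g, hg, rfl⟩ w hw y hy
    let τ : A →+* A :=
      { toFun := fun z => ⟨cj g⁻¹ z, hA g⁻¹ (inv_mem hg) _ z.2⟩
        map_one' := Subtype.ext (map_one (cj g⁻¹))
        map_mul' := fun a b => Subtype.ext (map_mul (cj g⁻¹) _ _)
        map_zero' := Subtype.ext (map_zero (cj g⁻¹))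
        map_add' := fun a b => Subtype.ext (map_add (cj g⁻¹) _ _) }
    haveI : RingHomSurjective τ :=
      ⟨fun z => ⟨⟨cj g z, hA g hg _ z.2⟩, Subtype.ext (cj_inv_cj g _)⟩⟩
    have hy' : τ y ∈ J := Ring.le_comap_jacobson τ hy
    have h := cj_mulVec g (τ y : Matrix ι ι F) w
    rw [hw _ hy', Matrix.mulVec_zero, show cj g (τ y : Matrix ι ι F) = (y : Matrix ι ι F) from
      cj_cj_inv g _] at h
    exact h
  obtain ⟨y, hy, hy0⟩ := Submodule.exists_mem_ne_zero_of_ne_bot hne
  exact hy0 (Subtype.ext (mulVec_ext fun w => by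
    simpa using (hW.ge (Submodule.mem_top : w ∈ ⊤)) y hy))

/-- A finite-dimensional algebra over a finite field with zero radical and scalar centre is a
matrix algebra over that field. -/
theorem exists_algEquiv_matrix {F : Type*} [Field F] [Finite F] {A : Type*} [Ring A] [Nontrivial A]
    [Algebra F A] [Module.Finite F A] (hJ : Ring.jacobson A = ⊥)
    (hZ : ∀ z : A, (∀ y, z * y = y * z) → ∃ c : F, algebraMap F A c = z) :
    ∃ (a : ℕ) (_ : NeZero a), Nonempty (A ≃ₐ[F] Matrix (Fin a) (Fin a) F) := by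
  haveI : IsArtinianRing A := IsArtinianRing.of_finite F A
  haveI : IsSemisimpleRing A := IsArtinianRing.isSemisimpleRing_iff_jacobson.2 hJ
  obtain ⟨n, D, d, _, _, _, hd, ⟨φ⟩⟩ :=
    IsSemisimpleRing.exists_algEquiv_pi_matrix_divisionRing_finite F A
  have hscal : ∀ z : Π i, Matrix (Fin (d i)) (Fin (d i)) (D i), (∀ w, z * w = w * z) →
      ∃ c : F, z = algebraMap F _ c := by
    intro z hz
    obtain ⟨c, hc⟩ := hZ (φ.symm z) fun y => by
      have h := congrArg φ.symm (hz (φ y))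
      simpa [map_mul] using h
    exact ⟨c, by rw [← φ.apply_symm_apply z, ← hc, AlgEquiv.commutes]⟩
  have hn : 0 < n := by
    rcases Nat.eq_zero_or_pos n with rfl | h
    · have h0 : φ.symm 1 = φ.symm 0 := congrArg φ.symm (funext fun i => i.elim0)
      rw [map_one, map_zero] at h0
      exact absurd h0 one_ne_zero
    · exact h
  haveI := hd
  have hn1 : n = 1 := by
    by_contra hne
    obtain ⟨c, hc⟩ := hscal (Pi.single ⟨0, hn⟩ 1) fun w => funext fun i => by
      by_cases h : i = ⟨0, hn⟩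
      · subst h; simp
      · simp [h]
    have h0 := congrFun hc ⟨0, hn⟩
    have h1 := congrFun hc ⟨1, by omega⟩
    rw [Pi.single_eq_same, Pi.algebraMap_apply] at h0
    rw [Pi.single_eq_of_ne (by simp [Fin.ext_iff]), Pi.algebraMap_apply] at h1
    have : c = 0 := (algebraMap F (Matrix (Fin (d _)) (Fin (d _)) (D _))).injective
      (h1.symm.trans (map_zero _).symm)
    rw [this, map_zero] at h0
    exact one_ne_zero h0
  subst hn1
  haveI : Finite (D 0) := Module.finite_of_finite F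
  letI : Field (D 0) := littleWedderburn (D 0)
  have hDc : ∀ x y : D 0, x * y = y * x := mul_comm
  have hsurj : Function.Surjective (algebraMap F (D 0)) := by
    intro x
    obtain ⟨c, hc⟩ := hscal (Pi.single 0 (Matrix.diagonal fun _ => x)) fun w => funext fun i => by
      obtain rfl : i = 0 := Subsingleton.elim _ _
      ext r s
      simp [hDc]
    refine ⟨c, ?_⟩
    have h := congrFun (congrFun (congrFun hc 0) 0) 0
    simpa [Matrix.algebraMap_matrix_apply] using h.symm
  let ψ : F ≃ₐ[F] D 0 :=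
    AlgEquiv.ofBijective (Algebra.ofId F (D 0)) ⟨(algebraMap F (D 0)).injective, hsurj⟩
  have hev : Function.Bijective
      (Pi.evalAlgHom F (fun i => Matrix (Fin (d i)) (Fin (d i)) (D i)) 0) :=
    ⟨fun u w h => funext fun i => by obtain rfl : i = 0 := Subsingleton.elim _ _; exact h,
      fun u => ⟨Pi.single 0 u, by simp⟩⟩
  let χ := AlgEquiv.ofBijective _ hev
  exact ⟨d 0, hd 0, ⟨φ.trans (χ.trans ψ.mapMatrix.symm)⟩⟩

/-- An algebra with scalar centre, normalised by an irreducible group, is a tensor factor. -/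
theorem exists_kemb_range [Nonempty ι] {H : Subgroup (GL ι F)}
    (hirr : Geo.ActsIrreducibly (Geo.matrixSet H)) {A : Subalgebra F (Matrix ι ι F)}
    (hA : Normalises H (A : Set (Matrix ι ι F))) (hZ : centre A = ⊥) :
    ∃ (a b : ℕ) (eq : ι ≃ Fin a × Fin b) (P : GL ι F), A = (kemb eq P).range := by
  haveI : Nontrivial A := ⟨⟨0, 1, fun h => zero_ne_one (congrArg Subtype.val h)⟩⟩
  obtain ⟨a, _, ⟨φ⟩⟩ := exists_algEquiv_matrix (jacobson_eq_bot hirr hA) fun z hz => by
    have hmem : (z : Matrix ι ι F) ∈ centre A :=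
      ⟨z.2, fun y hy => (congrArg Subtype.val (hz ⟨y, hy⟩)).symm⟩
    rw [hZ, Algebra.mem_bot] at hmem
    obtain ⟨c, hc⟩ := hmem
    exact ⟨c, Subtype.ext hc⟩
  let f : Matrix (Fin a) (Fin a) F →ₐ[F] Matrix ι ι F := A.val.comp φ.symm.toAlgHom
  have hf : A = f.range := by
    ext x
    refine ⟨fun hx => ⟨φ ⟨x, hx⟩, by simp [f]⟩, ?_⟩
    rintro ⟨X, rfl⟩
    exact Subtype.prop _
  obtain ⟨b, eq, P, hP⟩ := exists_eq_kemb f
  exact ⟨a, b, eq, P, hP ▸ hf⟩

end Cfsg.Agent.Aschbacher
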