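import Mathlib
import Cfsg.Prelude.Def_GeometricClasses

/-!
Basic tools for the Aschbacher-type subgroup theorem: conjugation of matrices, systems of
matrix units inside a matrix algebra, and their consequences.
-/

set_option autoImplicit false

namespace Cfsg.Agent.Aschbacher

open scoped MatrixGroups Matrix Kronecker
open Matrix

variable {ι : Type} [Fintype ι] [DecidableEq ι] {F : Type*} [Field F]

/-- Conjugation by an invertible matrix, as an algebra automorphism. -/
def cj (g : GL ι F) : Matrix ι ι F ≃ₐ[F] Matrix ι ι F where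
  toFun x := (g : Matrix ι ι F) * x * ((g⁻¹ : GL ι F) : Matrix ι ι F)
  invFun x := ((g⁻¹ : GL ι F) : Matrix ι ι F) * x * (g : Matrix ι ι F)
  left_inv x := by simp [mul_assoc]
  right_inv x := by simp [mul_assoc]
  map_mul' x y := by simp [mul_assoc]
  map_add' x y := by simp [mul_add, add_mul]
  commutes' r := by
    rw [← Algebra.commutes r (g : Matrix ι ι F), mul_assoc, Units.mul_inv, mul_one]

lemma cj_apply (g : GL ι F) (x : Matrix ι ι F) :
    cj g x = (g : Matrix ι ι F) * x * ((g⁻¹ : GL ι F) : Matrix ι ι F) := rfl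

lemma cj_mul (g h : GL ι F) (x : Matrix ι ι F) : cj (g * h) x = cj g (cj h x) := by
  simp [cj_apply, mul_assoc]

lemma cj_inv_cj (g : GL ι F) (x : Matrix ι ι F) : cj g⁻¹ (cj g x) = x := by
  simp [cj_apply, mul_assoc]

lemma cj_cj_inv (g : GL ι F) (x : Matrix ι ι F) : cj g (cj g⁻¹ x) = x := by
  simp [cj_apply, mul_assoc]

lemma cj_eq_self_iff (g : GL ι F) (x : Matrix ι ι F) :
    cj g x = x ↔ (g : Matrix ι ι F) * x = x * (g : Matrix ι ι F) := by
  rw [cj_apply, Units.mul_inv_eq_iff_eq_mul]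

lemma cj_coe (g h : GL ι F) :
    cj g (h : Matrix ι ι F) = ((g * h * g⁻¹ : GL ι F) : Matrix ι ι F) := by
  simp [cj_apply]

/-- `H` normalises the set of matrices `S`. -/
def Normalises (H : Subgroup (GL ι F)) (S : Set (Matrix ι ι F)) : Prop :=
  ∀ g ∈ H, ∀ x ∈ S, cj g x ∈ S

lemma Normalises.cj_mem_iff {H : Subgroup (GL ι F)} {S : Set (Matrix ι ι F)}
    (hS : Normalises H S) {g : GL ι F} (hg : g ∈ H) (x : Matrix ι ι F) : cj g x ∈ S ↔ x ∈ S :=
  ⟨fun h => by simpa [cj_inv_cj] using hS g⁻¹ (inv_mem hg) _ h, hS g hg x⟩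

lemma Normalises.le_subalgebraNormalizer {H : Subgroup (GL ι F)}
    {A : Subalgebra F (Matrix ι ι F)} (hA : Normalises H (A : Set (Matrix ι ι F))) :
    H ≤ Geo.subalgebraNormalizer A :=
  fun _ hg k => (hA.cj_mem_iff hg k).symm

/-- An irreducible set of matrices: a non-zero invariant subspace is everything. -/
lemma eq_top_of_invariant {S : Set (Matrix ι ι F)} (hS : Geo.ActsIrreducibly S)
    {W : Submodule F (ι → F)} (hW : ∀ s ∈ S, ∀ v ∈ W, s *ᵥ v ∈ W) {v : ι → F} (hv : v ∈ W)
    (hv0 : v ≠ 0) : W = ⊤ := by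
  refine (hS W fun s hs => ?_).resolve_left fun h => hv0 (by simpa [h] using hv)
  rintro _ ⟨w, hw, rfl⟩
  simpa [Matrix.toLin'_apply] using hW s hs w hw

lemma mulVec_ext {x y : Matrix ι ι F} (h : ∀ v, x *ᵥ v = y *ᵥ v) : x = y :=
  Matrix.toLin'.injective (LinearMap.ext fun v => by simpa [Matrix.toLin'_apply] using h v)

lemma cj_mulVec (g : GL ι F) (x : Matrix ι ι F) (v : ι → F) :
    cj g x *ᵥ ((g : Matrix ι ι F) *ᵥ v) = (g : Matrix ι ι F) *ᵥ (x *ᵥ v) := by
  rw [Matrix.mulVec_mulVec, Matrix.mulVec_mulVec, cj_apply]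
  simp [mul_assoc]

/-! ### Systems of matrix units -/

/-- A system of matrix units indexed by `κ`. -/
structure IsMatUnits {κ R : Type*} [Fintype κ] [DecidableEq κ] [Semiring R] (e : κ → κ → R) :
    Prop where
  mul : ∀ i j k l, e i j * e k l = if j = k then e i l else 0
  sum_diag : ∑ i, e i i = 1

lemma isMatUnits_single {κ : Type*} [Fintype κ] [DecidableEq κ] (R : Type*) [Semiring R] :
    IsMatUnits (fun i j : κ => Matrix.single i j (1 : R)) where
  mul i j k l := by
    split_ifs with h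
    · subst h; simp
    · simp [h]
  sum_diag := by
    ext a b
    rw [Matrix.sum_apply, Finset.sum_eq_single a]
    · simp [Matrix.single_apply, Matrix.one_apply]
    · intro c _ hc
      simp [hc]
    · simp

lemma IsMatUnits.map {κ R S : Type*} [Fintype κ] [DecidableEq κ] [Semiring R] [Semiring S]
    {e : κ → κ → R} (he : IsMatUnits e) (f : R →+* S) : IsMatUnits (fun i j => f (e i j)) where
  mul i j k l := by
    rw [← map_mul, he.mul]
    split_ifs <;> simp
  sum_diag := by rw [← map_sum, he.sum_diag, map_one]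

/-- A system of matrix units in `M_n(F)` is, after one change of basis and a bijection of the
index set with `κ × Fin b`, the standard one tensored with the identity. -/
lemma IsMatUnits.exists_conj {κ : Type} [Fintype κ] [DecidableEq κ] [Nonempty κ]
    {e : κ → κ → Matrix ι ι F} (he : IsMatUnits e) :
    ∃ (b : ℕ) (eq : ι ≃ κ × Fin b) (P : GL ι F),
      ∀ i j, e i j = cj P ((Matrix.single i j (1 : F) ⊗ₖ (1 : Matrix (Fin b) (Fin b) F)).submatrix eq eq) := by
  classical
  obtain ⟨i₀⟩ := ‹Nonempty κ›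
  let W : Submodule F (ι → F) := LinearMap.range (Matrix.toLin' (e i₀ i₀))
  let b := Module.finrank F W
  let w := Module.finBasis F W
  let v : κ × Fin b → (ι → F) := fun p => e p.1 i₀ *ᵥ (w p.2 : ι → F)
  have hW : ∀ x ∈ W, e i₀ i₀ *ᵥ x = x := by
    rintro _ ⟨y, rfl⟩
    simp [Matrix.toLin'_apply, Matrix.mulVec_mulVec, he.mul]
  have hind : LinearIndependent F v := by
    rw [Fintype.linearIndependent_iff]
    rintro c hc ⟨i, j⟩
    have h := congrArg (fun x => e i₀ i *ᵥ x) hc
    simp only [v, Matrix.mulVec_sum, Matrix.mulVec_smul, Matrix.mulVec_mulVec, he.mul,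
      Matrix.mulVec_zero, Fintype.sum_prod_type] at h
    have hsum : ∑ j, c (i, j) • (w j : ι → F) = 0 := by
      rw [Finset.sum_eq_single i] at h
      · simpa [hW _ (w _).2] using h
      · intro i' _ hne
        simp [hne.symm]
      · simp
    exact Fintype.linearIndependent_iff.1 w.linearIndependent (fun j => c (i, j))
      (Subtype.ext (by simpa using hsum)) j
  have hspan : ⊤ ≤ Submodule.span F (Set.range v) := by
    intro x _
    have hx : x = ∑ i, e i i₀ *ᵥ (e i₀ i *ᵥ x) := by
      simp only [Matrix.mulVec_mulVec, he.mul, if_true, ← Matrix.sum_mulVec, he.sum_diag,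
        Matrix.one_mulVec]
    rw [hx]
    refine Submodule.sum_mem _ fun i _ => ?_
    have hmem : e i₀ i *ᵥ x ∈ W :=
      ⟨e i₀ i *ᵥ x, by simp [Matrix.toLin'_apply, Matrix.mulVec_mulVec, he.mul]⟩
    have hrep : e i₀ i *ᵥ x = ∑ j, w.repr ⟨_, hmem⟩ j • (w j : ι → F) := by
      have h := congrArg (fun y : W => (y : ι → F)) (w.sum_repr ⟨_, hmem⟩)
      simp only [Submodule.coe_sum, Submodule.coe_smul] at h
      exact h.symm
    rw [hrep, Matrix.mulVec_sum]
    refine Submodule.sum_mem _ fun j _ => ?_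
    rw [Matrix.mulVec_smul]
    exact Submodule.smul_mem _ _ (Submodule.subset_span ⟨(i, j), rfl⟩)
  let B := Module.Basis.mk hind hspan
  let eq : ι ≃ κ × Fin b := (Pi.basisFun F ι).indexEquiv B
  let P₀ : Matrix ι ι F := Matrix.of fun r c => v (eq c) r
  have hP : IsUnit P₀ :=
    Matrix.linearIndependent_cols_iff_isUnit.1 (hind.comp eq eq.injective)
  refine ⟨b, eq, hP.unit, fun i j => ?_⟩
  rw [cj_apply, Units.eq_mul_inv_iff_mul_eq, IsUnit.unit_spec]
  ext r c
  have h1 : (e i j * P₀) r c = (e i j *ᵥ v (eq c)) r := rfl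
  rw [h1]
  simp only [v, Matrix.mulVec_mulVec, he.mul, Matrix.mul_apply, P₀, Matrix.of_apply,
    Matrix.submatrix_apply, Matrix.kroneckerMap_apply, Matrix.single_apply, Matrix.one_apply]
  rw [← eq.symm.sum_comp]
  simp only [Equiv.apply_symm_apply, Fintype.sum_prod_type]
  by_cases h : j = (eq c).1
  · simp [h]
  · simp [h, Matrix.zero_mulVec]

end Cfsg.Agent.Aschbacher
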