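import Cfsg.Agent.Lib.Aschbacher.Basic

/-!
Bilinear forms given by a Gram matrix, and their similarity groups.
-/

set_option autoImplicit false

namespace Cfsg.Agent.Aschbacher

open scoped MatrixGroups Matrix Kronecker
open Matrix

variable {ι : Type} [Fintype ι] [DecidableEq ι] {F : Type*} [Field F]

/-- The bilinear form with Gram matrix `G`. -/
def formOf (G : Matrix ι ι F) (u v : ι → F) : F := u ⬝ᵥ (G *ᵥ v)

omit [DecidableEq ι] in
lemma formOf_bilinear (G : Matrix ι ι F) : Geo.IsBilinearForm (formOf G) where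
  add_left x y v := add_dotProduct _ _ _
  smul_left c x v := smul_dotProduct _ _ _
  add_right v x y := by simp [formOf, Matrix.mulVec_add, dotProduct_add]
  smul_right c v x := by simp [formOf, Matrix.mulVec_smul, dotProduct_smul]

lemma formOf_nondegenerate {G : Matrix ι ι F} (hG : IsUnit G) :
    Geo.IsNondegenerateForm (formOf G) := by
  intro v hv
  have hGT : IsUnit Gᵀ := by
      rw [Matrix.isUnit_iff_isUnit_det, Matrix.det_transpose, ← Matrix.isUnit_iff_isUnit_det]
      exact hG
  constructor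
  · have h : G *ᵥ v ≠ 0 := fun h => hv (Matrix.mulVec_injective_of_isUnit hG (by simp [h]))
    obtain ⟨i, hi⟩ := Function.ne_iff.1 h
    exact ⟨Pi.single i 1, by simpa [formOf, single_dotProduct] using hi⟩
  · have h : Gᵀ *ᵥ v ≠ 0 := fun h => hv (Matrix.mulVec_injective_of_isUnit hGT (by simp [h]))
    obtain ⟨i, hi⟩ := Function.ne_iff.1 h
    exact ⟨Pi.single i 1, by
      rw [formOf, Matrix.dotProduct_mulVec, dotProduct_single]
      simpa [Matrix.mulVec_transpose] using hi⟩

omit [DecidableEq ι] in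
lemma formOf_mulVec (G g : Matrix ι ι F) (u v : ι → F) :
    formOf G (g *ᵥ u) (g *ᵥ v) = formOf (gᵀ * G * g) u v := by
  unfold formOf
  rw [Matrix.mul_assoc, ← Matrix.mulVec_mulVec v gᵀ (G * g), Matrix.dotProduct_mulVec u gᵀ,
    Matrix.vecMul_transpose, Matrix.mulVec_mulVec]

lemma mem_similarity_of_gram {G : Matrix ι ι F} {g : GL ι F} {c : F} (hc : c ≠ 0)
    (h : (g : Matrix ι ι F)ᵀ * G * (g : Matrix ι ι F) = c • G) :
    g ∈ Geo.similarityGroup (formOf G) :=
  ⟨Units.mk0 c hc, fun u v => by
    rw [formOf_mulVec, h]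
    simp [formOf, Matrix.smul_mulVec, dotProduct_smul]⟩

omit [DecidableEq ι] in
lemma formOf_skew {G : Matrix ι ι F} (h : Gᵀ = -G) (u v : ι → F) :
    formOf G u v = -formOf G v u := by
  unfold formOf
  rw [Matrix.dotProduct_mulVec, ← Matrix.mulVec_transpose, h, Matrix.neg_mulVec, neg_dotProduct,
    dotProduct_comm]

omit [DecidableEq ι] in
lemma formOf_symm {G : Matrix ι ι F} (h : Gᵀ = G) (u v : ι → F) :
    formOf G u v = formOf G v u := by
  unfold formOf
  rw [Matrix.dotProduct_mulVec, ← Matrix.mulVec_transpose, h, dotProduct_comm]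

lemma formOf_self_eq_zero {G : Matrix ι ι F} (h : Gᵀ = -G) (hd : ∀ i, G i i = 0) (v : ι → F) :
    formOf G v v = 0 := by
  have hsum : formOf G v v = ∑ p : ι × ι, v p.1 * (G p.1 p.2 * v p.2) := by
    simp [formOf, dotProduct, Matrix.mulVec, Finset.mul_sum, Fintype.sum_prod_type]
  rw [hsum]
  have hG : ∀ i j, G j i = -G i j := fun i j => by
    have := congrFun (congrFun h i) j; simpa using this
  refine Finset.sum_involution (fun p _ => (p.2, p.1)) ?_ ?_ ?_ ?_
  · intro p _
    rw [hG p.1 p.2]; ring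
  · intro p _ hp heq
    apply hp
    have h12 : p.2 = p.1 := congrArg Prod.fst heq
    rw [h12, hd]; ring
  · exact fun p _ => Finset.mem_univ _
  · exact fun p _ => rfl

lemma formOf_symplectic {G : Matrix ι ι F} (hG : IsUnit G) (h : Gᵀ = -G) (hd : ∀ i, G i i = 0) :
    Geo.IsSymplecticForm (formOf G) :=
  ⟨formOf_bilinear G, formOf_skew h, formOf_self_eq_zero h hd, formOf_nondegenerate hG⟩

lemma formOf_quadratic {G : Matrix ι ι F} (hG : IsUnit G) (h : Gᵀ = G) (h2 : (2 : F) ≠ 0) :
    Geo.IsNondegenerateQuadraticForm (fun v => formOf G v v) := by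
  have hp : QuadraticMap.polar (fun v => formOf G v v) = fun u v => 2 * formOf G u v := by
    funext u v
    have hb := formOf_bilinear G
    simp only [QuadraticMap.polar, hb.add_left, hb.add_right, formOf_symm h v u]
    ring
  have hb := formOf_bilinear G
  refine ⟨fun c v => by simp only [hb.smul_left, hb.smul_right]; ring, ?_, ?_⟩
  · rw [hp]
    exact ⟨fun x y v => by simp only [hb.add_left]; ring,
      fun c x v => by simp only [hb.smul_left]; ring,
      fun v x y => by simp only [hb.add_right]; ring,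
      fun c v x => by simp only [hb.smul_right]; ring⟩
  · rw [hp]
    intro v hv
    obtain ⟨⟨x, hx⟩, y, hy⟩ := formOf_nondegenerate hG v hv
    exact ⟨⟨x, mul_ne_zero h2 hx⟩, y, mul_ne_zero h2 hy⟩

lemma mem_quadSimilarity_of_gram {G : Matrix ι ι F} {g : GL ι F} {c : F} (hc : c ≠ 0)
    (h : (g : Matrix ι ι F)ᵀ * G * (g : Matrix ι ι F) = c • G) :
    g ∈ Geo.quadSimilarityGroup (fun v => formOf G v v) :=
  ⟨Units.mk0 c hc, fun v => by
    show formOf G _ _ = _ * formOf G v v
    rw [formOf_mulVec, h]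
    simp [formOf, Matrix.smul_mulVec, dotProduct_smul]⟩

end Cfsg.Agent.Aschbacher
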