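import Cfsg.Agent.Lib.Aschbacher.Group
import Cfsg.Agent.Lib.Aschbacher.BilinForm
import Cfsg.Agent.Lib.Classical.AlternatingForm

/-!
Forms fixed by an absolutely irreducible group are unique up to a scalar, so the normaliser of
such a group consists of similarities.
-/

set_option autoImplicit false
set_option linter.style.haveILetI false

namespace Cfsg.Agent.Aschbacher

open scoped MatrixGroups Matrix
open Matrix

variable {ι : Type} [Fintype ι] [DecidableEq ι] {F : Type*} [Field F]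

/-- The form with Gram matrix `G`, semilinear in the second variable along `σ`. -/
def sesqOf (σ : F ≃+* F) (G : Matrix ι ι F) (u v : ι → F) : F := u ⬝ᵥ (G *ᵥ fun i => σ (v i))

omit [DecidableEq ι] in
lemma sesqOf_refl (G : Matrix ι ι F) : sesqOf (RingEquiv.refl F) G = formOf G := rfl

lemma sesqOf_mulVec (σ : F ≃+* F) (G g h : Matrix ι ι F) (u v : ι → F) :
    sesqOf σ G (g *ᵥ u) (h *ᵥ v) = sesqOf σ (gᵀ * G * σ.toRingHom.mapMatrix h) u v := by
  have h1 : (fun i => σ ((h *ᵥ v) i)) = σ.toRingHom.mapMatrix h *ᵥ fun i => σ (v i) := by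
    funext i
    simp [Matrix.mulVec, dotProduct, map_sum, map_mul]
  unfold sesqOf
  rw [h1, Matrix.mul_assoc, ← Matrix.mulVec_mulVec _ gᵀ, Matrix.dotProduct_mulVec u gᵀ,
    Matrix.vecMul_transpose, Matrix.mulVec_mulVec]

lemma sesqOf_single (σ : F ≃+* F) (G : Matrix ι ι F) (a b : ι) :
    sesqOf σ G (Pi.single a 1) (Pi.single b 1) = G a b := by
  have h : (fun i => σ ((Pi.single b 1 : ι → F) i)) = Pi.single b 1 := by
    funext i
    by_cases hi : i = b
    · subst hi; simp
    · simp [hi]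
  simp [sesqOf, h, single_dotProduct]

lemma gram_ext {σ : F ≃+* F} {G G' : Matrix ι ι F} (h : ∀ u v, sesqOf σ G u v = sesqOf σ G' u v) :
    G = G' := Matrix.ext fun a b => by simpa [sesqOf_single] using h (Pi.single a 1) (Pi.single b 1)

/-- A form that is linear on the left and semilinear on the right is given by a Gram matrix. -/
lemma exists_gram {σ : F ≃+* F} {f : (ι → F) → (ι → F) → F}
    (al : ∀ x y v, f (x + y) v = f x v + f y v) (sl : ∀ (c : F) x v, f (c • x) v = c * f x v)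
    (ar : ∀ v x y, f v (x + y) = f v x + f v y) (sr : ∀ (c : F) v x, f v (c • x) = σ c * f v x) :
    f = sesqOf σ (Matrix.of fun a b => f (Pi.single a 1) (Pi.single b 1)) := by
  have hl : ∀ u v, f u v = ∑ a, u a * f (Pi.single a 1) v := fun u v => by
    let L : (ι → F) →ₗ[F] F :=
      { toFun := fun x => f x v, map_add' := fun x y => al x y v, map_smul' := fun c x => sl c x v }
    calc f u v = L (∑ a, u a • Pi.single a (1 : F)) := by rw [← pi_eq_sum_univ' u]; rfl
      _ = _ := by simp only [map_sum, map_smul, smul_eq_mul]; rfl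
  have hr : ∀ w v, f w v = ∑ b, σ (v b) * f w (Pi.single b 1) := fun w v => by
    let L : (ι → F) →+ F :=
      { toFun := f w, map_zero' := by simpa using sr 0 w 0, map_add' := ar w }
    calc f w v = L (∑ b, v b • Pi.single b (1 : F)) := by rw [← pi_eq_sum_univ' v]; rfl
      _ = _ := by rw [map_sum]; exact Finset.sum_congr rfl fun b _ => sr _ _ _
  funext u v
  rw [hl]
  simp only [sesqOf, dotProduct, Matrix.mulVec, Matrix.of_apply]
  refine Finset.sum_congr rfl fun a _ => ?_
  rw [hr]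
  simp [mul_comm]

lemma isUnit_of_nondegenerate {σ : F ≃+* F} {G : Matrix ι ι F}
    (h : Geo.IsNondegenerateForm (sesqOf σ G)) : IsUnit G := by
  rw [← Matrix.mulVec_injective_iff_isUnit]
  refine fun a b hab => sub_eq_zero.1 ?_
  by_contra hne
  have hne' : (fun i => σ.symm ((a - b) i)) ≠ 0 := fun h0 => hne (funext fun i => by
    simpa using congrArg σ (congrFun h0 i))
  obtain ⟨⟨x, hx⟩, -⟩ := h _ hne'
  refine hx ?_
  show x ⬝ᵥ (G *ᵥ fun i => σ (σ.symm ((a - b) i))) = 0
  simp only [RingEquiv.apply_symm_apply]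
  rw [show (fun i => (a - b) i) = a - b from rfl, Matrix.mulVec_sub,
    show G *ᵥ a = G *ᵥ b from hab, sub_self, dotProduct_zero]

lemma IsBilinearForm.exists_gram {f : (ι → F) → (ι → F) → F} (hb : Geo.IsBilinearForm f)
    (hn : Geo.IsNondegenerateForm f) : ∃ G : Matrix ι ι F, IsUnit G ∧ f = formOf G := by
  have h := Aschbacher.exists_gram (σ := RingEquiv.refl F) hb.add_left hb.smul_left hb.add_right
    hb.smul_right
  refine ⟨_, isUnit_of_nondegenerate (σ := RingEquiv.refl F) (h ▸ hn), ?_⟩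
  rw [← sesqOf_refl]
  exact h

lemma IsUnitaryForm.exists_gram {σ : F ≃+* F} {f : (ι → F) → (ι → F) → F}
    (hf : Geo.IsUnitaryForm σ f) : ∃ G : Matrix ι ι F, IsUnit G ∧ f = sesqOf σ G := by
  have h := Aschbacher.exists_gram (σ := σ) hf.add_left hf.smul_left
    (fun v x y => by rw [hf.herm, hf.add_left, map_add, ← hf.herm, ← hf.herm])
    (fun c v x => by rw [hf.herm, hf.smul_left, map_mul, ← hf.herm])
  exact ⟨_, isUnit_of_nondegenerate (σ := σ) (h ▸ hf.nondegenerate), h⟩

/-- The normaliser of an absolutely irreducible group of isometries consists of similarities. -/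
lemma similar_of_normal [Nonempty ι] {P : Subgroup (GL ι F)}
    (habs : Geo.ActsAbsolutelyIrreducibly (Geo.matrixSet P)) (σ : F ≃+* F)
    {G : Matrix ι ι F} (hG : IsUnit G) (hfix : Geo.FixesForm (Geo.matrixSet P) (sesqOf σ G))
    {g : GL ι F} (hg : ∀ x ∈ P, g * x * g⁻¹ ∈ P) :
    g ∈ Geo.similarityGroup (sesqOf σ G) := by
  obtain ⟨u, rfl⟩ := hG
  have hs : ∀ x ∈ P, (x : Matrix ι ι F)ᵀ * (u : Matrix ι ι F) *
      σ.toRingHom.mapMatrix (x : Matrix ι ι F) = u := fun x hx =>
    gram_ext (σ := σ) fun v w => by rw [← sesqOf_mulVec, hfix _ ⟨x, hx, rfl⟩]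
  set G' := (g : Matrix ι ι F)ᵀ * (u : Matrix ι ι F) * σ.toRingHom.mapMatrix (g : Matrix ι ι F)
    with hG'
  have hs' : ∀ x ∈ P, (x : Matrix ι ι F)ᵀ * G' * σ.toRingHom.mapMatrix (x : Matrix ι ι F) = G' := by
    intro x hx
    have h := hs _ (hg x hx)
    have hmul : (g : Matrix ι ι F) * (x : Matrix ι ι F) = ((g * x * g⁻¹ : GL ι F) : Matrix ι ι F) * g := by
      simp [mul_assoc]
    calc _ = ((g : Matrix ι ι F) * (x : Matrix ι ι F))ᵀ * (u : Matrix ι ι F) *
          σ.toRingHom.mapMatrix ((g : Matrix ι ι F) * (x : Matrix ι ι F)) := by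
          simp [hG', Matrix.transpose_mul, map_mul, mul_assoc]
      _ = (g : Matrix ι ι F)ᵀ * (((g * x * g⁻¹ : GL ι F) : Matrix ι ι F)ᵀ * (u : Matrix ι ι F) *
          σ.toRingHom.mapMatrix ((g * x * g⁻¹ : GL ι F) : Matrix ι ι F)) *
          σ.toRingHom.mapMatrix (g : Matrix ι ι F) := by
          rw [hmul, Matrix.transpose_mul, map_mul]
          simp only [mul_assoc]
      _ = G' := by rw [h]
  set M := ((u⁻¹ : GL ι F) : Matrix ι ι F) * G' with hM
  have hcomm : ∀ s ∈ Geo.matrixSet P,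
      σ.symm.toRingHom.mapMatrix M * s = s * σ.symm.toRingHom.mapMatrix M := by
    rintro _ ⟨x, hx, rfl⟩
    let xs : GL ι F := Units.map σ.toRingHom.mapMatrix.toMonoidHom x
    have hxs : σ.toRingHom.mapMatrix (x : Matrix ι ι F) = (xs : Matrix ι ι F) := rfl
    have e1 : (x : Matrix ι ι F)ᵀ * (u : Matrix ι ι F) =
        (u : Matrix ι ι F) * ((xs⁻¹ : GL ι F) : Matrix ι ι F) := by
      rw [Units.eq_mul_inv_iff_mul_eq, ← hxs]; exact hs x hx
    have e2 : (x : Matrix ι ι F)ᵀ * G' = G' * ((xs⁻¹ : GL ι F) : Matrix ι ι F) := by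
      rw [Units.eq_mul_inv_iff_mul_eq, ← hxs]; exact hs' x hx
    have e3 : M * ((xs⁻¹ : GL ι F) : Matrix ι ι F) = ((xs⁻¹ : GL ι F) : Matrix ι ι F) * M := by
      refine (Units.mul_right_inj u).1 ?_
      rw [hM, ← mul_assoc, ← mul_assoc, ← mul_assoc (u : Matrix ι ι F), ← e1, Units.mul_inv,
        one_mul, ← e2]
      simp [mul_assoc]
    have e4 : M * (xs : Matrix ι ι F) = (xs : Matrix ι ι F) * M := by
      have h := congrArg (fun z => (xs : Matrix ι ι F) * z * (xs : Matrix ι ι F)) e3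
      simpa [mul_assoc] using h.symm
    have h5 := congrArg σ.symm.toRingHom.mapMatrix e4
    have hback : σ.symm.toRingHom.mapMatrix (xs : Matrix ι ι F) = (x : Matrix ι ι F) := by
      ext a b; simp [xs]
    simpa only [map_mul, hback] using h5
  obtain ⟨c, hc⟩ := habs.2 _ hcomm
  have hM' : M = σ c • (1 : Matrix ι ι F) := by
    ext a b
    have h := congrArg σ (congrFun (congrFun hc a) b)
    simpa [Matrix.one_apply, apply_ite σ] using h
  have hG'' : G' = σ c • (u : Matrix ι ι F) := by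
    rw [← mul_one (u : Matrix ι ι F), ← mul_smul_comm, ← hM', hM, Units.mul_inv_cancel_left]
  have hc0 : σ c ≠ 0 := by
    intro h0
    have hz : (((u⁻¹ : GL ι F) : Matrix ι ι F) * G') = 0 := by rw [← hM, hM', h0, zero_smul]
    have hu : IsUnit G' := by
      refine IsUnit.mul (IsUnit.mul ?_ u.isUnit) (g.isUnit.map _)
      rw [Matrix.isUnit_iff_isUnit_det, Matrix.det_transpose, ← Matrix.isUnit_iff_isUnit_det]
      exact g.isUnit
    exact ((u⁻¹).isUnit.mul hu).ne_zero hz
  refine ⟨Units.mk0 _ hc0, fun v w => ?_⟩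
  rw [sesqOf_mulVec, ← hG', hG'']
  simp [sesqOf, Matrix.smul_mulVec, dotProduct_smul]

lemma similar_of_fixes_bilinear [Nonempty ι] {P H : Subgroup (GL ι F)}
    (habs : Geo.ActsAbsolutelyIrreducibly (Geo.matrixSet P))
    (hn : ∀ g ∈ H, ∀ x ∈ P, g * x * g⁻¹ ∈ P) {f : (ι → F) → (ι → F) → F}
    (hb : Geo.IsBilinearForm f) (hnd : Geo.IsNondegenerateForm f)
    (hfix : Geo.FixesForm (Geo.matrixSet P) f) : H ≤ Geo.similarityGroup f := by
  obtain ⟨G, hG, rfl⟩ := IsBilinearForm.exists_gram hb hnd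
  exact fun g hg => similar_of_normal habs (RingEquiv.refl F) hG hfix (hn g hg)

lemma similar_of_fixes_unitary [Nonempty ι] {P H : Subgroup (GL ι F)}
    (habs : Geo.ActsAbsolutelyIrreducibly (Geo.matrixSet P))
    (hn : ∀ g ∈ H, ∀ x ∈ P, g * x * g⁻¹ ∈ P) {σ : F ≃+* F} {f : (ι → F) → (ι → F) → F}
    (hf : Geo.IsUnitaryForm σ f)
    (hfix : Geo.FixesForm (Geo.matrixSet P) f) : H ≤ Geo.similarityGroup f := by
  obtain ⟨G, hG, rfl⟩ := IsUnitaryForm.exists_gram hf
  exact fun g hg => similar_of_normal habs σ hG hfix (hn g hg)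

omit [DecidableEq ι] in
lemma fixes_polar {S : Set (Matrix ι ι F)} {Q : (ι → F) → F}
    (hfix : Geo.FixesQuadForm S Q) : Geo.FixesForm S (QuadraticMap.polar Q) := by
  intro s hs u v
  simp only [QuadraticMap.polar, ← Matrix.mulVec_add, hfix s hs]

omit [Fintype ι] [DecidableEq ι] in
lemma polar_self {Q : (ι → F) → F} (hQ : Geo.IsNondegenerateQuadraticForm Q) (v : ι → F) :
    QuadraticMap.polar Q v v = 2 * Q v := by
  simp only [QuadraticMap.polar, ← two_smul F v, hQ.smul]
  ring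

omit [Fintype ι] [DecidableEq ι] in
lemma polar_symplectic {Q : (ι → F) → F} (hQ : Geo.IsNondegenerateQuadraticForm Q)
    (h2 : (2 : F) = 0) : Geo.IsSymplecticForm (QuadraticMap.polar Q) := by
  refine ⟨hQ.polar_bilinear, fun v w => ?_, fun v => ?_, hQ.nondegenerate⟩
  · rw [eq_neg_iff_add_eq_zero, QuadraticMap.polar_comm, ← two_mul, h2, zero_mul]
  · rw [polar_self hQ, h2, zero_mul]

lemma similar_of_fixes_quad [Nonempty ι] {P H : Subgroup (GL ι F)}
    (habs : Geo.ActsAbsolutelyIrreducibly (Geo.matrixSet P))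
    (hn : ∀ g ∈ H, ∀ x ∈ P, g * x * g⁻¹ ∈ P) {Q : (ι → F) → F}
    (hQ : Geo.IsNondegenerateQuadraticForm Q) (h2 : (2 : F) ≠ 0)
    (hfix : Geo.FixesQuadForm (Geo.matrixSet P) Q) : H ≤ Geo.quadSimilarityGroup Q := by
  intro g hg
  obtain ⟨c, hc⟩ := similar_of_fixes_bilinear habs hn hQ.polar_bilinear hQ.nondegenerate
    (fixes_polar hfix) hg
  refine ⟨c, fun v => ?_⟩
  have h := hc v v
  rw [polar_self hQ, polar_self hQ, mul_left_comm] at h
  exact mul_left_cancel₀ h2 h

omit [DecidableEq ι] in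
/-- A non-degenerate symplectic form lives in even dimension. -/
lemma even_card_of_symplectic {f : (ι → F) → (ι → F) → F} (hf : Geo.IsSymplecticForm f) :
    Even (Fintype.card ι) := by
  let B : LinearMap.BilinForm F (ι → F) := LinearMap.mk₂ F f hf.bilinear.add_left
    (fun c x v => by rw [hf.bilinear.smul_left]; rfl) hf.bilinear.add_right
    (fun c v x => by rw [hf.bilinear.smul_right]; rfl)
  have hA : B.IsAlt := hf.alternating
  have hB : B.Nondegenerate := by
    refine ⟨fun v hv => ?_, fun v hv => ?_⟩ <;> by_contra h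
    · obtain ⟨-, x, hx⟩ := hf.nondegenerate v h; exact hx (hv x)
    · obtain ⟨⟨x, hx⟩, -⟩ := hf.nondegenerate v h; exact hx (hv x)
  obtain ⟨m, hm⟩ := AltForm.exists_finrank_eq hA hB
  exact ⟨m, by rw [Module.finrank_fintype_fun_eq_card] at hm; omega⟩

end Cfsg.Agent.Aschbacher
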