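import Cfsg.Agent.Lib.Aschbacher.Subfield
import Cfsg.Agent.Lib.Aschbacher.BilinForm
import Cfsg.Agent.Lib.Aschbacher.Forms

/-!
An abelian minimal normal subgroup modulo scalars: groups of symplectic type.
-/

set_option autoImplicit false
set_option linter.style.haveILetI false

namespace Cfsg.Agent.Aschbacher

open scoped MatrixGroups Matrix commutatorElement
open Matrix

variable {ι : Type} [Fintype ι] [DecidableEq ι] {F : Type*} [Field F]

/-! ### Scalars -/

/-- A non-zero scalar as an invertible matrix. -/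
def sc (ι : Type) [Fintype ι] [DecidableEq ι] {F : Type*} [Field F] : Fˣ →* GL ι F :=
  Units.map (Matrix.scalar ι : F →+* Matrix ι ι F).toMonoidHom

lemma sc_val (c : Fˣ) : ((sc ι c : GL ι F) : Matrix ι ι F) = (c : F) • (1 : Matrix ι ι F) := by
  simp [sc, Matrix.smul_one_eq_diagonal]

lemma sc_mem (c : Fˣ) : sc ι c ∈ Geo.scalars ι F := ⟨c, rfl⟩

lemma sc_injective [Nonempty ι] : Function.Injective (sc ι (F := F)) := fun a b h => by
  obtain ⟨i⟩ := ‹Nonempty ι›
  have h' := congrFun (congrFun (congrArg (fun g : GL ι F => (g : Matrix ι ι F)) h) i) i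
  simpa [sc_val, Units.ext_iff] using h'

lemma sc_comm (c : Fˣ) (g : GL ι F) : sc ι c * g = g * sc ι c := scalars_comm (sc_mem c) g

lemma sc_mul_val (c : Fˣ) (g : GL ι F) :
    ((sc ι c * g : GL ι F) : Matrix ι ι F) = (c : F) • (g : Matrix ι ι F) := by
  rw [Units.val_mul, sc_val, smul_mul_assoc, one_mul]

lemma commutatorElement_pow_mul {G : Type*} [Group G] {x y c : G} (hc : y * x = c * (x * y))
    (hcc : ∀ g : G, c * g = g * c) (m : ℕ) :
    (x * y) ^ m = c ^ (m.choose 2) * (x ^ m * y ^ m) := by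
  have hyx : ∀ k : ℕ, y ^ k * x = c ^ k * (x * y ^ k) := by
    intro k
    induction k with
    | zero => simp
    | succ k ih =>
      calc y ^ (k + 1) * x = y * (y ^ k * x) := by rw [pow_succ', mul_assoc]
        _ = c ^ k * (y * x) * y ^ k := by
          rw [ih, ← mul_assoc, ← (show Commute c y from hcc y).pow_left k |>.eq]
          simp only [mul_assoc]
        _ = _ := by rw [hc, pow_succ c, pow_succ' y]; simp only [mul_assoc]
  induction m with
  | zero => simp
  | succ m ih =>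
    calc (x * y) ^ (m + 1) = c ^ m.choose 2 * (x ^ m * (y ^ m * x) * y) := by
          rw [pow_succ, ih]; simp only [mul_assoc]
      _ = c ^ m.choose 2 * c ^ m * (x ^ (m + 1) * y ^ (m + 1)) := by
          rw [hyx m, ← mul_assoc (x ^ m), ← ((show Commute c (x ^ m) from hcc _).pow_left m).eq,
            pow_succ x, pow_succ y]
          simp only [mul_assoc]
      _ = _ := by
          rw [← pow_add, show (m + 1).choose 2 = m.choose 2 + m by
            rw [Nat.choose_succ_succ, Nat.choose_one_right, Nat.add_comm]]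

/-! ### Forms from spanning groups -/

/-- A group with a basis of coset representatives modulo scalars, with all its scalars inverted by
`σ`, preserves a sesquilinear form. -/
lemma exists_invariant_gram {κ : Type*} [Fintype κ] (L : Subgroup (GL ι F)) (t : κ → GL ι F)
    (htL : ∀ i, t i ∈ L) (hind : LinearIndependent F (fun i => (t i : Matrix ι ι F)))
    (hspan : Submodule.span F (Set.range fun i => (t i : Matrix ι ι F)) = ⊤)
    (hrep : ∀ x ∈ L, ∃ (c : Fˣ) (i : κ), sc ι c ∈ L ∧ x = sc ι c * t i) (σ : F ≃+* F)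
    (hσ : ∀ c : Fˣ, sc ι c ∈ L → σ (c : F) = (c : F)⁻¹) :
    ∃ G : GL ι F, ∀ x ∈ L, (x : Matrix ι ι F)ᵀ * (G : Matrix ι ι F) *
      σ.toRingHom.mapMatrix (x : Matrix ι ι F) = G := by
  classical
  let τ : Matrix ι ι F →+* Matrix ι ι F := σ.toRingHom.mapMatrix
  let τ' : Matrix ι ι F →+* Matrix ι ι F := σ.symm.toRingHom.mapMatrix
  have hττ : ∀ x, τ (τ' x) = x := fun x => Matrix.ext fun a b => by simp [τ, τ']
  have hττ' : ∀ x, τ' (τ x) = x := fun x => Matrix.ext fun a b => by simp [τ, τ']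
  have hτsmul : ∀ (c : F) x, τ (c • x) = σ c • τ x := fun c x =>
    Matrix.ext fun a b => by simp [τ]
  have hτ'smul : ∀ (c : F) x, τ' (c • x) = σ.symm c • τ' x := fun c x =>
    Matrix.ext fun a b => by simp [τ']
  have hinda : LinearIndependent F (fun i => τ (t i : Matrix ι ι F)) := by
    rw [Fintype.linearIndependent_iff]
    intro c hc i
    have h := congrArg τ' hc
    simp only [map_sum, map_zero, hτ'smul, hττ'] at h
    simpa using Fintype.linearIndependent_iff.1 hind _ h i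
  have hspana : ⊤ ≤ Submodule.span F (Set.range fun i => τ (t i : Matrix ι ι F)) := by
    intro y _
    rw [← hττ y]
    obtain ⟨c, hc⟩ := (Submodule.mem_span_range_iff_exists_fun F).1
      (hspan.ge (Submodule.mem_top : τ' y ∈ ⊤))
    rw [← hc, map_sum]
    exact sum_mem fun i _ => by
      rw [hτsmul]; exact Submodule.smul_mem _ _ (Submodule.subset_span ⟨i, rfl⟩)
  let B := Module.Basis.mk hinda hspana
  let b : κ → Matrix ι ι F := fun i => (((t i)⁻¹ : GL ι F) : Matrix ι ι F)ᵀ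
  let f : Matrix ι ι F →ₗ[F] Matrix ι ι F := B.constr F b
  have hfB : ∀ i, f (τ (t i : Matrix ι ι F)) = b i := fun i => by
    have h := B.constr_basis F b i
    rwa [Module.Basis.mk_apply] at h
  have hkey : ∀ x ∈ L, f (τ (x : Matrix ι ι F)) = ((x⁻¹ : GL ι F) : Matrix ι ι F)ᵀ := by
    intro x hx
    obtain ⟨c, i, hcL, rfl⟩ := hrep x hx
    rw [sc_mul_val, hτsmul, map_smul, hfB, hσ c hcL, _root_.mul_inv_rev, ← map_inv,
      ← sc_comm, sc_mul_val, Matrix.transpose_smul, Units.val_inv_eq_inv_val]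
  have hone : f 1 = 1 := by
    have h := hkey 1 (one_mem L)
    rwa [inv_one, Units.val_one, map_one, Matrix.transpose_one] at h
  have hmul : ∀ x y, f (x * y) = f x * f y := by
    intro x y
    have h : (LinearMap.mul F (Matrix ι ι F)).compr₂ f =
        (LinearMap.mul F (Matrix ι ι F)).compl₁₂ f f := by
      refine B.ext fun i => B.ext fun j => ?_
      simp only [B, Module.Basis.mk_apply, LinearMap.compr₂_apply, LinearMap.mul_apply',
        LinearMap.compl₁₂_apply, hfB]
      rw [← map_mul, ← Units.val_mul, hkey _ (mul_mem (htL i) (htL j)), _root_.mul_inv_rev,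
        Units.val_mul, Matrix.transpose_mul]
    exact congrFun (congrArg DFunLike.coe (congrFun (congrArg DFunLike.coe h) x)) y
  obtain ⟨G, hG⟩ := exists_cj_of_algHom (AlgHom.ofLinearMap f hone hmul)
  refine ⟨G, fun x hx => ?_⟩
  have h := (hkey x hx).symm.trans (hG (τ (x : Matrix ι ι F)))
  rw [cj_apply, Units.eq_mul_inv_iff_mul_eq] at h
  show _ * τ (x : Matrix ι ι F) = _
  rw [mul_assoc, ← h, ← mul_assoc, ← Matrix.transpose_mul, Units.inv_mul, Matrix.transpose_one,
    one_mul]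

/-- A sesquilinear form preserved by an absolutely irreducible group, with `σ` of order at most
two, is hermitian or skew up to a scalar. -/
lemma gram_transpose [Nonempty ι] {L : Subgroup (GL ι F)}
    (habs : Geo.ActsAbsolutelyIrreducibly (Geo.matrixSet L)) (σ : F ≃+* F)
    (hσ2 : ∀ a, σ (σ a) = a) (G : GL ι F)
    (hfix : ∀ x ∈ L, (x : Matrix ι ι F)ᵀ * (G : Matrix ι ι F) *
      σ.toRingHom.mapMatrix (x : Matrix ι ι F) = G) :
    ∃ c : F, c * σ c = 1 ∧ (σ.toRingHom.mapMatrix (G : Matrix ι ι F))ᵀ = c • (G : Matrix ι ι F) := by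
  let τ : Matrix ι ι F →+* Matrix ι ι F := σ.toRingHom.mapMatrix
  have hττ : ∀ x, τ (τ x) = x := fun x => Matrix.ext fun a b => by simp [τ, hσ2]
  have htr : ∀ x : Matrix ι ι F, τ xᵀ = (τ x)ᵀ := fun x => by ext a b; simp [τ]
  set G' := (τ (G : Matrix ι ι F))ᵀ with hG'
  have hfix' : ∀ x ∈ L, (x : Matrix ι ι F)ᵀ * G' * τ (x : Matrix ι ι F) = G' := by
    intro x hx
    have h := congrArg (fun z => (τ z)ᵀ) (hfix x hx)
    simp only [Matrix.transpose_mul, map_mul, htr, Matrix.transpose_transpose] at h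
    rw [show σ.toRingHom.mapMatrix (x : Matrix ι ι F) = τ (x : Matrix ι ι F) from rfl, hττ] at h
    simpa only [hG', mul_assoc] using h
  set M := ((G⁻¹ : GL ι F) : Matrix ι ι F) * G' with hM
  have hcomm : ∀ s ∈ Geo.matrixSet L, τ M * s = s * τ M := by
    rintro _ ⟨x, hx, rfl⟩
    let xs : GL ι F := Units.map τ.toMonoidHom x
    have e1 : (x : Matrix ι ι F)ᵀ * (G : Matrix ι ι F) =
        (G : Matrix ι ι F) * ((xs⁻¹ : GL ι F) : Matrix ι ι F) := by
      rw [Units.eq_mul_inv_iff_mul_eq]; exact hfix x hx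
    have e2 : (x : Matrix ι ι F)ᵀ * G' = G' * ((xs⁻¹ : GL ι F) : Matrix ι ι F) := by
      rw [Units.eq_mul_inv_iff_mul_eq]; exact hfix' x hx
    have e3 : M * ((xs⁻¹ : GL ι F) : Matrix ι ι F) = ((xs⁻¹ : GL ι F) : Matrix ι ι F) * M := by
      refine (Units.mul_right_inj G).1 ?_
      rw [hM, ← mul_assoc, ← mul_assoc, ← mul_assoc (G : Matrix ι ι F), ← e1, Units.mul_inv,
        one_mul, ← e2]
      simp [mul_assoc]
    have e4 : M * (xs : Matrix ι ι F) = (xs : Matrix ι ι F) * M := by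
      have h := congrArg (fun z => (xs : Matrix ι ι F) * z * (xs : Matrix ι ι F)) e3
      simpa [mul_assoc] using h.symm
    have h5 := congrArg τ e4
    simpa only [map_mul, show τ (xs : Matrix ι ι F) = (x : Matrix ι ι F) from hττ _] using h5
  obtain ⟨c, hc⟩ := habs.2 _ hcomm
  have hG'' : G' = σ c • (G : Matrix ι ι F) := by
    have h : M = σ c • (1 : Matrix ι ι F) := by
      rw [← hττ M, hc]
      ext a b
      simp [τ, Matrix.one_apply, apply_ite σ]
    rw [← mul_one (G : Matrix ι ι F), ← mul_smul_comm, ← h, hM, Units.mul_inv_cancel_left]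
  refine ⟨σ c, ?_, hG''⟩
  have hts : ∀ (d : F) (x : Matrix ι ι F), τ (d • x) = σ d • τ x := fun d x =>
    Matrix.ext fun a b => by simp [τ]
  have h2 : (σ c * σ (σ c)) • (G : Matrix ι ι F) = G := by
    have h := congrArg (fun z => (τ z)ᵀ) hG''
    simp only [hG', hts, htr, hττ, Matrix.transpose_transpose, Matrix.transpose_smul] at h
    rw [← hG', hG'', smul_smul, mul_comm] at h
    exact h.symm
  obtain ⟨i, j, hij⟩ : ∃ i j, (G : Matrix ι ι F) i j ≠ 0 := by
    by_contra h
    push Not at h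
    exact G.ne_zero (Matrix.ext h)
  have h3 := congrFun (congrFun h2 i) j
  rw [Matrix.smul_apply, smul_eq_mul] at h3
  exact (mul_eq_right₀ hij).1 h3

/-- With `σ` non-trivial such a form can be scaled to be unitary. -/
lemma exists_unitary [Nonempty ι] {L : Subgroup (GL ι F)}
    (habs : Geo.ActsAbsolutelyIrreducibly (Geo.matrixSet L)) (σ : F ≃+* F)
    (hσ1 : σ ≠ RingEquiv.refl F) (hσ2 : ∀ a, σ (σ a) = a) (G : GL ι F)
    (hfix : ∀ x ∈ L, (x : Matrix ι ι F)ᵀ * (G : Matrix ι ι F) *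
      σ.toRingHom.mapMatrix (x : Matrix ι ι F) = G) :
    ∃ f, Geo.IsUnitaryForm σ f ∧ Geo.FixesForm (Geo.matrixSet L) f := by
  obtain ⟨c, hcc, hc⟩ := gram_transpose habs σ hσ2 G hfix
  obtain ⟨x, hx⟩ : ∃ x : F, x + c * σ x ≠ 0 := by
    by_contra h
    push Not at h
    have h1 := h 1
    rw [map_one, mul_one] at h1
    refine hσ1 (RingEquiv.ext fun a => ?_)
    have h2 := h a
    rw [show c = -1 by linear_combination h1] at h2
    show σ a = a
    linear_combination -h2
  set μ := x + c * σ x with hμ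
  have hμ' : c * σ μ = μ := by
    rw [hμ, map_add, map_mul, hσ2, mul_add, ← mul_assoc, hcc, one_mul, add_comm]
  set G₂ := μ • (G : Matrix ι ι F) with hG₂
  have hherm : ∀ a b, σ (G₂ b a) = G₂ a b := by
    intro a b
    have h := congrFun (congrFun hc a) b
    simp only [Matrix.transpose_apply, RingHom.mapMatrix_apply, Matrix.map_apply,
      Matrix.smul_apply, smul_eq_mul] at h
    rw [hG₂, Matrix.smul_apply, Matrix.smul_apply, smul_eq_mul, smul_eq_mul, map_mul]
    calc σ μ * σ ((G : Matrix ι ι F) b a) = (c * σ μ) * (G : Matrix ι ι F) a b := by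
          rw [show σ ((G : Matrix ι ι F) b a) = c * (G : Matrix ι ι F) a b from h]; ring
      _ = _ := by rw [hμ']
  have hG₂u : IsUnit G₂ := by
    rw [Matrix.isUnit_iff_isUnit_det, hG₂, Matrix.det_smul, isUnit_iff_ne_zero]
    exact mul_ne_zero (pow_ne_zero _ hx) ((Matrix.isUnit_iff_isUnit_det _).1 G.isUnit).ne_zero
  refine ⟨sesqOf σ G₂, ⟨hσ1, hσ2, fun x y v => add_dotProduct _ _ _,
    fun c x v => smul_dotProduct _ _ _, fun v w => ?_, fun v hv => ?_⟩, ?_⟩
  · simp only [sesqOf, dotProduct, Matrix.mulVec, map_sum, map_mul, Finset.mul_sum, hσ2]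
    rw [Finset.sum_comm]
    refine Finset.sum_congr rfl fun a _ => Finset.sum_congr rfl fun b _ => ?_
    rw [hherm]; ring
  · constructor
    · have hv' : (fun i => σ (v i)) ≠ 0 := fun h => hv (funext fun i => by
        simpa using congrFun h i)
      obtain ⟨i, hi⟩ := Function.ne_iff.1 (show G₂ *ᵥ (fun i => σ (v i)) ≠ 0 from fun h =>
        hv' (Matrix.mulVec_injective_of_isUnit hG₂u (by simp [h])))
      exact ⟨Pi.single i 1, by simpa [sesqOf, single_dotProduct] using hi⟩
    · obtain ⟨i, hi⟩ := Function.ne_iff.1 (show G₂ᵀ *ᵥ v ≠ 0 from fun h =>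
        hv (Matrix.mulVec_injective_of_isUnit (by
          rw [Matrix.isUnit_iff_isUnit_det, Matrix.det_transpose,
            ← Matrix.isUnit_iff_isUnit_det]
          exact hG₂u) (by simp [h])))
      refine ⟨Pi.single i 1, ?_⟩
      have hs : (fun j => σ ((Pi.single i 1 : ι → F) j)) = Pi.single i 1 := by
        funext j
        by_cases hj : j = i
        · subst hj; simp
        · simp [hj]
      rw [sesqOf, hs, Matrix.dotProduct_mulVec, dotProduct_single]
      simpa [Matrix.mulVec_transpose] using hi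
  · rintro _ ⟨s, hs, rfl⟩ u v
    rw [sesqOf_mulVec, hG₂, mul_smul_comm, smul_mul_assoc, hfix s hs]

/-- With `σ` trivial such a form is symmetric or alternating (odd characteristic). -/
lemma exists_quad_or_symplectic [Nonempty ι] {L : Subgroup (GL ι F)}
    (habs : Geo.ActsAbsolutelyIrreducibly (Geo.matrixSet L)) (h2 : (2 : F) ≠ 0) (G : GL ι F)
    (hfix : ∀ x ∈ L, (x : Matrix ι ι F)ᵀ * (G : Matrix ι ι F) *
      (RingEquiv.refl F).toRingHom.mapMatrix (x : Matrix ι ι F) = G) :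
    (∃ Q, Geo.IsNondegenerateQuadraticForm Q ∧ Geo.FixesQuadForm (Geo.matrixSet L) Q) ∨
    ∃ f, Geo.IsSymplecticForm f ∧ Geo.FixesForm (Geo.matrixSet L) f := by
  obtain ⟨c, hcc, hc⟩ := gram_transpose habs (RingEquiv.refl F) (fun _ => rfl) G hfix
  have hid : (RingEquiv.refl F).toRingHom.mapMatrix (G : Matrix ι ι F) = G := rfl
  rw [hid] at hc
  have hfix' : ∀ s ∈ Geo.matrixSet L, ∀ u v,
      formOf (G : Matrix ι ι F) (s *ᵥ u) (s *ᵥ v) = formOf (G : Matrix ι ι F) u v := by
    rintro _ ⟨s, hs, rfl⟩ u v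
    rw [formOf_mulVec]
    exact congrArg (fun M => formOf M u v) (hfix s hs)
  rcases mul_self_eq_one_iff.1 (show c * c = 1 from hcc) with rfl | rfl
  · rw [one_smul] at hc
    exact Or.inl ⟨_, formOf_quadratic G.isUnit hc h2, fun s hs v => hfix' s hs v v⟩
  · rw [neg_one_smul] at hc
    refine Or.inr ⟨_, formOf_symplectic G.isUnit hc fun i => ?_, hfix'⟩
    have h := congrFun (congrFun hc i) i
    simp only [Matrix.transpose_apply, Matrix.neg_apply] at h
    exact (mul_eq_zero.1 (show (2 : F) * (G : Matrix ι ι F) i i = 0 by linear_combination h)).resolve_left h2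

/-! ### The abelian minimal normal subgroup -/

/-- `N` is minimal normal in `H` above the scalars, abelian modulo them, absolutely irreducible. -/
structure AbSetup (H N : Subgroup (GL ι F)) : Prop where
  scal : Geo.scalars ι F ≤ N
  le : N ≤ H
  normal : ∀ g ∈ H, ∀ x ∈ N, g * x * g⁻¹ ∈ N
  minimal : ∀ M : Subgroup (GL ι F), Geo.scalars ι F ≤ M → M ≤ N →
    (∀ g ∈ H, ∀ x ∈ M, g * x * g⁻¹ ∈ M) → M = Geo.scalars ι F ∨ M = N
  comm : ∀ x ∈ N, ∀ y ∈ N, ∃ c : Fˣ, y * x = sc ι c * (x * y)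
  top : spanAlg N = ⊤
  two : 1 < Fintype.card ι

namespace AbSetup

variable {H N : Subgroup (GL ι F)}

lemma nonempty (S : AbSetup H N) : Nonempty ι :=
  Fintype.card_pos_iff.1 (Nat.zero_lt_of_lt S.two)

lemma exists_sc {x : GL ι F} (hx : x ∈ Geo.scalars ι F) : ∃ c : Fˣ, x = sc ι c := by
  obtain ⟨c, rfl⟩ := hx; exact ⟨c, rfl⟩

lemma pow_mul (_S : AbSetup H N) {x y : GL ι F} (_hx : x ∈ N) (_hy : y ∈ N) {c : Fˣ}
    (hc : y * x = sc ι c * (x * y)) (m : ℕ) :
    (x * y) ^ m = sc ι (c ^ m.choose 2) * (x ^ m * y ^ m) := by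
  rw [commutatorElement_pow_mul hc (sc_comm c) m, map_pow]

lemma commutes_iff (S : AbSetup H N) {x : GL ι F} :
    (∀ y ∈ N, y * x = x * y) ↔ x ∈ Geo.scalars ι F := by
  refine ⟨fun h => ?_, fun hx y _ => (scalars_comm hx y).symm⟩
  haveI := S.nonempty
  obtain ⟨c, hc⟩ := (absIrred_of_spanAlg_eq_top S.top).2 (x : Matrix ι ι F) (by
    rintro _ ⟨y, hy, rfl⟩
    simpa using congrArg Units.val (h y hy).symm)
  refine (mem_scalars_iff_mem_bot x).2 ?_
  rw [hc]
  exact Subalgebra.smul_mem _ (one_mem _) c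

lemma ne_scalars (S : AbSetup H N) : N ≠ Geo.scalars ι F := by
  intro h
  have hbot := le_scalars_iff.1 h.le
  rw [S.top] at hbot
  haveI := S.nonempty
  obtain ⟨i, j, hij⟩ : ∃ i j : ι, i ≠ j := Fintype.exists_pair_of_one_lt_card S.two
  obtain ⟨c, hc⟩ := Algebra.mem_bot.1 (hbot ▸ Algebra.mem_top : Matrix.single i j (1 : F) ∈ _)
  simpa [Matrix.algebraMap_matrix_apply, hij] using congrFun (congrFun hc i) j

variable [Fintype F]

lemma exists_prime_exponent (S : AbSetup H N) :
    ∃ r : ℕ, r.Prime ∧ ∀ x ∈ N, x ^ r ∈ Geo.scalars ι F := by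
  obtain ⟨x, hx, hxZ⟩ := SetLike.exists_of_lt (lt_of_le_of_ne S.scal (Ne.symm S.ne_scalars))
  classical
  have hex : ∃ m : ℕ, 0 < m ∧ x ^ m ∈ Geo.scalars ι F :=
    ⟨orderOf x, orderOf_pos x, by rw [pow_orderOf_eq_one]; exact one_mem _⟩
  obtain ⟨hm0, hm⟩ := Nat.find_spec hex
  have hm1 : Nat.find hex ≠ 1 := fun h => hxZ (by rw [h, pow_one] at hm; exact hm)
  obtain ⟨r, hr, k, hk⟩ := Nat.exists_prime_and_dvd hm1
  refine ⟨r, hr, ?_⟩
  let M : Subgroup (GL ι F) :=
    { carrier := {y | y ∈ N ∧ y ^ r ∈ Geo.scalars ι F}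
      mul_mem' := fun {a b} ha hb => ⟨mul_mem ha.1 hb.1, by
        obtain ⟨c, hc⟩ := S.comm a ha.1 b hb.1
        rw [S.pow_mul ha.1 hb.1 hc]
        exact mul_mem (sc_mem _) (mul_mem ha.2 hb.2)⟩
      one_mem' := ⟨one_mem N, by rw [one_pow]; exact one_mem _⟩
      inv_mem' := fun {a} ha => ⟨inv_mem ha.1, by rw [inv_pow]; exact inv_mem ha.2⟩ }
  rcases S.minimal M (fun y hy => ⟨S.scal hy, pow_mem hy r⟩) (fun y hy => hy.1)
    (fun g hg y hy => ⟨S.normal g hg y hy.1, by
      rw [conj_pow]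
      exact Geo.scalars_normal.conj_mem _ hy.2 g⟩) with h | h
  · exfalso
    have hk0 : 0 < k := Nat.pos_of_mul_pos_left (show 0 < r * k by omega) |> fun h => h
    have hy : x ^ k ∈ M := ⟨pow_mem hx k, by rw [← _root_.pow_mul, mul_comm, ← hk]; exact hm⟩
    rw [h] at hy
    exact Nat.find_min hex (show k < Nat.find hex by nlinarith [hr.two_le]) ⟨hk0, hy⟩
  · intro y hy
    rw [← h] at hy
    exact hy.2

/-- The quotient of `N` by the scalars. -/
abbrev Q (_S : AbSetup H N) : Type _ := N ⧸ (Geo.scalars ι F).subgroupOf N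

omit [Fintype F] in
lemma mk_eq_iff (S : AbSetup H N) (x y : N) :
    ((QuotientGroup.mk x : S.Q) = QuotientGroup.mk y) ↔
      (x : GL ι F)⁻¹ * (y : GL ι F) ∈ Geo.scalars ι F := by
  rw [QuotientGroup.eq, Subgroup.mem_subgroupOf]; rfl

/-- Representatives of distinct cosets are linearly independent. -/
lemma linearIndependent_reps (S : AbSetup H N) (t : S.Q → N)
    (ht : ∀ a, (QuotientGroup.mk (t a) : S.Q) = a) :
    LinearIndependent F (fun a => ((t a : GL ι F) : Matrix ι ι F)) := by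
  classical
  haveI := S.nonempty
  rw [linearIndependent_iff']
  intro s
  induction s using Finset.induction_on with
  | empty => simp
  | @insert a s ha ih =>
    intro c hc b hb
    have hsub : ∀ d ∈ s, c d = 0 := by
      intro d hd
      have hne : ¬ ((t a : GL ι F)⁻¹ * (t d : GL ι F) ∈ Geo.scalars ι F) := fun h =>
        ha (by rw [← S.mk_eq_iff, ht, ht] at h; exact h ▸ hd)
      obtain ⟨y, hy, hyne⟩ : ∃ y ∈ N, y * ((t a : GL ι F)⁻¹ * (t d : GL ι F)) ≠
          ((t a : GL ι F)⁻¹ * (t d : GL ι F)) * y := by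
        by_contra h
        push Not at h
        exact hne (S.commutes_iff.1 h)
      choose k hk using fun e : S.Q => S.comm _ (t e).2 y hy
      have hcj : ∀ e, cj y ((t e : GL ι F) : Matrix ι ι F) =
          ((k e : Fˣ) : F) • ((t e : GL ι F) : Matrix ι ι F) := fun e => by
        rw [cj_coe, hk e, mul_assoc, mul_assoc, mul_inv_cancel, mul_one, sc_mul_val]
      have hkne : ((k a : Fˣ) : F) ≠ ((k d : Fˣ) : F) := by
        intro h
        have hka : k a = k d := Units.ext h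
        apply hyne
        have h1 := hk a
        have h2 := hk d
        rw [← hka] at h2
        calc y * ((t a : GL ι F)⁻¹ * (t d : GL ι F))
            = y * (t a : GL ι F)⁻¹ * y⁻¹ * (y * (t d : GL ι F)) := by group
          _ = (sc ι (k a) * ((t a : GL ι F) * y) * y⁻¹)⁻¹ * (sc ι (k a) * ((t d : GL ι F) * y)) := by
              rw [h2, ← h1]; group
          _ = _ := by group
      have h1 : ∑ e ∈ insert a s, (c e * (((k e : Fˣ) : F) - ((k a : Fˣ) : F))) •
          ((t e : GL ι F) : Matrix ι ι F) = 0 := by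
        have h := congrArg (cj y) hc
        simp only [map_sum, map_smul, hcj, map_zero, smul_smul] at h
        simp only [mul_sub, sub_smul, Finset.sum_sub_distrib, h, zero_sub, neg_eq_zero]
        rw [← smul_zero ((k a : Fˣ) : F), ← hc, Finset.smul_sum]
        exact Finset.sum_congr rfl fun e _ => by rw [smul_smul, mul_comm]
      rw [Finset.sum_insert ha, sub_self, mul_zero, zero_smul, zero_add] at h1
      exact (mul_eq_zero.1 (ih _ h1 d hd)).resolve_right (sub_ne_zero.2 hkne.symm)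
    rcases Finset.mem_insert.1 hb with rfl | hb'
    · rw [Finset.sum_insert ha, Finset.sum_eq_zero (fun d hd => by rw [hsub d hd, zero_smul]),
        add_zero, smul_eq_zero] at hc
      exact hc.resolve_right (t b : GL ι F).ne_zero
    · exact hsub b hb'

omit [Fintype F] in
lemma span_reps (S : AbSetup H N) (t : S.Q → N) (ht : ∀ a, (QuotientGroup.mk (t a) : S.Q) = a) :
    Submodule.span F (Set.range fun a => ((t a : GL ι F) : Matrix ι ι F)) = ⊤ := by
  refine eq_top_iff.2 fun x _ => ?_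
  refine spanAlg_induction (L := N) (p := fun y => y ∈ Submodule.span F _) (fun g hg => ?_)
    (zero_mem _) (fun _ _ => add_mem) (fun c _ h => Submodule.smul_mem _ c h) (S.top ▸ Algebra.mem_top)
  obtain ⟨c, hc⟩ := exists_sc ((S.mk_eq_iff (t (QuotientGroup.mk ⟨g, hg⟩)) ⟨g, hg⟩).1 (ht _))
  have hg' : g = sc ι c * (t (QuotientGroup.mk ⟨g, hg⟩) : GL ι F) := by
    rw [sc_comm, ← hc, mul_inv_cancel_left]
  rw [hg', sc_mul_val]
  exact Submodule.smul_mem _ _ (Submodule.subset_span ⟨_, rfl⟩)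

lemma card_Q (S : AbSetup H N) : Nat.card S.Q = Fintype.card ι ^ 2 := by
  classical
  have hsurj : ∀ a : S.Q, ∃ x : N, (QuotientGroup.mk x : S.Q) = a := QuotientGroup.mk_surjective
  choose t ht using hsurj
  haveI := Fintype.ofFinite S.Q
  have h := finrank_span_eq_card (S.linearIndependent_reps t ht)
  rw [S.span_reps t ht, finrank_top, Module.finrank_matrix, Module.finrank_self, mul_one] at h
  rw [Nat.card_eq_fintype_card, ← h, sq]

lemma dim_prime_pow (S : AbSetup H N) {r : ℕ} (hr : r.Prime)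
    (hexp : ∀ x ∈ N, x ^ r ∈ Geo.scalars ι F) :
    ∃ k : ℕ, 1 ≤ k ∧ Fintype.card ι = r ^ k := by
  haveI := Fact.mk hr
  have hp : IsPGroup r S.Q := by
    intro a
    obtain ⟨x, rfl⟩ := QuotientGroup.mk'_surjective _ a
    refine ⟨1, ?_⟩
    rw [pow_one, ← map_pow, QuotientGroup.mk'_apply, QuotientGroup.eq_one_iff,
      Subgroup.mem_subgroupOf]
    exact hexp _ x.2
  obtain ⟨j, hj⟩ := IsPGroup.iff_card.1 hp
  rw [S.card_Q] at hj
  obtain ⟨k, -, hk⟩ := (Nat.dvd_prime_pow hr).1 (hj ▸ dvd_pow_self _ two_ne_zero)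
  refine ⟨k, ?_, hk⟩
  rcases Nat.eq_zero_or_pos k with rfl | h
  · exact absurd hk (by have := S.two; simp; omega)
  · exact h

/-- The exponent of the symplectic-type group attached to the prime `r`. -/
def zexp (r : ℕ) : ℕ := r * Nat.gcd 2 r

lemma zexp_eq {r : ℕ} (hr : r.Prime) : (r = 2 ∧ zexp r = 4) ∨ (Odd r ∧ zexp r = r) := by
  rcases hr.eq_two_or_odd' with h | h
  · subst h; exact Or.inl ⟨rfl, rfl⟩
  · exact Or.inr ⟨h, by rw [zexp, (Nat.coprime_two_left.2 h), mul_one]⟩

lemma zexp_dvd_choose {r : ℕ} (hr : r.Prime) : r ∣ (zexp r).choose 2 ∧ r ∣ zexp r := by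
  refine ⟨?_, dvd_mul_right _ _⟩
  rcases zexp_eq hr with ⟨rfl, h⟩ | ⟨ho, h⟩ <;> rw [h]
  · decide
  · exact hr.dvd_choose_self two_ne_zero (by obtain ⟨c, rfl⟩ := ho; have := hr.two_le; omega)

omit [Fintype F] in
lemma comm_pow_eq_one (S : AbSetup H N) {r : ℕ} (hexp : ∀ x ∈ N, x ^ r ∈ Geo.scalars ι F)
    {x y : GL ι F} (hx : x ∈ N) {c : Fˣ} (hc : y * x = sc ι c * (x * y)) : c ^ r = 1 := by
  haveI := S.nonempty
  refine sc_injective (ι := ι) ?_
  have h1 : y * x * y⁻¹ = sc ι c * x := by rw [hc]; group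
  have h2 : (y * x * y⁻¹) ^ r = x ^ r := by
    rw [conj_pow, (scalars_comm (hexp x hx) y).symm, mul_inv_cancel_right]
  rw [h1, (show Commute (sc ι c) x from sc_comm c x).mul_pow, ← map_pow] at h2
  rw [map_one]
  exact mul_eq_right.1 h2

lemma mul_pow_zexp (S : AbSetup H N) {r : ℕ} (hr : r.Prime)
    (hexp : ∀ x ∈ N, x ^ r ∈ Geo.scalars ι F) {x y : GL ι F} (hx : x ∈ N) (hy : y ∈ N) :
    (x * y) ^ zexp r = x ^ zexp r * y ^ zexp r := by
  obtain ⟨c, hc⟩ := S.comm x hx y hy
  obtain ⟨d, hd⟩ := (zexp_dvd_choose hr).1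
  rw [S.pow_mul hx hy hc, hd, _root_.pow_mul, S.comm_pow_eq_one hexp hx hc, one_pow, map_one,
    one_mul]

/-- Every element of `N` has a scalar multiple of order dividing `zexp r`. -/
lemma exists_scaled (S : AbSetup H N) {r : ℕ} (hr : r.Prime)
    (hexp : ∀ x ∈ N, x ^ r ∈ Geo.scalars ι F) {x : GL ι F} (hx : x ∈ N) :
    ∃ c : Fˣ, (sc ι c * x) ^ zexp r = 1 := by
  classical
  haveI := S.nonempty
  set z := zexp r with hz
  obtain ⟨d, hd⟩ : r ∣ z := (zexp_dvd_choose hr).2
  have hzs : ∀ y : N, ∃ l : Fˣ, (y : GL ι F) ^ z = sc ι l := fun y =>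
    exists_sc (by rw [hd, _root_.pow_mul]; exact pow_mem (hexp _ y.2) d)
  choose l hl using hzs
  let φ : N →* Fˣ ⧸ (powMonoidHom (α := Fˣ) z).range :=
    (QuotientGroup.mk' _).comp
      { toFun := l
        map_one' := sc_injective (ι := ι) (by rw [← hl, map_one]; simp)
        map_mul' := fun a b => sc_injective (ι := ι) (by
          rw [← hl, map_mul, ← hl, ← hl]; exact S.mul_pow_zexp hr hexp a.2 b.2) }
  have hconj : ∀ g ∈ H, ∀ y : N, ∀ hy : g * y * g⁻¹ ∈ N, l ⟨_, hy⟩ = l y := fun g _ y hy =>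
    sc_injective (ι := ι) (by rw [← hl, conj_pow, hl, ← sc_comm, mul_inv_cancel_right])
  have hrange : ∀ a ∈ φ.range, a ^ r = 1 := by
    rintro _ ⟨y, rfl⟩
    obtain ⟨w, hw⟩ := exists_sc (hexp _ y.2)
    refine (QuotientGroup.eq_one_iff (l y ^ r)).2 ⟨w, ?_⟩
    refine sc_injective (ι := ι) ?_
    rw [powMonoidHom_apply, map_pow, map_pow, ← hw, ← hl, ← _root_.pow_mul, ← _root_.pow_mul,
      mul_comm]
  have hindex : (φ.ker).index ≤ r := by
    rw [Subgroup.index_ker]
    haveI : Fintype (Fˣ ⧸ (powMonoidHom (α := Fˣ) z).range) := Fintype.ofFinite _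
    haveI : IsCyclic (Fˣ ⧸ (powMonoidHom (α := Fˣ) z).range) :=
      isCyclic_of_surjective (QuotientGroup.mk' _) (QuotientGroup.mk'_surjective _)
    refine le_trans ?_ (IsCyclic.card_pow_eq_one_le (n := r) (α := Fˣ ⧸ (powMonoidHom (α := Fˣ) z).range) hr.pos)
    rw [← Nat.card_eq_finsetCard]
    refine Nat.card_le_card_of_injective (fun a => ⟨a.1, by simp [hrange a.1 a.2]⟩) ?_
    intro a b h
    exact Subtype.ext (congrArg (fun v => v.1) h)
  have hker : φ.ker.map N.subtype = N := by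
    refine (S.minimal _ ?_ (Subgroup.map_subtype_le _) ?_).resolve_left fun h => ?_
    · rintro w hw
      obtain ⟨u, rfl⟩ := exists_sc hw
      refine ⟨⟨_, S.scal hw⟩, ?_, rfl⟩
      refine (QuotientGroup.eq_one_iff _).2 ⟨u, sc_injective (ι := ι) ?_⟩
      rw [powMonoidHom_apply, map_pow]
      exact hl ⟨_, S.scal hw⟩
    · rintro g hg _ ⟨y, hy, rfl⟩
      refine ⟨⟨_, S.normal g hg _ y.2⟩, ?_, rfl⟩
      show QuotientGroup.mk' _ (l _) = 1
      rw [hconj g hg y]
      exact hy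
    · have hk : φ.ker = (Geo.scalars ι F).subgroupOf N := by
        rw [← h]
        exact (Subgroup.comap_map_eq_self_of_injective N.subtype_injective _).symm
      rw [hk, Subgroup.index_eq_card] at hindex
      obtain ⟨k, hk1, hk2⟩ := S.dim_prime_pow hr hexp
      have hlt : r < r ^ k * r ^ k := by
        rw [← pow_add]
        calc r = r ^ 1 := (pow_one r).symm
          _ < _ := Nat.pow_lt_pow_right hr.one_lt (by omega)
      have := S.card_Q
      rw [hk2, sq] at this
      exact absurd (this ▸ hindex) (by omega)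
  obtain ⟨y, hy, rfl⟩ := hker.ge hx
  obtain ⟨u, hu⟩ := (QuotientGroup.eq_one_iff (l y)).1 hy
  refine ⟨u⁻¹, ?_⟩
  show (sc ι u⁻¹ * (y : GL ι F)) ^ z = 1
  rw [(show Commute (sc ι u⁻¹) (y : GL ι F) from sc_comm _ _).mul_pow, ← map_pow]
  show sc ι (u⁻¹ ^ z) * (y : GL ι F) ^ z = 1
  rw [hl, ← hu, powMonoidHom_apply, ← map_mul, inv_pow, inv_mul_cancel, map_one]

/-- The elements of `N` of order dividing `zexp r`. -/
def symplR (S : AbSetup H N) {r : ℕ} (hr : r.Prime)
    (hexp : ∀ x ∈ N, x ^ r ∈ Geo.scalars ι F) : Subgroup (GL ι F) where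
  carrier := {x | x ∈ N ∧ x ^ zexp r = 1}
  mul_mem' {a b} ha hb :=
    ⟨mul_mem ha.1 hb.1, by rw [S.mul_pow_zexp hr hexp ha.1 hb.1, ha.2, hb.2, one_mul]⟩
  one_mem' := ⟨one_mem N, one_pow _⟩
  inv_mem' {a} ha := ⟨inv_mem ha.1, by rw [inv_pow, ha.2, inv_one]⟩

end AbSetup

/-- The outcome of the abelian case. -/
inductive SymplCase [Fintype F] (H : Subgroup (GL ι F)) : Prop
  | data {r k : ℕ} {R : Subgroup (GL ι F)} (hcard : Fintype.card ι = r ^ k)
      (hd : 3 ≤ Fintype.card ι → Geo.IsLinearSymplecticTypeData r R)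
      (h : H ≤ Geo.subgroupNormalizer R)
  | subfield {F₁ : Subfield F} {B : GL ι F} (hne : F₁ ≠ ⊤) (h : H ≤ Geo.subfieldSubgroup F₁ B)
  | unitary {σ : F ≃+* F} {f : (ι → F) → (ι → F) → F} (hf : Geo.IsUnitaryForm σ f)
      (h : H ≤ Geo.similarityGroup f)
  | quad {Q : (ι → F) → F} (hQ : Geo.IsNondegenerateQuadraticForm Q) (h2 : (2 : F) ≠ 0)
      (h : H ≤ Geo.quadSimilarityGroup Q)
  | symplectic {f : (ι → F) → (ι → F) → F} (hf : Geo.IsSymplecticForm f)
      (h : H ≤ Geo.similarityGroup f)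

end Cfsg.Agent.Aschbacher
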