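import Cfsg.Agent.Lib.Aschbacher.TensorPower
import Cfsg.Agent.Lib.Aschbacher.SymplType

/-!
A non-abelian minimal normal subgroup modulo scalars: tensor powers or a simple core.
-/

set_option autoImplicit false
set_option linter.style.haveILetI false

namespace Cfsg.Agent.Aschbacher

open scoped MatrixGroups Matrix commutatorElement
open Matrix

variable {ι : Type} [Fintype ι] [DecidableEq ι] {F : Type*} [Field F]

/-- `N` is minimal normal in `H` above the scalars and not abelian modulo them. -/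
structure NonabSetup (H N : Subgroup (GL ι F)) : Prop where
  scal : Geo.scalars ι F ≤ N
  le : N ≤ H
  normal : ∀ g ∈ H, ∀ x ∈ N, g * x * g⁻¹ ∈ N
  nonab : ¬ ⁅N, N⁆ ≤ Geo.scalars ι F
  minimal : ∀ M : Subgroup (GL ι F), Geo.scalars ι F ≤ M → M ≤ N →
    (∀ g ∈ H, ∀ x ∈ M, g * x * g⁻¹ ∈ M) → M = Geo.scalars ι F ∨ M = N
  normalTop : ∀ L : Subgroup (GL ι F), L ≤ H → (∀ g ∈ H, ∀ x ∈ L, g * x * g⁻¹ ∈ L) →
    ¬ L ≤ Geo.scalars ι F → spanAlg L = ⊤
  nonempty : Nonempty ι

/-- The outcome of the non-abelian case. -/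
inductive NonabCase (H : Subgroup (GL ι F)) : Prop
  | wreath {k a : ℕ} {eq : ι ≃ (Fin k → Fin a)} {P : GL ι F}
      {φ : Fin k → (Matrix (Fin a) (Fin a) F →ₐ[F] Matrix ι ι F)} (hk : 2 ≤ k) (ha : 2 ≤ a)
      (hφ : ∀ i X, φ i X = cj P ((pureAt i X).submatrix eq eq))
      (hgen : (⨆ i, (φ i).range) = ⊤)
      (hE : ∀ i, ∃ E : Subgroup (GL ι F), E ≤ H ∧ ⁅E, E⁆ = E ∧ ¬ E ≤ Geo.scalars ι F ∧
        spanAlg E = (φ i).range)
      (htr : ∀ i j, ∃ g ∈ H, ∀ X, cj g (φ i X) = φ j X)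
      (h : ∀ g ∈ H, ∃ (σ : Equiv.Perm (Fin k)) (gs : Fin k → GL (Fin a) F), (g : Matrix ι ι F) =
        cj P (((permGL (factorPerm σ) * pureGL gs : GL (Fin k → Fin a) F) :
          Matrix (Fin k → Fin a) (Fin k → Fin a) F).submatrix eq eq))
  | core {L : Subgroup (GL ι F)} (le : L ≤ H) (normal : ∀ h ∈ H, ∀ x ∈ L, h * x * h⁻¹ ∈ L)
      (perfect : ⁅L, L⁆ = L) (simple : IsSimpleGroup (L ⧸ (Geo.scalars ι F).subgroupOf L))
      (nonabelian : ¬ IsMulCommutative (L ⧸ (Geo.scalars ι F).subgroupOf L))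
      (centralizer : ∀ h ∈ H, (∀ x ∈ L, h * x * h⁻¹ * x⁻¹ ∈ Geo.scalars ι F) → h ∈ Geo.scalars ι F)
      (top : spanAlg L = ⊤)

/-- The commutator of a product with scalars. -/
lemma commutator_sup_scalars (L : Subgroup (GL ι F)) :
    ⁅L ⊔ Geo.scalars ι F, L ⊔ Geo.scalars ι F⁆ ≤ ⁅L, L⁆ := by
  rw [Subgroup.commutator_le]
  intro x hx y hy
  obtain ⟨a, ha, z, hz, rfl⟩ := Subgroup.mem_sup_of_normal_right.1 hx
  obtain ⟨b, hb, w, hw, rfl⟩ := Subgroup.mem_sup_of_normal_right.1 hy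
  have hza : ∀ u, z * u = u * z := scalars_comm hz
  have hwa : ∀ u, w * u = u * w := scalars_comm hw
  have e : ⁅a * z, b * w⁆ = ⁅a, b⁆ := by
    simp only [commutatorElement_def, _root_.mul_inv_rev]
    calc a * z * (b * w) * (z⁻¹ * a⁻¹) * (w⁻¹ * b⁻¹)
        = a * (z * (b * w)) * z⁻¹ * a⁻¹ * (w⁻¹ * b⁻¹) := by group
      _ = a * b * (w * a⁻¹) * w⁻¹ * b⁻¹ := by rw [hza]; group
      _ = a * b * a⁻¹ * b⁻¹ := by rw [hwa]; group
  rw [e]
  exact Subgroup.commutator_mem_commutator ha hb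

namespace NonabSetup

variable {H N : Subgroup (GL ι F)}

/-- Subgroups between the scalars and `N`, normal in `N`. -/
def IsNormalIn (N S : Subgroup (GL ι F)) : Prop :=
  Geo.scalars ι F ≤ S ∧ S ≤ N ∧ ∀ g ∈ N, ∀ x ∈ S, g * x * g⁻¹ ∈ S

lemma exists_minimal [Finite F] (T : NonabSetup H N) : ∃ S, IsNormalIn N S ∧
    S ≠ Geo.scalars ι F ∧ ∀ M, IsNormalIn N M → M ≤ S → M = Geo.scalars ι F ∨ M = S := by
  haveI : Finite (Subgroup (GL ι F)) := inferInstance
  let P : Set (Subgroup (GL ι F)) := {S | IsNormalIn N S ∧ S ≠ Geo.scalars ι F}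
  have hN : N ∈ P := by
    refine ⟨⟨T.scal, le_rfl, fun g hg x hx => T.normal g (T.le hg) x hx⟩, fun h => T.nonab ?_⟩
    rw [h, Subgroup.commutator_le]
    intro a ha b hb
    rw [commutatorElement_def, scalars_comm ha b, mul_inv_cancel_right, mul_inv_cancel]
    exact one_mem _
  obtain ⟨S, hS⟩ := (Set.toFinite P).exists_minimal ⟨N, hN⟩
  refine ⟨S, hS.prop.1, hS.prop.2, fun M hM hle => ?_⟩
  by_cases h : M = Geo.scalars ι F
  · exact Or.inl h
  · exact Or.inr (le_antisymm hle (hS.le_of_le ⟨hM, h⟩ hle))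

end NonabSetup

lemma map_conj_mem {G : Type*} [Group G] (g x : G) (S : Subgroup G) :
    x ∈ S.map (MulAut.conj g).toMonoidHom ↔ g⁻¹ * x * g ∈ S := by
  rw [Subgroup.mem_map_equiv, MulAut.conj_symm_apply]

set_option maxHeartbeats 1000000 in
/-- A single perfect component. -/
lemma coreCase [Fintype F] [Nonempty ι] {H N S L : Subgroup (GL ι F)} (hLH : L ≤ H)
    (hLnH : ∀ g ∈ H, ∀ x ∈ L, g * x * g⁻¹ ∈ L) (hperf : ⁅L, L⁆ = L)
    (hLZ : ¬ L ≤ Geo.scalars ι F) (htop : spanAlg L = ⊤) (hLS : L ≤ S)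
    (hLZS : L ⊔ Geo.scalars ι F = S) (hSN : S ≤ N) (hZS : Geo.scalars ι F ≤ S) (hNS : N ≤ S)
    (hSmin : ∀ M, NonabSetup.IsNormalIn N M → M ≤ S → M = Geo.scalars ι F ∨ M = S) :
    NonabCase H := by
  classical
  set Z := Geo.scalars ι F with hZdef
  have hZn : ∀ g x : GL ι F, x ∈ Z → g * x * g⁻¹ ∈ Z := fun g x hx =>
    Geo.scalars_normal.conj_mem x hx g
  refine .core hLH hLnH hperf ?_ ?_ ?_ htop
  · haveI : Nontrivial (L ⧸ Z.subgroupOf L) := by
      rw [QuotientGroup.nontrivial_iff, ne_eq, Subgroup.subgroupOf_eq_top]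
      exact hLZ
    refine ⟨fun K hK => ?_⟩
    set K' := (K.comap (QuotientGroup.mk' (Z.subgroupOf L))).map L.subtype with hK'
    have hK'L : K' ≤ L := Subgroup.map_subtype_le _
    have hK'n : ∀ g ∈ L, ∀ x ∈ K', g * x * g⁻¹ ∈ K' := by
      rintro g hg _ ⟨x, hx, rfl⟩
      exact ⟨⟨g, hg⟩ * x * (⟨g, hg⟩ : L)⁻¹, hK.comap _ |>.conj_mem x hx _, rfl⟩
    have hM : NonabSetup.IsNormalIn N (K' ⊔ Z) := by
      refine ⟨le_sup_right, (sup_le (hK'L.trans hLS) hZS).trans hSN, fun g hg x hx => ?_⟩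
      obtain ⟨a, ha, z, hz, rfl⟩ := Subgroup.mem_sup_of_normal_right.1 hx
      rw [← conj_mul]
      refine Subgroup.mul_mem_sup ?_ (hZn g z hz)
      -- every element of `N` acts on the core as an element of the core
      have hN' : g ∈ L ⊔ Z := hLZS.symm ▸ hNS hg
      obtain ⟨l, hl, w, hw, rfl⟩ := Subgroup.mem_sup_of_normal_right.1 hN'
      have e : l * w * a * (l * w)⁻¹ = l * a * l⁻¹ := by
        rw [mul_assoc l w a, scalars_comm hw a]; group
      rw [e]
      exact hK'n l hl a ha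
    rcases hSmin _ hM (sup_le (hK'L.trans hLS) hZS) with h | h
    · left
      rw [eq_bot_iff]
      intro y hy
      obtain ⟨x, rfl⟩ := QuotientGroup.mk'_surjective _ y
      refine (QuotientGroup.eq_one_iff x).2 ?_
      exact h.le (Subgroup.mem_sup_left (⟨x, hy, rfl⟩ : (x : GL ι F) ∈ K'))
    · right
      have hLK : L ≤ K' := by
        conv_lhs => rw [← hperf]
        refine (Subgroup.commutator_mono (hLS.trans h.ge) (hLS.trans h.ge)).trans ?_
        refine (commutator_sup_scalars K').trans ?_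
        rw [Subgroup.commutator_le]
        intro a ha b hb
        rw [commutatorElement_def]
        exact mul_mem (hK'n a (hK'L ha) b hb) (inv_mem hb)
      refine eq_top_iff.2 fun y _ => ?_
      obtain ⟨x, rfl⟩ := QuotientGroup.mk'_surjective _ y
      obtain ⟨x', hx', he⟩ := hLK x.2
      exact (L.subtype_injective he) ▸ hx'
  · intro hc
    refine hLZ ?_
    conv_lhs => rw [← hperf]
    rw [Subgroup.commutator_le]
    intro a ha b hb
    have h := hc.is_comm.comm (QuotientGroup.mk' (Z.subgroupOf L) ⟨a, ha⟩)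
      (QuotientGroup.mk' (Z.subgroupOf L) ⟨b, hb⟩)
    have h2 : QuotientGroup.mk' (Z.subgroupOf L) ⁅(⟨a, ha⟩ : L), ⟨b, hb⟩⁆ = 1 := by
      rw [map_commutatorElement, commutatorElement_eq_one_iff_mul_comm]
      exact h
    rw [← MonoidHom.mem_ker, QuotientGroup.ker_mk', Subgroup.mem_subgroupOf,
      show ((⁅(⟨a, ha⟩ : L), ⟨b, hb⟩⁆ : L) : GL ι F) = ⁅a, b⁆ from
        map_commutatorElement L.subtype _ _] at h2
    exact h2
  · intro h hh hcent
    choose c hc using fun x : L => AbSetup.exists_sc (hcent x x.2)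
    have hc' : ∀ x : L, h * x * h⁻¹ = sc ι (c x) * x := fun x => by
      rw [← hc, inv_mul_cancel_right]
    let ψ : L →* Fˣ :=
      { toFun := c
        map_one' := sc_injective (ι := ι) (by rw [← hc, map_one]; simp)
        map_mul' := fun x y => sc_injective (ι := ι) (by
          refine mul_right_cancel (b := ((x * y : L) : GL ι F)) ?_
          rw [← hc' (x * y), Subgroup.coe_mul, map_mul]
          calc h * ((x : GL ι F) * y) * h⁻¹ = (h * x * h⁻¹) * (h * y * h⁻¹) := by group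
            _ = sc ι (c x) * (x : GL ι F) * (sc ι (c y) * (y : GL ι F)) := by rw [hc', hc']
            _ = _ := by rw [mul_assoc, ← mul_assoc (x : GL ι F), ← sc_comm]; simp only [mul_assoc]) }
    have hker : ψ.ker = ⊤ := by
      refine eq_top_iff.2 fun x _ => ?_
      have hx : (x : GL ι F) ∈ ψ.ker.map L.subtype := by
        refine (?_ : L ≤ _) x.2
        conv_lhs => rw [← hperf]
        rw [Subgroup.commutator_le]
        intro a ha b hb
        refine ⟨⁅(⟨a, ha⟩ : L), ⟨b, hb⟩⁆, ?_, map_commutatorElement L.subtype _ _⟩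
        rw [SetLike.mem_coe, MonoidHom.mem_ker, map_commutatorElement,
          commutatorElement_eq_one_iff_mul_comm, mul_comm]
      obtain ⟨x', hx', he⟩ := hx
      exact (L.subtype_injective he) ▸ hx'
    obtain ⟨d, hd⟩ := (absIrred_of_spanAlg_eq_top htop).2 (h : Matrix ι ι F) (by
      rintro _ ⟨x, hx, rfl⟩
      have h1 : ψ ⟨x, hx⟩ = 1 := MonoidHom.mem_ker.1 (hker.ge (Subgroup.mem_top _))
      have h2 := hc' ⟨x, hx⟩
      rw [show c ⟨x, hx⟩ = 1 from h1, map_one, one_mul, mul_inv_eq_iff_eq_mul] at h2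
      simpa using congrArg Units.val h2)
    refine (mem_scalars_iff_mem_bot h).2 ?_
    rw [hd]
    exact Subalgebra.smul_mem _ (one_mem _) d

set_option maxHeartbeats 1000000 in
/-- Several commuting conjugate components give a tensor power. -/
lemma wreathCase [Fintype F] [Nonempty ι] {H L : Subgroup (GL ι F)} {k : ℕ} [NeZero k]
    (E : Fin k → Subgroup (GL ι F)) (hEH : ∀ i, E i ≤ H) (hEinj : Function.Injective E)
    (hEcomm : ∀ i j, i ≠ j → ∀ a ∈ E i, ∀ b ∈ E j, a * b = b * a) (gE : Fin k → GL ι F)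
    (hgE : ∀ i, gE i ∈ H) (hEg : ∀ i, L.map (MulAut.conj (gE i)).toMonoidHom = E i)
    (hEsurj : ∀ g ∈ H, ∃ i, E i = L.map (MulAut.conj g).toMonoidHom) (hk1 : 2 ≤ k)
    (hJLtop : spanAlg (⨆ i, E i) = ⊤) (hLZ : ¬ L ≤ Geo.scalars ι F) (hperf : ⁅L, L⁆ = L) :
    NonabCase H := by
  classical
  set Z := Geo.scalars ι F with hZdef
  have hZn : ∀ g x : GL ι F, x ∈ Z → g * x * g⁻¹ ∈ Z := fun g x hx =>
    Geo.scalars_normal.conj_mem x hx g
  set JL : Subgroup (GL ι F) := ⨆ i, E i with hJL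
  let cL : GL ι F → Subgroup (GL ι F) := fun g => L.map (MulAut.conj g).toMonoidHom
  have hcLmul : ∀ g h, (cL h).map (MulAut.conj g).toMonoidHom = cL (g * h) := by
    intro g h
    ext x
    simp only [cL, map_conj_mem, _root_.mul_inv_rev]
    simp only [mul_assoc]
  have hEg : ∀ i, cL (gE i) = E i := hEg
  -- several components: tensor power
  have hnorm : ∀ i, ∀ g ∈ JL, ∀ x ∈ E i, g * x * g⁻¹ ∈ E i := by
    intro i
    have hle : JL ≤ Subgroup.normalizer (E i : Set (GL ι F)) := by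
      refine iSup_le fun j => ?_
      by_cases hij : j = i
      · rw [hij]; exact Subgroup.le_normalizer
      · intro g hg
        refine Subgroup.mem_normalizer_iff.2 fun x => ?_
        constructor
        · intro hx
          rw [show g * x = x * g from (hEcomm i j (Ne.symm hij) x hx g hg).symm,
            mul_inv_cancel_right]
          exact hx
        · intro hx
          have h := hEcomm i j (Ne.symm hij) _ hx g hg
          have h3 : g * x = g * (g * x * g⁻¹) := by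
            calc g * x = g * x * g⁻¹ * g := by group
              _ = _ := h
          rw [mul_left_cancel h3]
          exact hx
    exact fun g hg x hx => (Subgroup.mem_normalizer_iff.1 (hle hg) x).1 hx
  have hirrJL := (absIrred_of_spanAlg_eq_top hJLtop).1
  have hcentre : ∀ i, centre (spanAlg (E i)) = ⊥ := by
    intro i
    refine eq_bot_iff.2 fun z hz => ?_
    obtain ⟨c, rfl⟩ := (absIrred_of_spanAlg_eq_top hJLtop).2 z (by
      rintro _ ⟨g, hg, rfl⟩
      have key : ∀ j, ∀ y ∈ E j, z * (y : Matrix ι ι F) = (y : Matrix ι ι F) * z := by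
        intro j y hy
        by_cases hij : j = i
        · exact (hz.2 _ (coe_mem_spanAlg (hij ▸ hy))).symm
        · refine commute_spanAlg (L := E i) (fun u hu => ?_) hz.1
          rw [← Units.val_mul, ← Units.val_mul, hEcomm i j (Ne.symm hij) u hu y hy]
      exact Subgroup.iSup_induction E
        (C := fun y : GL ι F => z * (y : Matrix ι ι F) = (y : Matrix ι ι F) * z)
        hg key (by simp)
        (fun u v hu hv => by rw [Units.val_mul, ← mul_assoc, hu, mul_assoc, hv, mul_assoc]))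
    exact Subalgebra.smul_mem _ (one_mem _) c
  obtain ⟨a, b, eq₀, P₀, hA₀⟩ :=
    exists_kemb_range hirrJL (normalises_spanAlg (hnorm 0)) (hcentre 0)
  obtain ⟨⟨ia, ib⟩⟩ : Nonempty (Fin a × Fin b) := ⟨eq₀ (Classical.arbitrary ι)⟩
  have ha2 : 2 ≤ a := by
    have hia := ia.pos
    by_contra hlt
    obtain rfl : a = 1 := by omega
    apply hLZ
    have hbot : spanAlg (E 0) = ⊥ := by
      rw [hA₀]
      refine eq_bot_iff.2 ?_
      rintro _ ⟨X, rfl⟩
      have hX : X = algebraMap F _ (X 0 0) := by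
        ext r c
        simp [Subsingleton.elim r 0, Subsingleton.elim c 0, Matrix.algebraMap_matrix_apply]
      show kemb eq₀ P₀ X ∈ ⊥
      rw [hX, AlgHom.commutes]
      exact Subalgebra.algebraMap_mem _ _
    have hle := le_scalars_iff.2 hbot
    intro x hx
    have : gE 0 * x * (gE 0)⁻¹ ∈ E 0 := hEg 0 ▸ ⟨x, hx, rfl⟩
    simpa [mul_assoc] using hZn (gE 0)⁻¹ _ (hle this)
  haveI : NeZero a := ⟨by omega⟩
  let g' : Fin k → GL ι F := fun i => gE i * (gE 0)⁻¹
  have hg'H : ∀ i, g' i ∈ H := fun i => mul_mem (hgE i) (inv_mem (hgE 0))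
  have hEconj : ∀ i, E i = (E 0).map (MulAut.conj (g' i)).toMonoidHom := by
    intro i
    rw [← hEg 0, hcLmul, inv_mul_cancel_right, hEg]
  let φ : Fin k → (Matrix (Fin a) (Fin a) F →ₐ[F] Matrix ι ι F) := fun i =>
    (cj (g' i)).toAlgHom.comp (kemb eq₀ P₀)
  have hrange : ∀ i, (φ i).range = spanAlg (E i) := by
    intro i
    refine le_antisymm ?_ ?_
    · rintro _ ⟨X, rfl⟩
      have hX : kemb eq₀ P₀ X ∈ spanAlg (E 0) := hA₀ ▸ ⟨X, rfl⟩
      show cj (g' i) (kemb eq₀ P₀ X) ∈ _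
      refine spanAlg_induction (p := fun y => cj (g' i) y ∈ spanAlg (E i)) (fun u hu => ?_) ?_ ?_ ?_ hX
      · rw [cj_coe]
        exact coe_mem_spanAlg (hEconj i ▸ ⟨u, hu, rfl⟩)
      · simp
      · intro u v hu hv; rw [map_add]; exact add_mem hu hv
      · intro c u hu; rw [map_smul]; exact Subalgebra.smul_mem _ hu c
    · refine fun x hx => spanAlg_induction (p := fun y => y ∈ (φ i).range) (fun u hu => ?_)
        (zero_mem _) (fun _ _ => add_mem) (fun c _ h => Subalgebra.smul_mem _ h c) hx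
      obtain ⟨v, hv, rfl⟩ : u ∈ (E 0).map (MulAut.conj (g' i)).toMonoidHom := hEconj i ▸ hu
      obtain ⟨X, hX⟩ : (v : Matrix ι ι F) ∈ (kemb eq₀ P₀).range := hA₀ ▸ coe_mem_spanAlg hv
      refine ⟨X, ?_⟩
      show cj (g' i) (kemb eq₀ P₀ X) = _
      rw [show kemb eq₀ P₀ X = (v : Matrix ι ι F) from hX, cj_coe]
      rfl
  have hφcomm : ∀ i j, i ≠ j → ∀ X Y, φ i X * φ j Y = φ j Y * φ i X := by
    intro i j hij X Y
    have hX : φ i X ∈ spanAlg (E i) := hrange i ▸ ⟨X, rfl⟩
    have hY : φ j Y ∈ spanAlg (E j) := hrange j ▸ ⟨Y, rfl⟩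
    refine commute_spanAlg (fun u hu => ?_) hX
    refine (commute_spanAlg (fun v hv => ?_) hY).symm
    rw [← Units.val_mul, ← Units.val_mul, hEcomm i j hij u hu v hv]
  have hgen : (⨆ i, (φ i).range) = ⊤ := by
    rw [← hJLtop]
    simp only [hrange]
    refine le_antisymm (iSup_le fun i => spanAlg_mono (le_iSup E i)) fun x hx => ?_
    refine spanAlg_induction (p := fun y => y ∈ (⨆ i, spanAlg (E i))) (fun u hu => ?_)
      (zero_mem _) (fun _ _ => add_mem) (fun c _ h => Subalgebra.smul_mem _ h c) hx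
    exact Subgroup.iSup_induction E
      (C := fun y : GL ι F => (y : Matrix ι ι F) ∈ ⨆ i, spanAlg (E i))
      hu (fun j y hy => le_iSup (fun i => spanAlg (E i)) j (coe_mem_spanAlg hy)) (one_mem _)
      (fun v w hv hw => by rw [Units.val_mul]; exact mul_mem hv hw)
  obtain ⟨eq, P, hP⟩ := exists_tensor_power φ hφcomm hgen
  refine .wreath (k := k) (a := a) (eq := eq) (P := P) hk1 ha2 hP hgen
    (fun i => ⟨E i, hEH i, ?_, fun h => hLZ fun x hx => ?_, (hrange i).symm⟩)
    (fun i j => ⟨g' j * (g' i)⁻¹, mul_mem (hg'H j) (inv_mem (hg'H i)), fun X => ?_⟩)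
    fun g hg => exists_perm_pure φ hgen eq P hP ?_ hg
  · rw [← hEg i, ← Subgroup.map_commutator, hperf]
  · have : gE i * x * (gE i)⁻¹ ∈ E i := hEg i ▸ ⟨x, hx, rfl⟩
    simpa [mul_assoc] using hZn (gE i)⁻¹ _ (h this)
  · show cj (g' j * (g' i)⁻¹) (cj (g' i) (kemb eq₀ P₀ X)) = cj (g' j) (kemb eq₀ P₀ X)
    rw [cj_mul, cj_inv_cj]
  intro g hg
  have hex : ∀ i, ∃ j, (E i).map (MulAut.conj g).toMonoidHom = E j := by
    intro i
    obtain ⟨j, hj⟩ := hEsurj _ (mul_mem hg (hgE i))
    exact ⟨j, by rw [← hEg i, hcLmul, hj]⟩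
  choose σ hσ using hex
  have hσinj : Function.Injective σ := fun i j h => hEinj (Subgroup.map_injective
    (f := (MulAut.conj g).toMonoidHom) (MulAut.conj g).injective (by rw [hσ i, hσ j, h]))
  refine ⟨Equiv.ofBijective σ (Finite.injective_iff_bijective.1 hσinj), fun i X => ?_⟩
  rw [Equiv.ofBijective_apply, hrange]
  have hX : φ i X ∈ spanAlg (E i) := hrange i ▸ ⟨X, rfl⟩
  refine spanAlg_induction (p := fun y => cj g y ∈ spanAlg (E (σ i))) (fun u hu => ?_) ?_ ?_ ?_ hX
  · rw [cj_coe]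
    exact coe_mem_spanAlg (hσ i ▸ ⟨u, hu, rfl⟩)
  · simp
  · intro u v hu hv; rw [map_add]; exact add_mem hu hv
  · intro c u hu; rw [map_smul]; exact Subalgebra.smul_mem _ hu c


set_option maxHeartbeats 2000000 in
/-- The non-abelian case. -/
theorem nonabCase [Fintype F] {H N : Subgroup (GL ι F)} (T : NonabSetup H N) : NonabCase H := by
  classical
  haveI := T.nonempty
  set Z := Geo.scalars ι F with hZdef
  have hZn : ∀ g x : GL ι F, x ∈ Z → g * x * g⁻¹ ∈ Z := fun g x hx =>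
    Geo.scalars_normal.conj_mem x hx g
  obtain ⟨S, ⟨hZS, hSN, hSn⟩, hSZ, hSmin⟩ := T.exists_minimal
  let cS : GL ι F → Subgroup (GL ι F) := fun g => S.map (MulAut.conj g).toMonoidHom
  have hcS : ∀ g x, x ∈ cS g ↔ g⁻¹ * x * g ∈ S := fun g x => map_conj_mem g x S
  have hcmul : ∀ g h, (cS h).map (MulAut.conj g).toMonoidHom = cS (g * h) := by
    intro g h
    ext x
    rw [map_conj_mem, hcS, hcS, _root_.mul_inv_rev]
    simp only [mul_assoc]
  have hcN : ∀ h ∈ H, cS h ≤ N := fun h hh x hx => by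
    have := T.normal h hh _ (hSN ((hcS h x).1 hx))
    simpa [mul_assoc] using this
  have hcn : ∀ h ∈ H, ∀ g ∈ N, ∀ x ∈ cS h, g * x * g⁻¹ ∈ cS h := by
    intro h hh g hg x hx
    rw [hcS] at hx ⊢
    have hg' : h⁻¹ * g * h ∈ N := by simpa using T.normal h⁻¹ (inv_mem hh) g hg
    have h2 := hSn _ hg' _ hx
    convert h2 using 1
    group
  have hZc : ∀ h, Z ≤ cS h := fun h x hx => (hcS h x).2 (hZS (by simpa using hZn h⁻¹ x hx))
  -- distinct conjugates commute modulo scalars
  have hmeet : ∀ g ∈ H, ∀ h ∈ H, cS g ≠ cS h → ⁅cS g, cS h⁆ ≤ Z := by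
    intro g hg h hh hne
    have hle : ⁅cS g, cS h⁆ ≤ cS g ⊓ cS h := by
      rw [Subgroup.commutator_le]
      intro a ha b hb
      refine Subgroup.mem_inf.2 ⟨?_, ?_⟩
      · have h1 := hcn g hg b (hcN h hh hb) a⁻¹ (inv_mem ha)
        rw [commutatorElement_def, mul_assoc a b, mul_assoc a]
        exact mul_mem ha h1
      · rw [commutatorElement_def]
        exact mul_mem (hcn h hh a (hcN g hg ha) b hb) (inv_mem hb)
    refine hle.trans ?_
    have hpull : ∀ h' ∈ H, cS g ⊓ cS h ≤ cS h' →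
        (cS g ⊓ cS h).map (MulAut.conj h'⁻¹).toMonoidHom = Z ∨
          cS g ⊓ cS h = cS h' := by
      intro h' hh' hle'
      set M := (cS g ⊓ cS h).map (MulAut.conj h'⁻¹).toMonoidHom with hM
      have hmM : ∀ x, x ∈ M ↔ h' * x * h'⁻¹ ∈ cS g ⊓ cS h := fun x => by
        rw [hM, map_conj_mem, inv_inv]
      rcases hSmin M ⟨fun x hx => (hmM x).2 ⟨hZc g (hZn h' x hx), hZc h (hZn h' x hx)⟩,
        fun x hx => hSN (by
          have := (hcS h' _).1 (hle' ((hmM x).1 hx))
          simpa [mul_assoc] using this),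
        fun n hn x hx => (hmM _).2 (by
          have hn' := T.normal h' hh' n hn
          have hx' := (hmM x).1 hx
          have e : h' * (n * x * n⁻¹) * h'⁻¹ =
              (h' * n * h'⁻¹) * (h' * x * h'⁻¹) * (h' * n * h'⁻¹)⁻¹ := by group
          rw [e]
          exact ⟨hcn g hg _ hn' _ hx'.1, hcn h hh _ hn' _ hx'.2⟩)⟩
        (fun x hx => by
          have := (hcS h' _).1 (hle' ((hmM x).1 hx))
          simpa [mul_assoc] using this) with h1 | h1
      · exact Or.inl h1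
      · right
        refine le_antisymm hle' fun x hx => ?_
        have h2 : h'⁻¹ * x * h' ∈ M := h1 ▸ (hcS h' x).1 hx
        simpa [mul_assoc] using (hmM _).1 h2
    rcases hpull g hg inf_le_left with h1 | h1
    · intro x hx
      have h2 : g⁻¹ * x * g ∈ Z := h1 ▸ (by
        rw [map_conj_mem, inv_inv]; simpa [mul_assoc] using hx)
      simpa [mul_assoc] using hZn g _ h2
    · rcases hpull h hh inf_le_right with h2 | h2
      · intro x hx
        have h3 : h⁻¹ * x * h ∈ Z := h2 ▸ (by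
          rw [map_conj_mem, inv_inv]; simpa [mul_assoc] using hx)
        simpa [mul_assoc] using hZn h _ h3
      · exact absurd (h1.symm.trans h2) hne
  -- the join of the conjugates
  set J : Subgroup (GL ι F) := ⨆ h : H, cS h with hJ
  have hJn : ∀ g ∈ H, ∀ x ∈ J, g * x * g⁻¹ ∈ J := by
    intro g hg
    have hmap : J.map (MulAut.conj g).toMonoidHom ≤ J := by
      rw [hJ, Subgroup.map_iSup]
      refine iSup_le fun h => ?_
      rw [hcmul]
      exact le_iSup (fun h : H => cS h) ⟨g * h, mul_mem hg h.2⟩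
    exact fun x hx => hmap ⟨x, hx, rfl⟩
  have hS1 : S ≤ J := by
    refine le_trans ?_ (le_iSup (fun h : H => cS h) 1)
    intro x hx
    rw [hcS]; simpa using hx
  have hJN : J = N := by
    refine (T.minimal J (hZS.trans hS1) (iSup_le fun h => hcN _ h.2) hJn).resolve_left fun h => ?_
    exact hSZ (le_antisymm (h ▸ hS1) hZS)
  have hSnab : ¬ ⁅S, S⁆ ≤ Z := by
    intro hS
    refine T.nonab ?_
    have hall : ∀ g h : H, ⁅cS g, cS h⁆ ≤ Z := by
      intro g h
      by_cases heq : cS g = cS h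
      · rw [← heq]
        show ⁅S.map _, S.map _⁆ ≤ Z
        rw [← Subgroup.map_commutator]
        rintro _ ⟨x, hx, rfl⟩
        exact hZn _ x (hS hx)
      · exact hmeet _ g.2 _ h.2 heq
    let Zc : Subgroup (GL ι F) → Subgroup (GL ι F) := fun K =>
      Subgroup.comap (QuotientGroup.mk' Z) (Subgroup.centralizer (K.map (QuotientGroup.mk' Z) : Set _))
    have hiff : ∀ K M : Subgroup (GL ι F), K ≤ Zc M ↔ ⁅K, M⁆ ≤ Z := by
      intro K M
      rw [← Subgroup.map_le_iff_le_comap, ← Subgroup.commutator_eq_bot_iff_le_centralizer,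
        ← Subgroup.map_commutator, Subgroup.map_eq_bot_iff, QuotientGroup.ker_mk']
    rw [← hJN]
    refine (hiff J J).1 (iSup_le fun g => ?_)
    rw [hiff, Subgroup.commutator_comm, ← hiff]
    exact iSup_le fun h => (hiff _ _).2 (hall h g)
  -- the perfect core
  set L := ⁅S, S⁆ with hLdef
  have hLS : L ≤ S := by
    rw [hLdef, Subgroup.commutator_le]
    intro a ha b hb
    rw [commutatorElement_def]
    exact mul_mem (mul_mem (mul_mem ha hb) (inv_mem ha)) (inv_mem hb)
  have hLn : ∀ g ∈ N, ∀ x ∈ L, g * x * g⁻¹ ∈ L := by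
    intro g hg
    have hmap : L.map (MulAut.conj g).toMonoidHom ≤ L := by
      rw [hLdef, Subgroup.map_commutator]
      refine Subgroup.commutator_mono ?_ ?_ <;>
      · rintro _ ⟨x, hx, rfl⟩
        exact hSn g hg x hx
    exact fun x hx => hmap ⟨x, hx, rfl⟩
  have hLZS : L ⊔ Z = S := by
    refine (hSmin _ ⟨le_sup_right, (sup_le hLS hZS).trans hSN, fun g hg x hx => ?_⟩
      (sup_le hLS hZS)).resolve_left fun h => hSnab (le_sup_left.trans h.le)
    obtain ⟨a, ha, z, hz, rfl⟩ := Subgroup.mem_sup_of_normal_right.1 hx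
    rw [← conj_mul]
    exact Subgroup.mul_mem_sup (hLn g hg a ha) (hZn g z hz)
  have hperf : ⁅L, L⁆ = L := by
    refine le_antisymm (Subgroup.commutator_mono hLS hLS) ?_
    conv_lhs => rw [hLdef, ← hLZS]
    exact commutator_sup_scalars L
  have hLZ : ¬ L ≤ Z := hSnab
  -- conjugates of the core
  let cL : GL ι F → Subgroup (GL ι F) := fun g => L.map (MulAut.conj g).toMonoidHom
  have hcLcS : ∀ g, cL g ≤ cS g := fun g => Subgroup.map_mono hLS
  have hcLmul : ∀ g h, (cL h).map (MulAut.conj g).toMonoidHom = cL (g * h) := by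
    intro g h
    ext x
    simp only [cL, map_conj_mem, _root_.mul_inv_rev]
    simp only [mul_assoc]
  have hcLcomm : ∀ g ∈ H, ∀ h ∈ H, cL g ≠ cL h →
      ∀ a ∈ cL g, ∀ b ∈ cL h, a * b = b * a := by
    intro g hg h hh hne
    have hne' : cS g ≠ cS h := by
      intro he
      apply hne
      show L.map _ = L.map _
      rw [hLdef, Subgroup.map_commutator, Subgroup.map_commutator]
      exact congrArg (fun K => ⁅K, K⁆) he
    have hgh := hmeet g hg h hh hne'
    have hzero : ∀ K : Subgroup (GL ι F), ⁅Z, K⁆ = ⊥ := fun K => by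
      rw [Subgroup.commutator_eq_bot_iff_le_centralizer]
      exact fun z hz u _ => (scalars_comm hz u).symm
    have hb : ⁅cL g, cS h⁆ = ⊥ := by
      show ⁅L.map _, cS h⁆ = ⊥
      rw [hLdef, Subgroup.map_commutator]
      refine Subgroup.commutator_commutator_eq_bot_of_rotate ?_ ?_
      · exact le_bot_iff.1 ((Subgroup.commutator_mono hgh le_rfl).trans (hzero _).le)
      · rw [Subgroup.commutator_comm (cS h) (S.map _)]
        exact le_bot_iff.1 ((Subgroup.commutator_mono hgh le_rfl).trans (hzero _).le)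
    intro a ha b hbm
    exact (Subgroup.commutator_eq_bot_iff_le_centralizer.1 hb ha b (hcLcS h hbm)).symm
  -- the finite family
  let O : Finset (Subgroup (GL ι F)) :=
    (Set.toFinite {K | ∃ g ∈ H, cL g = K}).toFinset
  have hO : ∀ K, K ∈ O ↔ ∃ g ∈ H, cL g = K := fun K => by simp [O]
  set k := O.card with hk
  let E : Fin k → Subgroup (GL ι F) := fun i => (O.equivFin.symm i : Subgroup (GL ι F))
  have hEinj : Function.Injective E := fun i j h => O.equivFin.symm.injective (Subtype.ext h)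
  choose gE hgE hEg using fun i => (hO (E i)).1 (O.equivFin.symm i).2
  have hEsurj : ∀ g ∈ H, ∃ i, E i = cL g := fun g hg =>
    ⟨O.equivFin ⟨cL g, (hO _).2 ⟨g, hg, rfl⟩⟩, by simp [E]⟩
  have hcL1 : cL 1 = L := by
    ext x; simp only [cL, map_conj_mem]; simp
  have hk0 : 0 < k := Finset.card_pos.2 ⟨cL 1, (hO _).2 ⟨1, one_mem H, rfl⟩⟩
  haveI : NeZero k := ⟨hk0.ne'⟩
  set JL : Subgroup (GL ι F) := ⨆ i, E i with hJL
  have hEH : ∀ i, E i ≤ H := fun i => by
    rw [← hEg i]
    exact (hcLcS _).trans ((hcN _ (hgE i)).trans T.le)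
  have hJLn : ∀ g ∈ H, ∀ x ∈ JL, g * x * g⁻¹ ∈ JL := by
    intro g hg
    have hmap : JL.map (MulAut.conj g).toMonoidHom ≤ JL := by
      rw [hJL, Subgroup.map_iSup]
      refine iSup_le fun i => ?_
      rw [← hEg i, hcLmul]
      obtain ⟨j, hj⟩ := hEsurj _ (mul_mem hg (hgE i))
      exact hj ▸ le_iSup E j
    exact fun x hx => hmap ⟨x, hx, rfl⟩
  have hJLnot : ¬ JL ≤ Z := by
    intro h
    obtain ⟨i, hi⟩ := hEsurj 1 (one_mem H)
    exact hLZ (hcL1 ▸ hi ▸ (le_iSup E i).trans h)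
  have hJLtop := T.normalTop JL (iSup_le hEH) hJLn hJLnot
  have hEcomm : ∀ i j, i ≠ j → ∀ a ∈ E i, ∀ b ∈ E j, a * b = b * a := by
    intro i j hij
    rw [← hEg i, ← hEg j]
    exact hcLcomm _ (hgE i) _ (hgE j) fun h => hij (hEinj (by rw [← hEg i, ← hEg j, h]))
  by_cases hk1 : k = 1
  · -- a single component
    have hall : ∀ g ∈ H, cL g = L := by
      intro g hg
      obtain ⟨i, hi⟩ := hEsurj g hg
      obtain ⟨j, hj⟩ := hEsurj 1 (one_mem H)
      haveI : Subsingleton (Fin k) := ⟨fun a b => Fin.ext (by omega)⟩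
      rw [← hi, ← hcL1, ← hj, Subsingleton.elim i j]
    have hLH : L ≤ H := hLS.trans (hSN.trans T.le)
    have hLnH : ∀ g ∈ H, ∀ x ∈ L, g * x * g⁻¹ ∈ L := by
      intro g hg x hx
      have h : g * x * g⁻¹ ∈ cL g := ⟨x, hx, rfl⟩
      rwa [hall g hg] at h
    have htop := T.normalTop L hLH hLnH hLZ
    have hNS : N ≤ S := by
      rw [← hJN]
      refine iSup_le fun h => ?_
      intro y hy
      rw [← hLZS]
      have hy2 : y ∈ S.map (MulAut.conj (h : GL ι F)).toMonoidHom := hy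
      rw [← hLZS, Subgroup.map_sup] at hy2
      refine (sup_le_sup (hall _ h.2).le ?_) hy2
      rintro _ ⟨v, hv, rfl⟩
      exact hZn _ v hv
    exact coreCase hLH hLnH hperf hLZ htop hLS hLZS hSN hZS hNS hSmin
  exact wreathCase E hEH hEinj hEcomm gE hgE (fun i => hEg i) hEsurj (by omega) hJLtop hLZ hperf

end Cfsg.Agent.Aschbacher
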