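/-
Eigenspaces of elements normalising an absolutely irreducible extraspecial group.
-/
import Cfsg.Prelude.Def_GeometricClasses
import Mathlib

set_option autoImplicit false
set_option linter.style.haveILetI false

namespace Cfsg.Agent.EigenBound

open scoped Matrix commutatorElement
open Matrix

/-! ### Shifts of eigenspaces -/

section Shift

variable {F V : Type*} [Field F] [AddCommGroup V] [Module F V] [FiniteDimensional F V]

/-- An element shifting eigenvalues by a root of unity of order r bounds eigenspaces. -/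
theorem shift_le {g x : V →ₗ[F] V} (hx : Function.Injective x) {l : F} {r : ℕ} (hl : orderOf l = r)
    (hr : 1 < r) {U : Submodule F V} (h : ∀ v ∈ U, g (x v) = l • x (g v)) (hU : ∀ v ∈ U, x v ∈ U) {c : F} (hc : c ≠ 0) :
    r * Module.finrank F ↥(Module.End.eigenspace g c ⊓ U) ≤ Module.finrank F U := by
  classical
  have hstep : ∀ (i : ℕ) (v : V), v ∈ Module.End.eigenspace g c ⊓ U →
      (x ^ i) v ∈ Module.End.eigenspace g (c * l ^ i) ⊓ U := by
    intro i
    induction i with
    | zero => intro v hv; simpa using hv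
    | succ i ih =>
      intro v hv
      obtain ⟨h1, h2⟩ := ih v hv
      rw [SetLike.mem_coe, Module.End.mem_eigenspace_iff] at h1
      refine ⟨?_, ?_⟩
      · rw [SetLike.mem_coe, Module.End.mem_eigenspace_iff, pow_succ', Module.End.mul_apply, h _ h2, h1, map_smul,
          smul_smul]
        congr 1
        ring
      · rw [pow_succ', Module.End.mul_apply]
        exact hU _ h2
  have hinj : Function.Injective fun i : Fin r => c * l ^ (i : ℕ) := by
    intro i j hij
    have h' := mul_left_cancel₀ hc hij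
    have hlf : IsOfFinOrder l := orderOf_pos_iff.1 (by omega)
    exact Fin.ext (pow_injOn_Iio_orderOf (by rw [Set.mem_Iio, hl]; exact i.2)
      (by rw [Set.mem_Iio, hl]; exact j.2) h')
  let S : Fin r → Submodule F V := fun i => Module.End.eigenspace g (c * l ^ (i : ℕ)) ⊓ U
  have hind : iSupIndep S :=
    ((Module.End.eigenspaces_iSupIndep g).comp hinj).mono fun i => inf_le_left
  have hle : ∀ i : Fin r, Module.finrank F ↥(Module.End.eigenspace g c ⊓ U) ≤ Module.finrank F (S i) := fun i => by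
    have hinj' : Function.Injective (x ^ (i : ℕ) : V →ₗ[F] V) := by
      rw [Module.End.coe_pow]
      exact hx.iterate _
    refine (LinearEquiv.finrank_eq
      (Submodule.equivMapOfInjective _ hinj' (Module.End.eigenspace g c ⊓ U))).trans_le (Submodule.finrank_mono ?_)
    rintro _ ⟨v, hv, rfl⟩
    exact hstep i v hv
  have hsum : ∑ i, Module.finrank F (S i) ≤ Module.finrank F U := by
    have hi : ∀ s : Finset (Fin r), ∑ i ∈ s, Module.finrank F (S i) = Module.finrank F ↥(s.sup S) := by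
      intro s
      induction s using Finset.induction_on with
      | empty => rw [Finset.sum_empty, Finset.sup_empty, finrank_bot]
      | @insert a s ha ih =>
        rw [Finset.sum_insert ha, Finset.sup_insert, ih]
        have hdis : Disjoint (S a) (s.sup S) := by
          rw [Finset.sup_eq_iSup]
          exact (hind.disjoint_biSup (y := (↑s : Set (Fin r))) (by simpa using ha))
        have h := Submodule.finrank_sup_add_finrank_inf_eq (S a) (s.sup S)
        rw [hdis.eq_bot, finrank_bot, add_zero] at h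
        exact h.symm
    rw [hi]
    exact Submodule.finrank_mono (Finset.sup_le fun i _ => inf_le_right)
  refine le_trans ?_ hsum
  calc r * Module.finrank F ↥(Module.End.eigenspace g c ⊓ U)
      = ∑ _i : Fin r, Module.finrank F ↥(Module.End.eigenspace g c ⊓ U) := by simp
    _ ≤ _ := Finset.sum_le_sum fun i _ => hle i

end Shift

variable {ι : Type} [Fintype ι] [DecidableEq ι] {F : Type*} [Field F]

/-- The eigenspace of a matrix. -/
abbrev eig (g : GL ι F) (c : F) : Submodule F (ι → F) :=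
  Module.End.eigenspace (Matrix.toLin' (g : Matrix ι ι F)) c

theorem mem_eig {g : GL ι F} {c : F} {v : ι → F} : v ∈ eig g c ↔ (g : Matrix ι ι F) *ᵥ v = c • v := by
  rw [Module.End.mem_eigenspace_iff, Matrix.toLin'_apply]

theorem eig_zero (g : GL ι F) : eig g (0 : F) = ⊥ := (Submodule.eq_bot_iff _).2 fun v hv => by
  rw [mem_eig, zero_smul] at hv
  exact Matrix.mulVec_injective_of_isUnit g.isUnit (hv.trans (Matrix.mulVec_zero _).symm)

/-- A relation gx = l·xg between invertible matrices. -/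
def Rel (l : F) (g x : GL ι F) : Prop := (g : Matrix ι ι F) * x = l • ((x : Matrix ι ι F) * g)

theorem rel_le {g x : GL ι F} {l : F} {r : ℕ} (hl : orderOf l = r) (hr : 1 < r) (h : Rel l g x)
    {U : Submodule F (ι → F)} (hU : ∀ v ∈ U, (x : Matrix ι ι F) *ᵥ v ∈ U) (c : F) :
    r * Module.finrank F ↥(eig g c ⊓ U) ≤ Module.finrank F U := by
  rcases eq_or_ne c 0 with rfl | hc
  · rw [eig_zero, bot_inf_eq, finrank_bot, mul_zero]
    exact Nat.zero_le _
  refine shift_le (x := Matrix.toLin' (x : Matrix ι ι F))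
    (fun a b e => Matrix.mulVec_injective_of_isUnit x.isUnit (by simpa [Matrix.toLin'_apply] using e)) hl hr (fun v _ => ?_) (by simpa using hU) hc
  simp only [Matrix.toLin'_apply, Matrix.mulVec_mulVec]
  rw [h, Matrix.smul_mulVec]

theorem rel_le_top {g x : GL ι F} {l : F} {r : ℕ} (hl : orderOf l = r) (hr : 1 < r) (h : Rel l g x) (c : F) :
    r * Module.finrank F ↥(eig g c) ≤ Fintype.card ι := by
  have h' := rel_le hl hr h (U := ⊤) (fun v _ => Submodule.mem_top) c
  rwa [inf_top_eq, finrank_top, Module.finrank_pi] at h'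

/-- The standing hypotheses. -/
structure Data (r : ℕ) (R : Subgroup (GL ι F)) (g : GL ι F) : Prop where
  prime : r.Prime
  pgroup : IsPGroup r R
  centre : Nat.card (Subgroup.center R) = r
  derived : commutator R = Subgroup.center R
  exponent : Monoid.exponent R = r ∨ Monoid.exponent R = 4
  irr : Geo.ActsAbsolutelyIrreducibly (Geo.matrixSet R)
  norm : g ∈ Geo.subgroupNormalizer (R ⊔ Geo.scalars ι F)

variable {r : ℕ} {R : Subgroup (GL ι F)} {g : GL ι F}

theorem scalar_of_commutes (D : Data r R g) {a : GL ι F} (h : ∀ x ∈ R, a * x = x * a) :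
    a ∈ Geo.scalars ι F := by
  obtain ⟨c, hc⟩ := D.irr.2 (a : Matrix ι ι F) (by
    rintro _ ⟨x, hx, rfl⟩
    simpa using congrArg Units.val (h x hx))
  rcases isEmpty_or_nonempty ι with hι | hι
  · exact ⟨1, Units.ext (Matrix.ext fun i => isEmptyElim i)⟩
  have hc0 : c ≠ 0 := fun h0 => a.ne_zero (by rw [hc, h0, zero_smul])
  exact (Geo.mem_scalars_iff a).2 ⟨Units.mk0 c hc0, by simpa using hc⟩

theorem central {z : GL ι F} (hz : z ∈ Geo.scalars ι F) (a : GL ι F) : z * a = a * z := by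
  obtain ⟨c, hc⟩ := (Geo.mem_scalars_iff z).1 hz
  refine Units.ext ?_
  rw [Units.val_mul, Units.val_mul, hc, Matrix.smul_mul, Matrix.mul_smul, Matrix.one_mul, Matrix.mul_one]

theorem comm_centre (D : Data r R g) {x y : GL ι F} (hx : x ∈ R) (hy : y ∈ R) :
    x * y * x⁻¹ * y⁻¹ ∈ Geo.scalars ι F ∧ (x * y * x⁻¹ * y⁻¹) ^ r = 1 := by
  have h : ⁅(⟨x, hx⟩ : R), ⟨y, hy⟩⁆ ∈ Subgroup.center R :=
    D.derived ▸ Subgroup.commutator_mem_commutator (Subgroup.mem_top _) (Subgroup.mem_top _)
  refine ⟨scalar_of_commutes D fun z hz => ?_, ?_⟩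
  · have := Subgroup.mem_center_iff.1 h ⟨z, hz⟩
    simpa [commutatorElement_def] using (congrArg Subtype.val this).symm
  · have h' := pow_card_eq_one' (x := (⟨_, h⟩ : Subgroup.center R))
    rw [D.centre] at h'
    simpa [commutatorElement_def] using congrArg (fun z : Subgroup.center R => ((z : R) : GL ι F)) h'

theorem rel_of_comm {x y : GL ι F} {c : Fˣ}
    (h : ((x * y * x⁻¹ * y⁻¹ : GL ι F) : Matrix ι ι F) = (c : F) • (1 : Matrix ι ι F)) : Rel (c : F) x y := by
  show (x : Matrix ι ι F) * y = (c : F) • ((y : Matrix ι ι F) * x)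
  have e : ((x * y : GL ι F) : Matrix ι ι F) = ((x * y * x⁻¹ * y⁻¹ : GL ι F) : Matrix ι ι F) * ((y * x : GL ι F)) := by
    rw [← Units.val_mul]; congr 1; group
  rw [Units.val_mul] at e
  rw [e, h, smul_mul_assoc, Matrix.one_mul, Units.val_mul]

theorem pow_scalar (D : Data r R g) {x : GL ι F} (hx : x ∈ R) : x ^ r ∈ Geo.scalars ι F := by
  refine scalar_of_commutes D fun y hy => ?_
  obtain ⟨hz, hzr⟩ := comm_centre D hy hx
  have e : y * x * y⁻¹ = (y * x * y⁻¹ * x⁻¹) * x := by group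
  have e' : (y * x * y⁻¹) ^ r = x ^ r := by
    rw [e, (show Commute (y * x * y⁻¹ * x⁻¹) x from central hz x).mul_pow, hzr, one_mul]
  rw [conj_pow] at e'
  calc x ^ r * y = y * x ^ r * y⁻¹ * y := by rw [e']
    _ = y * x ^ r := by group

theorem scalar_eq_one {c : F} [Nonempty ι] (h : c • (1 : Matrix ι ι F) = 1) : c = 1 := by
  obtain ⟨i⟩ := ‹Nonempty ι›
  simpa using congrFun (congrFun h i) i

theorem order_eq (D : Data r R g) {l : F} (hl : l ^ r = 1) (h1 : l ≠ 1) : orderOf l = r :=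
  (((Nat.dvd_prime D.prime).1 (orderOf_dvd_of_pow_eq_one hl)).resolve_left (by rwa [orderOf_eq_one_iff]))

/-- Non-scalar elements have a commutator partner. -/
theorem exists_partner [Nonempty ι] (D : Data r R g) {y : GL ι F} (hy : y ∈ R) (hns : y ∉ Geo.scalars ι F) :
    ∃ (z : GL ι F) (l : F), z ∈ R ∧ orderOf l = r ∧ Rel l y z := by
  obtain ⟨z, hz, hne⟩ : ∃ z ∈ R, y * z ≠ z * y := by
    by_contra hc
    push Not at hc
    exact hns (scalar_of_commutes D hc)
  obtain ⟨hs, hr⟩ := comm_centre D hy hz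
  obtain ⟨c, hc⟩ := (Geo.mem_scalars_iff _).1 hs
  refine ⟨z, c, hz, order_eq D (scalar_eq_one (ι := ι) ?_) (fun h1 => hne ?_), rel_of_comm hc⟩
  · have := congrArg Units.val hr
    rwa [Units.val_pow_eq_pow_val, hc, smul_pow, one_pow, Units.val_one] at this
  · have : y * z * y⁻¹ * z⁻¹ = 1 := Units.ext (by rw [hc, h1, one_smul, Units.val_one])
    calc y * z = y * z * y⁻¹ * z⁻¹ * (z * y) := by group
      _ = z * y := by rw [this, one_mul]

/-- The degree is divisible by r as soon as some element is not scalar. -/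
theorem dvd_card [Nonempty ι] (D : Data r R g) {y : GL ι F} (hy : y ∈ R) (hns : y ∉ Geo.scalars ι F) :
    r ∣ Fintype.card ι := by
  obtain ⟨z, l, -, hl, hrel⟩ := exists_partner D hy hns
  have h := congrArg Matrix.det hrel
  rw [Matrix.det_mul, Matrix.det_smul, Matrix.det_mul] at h
  have hne : Matrix.det (z : Matrix ι ι F) * Matrix.det (y : Matrix ι ι F) ≠ 0 :=
    mul_ne_zero ((Matrix.isUnit_iff_isUnit_det _).1 z.isUnit).ne_zero
      ((Matrix.isUnit_iff_isUnit_det _).1 y.isUnit).ne_zero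
  exact hl ▸ orderOf_dvd_of_pow_eq_one (mul_right_cancel₀ hne (by
    rw [one_mul, ← h, mul_comm (Matrix.det (z : Matrix ι ι F))]))

theorem conj_mem (D : Data r R g) {a : GL ι F} (ha : a ∈ R ⊔ Geo.scalars ι F) :
    g * a * g⁻¹ ∈ R ⊔ Geo.scalars ι F :=
  (Subgroup.mem_normalizer_iff.1 D.norm a).1 ha

theorem split {a : GL ι F} (ha : a ∈ R ⊔ Geo.scalars ι F) :
    ∃ x ∈ R, ∃ z ∈ Geo.scalars ι F, a = x * z := by
  haveI : (Geo.scalars ι F).Normal := Geo.scalars_normal
  obtain ⟨x, hx, z, hz, rfl⟩ := Subgroup.mem_sup_of_normal_right.1 ha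
  exact ⟨x, hx, z, hz, rfl⟩

theorem comm_scalar (D : Data r R g) {a b : GL ι F} (ha : a ∈ R ⊔ Geo.scalars ι F)
    (hb : b ∈ R ⊔ Geo.scalars ι F) : a * b * a⁻¹ * b⁻¹ ∈ Geo.scalars ι F := by
  obtain ⟨x, hx, z, hz, rfl⟩ := split ha
  obtain ⟨y, hy, w, hw, rfl⟩ := split hb
  have e : x * z * (y * w) * (x * z)⁻¹ * (y * w)⁻¹ = x * y * x⁻¹ * y⁻¹ := by
    have c1 := central hz
    have c2 := central hw
    calc x * z * (y * w) * (x * z)⁻¹ * (y * w)⁻¹ = x * (z * (y * w)) * z⁻¹ * x⁻¹ * w⁻¹ * y⁻¹ := by group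
      _ = x * ((y * w) * z) * z⁻¹ * x⁻¹ * w⁻¹ * y⁻¹ := by rw [c1]
      _ = x * y * (w * x⁻¹) * w⁻¹ * y⁻¹ := by group
      _ = x * y * (x⁻¹ * w) * w⁻¹ * y⁻¹ := by rw [c2]
      _ = _ := by group
  rw [e]
  exact (comm_centre D hx hy).1

/-- On W ∩ xW the displacement y = [g, x] fixes pointwise. -/
theorem two_sub_le {x y : GL ι F} (hy : y = g * x * g⁻¹ * x⁻¹) (c : F) :
    2 * Module.finrank F ↥(eig g c) ≤ Fintype.card ι + Module.finrank F ↥(eig g c ⊓ eig y 1) := by
  set L := Matrix.toLin' (x : Matrix ι ι F) with hL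
  have hinj : Function.Injective L := fun a b e =>
    Matrix.mulVec_injective_of_isUnit x.isUnit (by simpa [hL, Matrix.toLin'_apply] using e)
  have hle : eig g c ⊓ (eig g c).map L ≤ eig g c ⊓ eig y 1 := by
    rintro v ⟨hv, u, hu, rfl⟩
    refine ⟨hv, ?_⟩
    rw [SetLike.mem_coe, mem_eig, one_smul]
    rw [SetLike.mem_coe, mem_eig] at hv hu
    rw [hL, Matrix.toLin'_apply] at hv ⊢
    have e : y * x * g = g * x := by rw [hy]; group
    have h := congrArg (fun a : GL ι F => (a : Matrix ι ι F) *ᵥ u) e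
    simp only [Units.val_mul, ← Matrix.mulVec_mulVec] at h
    rw [hu, hv, Matrix.mulVec_smul, Matrix.mulVec_smul] at h
    rcases eq_or_ne c 0 with rfl | hc
    · have : u = 0 := by
        have hu' : u ∈ eig g (0 : F) := mem_eig.2 hu
        rwa [eig_zero, Submodule.mem_bot] at hu'
      simp [this]
    · exact smul_right_injective _ hc h
  have h := Submodule.finrank_sup_add_finrank_inf_eq (eig g c) ((eig g c).map L)
  rw [← LinearEquiv.finrank_eq (Submodule.equivMapOfInjective L hinj (eig g c))] at h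
  have h1 := Submodule.finrank_mono hle
  have h2 := Submodule.finrank_le (eig g c ⊔ (eig g c).map L)
  rw [Module.finrank_pi] at h2
  omega

/-- The fixed space of a non-scalar element of R times a scalar is small. -/
theorem eig_small [Nonempty ι] (D : Data r R g) {y : GL ι F} (hy : y ∈ R ⊔ Geo.scalars ι F)
    (hns : y ∉ Geo.scalars ι F) (c : F) : r * Module.finrank F ↥(eig y c) ≤ Fintype.card ι := by
  obtain ⟨x, hx, z, hz, rfl⟩ := split hy
  have hxs : x ∉ Geo.scalars ι F := fun h => hns (mul_mem h hz)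
  obtain ⟨u, l, -, hl, hrel⟩ := exists_partner D hx hxs
  obtain ⟨a, ha⟩ := (Geo.mem_scalars_iff z).1 hz
  refine rel_le_top hl D.prime.one_lt (x := u) ?_ c
  show ((x * z : GL ι F) : Matrix ι ι F) * u = l • ((u : Matrix ι ι F) * (x * z : GL ι F))
  rw [Units.val_mul, ha, Matrix.mul_smul, Matrix.mul_one, Matrix.smul_mul, Matrix.mul_smul, hrel, smul_comm]

/-- The general bound. -/
theorem general_bound [Nonempty ι] (D : Data r R g) (hns : g ∉ Geo.scalars ι F) (c : F) :
    r * Module.finrank F ↥(eig g c) ≤ Fintype.card ι ∨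
      ((∃ x ∈ R, g * x * g⁻¹ * x⁻¹ ∉ Geo.scalars ι F) ∧
        2 * r * Module.finrank F ↥(eig g c) ≤ r * Fintype.card ι + Fintype.card ι) := by
  by_cases hA : ∃ x ∈ R, g * x * g⁻¹ * x⁻¹ ∉ Geo.scalars ι F
  · refine Or.inr ⟨hA, ?_⟩
    obtain ⟨x, hx, hxy⟩ := hA
    have hxN : x ∈ R ⊔ Geo.scalars ι F := Subgroup.mem_sup_left hx
    have hy := mul_mem (conj_mem D hxN) (inv_mem hxN)
    have h1 := two_sub_le (g := g) (x := x) (y := g * x * g⁻¹ * x⁻¹) rfl c
    have h2 := eig_small D hy hxy 1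
    have h3 := Submodule.finrank_mono (inf_le_right : eig g c ⊓ eig (g * x * g⁻¹ * x⁻¹) 1 ≤ _)
    nlinarith
  push Not at hA
  refine Or.inl ?_
  obtain ⟨x, hx, hne⟩ : ∃ x ∈ R, g * x ≠ x * g := by
    by_contra hc
    push Not at hc
    exact hns (scalar_of_commutes D hc)
  obtain ⟨a, ha⟩ := (Geo.mem_scalars_iff _).1 (hA x hx)
  refine rel_le_top (order_eq D ?_ fun h1 => hne ?_) D.prime.one_lt (rel_of_comm ha) c
  · have e : g * x * g⁻¹ = (g * x * g⁻¹ * x⁻¹) * x := by group
    have e' : (g * x * g⁻¹) ^ r = x ^ r := by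
      rw [conj_pow, ← central (pow_scalar D hx) g, mul_inv_cancel_right]
    rw [e, (show Commute (g * x * g⁻¹ * x⁻¹) x from central (hA x hx) x).mul_pow, mul_eq_right] at e'
    have := congrArg Units.val e'
    rw [Units.val_pow_eq_pow_val, ha, smul_pow, one_pow, Units.val_one] at this
    exact scalar_eq_one this
  · have : g * x * g⁻¹ * x⁻¹ = 1 := Units.ext (by rw [ha, h1, one_smul, Units.val_one])
    calc g * x = g * x * g⁻¹ * x⁻¹ * (x * g) := by group
      _ = x * g := by rw [this, one_mul]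

/-- If a displacement and its conjugate do not commute, eigenspaces have at most half the dimension. -/
theorem half_of_noncomm [Nonempty ι] (D : Data r R g) {x y : GL ι F} (hx : x ∈ R)
    (hy : y = g * x * g⁻¹ * x⁻¹) (hnc : y * (g * y * g⁻¹) ≠ g * y * g⁻¹ * y) (c : F) :
    2 * Module.finrank F ↥(eig g c) ≤ Fintype.card ι := by
  have h1 := two_sub_le (x := x) hy c
  have hbot : eig g c ⊓ eig y 1 = ⊥ := by
    rcases eq_or_ne c 0 with rfl | hc
    · rw [eig_zero, bot_inf_eq]
    refine (Submodule.eq_bot_iff _).2 fun v hv => ?_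
    obtain ⟨hv1, hv2⟩ := hv
    rw [SetLike.mem_coe, mem_eig] at hv1 hv2
    rw [one_smul] at hv2
    have hxN : x ∈ R ⊔ Geo.scalars ι F := Subgroup.mem_sup_left hx
    have hyN : y ∈ R ⊔ Geo.scalars ι F := hy ▸ mul_mem (conj_mem D hxN) (inv_mem hxN)
    obtain ⟨a, ha⟩ := (Geo.mem_scalars_iff _).1 (comm_scalar D hyN (conj_mem D hyN))
    have hrel := rel_of_comm ha
    have hv3 : ((g * y * g⁻¹ : GL ι F) : Matrix ι ι F) *ᵥ v = v := by
      have hi : ((g⁻¹ : GL ι F) : Matrix ι ι F) *ᵥ v = c⁻¹ • v := by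
        have := congrArg (fun u => c⁻¹ • ((g⁻¹ : GL ι F) : Matrix ι ι F) *ᵥ u) hv1
        simp only [Matrix.mulVec_mulVec, Units.inv_mul, Matrix.one_mulVec, Matrix.mulVec_smul, smul_smul,
          inv_mul_cancel₀ hc, one_smul] at this
        exact this.symm
      rw [Units.val_mul, Units.val_mul, ← Matrix.mulVec_mulVec, hi, ← Matrix.mulVec_mulVec, Matrix.mulVec_smul,
        hv2, Matrix.mulVec_smul, hv1, smul_smul, inv_mul_cancel₀ hc, one_smul]
    have hv4 : v = (a : F) • v := by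
      have h := congrArg (fun M : Matrix ι ι F => M *ᵥ v) hrel
      simpa only [← Matrix.mulVec_mulVec, Matrix.smul_mulVec, hv2, hv3] using h
    by_contra hv0
    apply hnc
    have ha1 : (a : F) = 1 := by
      have : ((a : F) - 1) • v = 0 := by rw [sub_smul, ← hv4, one_smul, sub_self]
      exact sub_eq_zero.1 ((smul_eq_zero.1 this).resolve_right hv0)
    refine Units.ext ?_
    have := hrel
    rw [Rel, ha1, one_smul] at this
    rw [Units.val_mul, Units.val_mul (g * y * g⁻¹) y]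
    exact this
  rw [hbot, finrank_bot] at h1
  omega

/-- The projective image of a group of commutators: the polarisation argument. -/
theorem exists_noncomm (D : Data r R g) {ϖ : ℕ} (hord : g ^ ϖ = 1) (hodd : Odd ϖ) (hcop : Nat.Coprime r ϖ)
    (hA : ∃ x ∈ R, g * x * g⁻¹ * x⁻¹ ∉ Geo.scalars ι F) :
    ∃ x ∈ R, (g * x * g⁻¹ * x⁻¹) * (g * (g * x * g⁻¹ * x⁻¹) * g⁻¹) ≠
      g * (g * x * g⁻¹ * x⁻¹) * g⁻¹ * (g * x * g⁻¹ * x⁻¹) := by
  by_contra hall
  push Not at hall
  haveI hZn : (Geo.scalars ι F).Normal := Geo.scalars_normal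
  let π := QuotientGroup.mk' (Geo.scalars ι F)
  have hπ : ∀ {a : GL ι F}, a ∈ Geo.scalars ι F ↔ π a = 1 := fun {a} => (QuotientGroup.eq_one_iff a).symm
  set N := R ⊔ Geo.scalars ι F with hNdef
  let σ : GL ι F ≃* GL ι F := MulAut.conj g
  have hσ : ∀ a, σ a = g * a * g⁻¹ := fun a => rfl
  let ω : GL ι F → GL ι F → GL ι F := fun a b => a * b * a⁻¹ * b⁻¹
  have hωZ : ∀ {a b}, a ∈ N → b ∈ N → ω a b ∈ Geo.scalars ι F := fun ha hb => comm_scalar D ha hb
  have hωr : ∀ {a b c}, a ∈ N → b ∈ N → c ∈ N → ω a (b * c) = ω a b * ω a c := by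
    intro a b c ha hb hc
    calc ω a (b * c) = a * b * a⁻¹ * ω a c * b⁻¹ := by simp only [ω]; group
      _ = a * b * a⁻¹ * (b⁻¹ * ω a c) := by rw [← central (hωZ ha hc) b⁻¹, mul_assoc]
      _ = _ := by simp only [ω]; group
  have hωl : ∀ {a b c}, a ∈ N → b ∈ N → c ∈ N → ω (a * b) c = ω a c * ω b c := by
    intro a b c ha hb hc
    calc ω (a * b) c = a * ω b c * c * a⁻¹ * c⁻¹ := by simp only [ω]; group
      _ = ω b c * ω a c := by rw [← central (hωZ hb hc) a]; simp only [ω]; group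
      _ = _ := central (hωZ hb hc) _
  have hωi : ∀ {a b}, a ∈ N → b ∈ N → ω b a = (ω a b)⁻¹ := fun _ _ => by simp only [ω]; group
  have hωσ : ∀ {a b}, a ∈ N → b ∈ N → ω (σ a) (σ b) = ω a b := by
    intro a b ha hb
    calc ω (σ a) (σ b) = g * ω a b * g⁻¹ := by simp only [ω, hσ]; group
      _ = ω a b := by rw [← central (hωZ ha hb) g, mul_inv_cancel_right]
  have hσN : ∀ {a}, a ∈ N → σ a ∈ N := fun ha => conj_mem D ha
  have hσN' : ∀ {a}, a ∈ N → σ.symm a ∈ N := by
    intro a ha
    show g⁻¹ * a * g ∈ N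
    have h := (Subgroup.mem_normalizer_iff.1 D.norm (g⁻¹ * a * g)).2 (by
      rw [show g * (g⁻¹ * a * g) * g⁻¹ = a by group]; exact ha)
    exact h
  have hRN : ∀ {x}, x ∈ R → x ∈ N := fun hx => Subgroup.mem_sup_left hx
  -- displacements
  let φ : GL ι F → GL ι F := fun x => σ x * x⁻¹
  have hφN : ∀ {x}, x ∈ N → φ x ∈ N := fun hx => mul_mem (hσN hx) (inv_mem hx)
  have hφR : ∀ {a}, a ∈ N → ω (φ a) (σ (φ a)) = 1 := by
    intro a ha
    obtain ⟨x, hx, z, hz, rfl⟩ := split ha
    have e : φ (x * z) = g * x * g⁻¹ * x⁻¹ := by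
      simp only [φ, hσ]
      calc g * (x * z) * g⁻¹ * (x * z)⁻¹ = g * x * (z * g⁻¹) * z⁻¹ * x⁻¹ := by group
        _ = g * x * (g⁻¹ * z) * z⁻¹ * x⁻¹ := by rw [central hz]
        _ = _ := by group
    rw [e]
    simp only [ω, hσ]
    rw [hall x hx]
    group
  have hπN : ∀ {a b}, a ∈ N → b ∈ N → π a * π b = π b * π a := by
    intro a b ha hb
    have h := hπ.1 (hωZ ha hb)
    simp only [ω, map_mul, map_inv] at h
    calc π a * π b = π a * π b * (π a)⁻¹ * (π b)⁻¹ * (π b * π a) := by group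
      _ = π b * π a := by rw [h, one_mul]
  have hπr : ∀ {a}, a ∈ N → π a ^ r = 1 := by
    intro a ha
    obtain ⟨x, hx, z, hz, rfl⟩ := split ha
    rw [map_mul, hπ.1 hz, mul_one, ← map_pow, ← hπ]
    exact pow_scalar D hx
  -- fixed displacements are trivial
  have hfix : ∀ u v : GL ι F, u ∈ N → v ∈ N → π (σ u) = π u → π (φ v) = π u → π u = 1 := by
    intro u v hu hv hσu huv
    have hgu : π g * π u = π u * π g := by
      rw [hσ, map_mul, map_mul, map_inv] at hσu
      calc π g * π u = π g * π u * (π g)⁻¹ * π g := by group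
        _ = _ := by rw [hσu]
    have hg1 : π g * π v * (π g)⁻¹ = π u * π v := by
      rw [← huv]
      simp only [φ, hσ, map_mul, map_inv]
      group
    have hk : ∀ k : ℕ, π g ^ k * π v * (π g ^ k)⁻¹ = π u ^ k * π v := by
      intro k
      induction k with
      | zero => simp
      | succ k ih =>
        calc π g ^ (k + 1) * π v * (π g ^ (k + 1))⁻¹ = π g * (π g ^ k * π v * (π g ^ k)⁻¹) * (π g)⁻¹ := by
              rw [pow_succ' (π g)]; group
          _ = π g * π u ^ k * π v * (π g)⁻¹ := by rw [ih]; group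
          _ = π u ^ k * (π g * π v * (π g)⁻¹) := by
              rw [((show Commute (π g) (π u) from hgu).pow_right k).eq]; group
          _ = _ := by rw [hg1, pow_succ (π u)]; group
    have h := hk ϖ
    rw [← map_pow π g, hord, map_one, one_mul, inv_one, mul_one, eq_comm, mul_eq_right] at h
    have h' : π u ^ Nat.gcd r ϖ = 1 := pow_gcd_eq_one.2 ⟨hπr hu, h⟩
    rwa [hcop.gcd_eq_one, pow_one] at h'
  -- σ² fixes displacements
  have hkey : ∀ {q}, q ∈ N → π (σ (σ (φ q))) = π (φ q) := by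
    intro q hq
    set b := φ q with hb
    have hbN : b ∈ N := hφN hq
    set e := σ b * (σ.symm b)⁻¹ with he
    have heN : e ∈ N := mul_mem (hσN hbN) (inv_mem (hσN' hbN))
    have hpol : ∀ {x}, x ∈ N → ω (φ x) (σ b) = ω (φ x) (σ.symm b) := by
      intro x hx
      have hxq : x * q ∈ N := mul_mem hx hq
      have hzq : π (φ (x * q)) = π (φ x * φ q) := by
        simp only [φ, map_mul, map_inv, _root_.mul_inv_rev]
        calc π (σ x) * π (σ q) * ((π q)⁻¹ * (π x)⁻¹) = π (σ x) * ((π (σ q) * (π q)⁻¹) * (π x)⁻¹) := by group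
          _ = π (σ x) * ((π x)⁻¹ * (π (σ q) * (π q)⁻¹)) := by
              rw [show π (σ q) * (π q)⁻¹ = π (φ q) by simp [φ], ← map_inv, hπN (hφN hq) (inv_mem hx)]
          _ = _ := by group
      obtain ⟨z, hz, hzeq⟩ : ∃ z ∈ Geo.scalars ι F, φ (x * q) = φ x * φ q * z :=
        ⟨(φ x * φ q)⁻¹ * φ (x * q), hπ.2 (by rw [map_mul, map_inv, hzq, inv_mul_cancel]), by group⟩
      have hab : φ x * φ q ∈ N := mul_mem (hφN hx) (hφN hq)
      have hone : ω (φ x * φ q) (σ (φ x * φ q)) = 1 := by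
        have h0 := hφR hxq
        rw [hzeq] at h0
        have hσz : σ z = z := by rw [hσ, ← central hz g, mul_inv_cancel_right]
        have hwz : ∀ a w, w ∈ Geo.scalars ι F → ω w a = 1 ∧ ω a w = 1 := fun a w hw => by
          constructor <;> simp only [ω]
          · rw [central hw]; group
          · rw [← central hw a]; group
        rw [map_mul, hσz, hωl hab (Subgroup.mem_sup_right hz) (mul_mem (hσN hab) (Subgroup.mem_sup_right hz)),
          hωr hab (hσN hab) (Subgroup.mem_sup_right hz), (hwz _ z hz).1, (hwz _ z hz).2, mul_one, mul_one] at h0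
        exact h0
      rw [map_mul, hωl (hφN hx) hbN (mul_mem (hσN (hφN hx)) (hσN hbN)),
        hωr (hφN hx) (hσN (hφN hx)) (hσN hbN), hωr hbN (hσN (hφN hx)) (hσN hbN), hφR hx, hφR hq,
        one_mul, mul_one] at hone
      have h2 : ω b (σ (φ x)) = (ω (φ x) (σ.symm b))⁻¹ := by
        rw [← hωi (hφN hx) (hσN' hbN), ← hωσ (hσN' hbN) (hφN hx), MulEquiv.apply_symm_apply]
      rw [h2] at hone
      exact mul_inv_eq_one.1 hone
    have horth : ∀ {x}, x ∈ N → ω (φ x) e = 1 := by
      intro x hx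
      rw [he, hωr (hφN hx) (hσN hbN) (inv_mem (hσN' hbN)), hpol hx]
      rw [← hωr (hφN hx) (hσN' hbN) (inv_mem (hσN' hbN)), mul_inv_cancel]
      simp [ω]
    -- e is fixed modulo scalars
    have hefix : π (σ e) = π e := by
      have hmem : σ.symm e * e⁻¹ ∈ Geo.scalars ι F := by
        refine scalar_of_commutes D fun x hx => ?_
        have hxN := hRN hx
        have h1 := horth hxN
        rw [hωl (hσN hxN) (inv_mem hxN) heN] at h1
        have h2 : ω (σ x) e = ω x (σ.symm e) := by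
          conv_lhs => rw [← σ.apply_symm_apply e]
          rw [hωσ hxN (hσN' heN)]
        have h3 : ω x⁻¹ e = ω x e⁻¹ := by
          have e1 : ω x⁻¹ e * ω x e = 1 := by
            rw [← hωl (inv_mem hxN) hxN heN, inv_mul_cancel]; simp [ω]
          have e2 : ω x e⁻¹ * ω x e = 1 := by
            rw [← hωr hxN (inv_mem heN) heN, inv_mul_cancel]; simp [ω]
          exact mul_right_cancel (e1.trans e2.symm)
        rw [h2, h3, ← hωr hxN (hσN' heN) (inv_mem heN)] at h1
        simp only [ω] at h1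
        calc σ.symm e * e⁻¹ * x = (x * (σ.symm e * e⁻¹) * x⁻¹ * (σ.symm e * e⁻¹)⁻¹) * (σ.symm e * e⁻¹) * x := by
              rw [h1, one_mul]
          _ = x * (σ.symm e * e⁻¹) := by group
      have h := hπ.1 hmem
      rw [map_mul, map_inv, mul_inv_eq_one] at h
      have hgc : ∀ a, π (σ a) = π g * π a * (π g)⁻¹ := fun a => by rw [hσ, map_mul, map_mul, map_inv]
      rw [hgc, ← h, ← hgc, MulEquiv.apply_symm_apply, h]
    -- e is a displacement
    have hedisp : π (φ (b * σ.symm b)) = π e := by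
      simp only [φ, he, map_mul, map_inv, MulEquiv.apply_symm_apply, _root_.mul_inv_rev]
      calc π (σ b) * π b * ((π (σ.symm b))⁻¹ * (π b)⁻¹) = π (σ b) * (π b * π (σ.symm b)⁻¹ * (π b)⁻¹) := by
            rw [map_inv]; group
        _ = π (σ b) * (π (σ.symm b))⁻¹ := by
            rw [hπN hbN (inv_mem (hσN' hbN)), map_inv]; group
    have hone := hfix e (b * σ.symm b) heN (mul_mem hbN (hσN' hbN)) hefix hedisp
    rw [he, map_mul, map_inv, mul_inv_eq_one] at hone
    have hgc : ∀ a, π (σ a) = π g * π a * (π g)⁻¹ := fun a => by rw [hσ, map_mul, map_mul, map_inv]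
    rw [hgc, hone, ← hgc, MulEquiv.apply_symm_apply]
  -- odd order forces triviality
  obtain ⟨x, hx, hxy⟩ := hA
  refine hxy (hπ.2 ?_)
  have hb : π (φ x) = π (g * x * g⁻¹ * x⁻¹) := by simp only [φ, hσ]
  rw [← hb]
  have hσb : π (σ (φ x)) = π (φ x) := by
    have hgc : ∀ a, π (σ a) = π g * π a * (π g)⁻¹ := fun a => by rw [hσ, map_mul, map_mul, map_inv]
    have h2 := hkey (hRN hx)
    rw [hgc, hgc] at h2
    have hcomm : Commute (π g ^ 2) (π (φ x)) := by
      show π g ^ 2 * π (φ x) = π (φ x) * π g ^ 2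
      calc π g ^ 2 * π (φ x) = π g * (π g * π (φ x) * (π g)⁻¹) * (π g)⁻¹ * π g ^ 2 := by
            rw [pow_two]; group
        _ = _ := by rw [h2]
    obtain ⟨j, hj⟩ := hodd
    have hgj : π g = (π g ^ 2) ^ (j + 1) := by
      rw [← pow_mul, show 2 * (j + 1) = ϖ + 1 by omega, pow_succ, ← map_pow, hord, map_one, one_mul]
    rw [hgc, hgj, (hcomm.pow_left (j + 1)).eq, mul_inv_cancel_right]
  exact hfix (φ x) x (hφN (hRN hx)) (hRN hx) hσb rfl

/-- The semisimple case. -/
theorem half_of_coprime [Nonempty ι] (D : Data r R g) (hns : g ∉ Geo.scalars ι F) {ϖ : ℕ} (hord : g ^ ϖ = 1)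
    (hodd : Odd ϖ) (hcop : Nat.Coprime r ϖ) (c : F) : 2 * Module.finrank F ↥(eig g c) ≤ Fintype.card ι := by
  rcases general_bound D hns c with h | ⟨hA, -⟩
  · exact le_trans (Nat.mul_le_mul_right _ D.prime.two_le) h
  obtain ⟨x, hx, hnc⟩ := exists_noncomm D hord hodd hcop hA
  exact half_of_noncomm D hx rfl hnc c

end Cfsg.Agent.EigenBound
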