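/-
Eigenspace bounds when the order of the normalising element is the prime of the extraspecial group.
-/
import Cfsg.Agent.Lib.Aschbacher.EigenBound

set_option autoImplicit false
set_option linter.style.haveILetI false

namespace Cfsg.Agent.EigenBound

open scoped Matrix commutatorElement
open Matrix

variable {ι : Type} [Fintype ι] [DecidableEq ι] {F : Type*} [Field F] {r : ℕ} {R : Subgroup (GL ι F)} {g : GL ι F}

/-- Dimensions of eigenspaces for distinct values add up to at most the dimension of an ambient space. -/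
theorem sum_le (g : GL ι F) (U : Submodule F (ι → F)) (s : Finset F) :
    ∑ a ∈ s, Module.finrank F ↥(eig g a ⊓ U) ≤ Module.finrank F U := by
  classical
  have hind : iSupIndep fun a : F => eig g a ⊓ U :=
    (Module.End.eigenspaces_iSupIndep (Matrix.toLin' (g : Matrix ι ι F))).mono fun a => inf_le_left
  have key : ∀ s : Finset F, ∑ a ∈ s, Module.finrank F ↥(eig g a ⊓ U) =
      Module.finrank F ↥(s.sup fun a => eig g a ⊓ U) := by
    intro s
    induction s using Finset.induction_on with
    | empty => rw [Finset.sum_empty, Finset.sup_empty, finrank_bot]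
    | @insert a s ha ih =>
      rw [Finset.sum_insert ha, Finset.sup_insert, ih]
      have hdis : Disjoint (eig g a ⊓ U) (s.sup fun a => eig g a ⊓ U) := by
        rw [Finset.sup_eq_iSup]
        exact hind.disjoint_biSup (y := (↑s : Set F)) (by simpa using ha)
      have h := Submodule.finrank_sup_add_finrank_inf_eq (eig g a ⊓ U) (s.sup fun a => eig g a ⊓ U)
      rw [hdis.eq_bot, finrank_bot, add_zero] at h
      exact h.symm
  rw [key]
  exact Submodule.finrank_mono (Finset.sup_le fun a _ => inf_le_right)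

theorem finrank_sup_le {κ : Type*} (s : Finset κ) (S : κ → Submodule F (ι → F)) :
    Module.finrank F ↥(s.sup S) ≤ ∑ a ∈ s, Module.finrank F (S a) := by
  classical
  induction s using Finset.induction_on with
  | empty => simp [finrank_bot]
  | @insert a s ha ih =>
    rw [Finset.sum_insert ha, Finset.sup_insert]
    have := Submodule.finrank_add_le_finrank_add_finrank (S a) (s.sup S)
    omega

variable [Fintype F]

/-- A vector with trivial second displacement. -/
theorem exists_depth_two (D : Data r R g) (hord : g ^ r = 1) (hA : ∃ x ∈ R, g * x * g⁻¹ * x⁻¹ ∉ Geo.scalars ι F) :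
    ∃ x ∈ R, g * x * g⁻¹ * x⁻¹ ∉ Geo.scalars ι F ∧
      g * (g * x * g⁻¹ * x⁻¹) * g⁻¹ * (g * x * g⁻¹ * x⁻¹)⁻¹ ∈ Geo.scalars ι F := by
  classical
  haveI := Fact.mk D.prime
  haveI hZn : (Geo.scalars ι F).Normal := Geo.scalars_normal
  let π := QuotientGroup.mk' (Geo.scalars ι F)
  have hπ : ∀ {a : GL ι F}, a ∈ Geo.scalars ι F ↔ π a = 1 := fun {a} => (QuotientGroup.eq_one_iff a).symm
  let Rb := R.map π
  have hRb : IsPGroup r Rb := D.pgroup.map π
  have hNb : ∀ {a}, a ∈ R ⊔ Geo.scalars ι F → π a ∈ Rb := by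
    intro a ha
    obtain ⟨x, hx, z, hz, rfl⟩ := split ha
    exact ⟨x, hx, by rw [map_mul, hπ.1 hz, mul_one]⟩
  let Z := Subgroup.zpowers (π g)
  have hZp : IsPGroup r Z := IsPGroup.of_card (n := if π g = 1 then 0 else 1) (by
    rw [Nat.card_zpowers]
    split_ifs with h
    · rw [h, orderOf_one, pow_zero]
    · rw [pow_one]
      exact orderOf_eq_prime (by rw [← map_pow, hord, map_one]) h)
  have hnorm : Z ≤ Subgroup.normalizer (Rb : Set (GL ι F ⧸ Geo.scalars ι F)) := by
    rw [Subgroup.zpowers_le]
    refine Subgroup.mem_normalizer_iff.2 fun a => ⟨?_, ?_⟩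
    · rintro ⟨x, hx, rfl⟩
      rw [← map_inv, ← map_mul, ← map_mul]
      exact hNb (conj_mem D (Subgroup.mem_sup_left hx))
    · rintro ⟨x, hx, he⟩
      obtain ⟨b, rfl⟩ := QuotientGroup.mk'_surjective _ a
      have : π b = π (g⁻¹ * x * g) := by
        rw [map_mul, map_mul, he, map_inv]
        group
        rfl
      rw [show QuotientGroup.mk' (Geo.scalars ι F) b = π b from rfl, this]
      refine hNb ((Subgroup.mem_normalizer_iff.1 D.norm (g⁻¹ * x * g)).2 ?_)
      rw [show g * (g⁻¹ * x * g) * g⁻¹ = x by group]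
      exact Subgroup.mem_sup_left hx
  have hP : IsPGroup r (Z ⊔ Rb : Subgroup (GL ι F ⧸ Geo.scalars ι F)) :=
    IsPGroup.to_sup_of_normal_right' hZp hRb hnorm
  haveI hnil : Group.IsNilpotent (Z ⊔ Rb : Subgroup (GL ι F ⧸ Geo.scalars ι F)) := hP.isNilpotent
  obtain ⟨x, hx, hxy⟩ := hA
  let φ : GL ι F → GL ι F := fun b => g * b * g⁻¹ * b⁻¹
  have hseq : ∀ k : ℕ, φ^[k] x ∈ R ⊔ Geo.scalars ι F := by
    intro k
    induction k with
    | zero => exact Subgroup.mem_sup_left hx
    | succ k ih =>
      rw [Function.iterate_succ_apply']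
      exact mul_mem (conj_mem D ih) (inv_mem ih)
  have hg : π g ∈ (Z ⊔ Rb : Subgroup _) := Subgroup.mem_sup_left (Subgroup.mem_zpowers _)
  have hmemP : ∀ k, π (φ^[k] x) ∈ (Z ⊔ Rb : Subgroup _) := fun k => Subgroup.mem_sup_right (hNb (hseq k))
  have hlcs : ∀ k : ℕ, (⟨π (φ^[k] x), hmemP k⟩ : (Z ⊔ Rb : Subgroup _)) ∈
      Subgroup.lowerCentralSeries (⊤ : Subgroup ↥(Z ⊔ Rb : Subgroup (GL ι F ⧸ Geo.scalars ι F))) k := by
    intro k
    induction k with
    | zero => simp
    | succ k ih =>
      have e : (⟨π (φ^[k + 1] x), hmemP (k + 1)⟩ : (Z ⊔ Rb : Subgroup _)) =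
          ⁅(⟨π (φ^[k] x), hmemP k⟩ : (Z ⊔ Rb : Subgroup _)), ⟨π g, hg⟩⁆⁻¹ := by
        apply Subtype.ext
        rw [commutatorElement_inv]
        simp [Function.iterate_succ_apply', φ, commutatorElement_def]
      rw [e]
      refine inv_mem ?_
      rw [Subgroup.lowerCentralSeries_succ]
      exact Subgroup.commutator_mem_commutator ih (Subgroup.mem_top _)
  obtain ⟨m, hm⟩ : ∃ m, φ^[m] x ∈ Geo.scalars ι F := by
    obtain ⟨m, hm⟩ := nilpotent_iff_lowerCentralSeries.1 hnil
    refine ⟨m, hπ.2 ?_⟩
    have h := hlcs m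
    rw [hm, Subgroup.mem_bot] at h
    exact congrArg Subtype.val h
  have hex : ∃ m, φ^[m] x ∈ Geo.scalars ι F := ⟨m, hm⟩
  have hspec := Nat.find_spec hex
  have h2 : 2 ≤ Nat.find hex := by
    by_contra hc
    push Not at hc
    rcases (show Nat.find hex = 0 ∨ Nat.find hex = 1 by omega) with e | e
    · rw [e] at hspec
      replace hspec : x ∈ Geo.scalars ι F := hspec
      exact hxy (by rw [← central hspec g, mul_inv_cancel_right, mul_inv_cancel]; exact one_mem _)
    · rw [e] at hspec
      exact hxy hspec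
  obtain ⟨j, hj⟩ : ∃ j, Nat.find hex = j + 2 := ⟨Nat.find hex - 2, by omega⟩
  have hnot := Nat.find_min hex (show j + 1 < Nat.find hex by omega)
  rw [hj, Function.iterate_succ_apply', Function.iterate_succ_apply'] at hspec
  rw [Function.iterate_succ_apply'] at hnot
  obtain ⟨x', hx', z, hz, hxz⟩ := split (hseq j)
  have e : φ (φ^[j] x) = φ x' := by
    rw [hxz]
    simp only [φ]
    calc g * (x' * z) * g⁻¹ * (x' * z)⁻¹ = g * x' * (z * g⁻¹) * z⁻¹ * x'⁻¹ := by group
      _ = g * x' * (g⁻¹ * z) * z⁻¹ * x'⁻¹ := by rw [central hz]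
      _ = _ := by group
  rw [e] at hspec hnot
  exact ⟨x', hx', hnot, hspec⟩

/-- For odd r the exponent is r. -/
theorem pow_r (D : Data r R g) (hodd : Odd r) {x : GL ι F} (hx : x ∈ R) : x ^ r = 1 := by
  have hexp : ∀ y : R, y ^ r = 1 := by
    rcases D.exponent with h | h
    · intro y
      have h' := Monoid.pow_exponent_eq_one y
      rwa [h] at h'
    · intro y
      obtain ⟨k, hk⟩ := D.pgroup y
      have h4 : y ^ 4 = 1 := by
        have h' := Monoid.pow_exponent_eq_one y
        rwa [h] at h'
      have hg : Nat.gcd 4 (r ^ k) = 1 := by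
        refine Nat.Coprime.pow_right k ?_
        rw [show (4 : ℕ) = 2 ^ 2 from rfl]
        exact Nat.Coprime.pow_left 2 (Nat.coprime_two_left.2 hodd)
      have : y ^ Nat.gcd 4 (r ^ k) = 1 := pow_gcd_eq_one.2 ⟨h4, hk⟩
      rw [hg, pow_one] at this
      rw [this, one_pow]
  simpa using congrArg Subtype.val (hexp ⟨x, hx⟩)

theorem eq_smul_one_of_scalar {a : GL ι F} (ha : a ∈ Geo.scalars ι F) :
    ∃ c : F, c ≠ 0 ∧ (a : Matrix ι ι F) = c • (1 : Matrix ι ι F) := by
  obtain ⟨c, hc⟩ := (Geo.mem_scalars_iff a).1 ha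
  exact ⟨c, c.ne_zero, hc⟩

/-- Powers in a relation. -/
theorem pow_rel {x y : GL ι F} {b : F} (h : (x : Matrix ι ι F) * y = b • ((y : Matrix ι ι F) * x)) (j : ℕ) :
    (x : Matrix ι ι F) ^ j * y = b ^ j • ((y : Matrix ι ι F) * (x : Matrix ι ι F) ^ j) := by
  induction j with
  | zero => simp
  | succ j ih =>
    rw [pow_succ, mul_assoc, h, mul_smul_comm, ← mul_assoc, ih, smul_mul_assoc, smul_smul, mul_assoc,
      pow_succ' b]

/-- The case of an element of order r. -/
theorem half_of_equal [Nonempty ι] (D : Data r R g) (hns : g ∉ Geo.scalars ι F) (hord : g ^ r = 1) (h5 : 5 ≤ r)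
    (c : F) : 2 * Module.finrank F ↥(eig g c) ≤ Fintype.card ι := by
  classical
  have hodd : Odd r := D.prime.odd_of_ne_two (by omega)
  rcases general_bound D hns c with hlow | ⟨hA, -⟩
  · exact le_trans (Nat.mul_le_mul_right _ D.prime.two_le) hlow
  rcases eq_or_ne c 0 with rfl | hc
  · rw [eig_zero, finrank_bot, mul_zero]
    exact Nat.zero_le _
  obtain ⟨x, hx, hyns, hfix⟩ := exists_depth_two D hord hA
  have hxN : x ∈ R ⊔ Geo.scalars ι F := Subgroup.mem_sup_left hx
  obtain ⟨y, hy, z, hz, hyz⟩ := split (mul_mem (conj_mem D hxN) (inv_mem hxN))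
  have hyns' : y ∉ Geo.scalars ι F := fun h => hyns (by rw [hyz]; exact mul_mem h hz)
  have hfix' : g * y * g⁻¹ * y⁻¹ ∈ Geo.scalars ι F := by
    have e : g * (y * z) * g⁻¹ * (y * z)⁻¹ = g * y * g⁻¹ * y⁻¹ := by
      calc g * (y * z) * g⁻¹ * (y * z)⁻¹ = g * y * (z * g⁻¹) * z⁻¹ * y⁻¹ := by group
        _ = g * y * (g⁻¹ * z) * z⁻¹ * y⁻¹ := by rw [central hz]
        _ = _ := by group
    rw [← e, ← hyz]
    exact hfix
  -- y commutes with g, or g shifts
  by_cases hgy : g * y = y * g
  swap
  · obtain ⟨a, -, ha⟩ := eq_smul_one_of_scalar hfix'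
    have hpow : (g * y * g⁻¹ * y⁻¹) ^ r = 1 := by
      have e : g * y * g⁻¹ = (g * y * g⁻¹ * y⁻¹) * y := by group
      have e' : (g * y * g⁻¹) ^ r = y ^ r := by
        rw [conj_pow, ← central (pow_scalar D hy) g, mul_inv_cancel_right]
      rw [e, (show Commute (g * y * g⁻¹ * y⁻¹) y from central hfix' y).mul_pow, mul_eq_right] at e'
      exact e'
    have har : a ^ r = 1 := by
      have := congrArg Units.val hpow
      rw [Units.val_pow_eq_pow_val, ha, smul_pow, one_pow, Units.val_one] at this
      exact scalar_eq_one this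
    have ha1 : a ≠ 1 := fun h => hgy (by
      have e : g * y * g⁻¹ * y⁻¹ = 1 := Units.ext (by rw [ha, h, one_smul, Units.val_one])
      calc g * y = g * y * g⁻¹ * y⁻¹ * (y * g) := by group
        _ = y * g := by rw [e, one_mul])
    have ha0 : a ≠ 0 := fun h => by rw [h, zero_pow D.prime.ne_zero] at har; exact zero_ne_one har
    have h := rel_le_top (order_eq D har ha1) D.prime.one_lt
      (rel_of_comm (c := Units.mk0 a ha0) (by simpa using ha)) c
    exact le_trans (Nat.mul_le_mul_right _ D.prime.two_le) h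
  obtain ⟨t, ht0, ht⟩ := eq_smul_one_of_scalar hz
  have hgx : (g : Matrix ι ι F) * x = t • ((y : Matrix ι ι F) * x * g) := by
    have e : g * x = y * z * x * g := by rw [← hyz]; group
    have h := congrArg Units.val e
    simp only [Units.val_mul, ht] at h
    rw [h]
    simp [mul_assoc]
  have hgy' : (g : Matrix ι ι F) * y = (y : Matrix ι ι F) * g := by
    simpa using congrArg Units.val hgy
  obtain ⟨b, hb0, hb⟩ := eq_smul_one_of_scalar (comm_centre D hx hy).1
  have hbr : b ^ r = 1 := by
    have := congrArg Units.val (comm_centre D hx hy).2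
    rw [Units.val_pow_eq_pow_val, hb, smul_pow, one_pow, Units.val_one] at this
    exact scalar_eq_one this
  have hxy : (x : Matrix ι ι F) * y = b • ((y : Matrix ι ι F) * x) :=
    rel_of_comm (c := Units.mk0 b hb0) (by simpa using hb)
  set gm := (g : Matrix ι ι F) with hgm
  set xm := (x : Matrix ι ι F) with hxm
  set ym := (y : Matrix ι ι F) with hym
  set P : ℕ → F := fun j => t ^ j * b ^ j.choose 2 with hP
  have hpow : ∀ j : ℕ, gm * xm ^ j = P j • (ym ^ j * xm ^ j * gm) := by
    intro j
    induction j with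
    | zero => simp [hP]
    | succ j ih =>
      calc gm * xm ^ (j + 1) = gm * xm ^ j * xm := by rw [pow_succ, mul_assoc]
        _ = (P j * t) • (ym ^ j * (xm ^ j * ym) * xm * gm) := by
          rw [ih, smul_mul_assoc, mul_assoc (ym ^ j * xm ^ j), hgx, mul_smul_comm, smul_smul]
          simp only [mul_assoc]
        _ = (P j * t * b ^ j) • (ym ^ (j + 1) * xm ^ (j + 1) * gm) := by
          rw [pow_rel hxy, mul_smul_comm, smul_mul_assoc, smul_mul_assoc, smul_smul, pow_succ ym, pow_succ xm]
          simp only [mul_assoc, hym, hxm]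
        _ = _ := by
          congr 1
          simp only [hP]
          rw [show (j + 1).choose 2 = j.choose 2 + j by
            rw [Nat.choose_succ_succ, Nat.choose_one_right, Nat.add_comm], pow_add, pow_succ]
          ring
  have hxr : xm ^ r = 1 := by
    rw [hxm, ← Units.val_pow_eq_pow_val, pow_r D hodd hx, Units.val_one]
  have hyr : ym ^ r = 1 := by
    rw [hym, ← Units.val_pow_eq_pow_val, pow_r D hodd hy, Units.val_one]
  have htr : t ^ r = 1 := by
    have h := hpow r
    rw [hxr, hyr, mul_one, one_mul, one_mul] at h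
    have hbc : b ^ r.choose 2 = 1 := by
      obtain ⟨k, hk⟩ := D.prime.dvd_choose_self (two_ne_zero) (show 2 < r by omega)
      rw [hk, pow_mul, hbr, one_pow]
    rw [show P r = t ^ r by simp [hP, hbc]] at h
    have h' : t ^ r • (1 : Matrix ι ι F) = 1 := by
      have := congrArg (fun M => M * ((g⁻¹ : GL ι F) : Matrix ι ι F)) h
      simp only [smul_mul_assoc, hgm, Units.mul_inv] at this
      exact this.symm
    exact scalar_eq_one h'
  -- the spaces
  obtain ⟨w, l, -, hl, hrelw⟩ := exists_partner D hy hyns'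
  have hlr : l ^ r = 1 := hl ▸ pow_orderOf_eq_one l
  have hl1 : l ≠ 1 := fun h => by rw [h, orderOf_one] at hl; omega
  have hrF : (r : F) ≠ 0 := fun h => by
    haveI := Fact.mk D.prime
    haveI : CharP F r := (CharP.charP_iff_prime_eq_zero D.prime).2 h
    refine hl1 (sub_eq_zero.1 (pow_eq_zero_iff D.prime.ne_zero |>.1 ?_))
    rw [sub_pow_char, hlr, one_pow, sub_self]
  have hdy : ∀ a : F, r * Module.finrank F ↥(eig y a) ≤ Fintype.card ι := fun a =>
    rel_le_top hl D.prime.one_lt hrelw a
  have hdecomp : ∀ e : F, orderOf e = r →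
      Module.finrank F ↥(eig g c) ≤ ∑ j ∈ Finset.range r, Module.finrank F ↥(eig g c ⊓ eig y (e ^ j)) := by
    intro e he
    refine le_trans (Submodule.finrank_mono ?_) (finrank_sup_le _ _)
    intro v hv
    have her : e ^ r = 1 := he ▸ pow_orderOf_eq_one e
    have he0 : e ≠ 0 := fun h => by rw [h, zero_pow D.prime.ne_zero] at her; exact zero_ne_one her
    have hprim : IsPrimitiveRoot e r := he ▸ IsPrimitiveRoot.orderOf e
    set u : ℕ → (ι → F) := fun j => ∑ k ∈ Finset.range r, ((e ^ j)⁻¹) ^ k • (ym ^ k *ᵥ v) with hu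
    have hsum : ∑ j ∈ Finset.range r, u j = (r : F) • v := by
      simp only [hu]
      rw [Finset.sum_comm, Finset.sum_eq_single 0]
      · simp [← Nat.cast_smul_eq_nsmul F]
      · intro k hk hk0
        rw [← Finset.sum_smul]
        have hne : (e⁻¹) ^ k ≠ 1 := fun h => by
          rw [inv_pow, inv_eq_one] at h
          exact hprim.pow_ne_one_of_pos_of_lt hk0 (Finset.mem_range.1 hk) h
        have hz : ∑ j ∈ Finset.range r, ((e⁻¹) ^ k) ^ j = 0 := by
          have := geom_sum_mul ((e⁻¹) ^ k) r
          rw [← pow_mul, mul_comm k r, pow_mul, inv_pow e r, her, inv_one, one_pow, sub_self] at this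
          exact (mul_eq_zero.1 this).resolve_right (sub_ne_zero.2 hne)
        rw [show (∑ j ∈ Finset.range r, ((e ^ j)⁻¹) ^ k) = 0 by
          rw [← hz]
          refine Finset.sum_congr rfl fun j _ => ?_
          rw [← inv_pow, ← pow_mul, ← pow_mul, mul_comm]]
        rw [zero_smul]
      · intro h
        exact absurd (Finset.mem_range.2 (by omega)) h
    have humem : ∀ j, u j ∈ eig g c ⊓ eig y (e ^ j) := by
      intro j
      have ha : ((e ^ j)⁻¹) ^ r = 1 := by
        rw [inv_pow, ← pow_mul, mul_comm, pow_mul, her, one_pow, inv_one]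
      constructor
      · rw [SetLike.mem_coe, mem_eig]
        rw [mem_eig] at hv
        simp only [hu, Matrix.mulVec_sum, Finset.smul_sum]
        refine Finset.sum_congr rfl fun k _ => ?_
        rw [Matrix.mulVec_smul, Matrix.mulVec_mulVec, ((show Commute gm ym from hgy').pow_right k).eq,
          ← Matrix.mulVec_mulVec, hv, Matrix.mulVec_smul, smul_comm]
      · rw [SetLike.mem_coe, mem_eig]
        simp only [hu, Matrix.mulVec_sum, Finset.smul_sum]
        set a := (e ^ j)⁻¹ with hadef
        have haj : e ^ j = a⁻¹ := by rw [hadef, inv_inv]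
        have ha0 : a ≠ 0 := inv_ne_zero (pow_ne_zero _ he0)
        rw [haj]
        simp only [Matrix.mulVec_smul, Matrix.mulVec_mulVec, smul_smul]
        set G : ℕ → (ι → F) := fun k => (a⁻¹ * a ^ k) • (ym ^ k *ᵥ v) with hG
        refine (Finset.sum_congr rfl fun k _ => (show _ = G (k + 1) from ?_)).trans ?_
        · simp only [hG, hym]
          rw [pow_succ' (y : Matrix ι ι F), pow_succ a k]
          congr 1
          field_simp
        have h3 := Finset.sum_range_succ' G r
        have h4 := Finset.sum_range_succ G r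
        have h5' : G r = G 0 := by simp [hG, ha, hyr]
        rw [h4, h5'] at h3
        exact (add_right_cancel h3).symm
    have hsup : ∑ j ∈ Finset.range r, u j ∈ (Finset.range r).sup fun j => eig g c ⊓ eig y (e ^ j) :=
      Submodule.sum_mem _ fun j hj =>
        (Finset.le_sup (f := fun j => eig g c ⊓ eig y (e ^ j)) hj) (humem j)
    rw [hsum] at hsup
    simpa [smul_smul, inv_mul_cancel₀ hrF] using Submodule.smul_mem _ ((r : F)⁻¹) hsup
  by_cases hb1 : b = 1
  · -- x commutes with y
    have hsum := hdecomp l hl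
    have hxyc : xm * ym = ym * xm := by rw [hxy, hb1, one_smul]
    have hstep : ∀ j, r * Module.finrank F ↥(eig g c ⊓ eig y (l ^ j)) ≤ Fintype.card ι ∧
        (t * l ^ j ≠ 1 → r * r * Module.finrank F ↥(eig g c ⊓ eig y (l ^ j)) ≤ Fintype.card ι) := by
      intro j
      refine ⟨le_trans (Nat.mul_le_mul_left _ (Submodule.finrank_mono inf_le_right)) (hdy _), fun hne => ?_⟩
      have hU : ∀ v ∈ eig y (l ^ j), Matrix.toLin' xm v ∈ eig y (l ^ j) := by
        intro v hv
        rw [mem_eig] at hv ⊢
        rw [Matrix.toLin'_apply, Matrix.mulVec_mulVec, ← hxyc, ← Matrix.mulVec_mulVec, hv, Matrix.mulVec_smul]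
      have h := shift_le (g := Matrix.toLin' gm) (x := Matrix.toLin' xm) (U := eig y (l ^ j))
        (fun a a' e => Matrix.mulVec_injective_of_isUnit x.isUnit (by simpa [hxm, Matrix.toLin'_apply] using e))
        (order_eq D (by rw [mul_pow, htr, one_mul, ← pow_mul, mul_comm, pow_mul, hlr, one_pow]) hne)
        D.prime.one_lt (fun v hv => ?_) hU hc
      · calc r * r * Module.finrank F ↥(eig g c ⊓ eig y (l ^ j))
            = r * (r * Module.finrank F ↥(eig g c ⊓ eig y (l ^ j))) := by ring
          _ ≤ r * Module.finrank F ↥(eig y (l ^ j)) := Nat.mul_le_mul_left _ h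
          _ ≤ _ := hdy _
      · have hgv : gm *ᵥ v ∈ eig y (l ^ j) := by
          rw [mem_eig] at hv ⊢
          rw [Matrix.mulVec_mulVec, ← hgy', ← Matrix.mulVec_mulVec, hv, Matrix.mulVec_smul]
        have h1 := hU _ hgv
        rw [mem_eig, Matrix.toLin'_apply] at h1
        simp only [Matrix.toLin'_apply]
        rw [Matrix.mulVec_mulVec, hgx, Matrix.smul_mulVec, ← Matrix.mulVec_mulVec, ← Matrix.mulVec_mulVec,
          h1, smul_smul]
    have hsum' : r * r * Module.finrank F ↥(eig g c) ≤
        ∑ j ∈ Finset.range r, r * r * Module.finrank F ↥(eig g c ⊓ eig y (l ^ j)) := by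
      rw [← Finset.mul_sum]
      exact Nat.mul_le_mul_left _ hsum
    have hbound : ∑ j ∈ Finset.range r, r * r * Module.finrank F ↥(eig g c ⊓ eig y (l ^ j)) ≤
        2 * r * Fintype.card ι := by
      have hone : ((Finset.range r).filter fun j => t * l ^ j = 1).card ≤ 1 := by
        rw [Finset.card_le_one]
        intro i hi j hj
        simp only [Finset.mem_filter, Finset.mem_range] at hi hj
        have hlf : IsOfFinOrder l := orderOf_pos_iff.1 (by omega)
        refine pow_injOn_Iio_orderOf (by simpa [hl] using hi.1) (by simpa [hl] using hj.1)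
          (mul_left_cancel₀ ht0 (hi.2.trans hj.2.symm))
      rw [← Finset.sum_filter_add_sum_filter_not (Finset.range r) (fun j => t * l ^ j = 1)]
      have h1 : ∑ j ∈ (Finset.range r).filter (fun j => t * l ^ j = 1),
          r * r * Module.finrank F ↥(eig g c ⊓ eig y (l ^ j)) ≤ r * Fintype.card ι := by
        refine le_trans (Finset.sum_le_card_nsmul _ _ (r * Fintype.card ι) fun j _ => ?_) ?_
        · rw [mul_assoc]; exact Nat.mul_le_mul_left _ (hstep j).1
        · rw [smul_eq_mul]; exact (Nat.mul_le_mul_right _ hone).trans (one_mul _).le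
      have h2 : ∑ j ∈ (Finset.range r).filter (fun j => ¬ t * l ^ j = 1),
          r * r * Module.finrank F ↥(eig g c ⊓ eig y (l ^ j)) ≤ r * Fintype.card ι := by
        refine le_trans (Finset.sum_le_card_nsmul _ _ (Fintype.card ι) fun j hj =>
          (hstep j).2 (Finset.mem_filter.1 hj).2) ?_
        rw [smul_eq_mul]
        refine Nat.mul_le_mul_right _ ((Finset.card_filter_le _ _).trans ?_)
        rw [Finset.card_range]
      nlinarith [h1, h2]
    have h3 : r * (r * Module.finrank F ↥(eig g c)) ≤ r * (2 * Fintype.card ι) := by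
      have := hsum'.trans hbound
      rw [mul_assoc, mul_assoc] at this
      linarith [mul_left_comm 2 r (Fintype.card ι)]
    have h4 := Nat.le_of_mul_le_mul_left h3 D.prime.pos
    nlinarith
  · -- x permutes the eigenspaces of y
    have hlb : orderOf b⁻¹ = r := order_eq D (by rw [inv_pow, hbr, inv_one]) (inv_ne_one.2 hb1)
    have hsum := hdecomp b⁻¹ hlb
    set key : ℕ → F := fun j => c / (P j * (b ^ (j * j))⁻¹) with hkey
    have hPne : ∀ j, P j ≠ 0 := fun j => mul_ne_zero (pow_ne_zero _ ht0) (pow_ne_zero _ hb0)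
    have hstep : ∀ j, Module.finrank F ↥(eig g c ⊓ eig y ((b⁻¹) ^ j)) ≤
        Module.finrank F ↥(eig g (key j) ⊓ eig y (1 : F)) := by
      intro j
      have hinj : Function.Injective (Matrix.toLin' ((x ^ j : GL ι F) : Matrix ι ι F)) := fun a a' e =>
        Matrix.mulVec_injective_of_isUnit (x ^ j).isUnit (by simp only [Matrix.toLin'_apply] at e; exact e)
      rw [LinearEquiv.finrank_eq (Submodule.equivMapOfInjective _ hinj (eig g (key j) ⊓ eig y (1 : F)))]
      refine Submodule.finrank_mono ?_
      rintro v ⟨hv1, hv2⟩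
      rw [SetLike.mem_coe, mem_eig] at hv1 hv2
      set u := ((x ^ j)⁻¹ : GL ι F).1 *ᵥ v with hudef
      have hxu : xm ^ j *ᵥ u = v := by
        rw [hudef, hxm, ← Units.val_pow_eq_pow_val, Matrix.mulVec_mulVec, Units.mul_inv, Matrix.one_mulVec]
      refine ⟨u, ?_, by rw [Matrix.toLin'_apply, Units.val_pow_eq_pow_val]; exact hxu⟩
      have hxinj : Function.Injective (fun w => xm ^ j *ᵥ w) := by
        rw [hxm, ← Units.val_pow_eq_pow_val]
        exact Matrix.mulVec_injective_of_isUnit (x ^ j).isUnit
      have hyu : ym *ᵥ u = u := by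
        refine hxinj ?_
        show xm ^ j *ᵥ (ym *ᵥ u) = xm ^ j *ᵥ u
        rw [Matrix.mulVec_mulVec, pow_rel hxy, Matrix.smul_mulVec, ← Matrix.mulVec_mulVec, hxu, hv2, smul_smul,
          ← mul_pow, mul_inv_cancel₀ hb0, one_pow, one_smul]
      refine ⟨?_, by rw [SetLike.mem_coe, mem_eig, one_smul]; exact hyu⟩
      rw [SetLike.mem_coe, mem_eig]
      refine hxinj ?_
      show xm ^ j *ᵥ (gm *ᵥ u) = xm ^ j *ᵥ (key j • u)
      have h1 := congrArg (fun M => M *ᵥ u) (hpow j)
      simp only [← Matrix.mulVec_mulVec, Matrix.smul_mulVec, hxu, hv1] at h1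
      have hyx : ym ^ j * xm ^ j = (b ^ (j * j))⁻¹ • (xm ^ j * ym ^ j) := by
        have e : ∀ k, xm ^ j * ym ^ k = b ^ (j * k) • (ym ^ k * xm ^ j) := by
          intro k
          induction k with
          | zero => simp
          | succ k ih =>
            rw [pow_succ ym, ← mul_assoc, ih, smul_mul_assoc, mul_assoc, pow_rel hxy, mul_smul_comm, smul_smul,
              ← mul_assoc, ← pow_add, Nat.mul_succ]
        rw [e, smul_smul, inv_mul_cancel₀ (pow_ne_zero _ hb0), one_smul]
      have hygu : ym ^ j *ᵥ (gm *ᵥ u) = gm *ᵥ u := by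
        rw [Matrix.mulVec_mulVec, ← ((show Commute gm ym from hgy').pow_right j).eq, ← Matrix.mulVec_mulVec]
        congr 1
        clear h1
        induction j with
        | zero => simp
        | succ k _ =>
          have : ∀ k : ℕ, ym ^ k *ᵥ u = u := fun k => by
            induction k with
            | zero => simp
            | succ k ih => rw [pow_succ, ← Matrix.mulVec_mulVec, hyu, ih]
          exact this _
      rw [Matrix.mulVec_mulVec (M := ym ^ j) (N := xm ^ j), hyx, Matrix.smul_mulVec, ← Matrix.mulVec_mulVec,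
        hygu, smul_smul] at h1
      rw [Matrix.mulVec_smul, hxu]
      have hne : P j * (b ^ (j * j))⁻¹ ≠ 0 := mul_ne_zero (hPne j) (inv_ne_zero (pow_ne_zero _ hb0))
      show xm ^ j *ᵥ (gm *ᵥ u) = (c / (P j * (b ^ (j * j))⁻¹)) • v
      rw [div_eq_inv_mul, mul_smul, ← hv1, h1, smul_smul, inv_mul_cancel₀ hne, one_smul]
    -- each value occurs at most twice
    have hprim : IsPrimitiveRoot b r := by
      have : orderOf b = r := order_eq D hbr hb1
      exact this ▸ IsPrimitiveRoot.orderOf b
    haveI := NeZero.mk D.prime.ne_zero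
    obtain ⟨a, -, hat⟩ := hprim.eq_pow_of_pow_eq_one htr
    have hfib : ∀ e : F, ((Finset.range r).filter fun j => key j = e).card ≤ 2 := by
      intro e
      haveI := Fact.mk D.prime
      set S := (Finset.range r).filter fun j => key j = e with hS
      have hroot : ∀ i ∈ S, ∀ j ∈ S, i ≠ j → ((i : ZMod r) + (j : ZMod r) + 1 - 2 * (a : ZMod r)) = 0 := by
        intro i hi j hj hij
        simp only [hS, Finset.mem_filter, Finset.mem_range] at hi hj
        have he : P i * (b ^ (i * i))⁻¹ = P j * (b ^ (j * j))⁻¹ := by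
          have := hi.2.trans hj.2.symm
          simp only [hkey] at this
          rw [div_eq_div_iff (mul_ne_zero (hPne i) (inv_ne_zero (pow_ne_zero _ hb0)))
            (mul_ne_zero (hPne j) (inv_ne_zero (pow_ne_zero _ hb0)))] at this
          exact (mul_left_cancel₀ hc this).symm
        have he' : b ^ (a * i + i.choose 2 + j * j) = b ^ (a * j + j.choose 2 + i * i) := by
          simp only [hP, ← hat, ← pow_mul] at he
          field_simp at he
          simp only [← pow_add] at he
          convert he using 2 <;> ring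
        have hmod : (((a * i + i.choose 2 + j * j : ℕ)) : ZMod r) = ((a * j + j.choose 2 + i * i : ℕ) : ZMod r) := by
          rw [ZMod.natCast_eq_natCast_iff, ← hprim.eq_orderOf.symm]
          exact (orderOf_pos_iff.1 (by rw [← hprim.eq_orderOf]; exact D.prime.pos)).pow_eq_pow_iff_modEq.1 he'
        have hch : ∀ k : ℕ, (2 : ZMod r) * (k.choose 2 : ZMod r) = (k : ZMod r) * ((k : ZMod r) - 1) := by
          intro k
          induction k with
          | zero => simp
          | succ k ih =>
            rw [show (k + 1).choose 2 = k.choose 2 + k by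
              rw [Nat.choose_succ_succ, Nat.choose_one_right, Nat.add_comm]]
            push_cast
            linear_combination ih
        push_cast at hmod
        have h2 : ((i : ZMod r) - j) * ((i : ZMod r) + j + 1 - 2 * a) = 0 := by
          linear_combination (-2 : ZMod r) * hmod + hch i - hch j
        refine (mul_eq_zero.1 h2).resolve_left fun h => hij ?_
        rw [sub_eq_zero, ZMod.natCast_eq_natCast_iff] at h
        exact Nat.ModEq.eq_of_lt_of_lt h hi.1 hj.1
      by_contra hcard
      push Not at hcard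
      obtain ⟨i, hi, j, hj, k, hk, hij, hik, hjk⟩ := Finset.two_lt_card.1 hcard
      have h1 := hroot i hi j hj hij
      have h2 := hroot i hi k hk hik
      have : (j : ZMod r) = (k : ZMod r) := by linear_combination h1 - h2
      rw [ZMod.natCast_eq_natCast_iff] at this
      simp only [hS, Finset.mem_filter, Finset.mem_range] at hj hk
      exact hjk (Nat.ModEq.eq_of_lt_of_lt this hj.1 hk.1)
    have htot : ∑ j ∈ Finset.range r, Module.finrank F ↥(eig g (key j) ⊓ eig y (1 : F)) ≤
        2 * Module.finrank F ↥(eig y (1 : F)) := by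
      rw [Finset.sum_comp (fun e => Module.finrank F ↥(eig g e ⊓ eig y (1 : F))) key]
      refine le_trans (Finset.sum_le_sum (g := fun e => 2 * Module.finrank F ↥(eig g e ⊓ eig y (1 : F)))
        fun e _ => ?_) ?_
      · rw [smul_eq_mul]
        exact Nat.mul_le_mul_right _ (hfib e)
      · rw [← Finset.mul_sum]
        exact Nat.mul_le_mul_left _ (sum_le g _ _)
    have h1 := hsum.trans ((Finset.sum_le_sum fun j _ => hstep j).trans htot)
    have h2 := hdy 1
    nlinarith

end Cfsg.Agent.EigenBound
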