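import Cfsg.Agent.Lib.Aschbacher.Group

/-!
Subfields of a finite field and groups realisable over them.
-/

set_option autoImplicit false
set_option linter.style.haveILetI false

namespace Cfsg.Agent.Aschbacher

open scoped MatrixGroups Matrix Kronecker
open Matrix

variable {F : Type*} [Field F] [Fintype F]

/-- The number of solutions of `x ^ N = x` when `N - 1` divides `|F| - 1`. -/
lemma card_pow_eq_self {N : ℕ} (hN : 2 ≤ N) (hdvd : N - 1 ∣ Fintype.card F - 1) :
    Nat.card {x : F // x ^ N = x} = N := by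
  classical
  have hker : Nat.card (powMonoidHom (α := Fˣ) (N - 1)).ker = N - 1 := by
    rw [IsCyclic.card_powMonoidHom_ker, Nat.card_units, Nat.card_eq_fintype_card,
      Nat.gcd_eq_right hdvd]
  have h : ∀ x : F, x ≠ 0 → (x ^ N = x ↔ x ^ (N - 1) = 1) := fun x hx => by
    constructor
    · intro h
      refine mul_right_cancel₀ hx ?_
      rw [← pow_succ, show N - 1 + 1 = N by omega, h, one_mul]
    · intro h
      rw [show N = N - 1 + 1 by omega, pow_succ, h, one_mul]
  let ϕ : Option (powMonoidHom (α := Fˣ) (N - 1)).ker → {x : F // x ^ N = x} := fun o =>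
    o.elim ⟨0, zero_pow (by omega)⟩ fun u => ⟨((u.1 : Fˣ) : F), (h _ u.1.ne_zero).2 (by
      simpa using congrArg Units.val (MonoidHom.mem_ker.1 u.2))⟩
  have hbij : Function.Bijective ϕ := by
    constructor
    · rintro (_ | a) (_ | b) hab
      · rfl
      · exact absurd (congrArg Subtype.val hab).symm b.1.ne_zero
      · exact absurd (congrArg Subtype.val hab) a.1.ne_zero
      · exact congrArg some (Subtype.ext (Units.ext (congrArg Subtype.val hab)))
    · rintro ⟨x, hx⟩
      by_cases h0 : x = 0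
      · exact ⟨none, Subtype.ext h0.symm⟩
      · exact ⟨some ⟨Units.mk0 x h0, MonoidHom.mem_ker.2 (Units.ext (by
          simpa using (h x h0).1 hx))⟩, rfl⟩
  rw [← Nat.card_congr (Equiv.ofBijective ϕ hbij), Finite.card_option, hker]
  omega

/-- Membership in a subfield of a finite field is a polynomial identity. -/
lemma mem_subfield_iff (F₀ : Subfield F) {x : F} : x ∈ F₀ ↔ x ^ Nat.card F₀ = x := by
  classical
  haveI : Fintype F₀ := Fintype.ofFinite _
  constructor
  · intro hx
    simpa [Nat.card_eq_fintype_card] using congrArg Subtype.val (FiniteField.pow_card (⟨x, hx⟩ : F₀))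
  · intro hx
    have hle : 2 ≤ Nat.card F₀ := Finite.one_lt_card
    have hdvd : Nat.card F₀ - 1 ∣ Fintype.card F - 1 := by
      rw [← Nat.card_eq_fintype_card (α := F),
        Module.natCard_eq_pow_finrank (K := F₀) (V := F)]
      simpa using Nat.pow_sub_one_dvd_pow_sub_one (Nat.card F₀) (one_dvd (Module.finrank F₀ F))
    let f : F₀ → {y : F // y ^ Nat.card F₀ = y} := fun y => ⟨y, by
      simpa [Nat.card_eq_fintype_card] using congrArg Subtype.val (FiniteField.pow_card y)⟩
    have hf : Function.Bijective f := by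
      refine (Nat.bijective_iff_injective_and_card f).2 ⟨fun a b hab => ?_, ?_⟩
      · exact Subtype.ext (congrArg (fun z : {y : F // y ^ Nat.card F₀ = y} => (z : F)) hab)
      · exact (card_pow_eq_self hle hdvd).symm
    obtain ⟨y, hy⟩ := hf.2 ⟨x, hx⟩
    rw [← show (y : F) = x from congrArg Subtype.val hy]
    exact y.2

/-- The subfield of order `p ^ d` for `d ∣ e`. -/
lemma exists_subfield_card {p e d : ℕ} [Fact p.Prime] [CharP F p] (he : Fintype.card F = p ^ e)
    (hd : 0 < d) (hde : d ∣ e) :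
    ∃ F₁ : Subfield F, Nat.card F₁ = p ^ d ∧ ∀ x, x ∈ F₁ ↔ x ^ (p ^ d) = x := by
  refine ⟨RingHom.eqLocusField (iterateFrobenius F p d) (RingHom.id F), ?_, fun x => Iff.rfl⟩
  show Nat.card {x : F // x ^ (p ^ d) = x} = p ^ d
  refine card_pow_eq_self (Nat.one_lt_pow hd.ne' (Fact.out : p.Prime).one_lt) ?_
  rw [he]
  exact Nat.pow_sub_one_dvd_pow_sub_one p hde

/-- A proper subfield lies in one of prime index. -/
lemma exists_prime_index {F₀ : Subfield F} (h : F₀ ≠ ⊤) :
    ∃ (F₁ : Subfield F) (r : ℕ), F₀ ≤ F₁ ∧ r.Prime ∧ Fintype.card F = Nat.card F₁ ^ r := by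
  obtain ⟨p, hp⟩ := CharP.exists F
  haveI := Fact.mk (CharP.char_is_prime F p)
  obtain ⟨e, -, he⟩ := FiniteField.card F p
  haveI : Fintype F₀ := Fintype.ofFinite _
  haveI : CharP F₀ p := CharP.subring F p F₀.toSubring
  obtain ⟨a, -, ha⟩ := FiniteField.card F₀ p
  have ha' : Nat.card F₀ = p ^ (a : ℕ) := by rw [Nat.card_eq_fintype_card, ha]
  set k := Module.finrank F₀ F with hk
  have hcard : Fintype.card F = Nat.card F₀ ^ k := by
    rw [← Nat.card_eq_fintype_card, Module.natCard_eq_pow_finrank (K := F₀) (V := F)]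
  have hk1 : k ≠ 1 := by
    intro hk'
    refine h (eq_top_iff.2 fun x _ => (mem_subfield_iff F₀).2 ?_)
    rw [show Nat.card F₀ = Fintype.card F by rw [hcard, hk', pow_one]]
    exact FiniteField.pow_card x
  obtain ⟨r, hr, hrk⟩ := Nat.exists_prime_and_dvd hk1
  have hek : (e : ℕ) = a * k := by
    refine Nat.pow_right_injective (Fact.out : p.Prime).two_le ?_
    show p ^ (e : ℕ) = p ^ ((a : ℕ) * k)
    rw [pow_mul, ← ha', ← hcard, he]
  obtain ⟨k', hk'⟩ := hrk
  have hk0 : 0 < k' := by
    rcases Nat.eq_zero_or_pos k' with rfl | h0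
    · simp [hek, hk'] at he
      have := e.pos
      simp [hek, hk'] at this
    · exact h0
  obtain ⟨F₁, h1, h1m⟩ := exists_subfield_card (d := (a : ℕ) * k') he
    (Nat.mul_pos a.pos hk0) ⟨r, by rw [hek, hk']; ring⟩
  refine ⟨F₁, r, fun x hx => (h1m x).2 ?_, hr, ?_⟩
  · rw [mem_subfield_iff, ha'] at hx
    rw [pow_mul]
    have hiter : ∀ j, x ^ ((p ^ (a : ℕ)) ^ j) = x := fun j => by
      induction j with
      | zero => simp
      | succ j ih => rw [pow_succ, pow_mul, ih, hx]
    exact hiter k'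
  · rw [h1, he, hek, hk', ← pow_mul]
    ring_nf

variable {ι : Type} [Fintype ι] [DecidableEq ι]

/-- A group normalising an absolutely irreducible group realised over a subfield lies in the
subfield group. -/
lemma le_subfieldSubgroup [Nonempty ι] {H L : Subgroup (GL ι F)} (hL : spanAlg L = ⊤)
    (hn : ∀ g ∈ H, ∀ x ∈ L, g * x * g⁻¹ ∈ L) (F₁ : Subfield F) {B : GL ι F}
    (hB : ∀ s ∈ Geo.matrixSet L, ∀ i j,
      ((B : Matrix ι ι F) * s * ((B⁻¹ : GL ι F) : Matrix ι ι F)) i j ∈ F₁) :
    H ≤ Geo.subfieldSubgroup F₁ B⁻¹ := by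
  classical
  intro g hg
  obtain ⟨p, hp⟩ := CharP.exists F
  haveI := Fact.mk (CharP.char_is_prime F p)
  haveI : Fintype F₁ := Fintype.ofFinite _
  haveI : CharP F₁ p := CharP.subring F p F₁.toSubring
  obtain ⟨a, -, ha⟩ := FiniteField.card F₁ p
  let σ : F →+* F := iterateFrobenius F p a
  have hσ : ∀ x : F, x ∈ F₁ ↔ σ x = x := fun x => by
    rw [mem_subfield_iff, Nat.card_eq_fintype_card, ha]; rfl
  have hfix : ∀ x ∈ L, σ.mapMatrix (cj B (x : Matrix ι ι F)) = cj B (x : Matrix ι ι F) :=
    fun x hx => Matrix.ext fun i j => (hσ _).1 (hB _ ⟨x, hx, rfl⟩ i j)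
  set h : GL ι F := B * g * B⁻¹ with hh
  let hσh : GL ι F := Units.map σ.mapMatrix.toMonoidHom h
  have hc : ∀ x ∈ L, cj (hσh⁻¹ * h) (cj B (x : Matrix ι ι F)) = cj B (x : Matrix ι ι F) := by
    intro x hx
    have h1 : cj h (cj B (x : Matrix ι ι F)) = cj B ((g * x * g⁻¹ : GL ι F) : Matrix ι ι F) := by
      simp [hh, cj_apply, mul_assoc]
    have h2 := hfix _ (hn g hg x hx)
    rw [← h1, cj_apply h, map_mul, map_mul, hfix x hx] at h2
    have h3 : cj hσh (cj B (x : Matrix ι ι F)) = cj h (cj B (x : Matrix ι ι F)) := h2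
    rw [cj_mul, ← h3, cj_inv_cj]
  obtain ⟨c, hcs⟩ : ∃ c : F, ((hσh⁻¹ * h : GL ι F) : Matrix ι ι F) = c • (1 : Matrix ι ι F) := by
    obtain ⟨c, hc'⟩ := (absIrred_of_spanAlg_eq_top hL).2
      ((B⁻¹ * (hσh⁻¹ * h) * B : GL ι F) : Matrix ι ι F) (by
        rintro _ ⟨x, hx, rfl⟩
        have h4 := congrArg (cj B⁻¹) ((cj_eq_self_iff _ _).1 (hc x hx))
        simpa [map_mul, cj_apply, mul_assoc] using h4)
    refine ⟨c, ?_⟩
    have h5 := congrArg (cj B) hc'
    simpa [cj_apply, mul_assoc] using h5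
  have hσc : ∀ i j, (h : Matrix ι ι F) i j = c * σ ((h : Matrix ι ι F) i j) := by
    intro i j
    have h6 : (h : Matrix ι ι F) = c • σ.mapMatrix (h : Matrix ι ι F) := by
      calc (h : Matrix ι ι F) = (hσh : Matrix ι ι F) * ((hσh⁻¹ * h : GL ι F) : Matrix ι ι F) := by
            rw [← Units.val_mul, mul_inv_cancel_left]
        _ = _ := by rw [hcs, mul_smul_comm, mul_one]; rfl
    exact congrFun (congrFun h6 i) j
  obtain ⟨i₀, j₀, hne⟩ : ∃ i j, (h : Matrix ι ι F) i j ≠ 0 := by
    by_contra hall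
    push Not at hall
    exact h.ne_zero (Matrix.ext hall)
  set d := (h : Matrix ι ι F) i₀ j₀ with hd
  have hmem : ∀ i j, d⁻¹ * (h : Matrix ι ι F) i j ∈ F₁ := by
    intro i j
    have hc0 : c ≠ 0 := fun h0 => hne (by rw [hd, hσc i₀ j₀, h0, zero_mul])
    have hd' : σ d = c⁻¹ * d := by rw [eq_inv_mul_iff_mul_eq₀ hc0]; exact (hσc i₀ j₀).symm
    have hij : σ ((h : Matrix ι ι F) i j) = c⁻¹ * (h : Matrix ι ι F) i j := by
      rw [eq_inv_mul_iff_mul_eq₀ hc0]; exact (hσc i j).symm
    rw [hσ, map_mul, map_inv₀, hd', hij]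
    field_simp
  let K : Matrix ι ι F₁ := Matrix.of fun i j => ⟨_, hmem i j⟩
  have hK : F₁.subtype.mapMatrix K = d⁻¹ • (h : Matrix ι ι F) := rfl
  have hKdet : IsUnit K := by
    rw [Matrix.isUnit_iff_isUnit_det, isUnit_iff_ne_zero]
    intro h0
    have h7 := congrArg Matrix.det hK
    rw [← RingHom.map_det, h0, map_zero, Matrix.det_smul] at h7
    exact mul_ne_zero (pow_ne_zero _ (inv_ne_zero hne))
      ((Matrix.isUnit_iff_isUnit_det _).1 h.isUnit).ne_zero h7.symm
  have hh' : h ∈ (Matrix.GeneralLinearGroup.map (F₁.subtype : F₁ →+* F)).range ⊔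
      Geo.scalars ι F := by
    let s : GL ι F := Units.map (Matrix.scalar ι : F →+* Matrix ι ι F).toMonoidHom (Units.mk0 d hne)
    have : h = Matrix.GeneralLinearGroup.map F₁.subtype hKdet.unit * s := by
      refine Units.ext ?_
      show (h : Matrix ι ι F) = F₁.subtype.mapMatrix K * Matrix.scalar ι d
      rw [hK, Matrix.scalar_apply, ← Matrix.smul_one_eq_diagonal]
      rw [Matrix.mul_smul, mul_one, smul_smul, mul_inv_cancel₀ hne, one_smul]
    rw [this]
    exact Subgroup.mul_mem_sup ⟨_, rfl⟩ ⟨_, rfl⟩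
  refine ⟨h, hh', ?_⟩
  simp only [MulEquiv.coe_toMonoidHom, MulAut.conj_apply, inv_inv, hh]
  group

/-- Matrices in the span over a subfield of a basis closed under products can be written with
entries in that subfield. -/
lemma exists_realise [Nonempty ι] (F₁ : Subfield F) {κ : Type*} [Fintype κ]
    (t : κ → Matrix ι ι F) (hind : LinearIndependent F t)
    (hspan : Submodule.span F (Set.range t) = ⊤)
    (hone : (1 : Matrix ι ι F) ∈ Submodule.span F₁ (Set.range t))
    (hmul : ∀ i j, t i * t j ∈ Submodule.span F₁ (Set.range t)) :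
    ∃ B : GL ι F, ∀ x ∈ Submodule.span F₁ (Set.range t), ∀ i j, cj B x i j ∈ F₁ := by
  classical
  set M := Submodule.span F₁ (Set.range t) with hM
  have hmulM : ∀ x ∈ M, ∀ y ∈ M, x * y ∈ M := by
    intro x hx y hy
    induction hx using Submodule.span_induction with
    | mem a ha =>
      obtain ⟨i, rfl⟩ := ha
      induction hy using Submodule.span_induction with
      | mem b hb => obtain ⟨j, rfl⟩ := hb; exact hmul i j
      | zero => simp
      | add b b' _ _ h h' => rw [mul_add]; exact add_mem h h'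
      | smul c b _ h => rw [mul_smul_comm]; exact M.smul_mem c h
    | zero => simp
    | add a a' _ _ h h' => rw [add_mul]; exact add_mem h h'
    | smul c a _ h => rw [smul_mul_assoc]; exact M.smul_mem c h
  let S : Subalgebra F₁ (Matrix ι ι F) := M.toSubalgebra hone (fun x y hx hy => hmulM x hx y hy)
  haveI : Nontrivial S := ⟨⟨0, 1, fun h => zero_ne_one (congrArg Subtype.val h)⟩⟩
  have htS : ∀ i, t i ∈ S := fun i => Submodule.subset_span ⟨i, rfl⟩
  have hirr : Geo.ActsIrreducibly (Set.range t) := by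
    intro W hW
    by_cases h0 : W = ⊥
    · exact Or.inl h0
    right
    obtain ⟨v, hv, hv0⟩ := Submodule.exists_mem_ne_zero_of_ne_bot h0
    obtain ⟨i, hi⟩ : ∃ i, v i ≠ 0 := Function.ne_iff.1 hv0
    refine eq_top_iff.2 fun u _ => ?_
    have hu : Matrix.vecMulVec u (Pi.single i (v i)⁻¹) *ᵥ v = u := by
      rw [Matrix.vecMulVec_mulVec]; simp [single_dotProduct, hi]
    rw [← hu]
    have hall : ∀ x ∈ Submodule.span F (Set.range t), x *ᵥ v ∈ W := by
      intro x hx
      induction hx using Submodule.span_induction with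
      | mem a ha => exact hW a ha ⟨v, hv, Matrix.toLin'_apply _ _⟩
      | zero => simp
      | add a b _ _ ha hb => rw [Matrix.add_mulVec]; exact add_mem ha hb
      | smul c a _ ha => rw [Matrix.smul_mulVec]; exact W.smul_mem c ha
    exact hall _ (hspan ▸ Submodule.mem_top)
  have hJ : Ring.jacobson S = ⊥ := by
    haveI : IsArtinianRing S := IsArtinianRing.of_finite F₁ S
    set J := Ring.jacobson S with hJ
    by_contra hne
    obtain ⟨N, hN⟩ : IsNilpotent J := IsSemiprimaryRing.isNilpotent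
    have hex : ∃ k, J ^ k = ⊥ := ⟨N, by simpa using hN⟩
    obtain ⟨k, hk⟩ : ∃ k, Nat.find hex = k + 1 := by
      refine Nat.exists_eq_succ_of_ne_zero fun h => hne ?_
      have := Nat.find_spec hex
      rw [h, Submodule.pow_zero, Ideal.one_eq_top] at this
      exact eq_bot_iff.2 (le_top.trans this.le)
    obtain ⟨x, hx, hx0⟩ := Submodule.exists_mem_ne_zero_of_ne_bot
      (Nat.find_min hex (show k < Nat.find hex by omega))
    obtain ⟨v, hv⟩ : ∃ v, (x : Matrix ι ι F) *ᵥ v ≠ 0 := by
      by_contra h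
      push Not at h
      exact hx0 (Subtype.ext (mulVec_ext fun v => by simp [h v]))
    let W : Submodule F (ι → F) :=
      { carrier := {w | ∀ y ∈ J, (y : Matrix ι ι F) *ᵥ w = 0}
        add_mem' := fun {a b} ha hb y hy => by rw [Matrix.mulVec_add, ha y hy, hb y hy, add_zero]
        zero_mem' := fun y _ => Matrix.mulVec_zero _
        smul_mem' := fun c a ha y hy => by rw [Matrix.mulVec_smul, ha y hy, smul_zero] }
    have hvW : (x : Matrix ι ι F) *ᵥ v ∈ W := by
      intro y hy
      have hyx : y * x ∈ J ^ (k + 1) := by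
        rw [Ideal.IsTwoSided.pow_succ]; exact Ideal.mul_mem_mul hy hx
      rw [← hk, Nat.find_spec hex, Submodule.mem_bot] at hyx
      rw [Matrix.mulVec_mulVec, ← Subalgebra.coe_mul, hyx]
      simp
    have hW : W = ⊤ := by
      refine eq_top_of_invariant hirr ?_ hvW hv
      rintro _ ⟨i, rfl⟩ w hw y hy
      have h := hw (y * ⟨t i, htS i⟩) (Ideal.IsTwoSided.mul_mem_of_left _ hy)
      rwa [Subalgebra.coe_mul, ← Matrix.mulVec_mulVec] at h
    obtain ⟨y, hy, hy0⟩ := Submodule.exists_mem_ne_zero_of_ne_bot hne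
    exact hy0 (Subtype.ext (mulVec_ext fun w => by
      simpa using (hW.ge (Submodule.mem_top : w ∈ ⊤)) y hy))
  have hind₁ : LinearIndependent F₁ t := hind.restrict_scalars' F₁
  have hZ : ∀ z : S, (∀ y, z * y = y * z) → ∃ c : F₁, algebraMap F₁ S c = z := by
    intro z hz
    have hz' : ∀ y : Matrix ι ι F, (z : Matrix ι ι F) * y = y * z := by
      intro y
      have hy : y ∈ Submodule.span F (Set.range t) := hspan ▸ Submodule.mem_top
      induction hy using Submodule.span_induction with
      | mem a ha => obtain ⟨i, rfl⟩ := ha; exact congrArg Subtype.val (hz ⟨t i, htS i⟩)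
      | zero => simp
      | add a b _ _ ha hb => rw [mul_add, add_mul, ha, hb]
      | smul c a _ ha => rw [mul_smul_comm, smul_mul_assoc, ha]
    obtain ⟨c, hc⟩ := Matrix.mem_range_scalar_of_commute_single (M := (z : Matrix ι ι F))
      (fun i j _ => (hz' (Matrix.single i j 1)).symm)
    have hc' : (z : Matrix ι ι F) = c • (1 : Matrix ι ι F) := by
      rw [← hc, Matrix.scalar_apply, Matrix.smul_one_eq_diagonal]
    obtain ⟨u, hu⟩ := (Submodule.mem_span_range_iff_exists_fun F₁).1 hone
    obtain ⟨w, hw⟩ := (Submodule.mem_span_range_iff_exists_fun F₁).1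
      (z.2 : (z : Matrix ι ι F) ∈ M)
    have heq : ∑ i, (c * (u i : F)) • t i = ∑ i, ((w i : F)) • t i := by
      have : c • ∑ i, (u i : F) • t i = ∑ i, ((w i : F)) • t i := by
        rw [show ∑ i, (u i : F) • t i = 1 from hu]
        exact hc'.symm.trans hw.symm
      simpa [Finset.smul_sum, smul_smul] using this
    have hcoef := fun i => hind.eq_coords_of_eq heq i
    obtain ⟨i, hi⟩ : ∃ i, (u i : F) ≠ 0 := by
      by_contra h
      push Not at h
      refine one_ne_zero (α := Matrix ι ι F) ?_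
      rw [← hu]
      exact Finset.sum_eq_zero fun i _ => by
        rw [show u i = 0 from Subtype.ext (h i), zero_smul]
    refine ⟨⟨c, ?_⟩, Subtype.ext ?_⟩
    · rw [show c = (w i : F) / (u i : F) by rw [← hcoef i]; field_simp]
      exact div_mem (w i).2 (u i).2
    · rw [hc']
      simp [Algebra.algebraMap_eq_smul_one, Subfield.smul_def]
  obtain ⟨a, _, ⟨φ⟩⟩ := exists_algEquiv_matrix hJ hZ
  let f : Matrix (Fin a) (Fin a) F₁ →+* Matrix ι ι F := (S.val.comp φ.symm.toAlgHom).toRingHom
  obtain ⟨b, eq, P, hP⟩ := ((isMatUnits_single F₁ (κ := Fin a)).map f).exists_conj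
  have hdim : Fintype.card ι * Fintype.card ι = a * a := by
    have h1 : Module.finrank F₁ S = a * a := by
      rw [φ.toLinearEquiv.finrank_eq, Module.finrank_matrix]; simp
    have h2 : Module.finrank F₁ M = Fintype.card κ := finrank_span_eq_card hind₁
    have h3 : Fintype.card κ = Fintype.card ι * Fintype.card ι := by
      rw [← finrank_span_eq_card hind, hspan, finrank_top, Module.finrank_matrix]; simp
    rw [← h3, ← h2, ← h1]
    rfl
  have hcard := Fintype.card_congr eq
  simp only [Fintype.card_prod, Fintype.card_fin] at hcard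
  have ha0 : 0 < a := Nat.pos_of_ne_zero (NeZero.ne a)
  have hb : b = 1 := by
    rw [hcard] at hdim
    rcases Nat.lt_or_ge b 2 with hb2 | hb2
    · interval_cases b <;> simp_all
    · exfalso
      have hb4 : 2 * 2 ≤ b * b := Nat.mul_le_mul hb2 hb2
      have haa : 0 < a * a := Nat.mul_pos ha0 ha0
      nlinarith
  subst hb
  refine ⟨P⁻¹, fun x hx i j => ?_⟩
  obtain ⟨X, rfl⟩ : ∃ X, f X = x := ⟨φ ⟨x, hx⟩, by simp [f]⟩
  rw [Matrix.matrix_eq_sum_single X, map_sum, map_sum, Matrix.sum_apply]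
  refine sum_mem fun r _ => ?_
  rw [map_sum, map_sum, Matrix.sum_apply]
  refine sum_mem fun c _ => ?_
  have h1 : f (Matrix.single r c (X r c)) = (X r c : F) • f (Matrix.single r c 1) := by
    rw [← mul_one (X r c), ← smul_eq_mul, ← Matrix.smul_single]
    show (S.val.comp φ.symm.toAlgHom) (X r c • _) = _
    rw [map_smul]
    simp [f, Subfield.smul_def]
  rw [h1, map_smul, Matrix.smul_apply, smul_eq_mul, hP, cj_inv_cj]
  refine mul_mem (X r c).2 ?_
  rw [Matrix.submatrix_apply, Matrix.kroneckerMap_apply, Matrix.single_apply, Matrix.one_apply]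
  split_ifs <;> simp [zero_mem, one_mem]

end Cfsg.Agent.Aschbacher
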