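import Cfsg.Agent.Lib.Aschbacher.FormBase
import Cfsg.Agent.Lib.Aschbacher.Subfield
import Cfsg.Agent.Lib.Transvec.Herm

/-!
Rational structures carrying a form, and groups fixing two forms.
-/

set_option autoImplicit false
set_option linter.style.haveILetI false

namespace Cfsg.Agent.Aschbacher

open scoped MatrixGroups Matrix
open Matrix
open Cfsg.Agent.Transvec.Herm (fixedField mem_fixedField exists_norm card_eq_sq)

variable {ι : Type} [Fintype ι] [DecidableEq ι] {F : Type*} [Field F]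
variable {σ : F ≃+* F} {ε : F} {f : (ι → F) → (ι → F) → F}

/-- `ζ` times the form has the Gram matrix `G`, with entries in `F₁`, on the columns of `P`. -/
structure RatGram (σ : F ≃+* F) (f : (ι → F) → (ι → F) → F) (F₁ : Subfield F) (P : GL ι F) (ζ : F)
    (G : Matrix ι ι F) : Prop where
  ne_zero : ζ ≠ 0
  isUnit : IsUnit G
  entries : ∀ i j, G i j ∈ F₁
  eq : ∀ u v, ζ * f ((P : Matrix ι ι F) *ᵥ u) ((P : Matrix ι ι F) *ᵥ v) = sesqOf σ G u v

lemma subfieldSubgroup_mul_sc (F₁ : Subfield F) (P : GL ι F) {z : GL ι F}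
    (hz : z ∈ Geo.scalars ι F) :
    Geo.subfieldSubgroup F₁ (P * z) = Geo.subfieldSubgroup F₁ P := by
  unfold Geo.subfieldSubgroup
  have hconj : (MulAut.conj (P * z)).toMonoidHom = (MulAut.conj P).toMonoidHom := by
    refine MonoidHom.ext fun x => ?_
    simp only [MulEquiv.coe_toMonoidHom, MulAut.conj_apply, _root_.mul_inv_rev]
    rw [mul_assoc P z x, scalars_comm hz x, mul_assoc, mul_assoc, ← mul_assoc z z⁻¹,
      mul_inv_cancel, one_mul, ← mul_assoc]
  rw [hconj]

namespace RatGram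

variable {F₁ : Subfield F} {P : GL ι F} {ζ : F} {G : Matrix ι ι F}
variable (h : RatGram σ f F₁ P ζ G)
include h

lemma isFormRationalStructure [Fintype F] : Geo.IsFormRationalStructure f F₁ ζ P := by
  intro u v hu hv
  rw [h.eq]
  refine sum_mem fun i _ => mul_mem (hu i) (sum_mem fun j _ => mul_mem (h.entries i j) ?_)
  rw [mem_subfield_iff, ← map_pow, (mem_subfield_iff F₁).1 (hv j)]

/-- Multiplying the columns by a scalar. -/
lemma scale (hf : IsHermLike σ ε f) {a : F} (ha : a ≠ 0) :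
    RatGram σ f F₁ (P * Units.map (Matrix.scalar ι : F →+* Matrix ι ι F).toMonoidHom (Units.mk0 a ha))
      (ζ / (a * σ a)) G := by
  have ha' : a * σ a ≠ 0 := mul_ne_zero ha ((map_ne_zero σ.toRingHom).2 ha)
  refine ⟨div_ne_zero h.ne_zero ha', h.isUnit, h.entries, fun u v => ?_⟩
  have hP : ∀ w : ι → F, ((P * Units.map (Matrix.scalar ι : F →+* Matrix ι ι F).toMonoidHom
      (Units.mk0 a ha) : GL ι F) : Matrix ι ι F) *ᵥ w = a • ((P : Matrix ι ι F) *ᵥ w) := fun w => by
    simp [← Matrix.smul_one_eq_diagonal, Matrix.mul_smul, Matrix.smul_mulVec]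
  have hσa : σ a ≠ 0 := right_ne_zero_of_mul ha'
  rw [hP, hP, hf.smul_left, hf.smul_right, ← h.eq u v]
  field_simp

/-- Multiplying the form by an element of the subfield. -/
lemma smul {e : F} (he : e ∈ F₁) (he0 : e ≠ 0) : RatGram σ f F₁ P (e * ζ) (e • G) := by
  refine ⟨mul_ne_zero he0 h.ne_zero, ?_, fun i j => mul_mem he (h.entries i j), fun u v => ?_⟩
  · rw [Matrix.isUnit_iff_isUnit_det, Matrix.det_smul, isUnit_iff_ne_zero]
    exact mul_ne_zero (pow_ne_zero _ he0) ((Matrix.isUnit_iff_isUnit_det _).1 h.isUnit).ne_zero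
  · rw [mul_assoc, h.eq u v]
    simp [sesqOf, Matrix.smul_mulVec, dotProduct_smul]

lemma transpose_eq (hf : IsHermLike σ ε f) :
    Gᵀ = (ε * ζ / σ ζ) • σ.toRingHom.mapMatrix G := by
  have hσζ : σ ζ ≠ 0 := (map_ne_zero σ.toRingHom).2 h.ne_zero
  ext i j
  have h1 : G j i = ζ * f ((P : Matrix ι ι F) *ᵥ Pi.single j 1) ((P : Matrix ι ι F) *ᵥ Pi.single i 1) := by
    rw [h.eq, sesqOf_single]
  have h2 : G i j = ζ * f ((P : Matrix ι ι F) *ᵥ Pi.single i 1) ((P : Matrix ι ι F) *ᵥ Pi.single j 1) := by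
    rw [h.eq, sesqOf_single]
  rw [Matrix.transpose_apply, Matrix.smul_apply, RingHom.mapMatrix_apply, Matrix.map_apply,
    smul_eq_mul, h1, hf.herm]
  show _ = ε * ζ / σ ζ * σ (G i j)
  rw [h2, map_mul]
  field_simp

/-- Isotropy on rational vectors. -/
lemma self_eq_zero (hσ : ∀ x ∈ F₁, σ x = x) (hs : Gᵀ = -G) (hd : ∀ i, G i i = 0) {u : ι → F}
    (hu : ∀ i, u i ∈ F₁) : f ((P : Matrix ι ι F) *ᵥ u) ((P : Matrix ι ι F) *ᵥ u) = 0 := by
  have h1 := h.eq u u
  have h2 : sesqOf σ G u u = formOf G u u := by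
    simp only [sesqOf, formOf, show (fun i => σ (u i)) = u from funext fun i => hσ _ (hu i)]
  rw [h2, formOf_self_eq_zero hs hd] at h1
  exact (mul_eq_zero.1 h1).resolve_left h.ne_zero

end RatGram

variable [Fintype F]

/-- A group realised over a subfield, fixing the form up to multipliers in the subfield. -/
lemma exists_ratGram [Nonempty ι] (hf : IsHermLike σ ε f) {R : Subgroup (GL ι F)}
    (hR : spanAlg R = ⊤) (F₁ : Subfield F) {B : GL ι F}
    (hB : ∀ s ∈ Geo.matrixSet R, ∀ i j,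
      ((B : Matrix ι ι F) * s * ((B⁻¹ : GL ι F) : Matrix ι ι F)) i j ∈ F₁)
    (hμ : ∀ x ∈ R, ∃ μ ∈ F₁, ∀ u v,
      f ((x : Matrix ι ι F) *ᵥ u) ((x : Matrix ι ι F) *ᵥ v) = μ * f u v) :
    ∃ ζ G, RatGram σ f F₁ B⁻¹ ζ G := by
  classical
  obtain ⟨p, hp⟩ := CharP.exists F
  haveI := Fact.mk (CharP.char_is_prime F p)
  haveI : Fintype F₁ := Fintype.ofFinite _
  haveI : CharP F₁ p := CharP.subring F p F₁.toSubring
  obtain ⟨a, -, ha⟩ := FiniteField.card F₁ p
  let φ : F →+* F := iterateFrobenius F p a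
  have hφ : ∀ x : F, x ∈ F₁ ↔ φ x = x := fun x => by
    rw [mem_subfield_iff, Nat.card_eq_fintype_card, ha]; rfl
  set b := ((B⁻¹ : GL ι F) : Matrix ι ι F) with hb
  set G' : Matrix ι ι F := bᵀ * (hf.gram : Matrix ι ι F) * σ.toRingHom.mapMatrix b with hG'
  have hf' : ∀ u v, f (b *ᵥ u) (b *ᵥ v) = sesqOf σ G' u v := fun u v => by
    rw [congrFun (congrFun hf.eq_sesqOf _) _, sesqOf_mulVec]
  have hG'u : IsUnit G' :=
    ((Matrix.isUnit_transpose _).2 (B⁻¹).isUnit).mul hf.gram.isUnit |>.mul ((B⁻¹).isUnit.map _)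
  set G₂ := φ.mapMatrix G' with hG₂
  set T := ((hG'u.unit⁻¹ : GL ι F) : Matrix ι ι F) * G₂ with hT
  have hcomm : ∀ x ∈ R, T * σ.toRingHom.mapMatrix (cj B (x : Matrix ι ι F)) =
      σ.toRingHom.mapMatrix (cj B (x : Matrix ι ι F)) * T := by
    intro x hx
    obtain ⟨μ, hμ1, hμx⟩ := hμ x hx
    set y := cj B (x : Matrix ι ι F) with hy
    have hyG : yᵀ * G' * σ.toRingHom.mapMatrix y = μ • G' := by
      refine gram_ext (σ := σ) fun u v => ?_
      rw [← sesqOf_mulVec, ← hf']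
      have hby : ∀ w, b *ᵥ (y *ᵥ w) = (x : Matrix ι ι F) *ᵥ (b *ᵥ w) := fun w => by
        rw [Matrix.mulVec_mulVec, Matrix.mulVec_mulVec, hy, cj_apply, ← hb, ← mul_assoc, ← mul_assoc,
          hb, Units.inv_mul, one_mul]
      rw [hby, hby, hμx, hf']
      simp [sesqOf, Matrix.smul_mulVec, dotProduct_smul]
    have hyφ : φ.mapMatrix y = y := Matrix.ext fun i j => (hφ _).1 (by
      have h := hB _ ⟨x, hx, rfl⟩ i j
      rwa [hy, cj_apply])
    have hyσφ : φ.mapMatrix (σ.toRingHom.mapMatrix y) = σ.toRingHom.mapMatrix y :=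
      Matrix.ext fun i j => by
        have h := congrFun (congrFun hyφ i) j
        simp only [RingHom.mapMatrix_apply, Matrix.map_apply] at h ⊢
        show φ (σ (y i j)) = σ (y i j)
        conv_rhs => rw [← h]
        simp only [φ, iterateFrobenius_def, map_pow]
    have hyG2 : yᵀ * G₂ * σ.toRingHom.mapMatrix y = μ • G₂ := by
      have h := congrArg φ.mapMatrix hyG
      rw [map_mul, map_mul, hyσφ] at h
      have h1 : φ.mapMatrix yᵀ = yᵀ := by
        conv_rhs => rw [← hyφ]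
        ext i j; simp
      have h2 : φ.mapMatrix (μ • G') = μ • G₂ := Matrix.ext fun i j => by
        simp [hG₂, (hφ μ).1 hμ1]
      rwa [h1, h2] at h
    have hyu : IsUnit y := by rw [hy]; exact x.isUnit.map _
    have hμ0 : μ ≠ 0 := fun h0 => by
      have hu := (((Matrix.isUnit_transpose _).2 hyu).mul hG'u).mul (hyu.map σ.toRingHom.mapMatrix)
      rw [hyG, h0, zero_smul] at hu
      exact hu.ne_zero rfl
    set z := σ.toRingHom.mapMatrix y with hz
    -- multiply by `yᵀ * G'` on the left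
    refine (((Matrix.isUnit_transpose _).2 hyu).mul hG'u).mul_left_cancel ?_
    have e1 : G' * T = G₂ := by
      rw [hT, ← mul_assoc, IsUnit.mul_val_inv, one_mul]
    calc yᵀ * G' * (T * z) = yᵀ * (G' * T) * z := by simp only [mul_assoc]
      _ = μ • G₂ := by rw [e1, hyG2]
      _ = μ • (G' * T) := by rw [e1]
      _ = (μ • G') * T := by rw [Matrix.smul_mul]
      _ = yᵀ * G' * (z * T) := by rw [← hyG]; simp only [mul_assoc]
  have hspan : ∀ M : Matrix ι ι F, T * M = M * T := by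
    intro M
    obtain ⟨M', rfl⟩ : ∃ M', σ.toRingHom.mapMatrix (cj B M') = M :=
      ⟨cj B⁻¹ (σ.symm.toRingHom.mapMatrix M), by
        rw [cj_cj_inv]; ext i j; simp⟩
    refine spanAlg_induction (L := R) (p := fun z => T * σ.toRingHom.mapMatrix (cj B z) =
      σ.toRingHom.mapMatrix (cj B z) * T) hcomm ?_ ?_ ?_ (hR ▸ Algebra.mem_top)
    · simp
    · intro u v hu hv; rw [map_add, map_add, mul_add, add_mul, hu, hv]
    · intro c u hu
      have hc : σ.toRingHom.mapMatrix (cj B (c • u)) = σ c • σ.toRingHom.mapMatrix (cj B u) := by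
        rw [map_smul]; ext i j; simp
      rw [hc, mul_smul_comm, smul_mul_assoc, hu]
  obtain ⟨c, hc⟩ := Matrix.mem_range_scalar_of_commute_single (M := T)
    (fun i j _ => (hspan (Matrix.single i j 1)).symm)
  have hG₂c : G₂ = c • G' := by
    have : T = c • (1 : Matrix ι ι F) := by
      rw [← hc, Matrix.scalar_apply, Matrix.smul_one_eq_diagonal]
    rw [← one_mul G₂, ← IsUnit.mul_val_inv hG'u, mul_assoc, ← hT, this, mul_smul_comm, mul_one]
  obtain ⟨i₀, j₀, hne⟩ : ∃ i j, G' i j ≠ 0 := by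
    by_contra hall
    push Not at hall
    exact hG'u.ne_zero (Matrix.ext hall)
  refine ⟨(G' i₀ j₀)⁻¹, (G' i₀ j₀)⁻¹ • G', inv_ne_zero hne, ?_, fun i j => (hφ _).2 ?_, fun u v => ?_⟩
  · rw [Matrix.isUnit_iff_isUnit_det, Matrix.det_smul, isUnit_iff_ne_zero]
    exact mul_ne_zero (pow_ne_zero _ (inv_ne_zero hne))
      ((Matrix.isUnit_iff_isUnit_det _).1 hG'u).ne_zero
  · have he : ∀ i j, φ (G' i j) = c * G' i j := fun i j => congrFun (congrFun hG₂c i) j
    have hc0 : c ≠ 0 := fun h0 => (map_ne_zero φ).2 hne (by rw [he, h0, zero_mul])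
    rw [Matrix.smul_apply, smul_eq_mul, map_mul, map_inv₀, he, he, _root_.mul_inv_rev]
    field_simp
  · rw [show f (((B⁻¹ : GL ι F) : Matrix ι ι F) *ᵥ u) (((B⁻¹ : GL ι F) : Matrix ι ι F) *ᵥ v) =
      sesqOf σ G' u v from hf' u v]
    simp [sesqOf, Matrix.smul_mulVec, dotProduct_smul]

/-- A group spanning everything that fixes a bilinear and a hermitian form is realisable over a
proper subfield. -/
lemma realisable_of_two_forms [Nonempty ι] {L : Subgroup (GL ι F)} (hL : spanAlg L = ⊤)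
    {f₁ f₂ : (ι → F) → (ι → F) → F} {τ : F ≃+* F} {e₁ e₂ : F}
    (h₁ : IsHermLike (RingEquiv.refl F) e₁ f₁) (h₂ : IsHermLike τ e₂ f₂)
    (hτ : τ ≠ RingEquiv.refl F) (hfix₁ : Geo.FixesForm (Geo.matrixSet L) f₁)
    (hfix₂ : Geo.FixesForm (Geo.matrixSet L) f₂) :
    Geo.RealisableOver (fixedField τ) (Geo.matrixSet L) ∧ fixedField τ ≠ ⊤ := by
  classical
  refine ⟨?_, fun h => hτ (RingEquiv.ext fun a => mem_fixedField.1 (h ▸ Subfield.mem_top a))⟩
  set T : GL ι F := h₂.gram⁻¹ * h₁.gram with hT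
  have hx : ∀ x ∈ L, τ.toRingHom.mapMatrix (x : Matrix ι ι F) = cj T (x : Matrix ι ι F) := by
    intro x hx
    have e : ∀ {ρ : F ≃+* F} {e : F} {g : (ι → F) → (ι → F) → F} (hg : IsHermLike ρ e g),
        Geo.FixesForm (Geo.matrixSet L) g → ρ.toRingHom.mapMatrix (x : Matrix ι ι F) =
          ((hg.gram⁻¹ : GL ι F) : Matrix ι ι F) * ((x⁻¹ : GL ι F) : Matrix ι ι F)ᵀ *
            (hg.gram : Matrix ι ι F) := by
      intro ρ e g hg hfix
      have h : (x : Matrix ι ι F)ᵀ * (hg.gram : Matrix ι ι F) *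
          ρ.toRingHom.mapMatrix (x : Matrix ι ι F) = hg.gram := by
        refine gram_ext (σ := ρ) fun u v => ?_
        rw [← sesqOf_mulVec, ← congrFun (congrFun hg.eq_sesqOf _) _,
          ← congrFun (congrFun hg.eq_sesqOf _) _, hfix _ ⟨x, hx, rfl⟩]
      have h2 : ((x⁻¹ : GL ι F) : Matrix ι ι F)ᵀ * (x : Matrix ι ι F)ᵀ = 1 := by
        rw [← Matrix.transpose_mul, Units.mul_inv, Matrix.transpose_one]
      conv_rhs => rw [← h]
      rw [show ((hg.gram⁻¹ : GL ι F) : Matrix ι ι F) * ((x⁻¹ : GL ι F) : Matrix ι ι F)ᵀ *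
          ((x : Matrix ι ι F)ᵀ * (hg.gram : Matrix ι ι F) * ρ.toRingHom.mapMatrix (x : Matrix ι ι F)) =
        ((hg.gram⁻¹ : GL ι F) : Matrix ι ι F) * (((x⁻¹ : GL ι F) : Matrix ι ι F)ᵀ *
          (x : Matrix ι ι F)ᵀ) * (hg.gram : Matrix ι ι F) * ρ.toRingHom.mapMatrix (x : Matrix ι ι F)
        by simp only [mul_assoc], h2, mul_one, Units.inv_mul, one_mul]
    have e1 := e h₁ hfix₁
    rw [show (RingEquiv.refl F).toRingHom.mapMatrix (x : Matrix ι ι F) = x from rfl] at e1
    rw [e h₂ hfix₂, cj_apply]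
    conv_rhs => rw [e1]
    rw [hT, _root_.mul_inv_rev, inv_inv, Units.val_mul, Units.val_mul]
    simp only [mul_assoc, Units.mul_inv_cancel_left, Units.mul_inv, mul_one]
  -- the semilinear map fixing `L`
  let Φ : Matrix ι ι F →+* Matrix ι ι F := (cj T⁻¹).toRingHom.comp τ.toRingHom.mapMatrix
  have hΦL : ∀ x ∈ L, Φ (x : Matrix ι ι F) = x := fun x hx' => by
    show cj T⁻¹ (τ.toRingHom.mapMatrix (x : Matrix ι ι F)) = x
    rw [hx x hx', cj_inv_cj]
  have hΦsmul : ∀ (c : F) M, Φ (c • M) = τ c • Φ M := fun c M => by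
    show cj T⁻¹ (τ.toRingHom.mapMatrix (c • M)) = _
    rw [show τ.toRingHom.mapMatrix (c • M) = τ c • τ.toRingHom.mapMatrix M by ext i j; simp, map_smul]
    rfl
  have hspan : Submodule.span F (Geo.matrixSet L) = ⊤ := by
    refine eq_top_iff.2 fun y _ => ?_
    exact spanAlg_induction (p := fun z => z ∈ Submodule.span F (Geo.matrixSet L))
      (fun g hg => Submodule.subset_span ⟨g, hg, rfl⟩) (zero_mem _) (fun _ _ => add_mem)
      (fun c _ h => Submodule.smul_mem _ c h) (hL ▸ Algebra.mem_top : y ∈ spanAlg L)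
  obtain ⟨b, hbL, hbspan, hbind⟩ := exists_linearIndependent F (Geo.matrixSet L)
  haveI : Fintype b := Fintype.ofFinite _
  let t : b → Matrix ι ι F := fun i => i.1
  have hspan' : Submodule.span F (Set.range t) = ⊤ := by
    rw [show Set.range t = b from Subtype.range_coe, hbspan, hspan]
  have hfixed : ∀ M, Φ M = M → M ∈ Submodule.span (fixedField τ) (Set.range t) := by
    intro M hM
    obtain ⟨c, hc⟩ := (Submodule.mem_span_range_iff_exists_fun F).1 (hspan'.ge (Submodule.mem_top : M ∈ ⊤))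
    have h := congrArg Φ hc
    rw [hM, map_sum] at h
    have h' : ∑ i, τ (c i) • t i = ∑ i, c i • t i := by
      refine Eq.trans (Finset.sum_congr rfl fun i _ => ?_) (h.trans hc.symm)
      rw [hΦsmul]
      congr 1
      obtain ⟨g, hg, hgi⟩ := hbL i.2
      rw [show t i = (g : Matrix ι ι F) from hgi.symm, hΦL g hg]
    rw [← hc]
    refine sum_mem fun i _ => ?_
    exact Submodule.smul_mem _ (⟨c i, mem_fixedField.2 (hbind.eq_coords_of_eq h' i)⟩ : fixedField τ)
      (Submodule.subset_span ⟨i, rfl⟩)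
  obtain ⟨B, hB⟩ := exists_realise (fixedField τ) t hbind hspan' (hfixed 1 (map_one _))
    (fun i j => by
      obtain ⟨g, hg, hgi⟩ := hbL i.2
      obtain ⟨k, hk, hkj⟩ := hbL j.2
      refine hfixed _ ?_
      rw [show t i = (g : Matrix ι ι F) from hgi.symm, show t j = (k : Matrix ι ι F) from hkj.symm,
        map_mul, hΦL g hg, hΦL k hk])
  refine ⟨B, fun s hs i j => ?_⟩
  obtain ⟨g, hg, rfl⟩ := hs
  exact hB _ (hfixed _ (hΦL g hg)) i j

/-! ### Hermitian forms -/

variable {F₁ : Subfield F} {P : GL ι F} {ζ : F} {G : Matrix ι ι F}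

/-- For an odd index the form itself is rational. -/
lemma RatGram.normalise_odd [Nonempty ι] (hσ : σ ≠ RingEquiv.refl F) (hf : IsHermLike σ 1 f)
    (h : RatGram σ f F₁ P ζ G) {r : ℕ} (hr : Odd r) (hcard : Fintype.card F = Nat.card F₁ ^ r) :
    ∃ z ∈ Geo.scalars ι F, ∃ G₂, RatGram σ f F₁ (P * z) 1 G₂ := by
  classical
  have hσmem : ∀ y, y ∈ F₁ → σ y ∈ F₁ := fun y hy => by
    rw [mem_subfield_iff] at hy ⊢
    rw [← map_pow, hy]
  obtain ⟨y₀, hy₀, hy₀σ⟩ : ∃ y ∈ F₁, σ y ≠ y := by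
    by_contra hc
    push Not at hc
    let ψ : F₁ →+* fixedField σ :=
      { toFun := fun y => ⟨y.1, mem_fixedField.2 (hc y.1 y.2)⟩
        map_one' := rfl
        map_mul' := fun _ _ => rfl
        map_zero' := rfl
        map_add' := fun _ _ => rfl }
    letI : Algebra F₁ (fixedField σ) := ψ.toAlgebra
    have h1 := Module.natCard_eq_pow_finrank (K := F₁) (V := fixedField σ)
    have h2 := card_eq_sq hσ hf.invol
    rw [Nat.card_eq_fintype_card, hcard, h1, ← pow_mul] at h2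
    have h3 := Nat.pow_right_injective (Finite.one_lt_card : 2 ≤ Nat.card F₁) h2
    obtain ⟨j, hj⟩ := hr
    omega
  have hσζ : σ ζ ≠ 0 := (map_ne_zero σ.toRingHom).2 h.ne_zero
  set c := 1 * ζ / σ ζ with hc
  have hcmem : c ∈ F₁ := by
    obtain ⟨i, j, hij⟩ : ∃ i j, G i j ≠ 0 := by
      by_contra hall
      push Not at hall
      exact h.isUnit.ne_zero (Matrix.ext hall)
    have h' := congrFun (congrFun (h.transpose_eq hf) j) i
    simp only [Matrix.transpose_apply, Matrix.smul_apply, RingHom.mapMatrix_apply,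
      Matrix.map_apply, smul_eq_mul] at h'
    have hne : σ (G j i) ≠ 0 := fun h0 => hij (by rw [h']; simp [h0])
    have h'' : c = G i j / σ (G j i) := by
      rw [eq_div_iff hne]; exact h'.symm
    rw [h'']
    exact div_mem (h.entries i j) (hσmem _ (h.entries j i))
  have hcc : c * σ c = 1 := by
    rw [hc, map_div₀, map_mul, map_one, hf.invol]
    have := h.ne_zero
    field_simp
  obtain ⟨e, he, he0, hec⟩ : ∃ e ∈ F₁, e ≠ 0 ∧ σ e = c * e := by
    obtain ⟨y, hy, hne⟩ : ∃ y ∈ F₁, y + σ c * σ y ≠ 0 := by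
      by_contra hall
      push Not at hall
      have h1 := hall 1 (one_mem _)
      rw [map_one, mul_one] at h1
      refine hy₀σ ?_
      linear_combination (σ y₀) * h1 - hall y₀ hy₀
    refine ⟨_, add_mem hy (mul_mem (hσmem _ hcmem) (hσmem _ hy)), hne, ?_⟩
    rw [map_add, map_mul, hf.invol, hf.invol]
    linear_combination -(σ y) * hcc
  have h' := h.smul he he0
  have hfix : σ (e * ζ) = e * ζ := by
    rw [map_mul, hec, hc]
    field_simp
  obtain ⟨a, ha⟩ := exists_norm hσ hf.invol (e * ζ) hfix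
  have ha0 : a ≠ 0 := fun h0 => h'.ne_zero (by rw [← ha, h0, zero_mul])
  refine ⟨_, ⟨Units.mk0 a ha0, rfl⟩, e • G, ?_⟩
  have h2 := h'.scale hf ha0
  rwa [ha, div_self h'.ne_zero] at h2

/-- Over the fixed field the form is symmetric or skew. -/
lemma RatGram.normalise_two [Nonempty ι] (hσ : σ ≠ RingEquiv.refl F) (hf : IsHermLike σ 1 f)
    (h : RatGram σ f F₁ P ζ G) (hcard : Fintype.card F = Nat.card F₁ ^ 2) :
    (∀ y ∈ F₁, σ y = y) ∧
      ((Gᵀ = G ∧ ∃ z ∈ Geo.scalars ι F, RatGram σ f F₁ (P * z) 1 G) ∨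
        (Gᵀ = -G ∧ ζ + σ ζ = 0)) := by
  classical
  have hF₁ : Nat.card F₁ = Nat.card (fixedField σ) := by
    have h2 := card_eq_sq hσ hf.invol
    rw [Nat.card_eq_fintype_card, hcard] at h2
    exact Nat.pow_left_injective two_ne_zero h2
  have hfix : ∀ y ∈ F₁, σ y = y := fun y hy => by
    rw [← mem_fixedField, mem_subfield_iff, ← hF₁, ← mem_subfield_iff]
    exact hy
  refine ⟨hfix, ?_⟩
  have hσG : σ.toRingHom.mapMatrix G = G := Matrix.ext fun i j => hfix _ (h.entries i j)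
  have hT := h.transpose_eq hf
  rw [hσG] at hT
  have hσζ : σ ζ ≠ 0 := (map_ne_zero σ.toRingHom).2 h.ne_zero
  set c := 1 * ζ / σ ζ with hc
  obtain ⟨i, j, hij⟩ : ∃ i j, G i j ≠ 0 := by
    by_contra hall
    push Not at hall
    exact h.isUnit.ne_zero (Matrix.ext hall)
  have hcc : c * c = 1 := by
    have h1 := congrFun (congrFun hT j) i
    have h2 := congrFun (congrFun hT i) j
    simp only [Matrix.transpose_apply, Matrix.smul_apply, smul_eq_mul] at h1 h2
    rw [h2] at h1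
    exact mul_right_cancel₀ hij (by linear_combination -h1)
  rcases mul_self_eq_one_iff.1 hcc with h1 | h1
  · refine Or.inl ⟨by rw [hT, h1, one_smul], ?_⟩
    have hζ : σ ζ = ζ := by
      rw [hc, one_mul, div_eq_one_iff_eq hσζ] at h1
      exact h1.symm
    obtain ⟨a, ha⟩ := exists_norm hσ hf.invol ζ hζ
    have ha0 : a ≠ 0 := fun h0 => h.ne_zero (by rw [← ha, h0, zero_mul])
    refine ⟨_, ⟨Units.mk0 a ha0, rfl⟩, ?_⟩
    have h2 := h.scale hf ha0
    rwa [ha, div_self h.ne_zero] at h2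
  · refine Or.inr ⟨by rw [hT, h1, neg_one_smul], ?_⟩
    rw [hc, one_mul, div_eq_iff hσζ] at h1
    linear_combination h1

end Cfsg.Agent.Aschbacher
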