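import Cfsg.Agent.Lib.Aschbacher.Group
import Cfsg.Agent.Lib.Aschbacher.BilinForm

/-!
Normalisers of a tensor factor: they lie in tensor product, tensor wreath or similarity groups.
-/

set_option autoImplicit false

namespace Cfsg.Agent.Aschbacher

open scoped MatrixGroups Matrix Kronecker
open Matrix

variable {ι : Type} [Fintype ι] [DecidableEq ι] {F : Type*} [Field F]

/-- The Gram matrix `G` moved along the change of basis `P`. -/
def congrGram (P : GL ι F) (G : Matrix ι ι F) : Matrix ι ι F :=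
  ((P⁻¹ : GL ι F) : Matrix ι ι F)ᵀ * G * ((P⁻¹ : GL ι F) : Matrix ι ι F)

lemma congrGram_isUnit (P : GL ι F) {G : Matrix ι ι F} (hG : IsUnit G) :
    IsUnit (congrGram P G) := by
  refine IsUnit.mul (IsUnit.mul ?_ hG) (P⁻¹).isUnit
  rw [Matrix.isUnit_iff_isUnit_det, Matrix.det_transpose, ← Matrix.isUnit_iff_isUnit_det]
  exact (P⁻¹).isUnit

lemma congrGram_transpose (P : GL ι F) {G : Matrix ι ι F} (h : Gᵀ = G) :
    (congrGram P G)ᵀ = congrGram P G := by
  simp [congrGram, Matrix.transpose_mul, h, mul_assoc]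

lemma congrGram_transpose_neg (P : GL ι F) {G : Matrix ι ι F} (h : Gᵀ = -G) :
    (congrGram P G)ᵀ = -congrGram P G := by
  simp [congrGram, Matrix.transpose_mul, h, mul_assoc]

lemma formOf_congrGram (P : GL ι F) (G : Matrix ι ι F) (u v : ι → F) :
    formOf (congrGram P G) u v = formOf G (((P⁻¹ : GL ι F) : Matrix ι ι F) *ᵥ u)
      (((P⁻¹ : GL ι F) : Matrix ι ι F) *ᵥ v) :=
  (formOf_mulVec G _ u v).symm

omit [Fintype ι] [DecidableEq ι] in
lemma transpose_neg_of_symm {G : Matrix ι ι F} (h : Gᵀ = G) (h2 : (2 : F) = 0) : Gᵀ = -G := by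
  ext i j
  rw [h, Matrix.neg_apply, eq_neg_iff_add_eq_zero, ← two_mul, h2, zero_mul]

lemma congrGram_diag (P : GL ι F) {G : Matrix ι ι F} (h : Gᵀ = -G) (hd : ∀ i, G i i = 0) (i : ι) :
    congrGram P G i i = 0 := by
  have h1 : formOf (congrGram P G) (Pi.single i 1) (Pi.single i 1) = congrGram P G i i := by
    simp [formOf, single_dotProduct]
  rw [← h1, formOf_congrGram, formOf_self_eq_zero h hd]

lemma cj_gram (P : GL ι F) {G M : Matrix ι ι F} {c : F} (h : Mᵀ * G * M = c • G) :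
    (cj P M)ᵀ * congrGram P G * cj P M = c • congrGram P G := by
  calc (cj P M)ᵀ * congrGram P G * cj P M
      = ((P⁻¹ : GL ι F) : Matrix ι ι F)ᵀ * (Mᵀ *
          (((P⁻¹ : GL ι F) : Matrix ι ι F) * (P : Matrix ι ι F))ᵀ * G *
          (((P⁻¹ : GL ι F) : Matrix ι ι F) * (P : Matrix ι ι F)) * M) *
          ((P⁻¹ : GL ι F) : Matrix ι ι F) := by
        simp only [congrGram, cj_apply, Matrix.transpose_mul, mul_assoc]
    _ = c • congrGram P G := by
        rw [Units.inv_mul, Matrix.transpose_one, mul_one, mul_one, h, congrGram]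
        simp

section Normaliser

variable {κ β : Type} [Fintype κ] [DecidableEq κ] [Fintype β] [DecidableEq β]

/-- The Kronecker product of two invertible matrices, as an invertible matrix. -/
def kronGL (a : GL κ F) (b : GL β F) : GL (κ × β) F where
  val := (a : Matrix κ κ F) ⊗ₖ (b : Matrix β β F)
  inv := ((a⁻¹ : GL κ F) : Matrix κ κ F) ⊗ₖ ((b⁻¹ : GL β F) : Matrix β β F)
  val_inv := by simp [← Matrix.mul_kronecker_mul]
  inv_val := by simp [← Matrix.mul_kronecker_mul]

/-- The normaliser of a tensor factor consists of tensor products. -/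
lemma exists_kron_of_normalises [Nonempty κ] [Nonempty β] (eq : ι ≃ κ × β) (P : GL ι F)
    {g : GL ι F} (hg : ∀ X, cj g (kemb eq P X) ∈ (kemb eq P).range) :
    ∃ (a : GL κ F) (b : GL β F), (g : Matrix ι ι F) =
      cj P (((a : Matrix κ κ F) ⊗ₖ (b : Matrix β β F)).submatrix eq eq) := by
  have hg' : ∀ X, ∃ Y, kemb eq P Y = cj g (kemb eq P X) := hg
  choose f hf using hg'
  let φ : Matrix κ κ F →ₐ[F] Matrix κ κ F :=
    { toFun := f
      map_one' := kemb_injective eq P (by simp [hf])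
      map_mul' := fun X Y => kemb_injective eq P (by rw [hf, map_mul, map_mul, map_mul, hf, hf])
      map_zero' := kemb_injective eq P (by rw [hf, map_zero, map_zero])
      map_add' := fun X Y => kemb_injective eq P (by rw [hf, map_add, map_add, map_add, hf, hf])
      commutes' := fun r => kemb_injective eq P (by rw [hf]; simp [AlgHom.commutes]) }
  obtain ⟨a, ha⟩ := exists_cj_of_algHom φ
  let x : GL ι F := Units.map (kemb eq P).toRingHom.toMonoidHom a
  have hx : ∀ X, cj x (kemb eq P X) = kemb eq P (cj a X) := fun X => by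
    simp [cj_apply, x, map_mul]
  have hy : ∀ X, cj (x⁻¹ * g) (kemb eq P X) = kemb eq P X := fun X => by
    rw [cj_mul, ← hf, show f X = cj a X from ha X, ← hx, cj_inv_cj]
  have hy' : ∀ X, cj (x⁻¹ * g)⁻¹ (kemb eq P X) = kemb eq P X := fun X => by
    conv_lhs => rw [← hy X]
    rw [cj_inv_cj]
  obtain ⟨Y, hY⟩ := exists_kembR_of_comm eq P _ fun i j => (cj_eq_self_iff _ _).1 (hy _)
  obtain ⟨Y', hY'⟩ := exists_kembR_of_comm eq P _ fun i j => (cj_eq_self_iff _ _).1 (hy' _)
  let b : GL β F :=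
    ⟨Y, Y', kembR_injective eq P (by rw [map_mul, ← hY, ← hY', Units.mul_inv, map_one]),
      kembR_injective eq P (by rw [map_mul, ← hY, ← hY', Units.inv_mul, map_one])⟩
  refine ⟨a, b, ?_⟩
  rw [← kemb_mul_kembR, show kembR eq P (b : Matrix β β F) = _ from hY.symm,
    show kemb eq P (a : Matrix κ κ F) = (x : Matrix ι ι F) from rfl, ← Units.val_mul,
    mul_inv_cancel_left]

lemma eq_conj_glReindex (eq : ι ≃ κ) (P : GL ι F) (k : GL κ F) {g : GL ι F}
    (h : (g : Matrix ι ι F) = cj P ((k : Matrix κ κ F).submatrix eq eq)) :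
    g = MulAut.conj P (Geo.glReindex eq.symm k) :=
  Units.ext (by rw [h]; simp [Geo.glReindex, cj_apply])

end Normaliser

variable {H : Subgroup (GL ι F)}

lemma mem_tensorProduct_of_kron {n₁ n₂ : ℕ} (eq : ι ≃ Fin n₁ × Fin n₂) (P : GL ι F) {g : GL ι F}
    (a : GL (Fin n₁) F) (b : GL (Fin n₂) F) (h : (g : Matrix ι ι F) =
      cj P (((a : Matrix (Fin n₁) (Fin n₁) F) ⊗ₖ (b : Matrix (Fin n₂) (Fin n₂) F)).submatrix eq eq)) :
    g ∈ Geo.tensorProductSubgroup n₁ n₂ eq P := by
  rw [eq_conj_glReindex eq P (kronGL a b) h]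
  exact Subgroup.mem_map_of_mem _ (Subgroup.mem_map_of_mem _ ⟨a, b, rfl⟩)

lemma le_tensorProduct {n₁ n₂ : ℕ} [NeZero n₁] [NeZero n₂] (eq : ι ≃ Fin n₁ × Fin n₂)
    (P : GL ι F) (hN : Normalises H ((kemb eq P).range : Set (Matrix ι ι F))) :
    H ≤ Geo.tensorProductSubgroup n₁ n₂ eq P := by
  intro g hg
  obtain ⟨a, b, h⟩ := exists_kron_of_normalises eq P fun X => hN g hg _ ⟨X, rfl⟩
  exact mem_tensorProduct_of_kron eq P a b h

lemma le_tensorProduct_swap {n₁ n₂ : ℕ} [NeZero n₁] [NeZero n₂] (eq : ι ≃ Fin n₁ × Fin n₂)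
    (P : GL ι F) (hN : Normalises H ((kemb eq P).range : Set (Matrix ι ι F))) :
    H ≤ Geo.tensorProductSubgroup n₂ n₁ (eq.trans (Equiv.prodComm _ _)) P := by
  intro g hg
  obtain ⟨a, b, h⟩ := exists_kron_of_normalises eq P fun X => hN g hg _ ⟨X, rfl⟩
  refine mem_tensorProduct_of_kron _ P b a ?_
  rw [h]
  congr 1
  ext r c
  simp [mul_comm]

lemma le_tensorWreath_two {m : ℕ} [NeZero m] (eq : ι ≃ Fin m × Fin m)
    (P : GL ι F) (hN : Normalises H ((kemb eq P).range : Set (Matrix ι ι F))) :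
    H ≤ Geo.tensorWreathSubgroup m 2 (eq.trans (finTwoArrowEquiv (Fin m)).symm) P := by
  intro g hg
  obtain ⟨a, b, h⟩ := exists_kron_of_normalises eq P fun X => hN g hg _ ⟨X, rfl⟩
  let k : GL (Fin 2 → Fin m) F := Geo.glReindex (finTwoArrowEquiv (Fin m)).symm (kronGL a b)
  rw [eq_conj_glReindex (eq.trans (finTwoArrowEquiv (Fin m)).symm) P k (g := g)]
  · refine Subgroup.mem_map_of_mem _ (Subgroup.mem_map_of_mem _ (Subgroup.subset_closure (Or.inl ?_)))
    exact ⟨![a, b], fun x y => by simp [k, Geo.glReindex, kronGL, Fin.prod_univ_two]⟩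
  · rw [h]
    congr 1

/-! ### Two factors of dimension two -/

/-- The alternating Gram matrix in dimension two. -/
def J2 (F : Type*) [Field F] : Matrix (Fin 2) (Fin 2) F := !![0, 1; -1, 0]

lemma J2_transpose : (J2 F)ᵀ = -J2 F := by
  ext i j; fin_cases i <;> fin_cases j <;> simp [J2]

lemma J2_isUnit : IsUnit (J2 F) := by
  rw [Matrix.isUnit_iff_isUnit_det]; simp [J2, Matrix.det_fin_two]

lemma J2_gram (a : Matrix (Fin 2) (Fin 2) F) : aᵀ * J2 F * a = a.det • J2 F := by
  ext i j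
  fin_cases i <;> fin_cases j <;>
    simp [J2, Matrix.mul_apply, Fin.sum_univ_two, Matrix.det_fin_two] <;> ring

/-- The form `J2 ⊗ J2` on `ι`. -/
def jjGram (eq : ι ≃ Fin 2 × Fin 2) (P : GL ι F) : Matrix ι ι F :=
  congrGram P ((J2 F ⊗ₖ J2 F).submatrix eq eq)

lemma le_jj_similarity (eq : ι ≃ Fin 2 × Fin 2)
    (P : GL ι F) (hN : Normalises H ((kemb eq P).range : Set (Matrix ι ι F))) :
    H ≤ Geo.similarityGroup (formOf (jjGram eq P)) ∧
      H ≤ Geo.quadSimilarityGroup (fun v => formOf (jjGram eq P) v v) := by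
  have key : ∀ g ∈ H, ∃ c : F, c ≠ 0 ∧
      (g : Matrix ι ι F)ᵀ * jjGram eq P * (g : Matrix ι ι F) = c • jjGram eq P := by
    intro g hg
    obtain ⟨a, b, h⟩ := exists_kron_of_normalises eq P fun X => hN g hg _ ⟨X, rfl⟩
    refine ⟨(a : Matrix (Fin 2) (Fin 2) F).det * (b : Matrix (Fin 2) (Fin 2) F).det,
      mul_ne_zero ?_ ?_, ?_⟩
    · exact (Matrix.isUnit_iff_isUnit_det _).1 a.isUnit |>.ne_zero
    · exact (Matrix.isUnit_iff_isUnit_det _).1 b.isUnit |>.ne_zero
    rw [h]
    refine cj_gram P ?_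
    rw [Matrix.transpose_submatrix, Matrix.submatrix_mul_equiv, Matrix.submatrix_mul_equiv,
      ← Matrix.kroneckerMap_transpose, ← Matrix.mul_kronecker_mul, ← Matrix.mul_kronecker_mul,
      J2_gram, J2_gram, Matrix.smul_kronecker, Matrix.kronecker_smul, smul_smul]
    ext r c
    simp
  constructor <;> intro g hg <;> obtain ⟨c, hc, h⟩ := key g hg
  · exact mem_similarity_of_gram hc h
  · exact mem_quadSimilarity_of_gram hc h

lemma jjGram_props (eq : ι ≃ Fin 2 × Fin 2) (P : GL ι F) :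
    IsUnit (jjGram eq P) ∧ (jjGram eq P)ᵀ = jjGram eq P ∧
      ((2 : F) = 0 → Geo.IsSymplecticForm (formOf (jjGram eq P))) := by
  have hu : IsUnit ((J2 F ⊗ₖ J2 F).submatrix eq eq) := by
    rw [Matrix.isUnit_submatrix_equiv, Matrix.isUnit_iff_isUnit_det, Matrix.det_kronecker]
    exact ((Matrix.isUnit_iff_isUnit_det _).1 J2_isUnit).pow _ |>.mul
      (((Matrix.isUnit_iff_isUnit_det _).1 J2_isUnit).pow _)
  have hs : ((J2 F ⊗ₖ J2 F).submatrix eq eq)ᵀ = (J2 F ⊗ₖ J2 F).submatrix eq eq := by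
    rw [Matrix.transpose_submatrix, ← Matrix.kroneckerMap_transpose, J2_transpose]
    ext r c
    simp
  refine ⟨congrGram_isUnit P hu, congrGram_transpose P hs, fun h2 => ?_⟩
  have hn := transpose_neg_of_symm hs h2
  refine formOf_symplectic (congrGram_isUnit P hu) (congrGram_transpose_neg P hn)
    (congrGram_diag P hn fun i => ?_)
  rw [Matrix.submatrix_apply, Matrix.kroneckerMap_apply]
  generalize (eq i).1 = x
  generalize (eq i).2 = y
  fin_cases x <;> simp [J2]

end Cfsg.Agent.Aschbacher
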