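import Cfsg.Agent.Lib.Aschbacher.SymplCase
import Cfsg.Agent.Lib.Aschbacher.Tensor
import Cfsg.Agent.Lib.Aschbacher.FormRational

/-!
Groups of similitudes with an abelian minimal normal subgroup modulo scalars.
-/

set_option autoImplicit false
set_option linter.style.haveILetI false

namespace Cfsg.Agent.Aschbacher

open scoped MatrixGroups Matrix commutatorElement
open Matrix
open Cfsg.Agent.Transvec.Herm (fixedField mem_fixedField exists_norm card_eq_sq apply_eq_pow)

variable {ι : Type} [Fintype ι] [DecidableEq ι] {F : Type*} [Field F]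
variable {σ : F ≃+* F} {ε : F} {f : (ι → F) → (ι → F) → F}

/-- The isometries of a form. -/
abbrev isoGroup (f : (ι → F) → (ι → F) → F) : Subgroup (GL ι F) := preserving (glToMat ι F) f

lemma isoGroup_le (f : (ι → F) → (ι → F) → F) : isoGroup f ≤ Geo.similarityGroup f :=
  fun _ hg => ⟨1, fun u v => by rw [Units.val_one, one_mul]; exact hg u v⟩

lemma conj_mem_isoGroup {g x : GL ι F} (hg : g ∈ Geo.similarityGroup f) (hx : x ∈ isoGroup f) :
    g * x * g⁻¹ ∈ isoGroup f := by
  obtain ⟨c, hc⟩ := hg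
  intro u v
  have e : ∀ w, ((g * x * g⁻¹ : GL ι F) : Matrix ι ι F) *ᵥ w = (g : Matrix ι ι F) *ᵥ
      ((x : Matrix ι ι F) *ᵥ (((g⁻¹ : GL ι F) : Matrix ι ι F) *ᵥ w)) := fun w => by
    rw [Matrix.mulVec_mulVec, Matrix.mulVec_mulVec, Units.val_mul, Units.val_mul]
  have e' : ∀ w, w = (g : Matrix ι ι F) *ᵥ (((g⁻¹ : GL ι F) : Matrix ι ι F) *ᵥ w) := fun w => by
    rw [Matrix.mulVec_mulVec, Units.mul_inv, Matrix.one_mulVec]
  show f (((g * x * g⁻¹ : GL ι F) : Matrix ι ι F) *ᵥ u)
    (((g * x * g⁻¹ : GL ι F) : Matrix ι ι F) *ᵥ v) = _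
  rw [e, e, hc]
  conv_rhs => rw [e' u, e' v, hc]
  congr 1
  exact hx _ _

/-- A symmetric Gram matrix in characteristic two preserved by an irreducible group is alternate. -/
lemma diag_eq_zero_of_irred [Fintype F] (h2 : (2 : F) = 0) (hn : 1 < Fintype.card ι)
    {L : Subgroup (GL ι F)} (hirr : Geo.ActsIrreducibly (Geo.matrixSet L)) {G : Matrix ι ι F}
    (hsym : Gᵀ = G) (hfix : L ≤ Geo.similarityGroup (formOf G)) (i : ι) : G i i = 0 := by
  classical
  have hb := formOf_bilinear G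
  have hadd : ∀ u v, formOf G (u + v) (u + v) = formOf G u u + formOf G v v := fun u v => by
    rw [hb.add_left, hb.add_right, hb.add_right, formOf_symm hsym v u]
    linear_combination (formOf G u v) * h2
  let W : Submodule F (ι → F) :=
    { carrier := {v | formOf G v v = 0}
      add_mem' := fun {a b} ha hb' => by
        show formOf G (a + b) (a + b) = 0
        rw [hadd, ha, hb', add_zero]
      zero_mem' := by simp [formOf]
      smul_mem' := fun c v hv => by
        show formOf G (c • v) (c • v) = 0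
        rw [hb.smul_left, hb.smul_right, hv, mul_zero, mul_zero] }
  have hW : W ≠ ⊥ := by
    intro hbot
    have hinj : Function.Injective fun v : ι → F => formOf G v v := fun a b hab => by
      have h : a + b ∈ W := by
        show formOf G (a + b) (a + b) = 0
        rw [hadd, show formOf G a a = formOf G b b from hab, ← two_mul, h2, zero_mul]
      rw [hbot, Submodule.mem_bot] at h
      funext j
      have hj : a j + b j = 0 := congrFun h j
      linear_combination hj - (b j) * h2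
    have hle := Fintype.card_le_of_injective _ hinj
    rw [Fintype.card_fun] at hle
    have hlt : Fintype.card F < Fintype.card F ^ Fintype.card ι :=
      lt_self_pow₀ Fintype.one_lt_card hn
    omega
  obtain ⟨w, hw, hw0⟩ := Submodule.exists_mem_ne_zero_of_ne_bot hW
  have hWtop := eq_top_of_invariant hirr (W := W) (by
    rintro _ ⟨g, hg, rfl⟩ v hv
    obtain ⟨c, hc⟩ := hfix hg
    show formOf G _ _ = 0
    rw [hc, hv, mul_zero]) hw hw0
  have h : formOf G (Pi.single i 1) (Pi.single i 1) = 0 :=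
    hWtop.ge (Submodule.mem_top : (Pi.single i 1 : ι → F) ∈ ⊤)
  simpa [formOf, single_dotProduct] using h

namespace IsHermLike

variable (hf : IsHermLike σ ε f)
include hf

omit [DecidableEq ι] in
lemma exists_ne_zero [Nonempty ι] : ∃ u v, f u v ≠ 0 := by
  classical
  obtain ⟨i⟩ := ‹Nonempty ι›
  obtain ⟨⟨u, hu⟩, -⟩ := hf.nondegenerate (Pi.single i (1 : F))
    (fun h => by simpa using congrFun h i)
  exact ⟨u, _, hu⟩

lemma mult_pow [Nonempty ι] {x : GL ι F} {μ : F} {z : ℕ} (hx : x ^ z = 1)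
    (hμ : ∀ u v, f ((x : Matrix ι ι F) *ᵥ u) ((x : Matrix ι ι F) *ᵥ v) = μ * f u v) :
    μ ^ z = 1 := by
  have h : ∀ j : ℕ, ∀ u v, f (((x ^ j : GL ι F) : Matrix ι ι F) *ᵥ u)
      (((x ^ j : GL ι F) : Matrix ι ι F) *ᵥ v) = μ ^ j * f u v := by
    intro j
    induction j with
    | zero => simp
    | succ j ih =>
      intro u v
      rw [pow_succ', pow_succ', Units.val_mul, ← Matrix.mulVec_mulVec, ← Matrix.mulVec_mulVec, hμ,
        ih, mul_assoc]
  obtain ⟨u, v, huv⟩ := hf.exists_ne_zero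
  have h' := h z u v
  rw [hx, Units.val_one, Matrix.one_mulVec, Matrix.one_mulVec] at h'
  exact (mul_eq_right₀ huv).1 h'.symm

lemma apply_sc (c : Fˣ) (g : GL ι F) (u v : ι → F) :
    f (((sc ι c * g : GL ι F) : Matrix ι ι F) *ᵥ u) (((sc ι c * g : GL ι F) : Matrix ι ι F) *ᵥ v) =
      (c : F) * σ (c : F) * f ((g : Matrix ι ι F) *ᵥ u) ((g : Matrix ι ι F) *ᵥ v) := by
  rw [sc_mul_val, Matrix.smul_mulVec, Matrix.smul_mulVec, hf.smul_left, hf.smul_right, mul_assoc]

lemma sc_mem_isoGroup [Nonempty ι] {c : Fˣ} :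
    sc ι c ∈ isoGroup f ↔ (c : F) * σ (c : F) = 1 := by
  constructor
  · intro h
    obtain ⟨u, v, huv⟩ := hf.exists_ne_zero
    have h' : f ((sc ι c : GL ι F) *ᵥ u : ι → F) ((sc ι c : GL ι F) *ᵥ v) = f u v := h u v
    rw [sc_val, Matrix.smul_mulVec, Matrix.smul_mulVec, Matrix.one_mulVec, Matrix.one_mulVec,
      hf.smul_left, hf.smul_right, ← mul_assoc] at h'
    exact (mul_eq_right₀ huv).1 h'
  · intro h u v
    show f ((sc ι c : GL ι F) *ᵥ u : ι → F) ((sc ι c : GL ι F) *ᵥ v) = f u v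
    rw [sc_val, Matrix.smul_mulVec, Matrix.smul_mulVec, Matrix.one_mulVec, Matrix.one_mulVec,
      hf.smul_left, hf.smul_right, ← mul_assoc, h, one_mul]

/-- Commutator scalars have norm one. -/
lemma comm_norm [Nonempty ι] {x y : GL ι F} (hx : x ∈ Geo.similarityGroup f)
    (hy : y ∈ Geo.similarityGroup f) {c : Fˣ} (h : y * x = sc ι c * (x * y)) :
    (c : F) * σ (c : F) = 1 := by
  obtain ⟨a, ha⟩ := hx
  obtain ⟨b, hb⟩ := hy
  obtain ⟨u, v, huv⟩ := hf.exists_ne_zero
  have h1 := congrArg (fun g : GL ι F => f ((g : Matrix ι ι F) *ᵥ u) ((g : Matrix ι ι F) *ᵥ v)) h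
  simp only [hf.apply_sc] at h1
  simp only [Units.val_mul, ← Matrix.mulVec_mulVec, ha, hb] at h1
  refine mul_right_cancel₀ (mul_ne_zero a.ne_zero (mul_ne_zero b.ne_zero huv)) ?_
  linear_combination -h1

end IsHermLike

namespace AbSetup

variable [Fintype F] {H N : Subgroup (GL ι F)}

/-- A group meeting every coset of the scalars is realisable over any subfield containing its
scalars. -/
lemma exists_realise_reps (S : AbSetup H N) {R : Subgroup (GL ι F)} (hRN : R ≤ N) (t : S.Q → N)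
    (ht : ∀ a, (QuotientGroup.mk (t a) : S.Q) = a) (htR : ∀ a, (t a : GL ι F) ∈ R)
    (F₁ : Subfield F) (hcF : ∀ c : Fˣ, sc ι c ∈ R → (c : F) ∈ F₁) :
    ∃ B : GL ι F, ∀ s ∈ Geo.matrixSet R, ∀ i j,
      ((B : Matrix ι ι F) * s * ((B⁻¹ : GL ι F) : Matrix ι ι F)) i j ∈ F₁ := by
  classical
  haveI := S.nonempty
  haveI := Fintype.ofFinite S.Q
  have hind := S.linearIndependent_reps t ht
  have hspan := S.span_reps t ht
  have hmem : ∀ x ∈ R, (x : Matrix ι ι F) ∈
      Submodule.span F₁ (Set.range fun a => ((t a : GL ι F) : Matrix ι ι F)) := by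
    intro x hx
    obtain ⟨c, hc⟩ := exists_sc
      ((S.mk_eq_iff (t (QuotientGroup.mk ⟨x, hRN hx⟩)) ⟨x, hRN hx⟩).1 (ht _))
    have hcR : sc ι c ∈ R := hc ▸ mul_mem (inv_mem (htR _)) hx
    have hx' : x = sc ι c * (t (QuotientGroup.mk ⟨x, hRN hx⟩) : GL ι F) := by
      rw [sc_comm, ← hc, mul_inv_cancel_left]
    rw [hx', sc_mul_val]
    exact Submodule.smul_mem _ (⟨(c : F), hcF c hcR⟩ : F₁) (Submodule.subset_span ⟨_, rfl⟩)
  obtain ⟨B, hB⟩ := exists_realise F₁ _ hind hspan (by simpa using hmem 1 (one_mem R))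
    (fun a b => hmem _ (mul_mem (htR a) (htR b)))
  exact ⟨B, by rintro _ ⟨x, hx, rfl⟩ i j; exact hB _ (hmem x hx) i j⟩

lemma spanAlg_reps (S : AbSetup H N) {R : Subgroup (GL ι F)} (t : S.Q → N)
    (ht : ∀ a, (QuotientGroup.mk (t a) : S.Q) = a) (htR : ∀ a, (t a : GL ι F) ∈ R) :
    spanAlg R = ⊤ := by
  refine Algebra.eq_top_iff.2 fun x => ?_
  have hle : Submodule.span F (Set.range fun a => ((t a : GL ι F) : Matrix ι ι F)) ≤
      Subalgebra.toSubmodule (spanAlg R) :=
    Submodule.span_le.2 (by rintro _ ⟨a, rfl⟩; exact coe_mem_spanAlg (htR a))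
  exact hle ((S.span_reps t ht).ge (Submodule.mem_top : x ∈ ⊤))

/-- Abelian characteristic subgroups of a normal subgroup below `N` consist of scalars. -/
lemma characteristic_le_scalars (S : AbSetup H N) {R : Subgroup (GL ι F)} (hRN : R ≤ N)
    (hn : ∀ g ∈ H, ∀ x ∈ R, g * x * g⁻¹ ∈ R) (A : Subgroup R) (hA : A.Characteristic)
    (hcomm : IsMulCommutative A) : A.map R.subtype ≤ Geo.scalars ι F := by
  haveI := S.nonempty
  have hnorm : ∀ g ∈ H, ∀ x ∈ A.map R.subtype, g * x * g⁻¹ ∈ A.map R.subtype := by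
    rintro g hg _ ⟨a, ha, rfl⟩
    let φ : R ≃* R :=
      { toFun := fun x => ⟨g * x * g⁻¹, hn g hg _ x.2⟩
        invFun := fun x => ⟨g⁻¹ * x * g, by simpa using hn g⁻¹ (inv_mem hg) _ x.2⟩
        left_inv := fun x => Subtype.ext (by show g⁻¹ * (g * x * g⁻¹) * g = x; group)
        right_inv := fun x => Subtype.ext (by show g * (g⁻¹ * x * g) * g⁻¹ = x; group)
        map_mul' := fun x y => Subtype.ext (by simp [mul_assoc]) }
    exact ⟨φ a, Subgroup.characteristic_iff_map_le.1 hA φ ⟨a, ha, rfl⟩, rfl⟩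
  have hAN : A.map R.subtype ≤ N := (Subgroup.map_subtype_le _).trans hRN
  refine le_sup_left.trans ((S.minimal (A.map R.subtype ⊔ Geo.scalars ι F) le_sup_right
    (sup_le hAN S.scal) ?_).resolve_right fun h => ?_).le
  · intro g hg x hx
    obtain ⟨a, ha, z, hz, rfl⟩ := Subgroup.mem_sup_of_normal_right.1 hx
    rw [← conj_mul]
    exact Subgroup.mul_mem_sup (hnorm g hg a ha) (Geo.scalars_normal.conj_mem z hz g)
  · refine S.ne_scalars (le_antisymm (fun x hx => S.commutes_iff.1 fun y hy => ?_) S.scal)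
    obtain ⟨_, ⟨a, ha, rfl⟩, z, hz, rfl⟩ := Subgroup.mem_sup_of_normal_right.1 (h.ge hx)
    obtain ⟨_, ⟨b, hb, rfl⟩, w, hw, rfl⟩ := Subgroup.mem_sup_of_normal_right.1 (h.ge hy)
    have hab : (a : GL ι F) * b = b * a := congrArg Subtype.val (congrArg Subtype.val
      (hcomm.is_comm.comm (⟨a, ha⟩ : A) ⟨b, hb⟩))
    simp only [Subgroup.coe_subtype]
    calc (b : GL ι F) * w * ((a : GL ι F) * z) = (b : GL ι F) * a * (w * z) := by
          rw [mul_assoc, ← mul_assoc w, scalars_comm hw (a : GL ι F)]; simp only [mul_assoc]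
      _ = (a : GL ι F) * b * (z * w) := by rw [hab, scalars_comm hw z]
      _ = _ := by
          rw [mul_assoc, ← mul_assoc (b : GL ι F), ← scalars_comm hz (b : GL ι F)]
          simp only [mul_assoc]

lemma characteristic_cyclic (S : AbSetup H N) {R : Subgroup (GL ι F)} (hRN : R ≤ N)
    (hn : ∀ g ∈ H, ∀ x ∈ R, g * x * g⁻¹ ∈ R) (A : Subgroup R) (hA : A.Characteristic)
    (hcomm : IsMulCommutative A) : IsCyclic A := by
  haveI := S.nonempty
  choose c hc using fun a : A =>
    exists_sc (S.characteristic_le_scalars hRN hn A hA hcomm ⟨a, a.2, rfl⟩)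
  let φ : A →* F :=
    { toFun := fun a => (c a : F)
      map_one' := by
        have : c 1 = 1 := sc_injective (ι := ι) (by rw [← hc]; simp)
        simp [this]
      map_mul' := fun a b => by
        have : c (a * b) = c a * c b := sc_injective (ι := ι) (by
          rw [map_mul, ← hc, ← hc, ← hc]; rfl)
        simp [this] }
  refine isCyclic_of_injective_ringHom φ fun a b h => ?_
  refine Subtype.ext (Subtype.ext ?_)
  have ha : ((a : R) : GL ι F) = sc ι (c a) := hc a
  have hb : ((b : R) : GL ι F) = sc ι (c b) := hc b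
  rw [ha, hb, Units.ext h]

end AbSetup

/-- A subfield member for a form. -/
inductive SubfieldCase [Fintype F] (σ : F ≃+* F) (f : (ι → F) → (ι → F) → F)
    (H : Subgroup (GL ι F)) : Prop
  | mk {F₁ : Subfield F} {P : GL ι F} {ζ : F} {G : Matrix ι ι F} (hne : F₁ ≠ ⊤)
      (hG : RatGram σ f F₁ P ζ G) (h : H ≤ Geo.subfieldSubgroup F₁ P)
      (halt : (2 : F) = 0 → (∀ a ∈ F₁, σ a = a) → Gᵀ = G → ∀ i, G i i = 0)

/-- A realisable spanning normal subgroup with rational multipliers gives a subfield member. -/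
lemma subfieldCase_of_realise [Fintype F] (hn : 1 < Fintype.card ι) (hf : IsHermLike σ ε f)
    {H R : Subgroup (GL ι F)} (hR : spanAlg R = ⊤) (hnR : ∀ g ∈ H, ∀ x ∈ R, g * x * g⁻¹ ∈ R)
    (F₁ : Subfield F) (hne : F₁ ≠ ⊤) {B : GL ι F}
    (hB : ∀ s ∈ Geo.matrixSet R, ∀ i j,
      ((B : Matrix ι ι F) * s * ((B⁻¹ : GL ι F) : Matrix ι ι F)) i j ∈ F₁)
    (hμ : ∀ x ∈ R, ∃ μ ∈ F₁, ∀ u v,
      f ((x : Matrix ι ι F) *ᵥ u) ((x : Matrix ι ι F) *ᵥ v) = μ * f u v) :
    SubfieldCase σ f H := by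
  classical
  haveI : Nonempty ι := Fintype.card_pos_iff.1 (by omega)
  obtain ⟨ζ, G, hG⟩ := exists_ratGram hf hR F₁ hB hμ
  refine ⟨hne, hG, le_subfieldSubgroup hR hnR F₁ hB, fun h2 hfix hsym i => ?_⟩
  set G₀ := (B : Matrix ι ι F)ᵀ * G * (B : Matrix ι ι F) with hG₀
  have hsym₀ : G₀ᵀ = G₀ := by
    rw [hG₀]; simp only [Matrix.transpose_mul, Matrix.transpose_transpose, hsym, mul_assoc]
  have hsim : R ≤ Geo.similarityGroup (formOf G₀) := by
    intro x hx
    obtain ⟨μ, -, hμx⟩ := hμ x hx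
    set y := cj B (x : Matrix ι ι F) with hy
    have hy' : σ.toRingHom.mapMatrix y = y := Matrix.ext fun a b => hfix _ (by
      have h := hB _ ⟨x, hx, rfl⟩ a b
      rwa [hy, cj_apply])
    have hGy : yᵀ * G * y = μ • G := by
      conv_lhs => arg 2; rw [← hy']
      refine gram_ext (σ := σ) fun u v => ?_
      have hby : ∀ w, ((B⁻¹ : GL ι F) : Matrix ι ι F) *ᵥ (y *ᵥ w) =
          (x : Matrix ι ι F) *ᵥ (((B⁻¹ : GL ι F) : Matrix ι ι F) *ᵥ w) := fun w => by
        rw [Matrix.mulVec_mulVec, Matrix.mulVec_mulVec, hy, cj_apply, ← mul_assoc, ← mul_assoc,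
          Units.inv_mul, one_mul]
      rw [← sesqOf_mulVec, ← hG.eq, hby, hby, hμx, mul_left_comm, hG.eq]
      simp [sesqOf, Matrix.smul_mulVec, dotProduct_smul]
    have hμ0 : μ ≠ 0 := fun h0 => by
      obtain ⟨u, v, huv⟩ := hf.exists_ne_zero
      apply huv
      have h := hμx (((x⁻¹ : GL ι F) : Matrix ι ι F) *ᵥ u) (((x⁻¹ : GL ι F) : Matrix ι ι F) *ᵥ v)
      rw [Matrix.mulVec_mulVec, Matrix.mulVec_mulVec, Units.mul_inv, Matrix.one_mulVec,
        Matrix.one_mulVec, h0, zero_mul] at h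
      exact h
    refine mem_similarity_of_gram hμ0 ?_
    have hBx : (B : Matrix ι ι F) * (x : Matrix ι ι F) = y * (B : Matrix ι ι F) := by
      rw [hy, cj_apply, mul_assoc, Units.inv_mul, mul_one]
    calc (x : Matrix ι ι F)ᵀ * G₀ * (x : Matrix ι ι F)
        = ((B : Matrix ι ι F) * (x : Matrix ι ι F))ᵀ * G * ((B : Matrix ι ι F) * x) := by
          rw [hG₀, Matrix.transpose_mul]; simp only [mul_assoc]
      _ = (B : Matrix ι ι F)ᵀ * (yᵀ * G * y) * (B : Matrix ι ι F) := by
          rw [hBx, Matrix.transpose_mul]; simp only [mul_assoc]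
      _ = μ • G₀ := by rw [hGy, Matrix.mul_smul, Matrix.smul_mul]
  have hd := diag_eq_zero_of_irred h2 hn (absIrred_of_spanAlg_eq_top hR).1 hsym₀ hsim
  have hz := formOf_self_eq_zero (transpose_neg_of_symm hsym₀ h2) hd
    (((B⁻¹ : GL ι F) : Matrix ι ι F) *ᵥ Pi.single i 1)
  rw [hG₀, ← formOf_mulVec, Matrix.mulVec_mulVec, Units.mul_inv, Matrix.one_mulVec] at hz
  simpa [formOf, single_dotProduct] using hz

/-! ### Bilinear forms -/

namespace AbSetup

variable [Fintype F] {H N : Subgroup (GL ι F)}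

lemma exists_noncomm (S : AbSetup H N) :
    ∃ x ∈ N, ∃ y ∈ N, y * x ≠ x * y := by
  obtain ⟨x, hx, hxZ⟩ := SetLike.exists_of_lt (lt_of_le_of_ne S.scal (Ne.symm S.ne_scalars))
  obtain ⟨y, hy, hyx⟩ : ∃ y ∈ N, y * x ≠ x * y := by
    by_contra h
    push Not at h
    exact hxZ (S.commutes_iff.1 h)
  exact ⟨x, hx, y, hy, hyx⟩

/-- With a bilinear form the prime is two and the characteristic is odd. -/
lemma two_of_bilinear (S : AbSetup H N) (hf : IsHermLike (RingEquiv.refl F) ε f)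
    (hsim : H ≤ Geo.similarityGroup f) {r : ℕ} (hr : r.Prime)
    (hexp : ∀ x ∈ N, x ^ r ∈ Geo.scalars ι F) : r = 2 ∧ (2 : F) ≠ 0 := by
  haveI := S.nonempty
  haveI := Fact.mk hr
  obtain ⟨x, hx, y, hy, hyx⟩ := S.exists_noncomm
  obtain ⟨c, hc⟩ := S.comm x hx y hy
  have hc1 : c ≠ 1 := fun h => hyx (by rw [hc, h, map_one, one_mul])
  have hsq : (c : F) * c = 1 := hf.comm_norm (hsim (S.le hx)) (hsim (S.le hy)) hc
  have h2 : c ^ 2 = 1 := Units.ext (by rw [sq]; exact hsq)
  have ho : orderOf c = r := orderOf_eq_prime (S.comm_pow_eq_one hexp hx hc) hc1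
  refine ⟨(Nat.prime_dvd_prime_iff_eq hr Nat.prime_two).1 (ho ▸ orderOf_dvd_of_pow_eq_one h2),
    fun h => hc1 (Units.ext ?_)⟩
  rcases mul_self_eq_one_iff.1 hsq with h' | h'
  · exact h'
  · show (c : F) = 1
    rw [h']; linear_combination -h

/-- The order and centre of a group meeting every coset of the scalars. -/
lemma card_reps (S : AbSetup H N) {R : Subgroup (GL ι F)} (hRN : R ≤ N) (t : S.Q → N)
    (ht : ∀ a, (QuotientGroup.mk (t a) : S.Q) = a) (htR : ∀ a, (t a : GL ι F) ∈ R) {z : ℕ}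
    (hsc : ∀ c : Fˣ, sc ι c ∈ R ↔ c ^ z = 1) (hz : z ∣ Fintype.card F - 1) :
    Nat.card R = z * Fintype.card ι ^ 2 ∧ Nat.card (Subgroup.center R) = z := by
  classical
  haveI := S.nonempty
  have hdec : ∀ x, ∀ hx : x ∈ N, ∃ c : Fˣ,
      x = sc ι c * (t (QuotientGroup.mk ⟨x, hx⟩) : GL ι F) := fun x hx => by
    obtain ⟨c, hc⟩ := exists_sc ((S.mk_eq_iff (t (QuotientGroup.mk ⟨x, hx⟩)) ⟨x, hx⟩).1 (ht _))
    exact ⟨c, by rw [sc_comm, ← hc, mul_inv_cancel_left]⟩
  constructor
  · rw [← card_roots hz, ← S.card_Q, ← Nat.card_prod]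
    refine (Nat.card_congr (Equiv.ofBijective
      (fun p : {c : Fˣ // c ^ z = 1} × S.Q => (⟨sc ι p.1.1 * (t p.2 : GL ι F),
        mul_mem ((hsc _).2 p.1.2) (htR p.2)⟩ : R)) ⟨?_, ?_⟩)).symm
    · intro p q h
      have h' : sc ι p.1.1 * (t p.2 : GL ι F) = sc ι q.1.1 * (t q.2 : GL ι F) :=
        congrArg (fun v : R => (v : GL ι F)) h
      have h2 : p.2 = q.2 := by
        rw [← ht p.2, ← ht q.2, S.mk_eq_iff]
        rw [← eq_inv_mul_iff_mul_eq, ← mul_assoc, ← map_inv, ← map_mul] at h'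
        rw [h', sc_comm, _root_.mul_inv_rev, mul_assoc, inv_mul_cancel, mul_one]
        exact inv_mem (sc_mem _)
      rw [h2, mul_left_inj] at h'
      exact Prod.ext (Subtype.ext (sc_injective h')) h2
    · rintro ⟨x, hx⟩
      obtain ⟨c, hc⟩ := hdec x (hRN hx)
      refine ⟨(⟨c, (hsc c).1 ?_⟩, _), Subtype.ext hc.symm⟩
      rw [← eq_mul_inv_of_mul_eq hc.symm |>.symm]
      exact mul_mem hx (inv_mem (htR _))
  · refine Eq.trans (Nat.card_congr ?_) (card_roots hz)
    refine (Equiv.ofBijective (fun c : {c : Fˣ // c ^ z = 1} =>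
      (⟨⟨sc ι c.1, (hsc _).2 c.2⟩, Subgroup.mem_center_iff.2 fun y =>
        Subtype.ext (sc_comm c.1 (y : GL ι F)).symm⟩ : Subgroup.center R)) ⟨?_, ?_⟩).symm
    · intro a b h
      exact Subtype.ext (sc_injective (congrArg
        (fun v : Subgroup.center R => ((v : R) : GL ι F)) h))
    · rintro ⟨⟨x, hx⟩, hxc⟩
      have hmem : x ∈ Geo.scalars ι F := S.commutes_iff.1 fun y hy => by
        obtain ⟨c, hc⟩ := hdec y hy
        have h := congrArg (fun v : R => (v : GL ι F))
          (Subgroup.mem_center_iff.1 hxc ⟨_, htR (QuotientGroup.mk ⟨y, hy⟩)⟩)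
        simp only [Subgroup.coe_mul] at h
        rw [hc, mul_assoc, h, ← mul_assoc, sc_comm, mul_assoc]
      obtain ⟨c, rfl⟩ := exists_sc hmem
      exact ⟨⟨c, (hsc c).1 hx⟩, rfl⟩

end AbSetup

/-- Commuting self-adjoint involutions span at most half the dimension on a non-degenerate
alternating space. -/
lemma two_finrank_span_le {f : (ι → F) → (ι → F) → F} (hf : Geo.IsSymplecticForm f)
    (h2 : (2 : F) ≠ 0) {κ : Type*} (s : κ → Matrix ι ι F)
    (hsq : ∀ i v, s i *ᵥ (s i *ᵥ v) = v) (hadj : ∀ i u v, f (s i *ᵥ u) v = f u (s i *ᵥ v))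
    (hcomm : ∀ i j v, s i *ᵥ (s j *ᵥ v) = s j *ᵥ (s i *ᵥ v)) :
    ∀ (N : ℕ) (W : Submodule F (ι → F)), Module.finrank F W ≤ N →
      (∀ i, ∀ v ∈ W, s i *ᵥ v ∈ W) → (∀ w ∈ W, w ≠ 0 → ∃ x ∈ W, f x w ≠ 0) →
      2 * Module.finrank F (Submodule.span F (Set.range fun i =>
        (Matrix.toLin' (s i)).comp W.subtype)) ≤ Module.finrank F W := by
  have hb := hf.bilinear
  intro N
  induction N with
  | zero =>
    intro W hW _ _
    rw [Nat.le_zero, Submodule.finrank_eq_zero] at hW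
    have hbot : Submodule.span F (Set.range fun i => (Matrix.toLin' (s i)).comp W.subtype) = ⊥ := by
      rw [Submodule.span_eq_bot]
      rintro _ ⟨i, rfl⟩
      refine LinearMap.ext fun w => ?_
      have hw : (w : ι → F) = 0 := by
        have h := w.2
        simp only [hW, Submodule.mem_bot] at h
        exact h
      simp [hw]
    rw [hbot, finrank_bot]; exact Nat.zero_le _
  | succ N ih =>
    intro W hW hinv hnd
    by_cases hall : ∀ i, ∃ c : F, ∀ v ∈ W, s i *ᵥ v = c • v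
    · have hle : Submodule.span F (Set.range fun i => (Matrix.toLin' (s i)).comp W.subtype) ≤
          Submodule.span F {W.subtype} := by
        rw [Submodule.span_le]
        rintro _ ⟨i, rfl⟩
        obtain ⟨c, hc⟩ := hall i
        refine Submodule.mem_span_singleton.2 ⟨c, LinearMap.ext fun w => ?_⟩
        simp [hc _ w.2]
      by_cases hbot : W = ⊥
      · refine le_of_eq_of_le ?_ (Nat.zero_le _)
        rw [Nat.mul_eq_zero]
        refine Or.inr (Nat.le_zero.1 ((Submodule.finrank_le _).trans ?_))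
        have h0 : Module.finrank F W = 0 := Submodule.finrank_eq_zero.2 hbot
        rw [Module.finrank_linearMap, h0, zero_mul]
      have hone : Module.finrank F (Submodule.span F (Set.range fun i =>
          (Matrix.toLin' (s i)).comp W.subtype)) ≤ 1 :=
        (Submodule.finrank_mono hle).trans ((finrank_span_le_card _).trans (by simp))
      obtain ⟨w, hw, hw0⟩ := Submodule.exists_mem_ne_zero_of_ne_bot hbot
      obtain ⟨x, hx, hxw⟩ := hnd w hw hw0
      have htwo : 2 ≤ Module.finrank F W := by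
        by_contra hlt
        obtain ⟨v, hv⟩ := finrank_le_one_iff.1 (show Module.finrank F W ≤ 1 by omega)
        obtain ⟨a, ha⟩ := hv ⟨x, hx⟩
        obtain ⟨b, hb'⟩ := hv ⟨w, hw⟩
        have ha' : a • (v : ι → F) = x := congrArg Subtype.val ha
        have hb'' : b • (v : ι → F) = w := congrArg Subtype.val hb'
        rw [← ha', ← hb'', hb.smul_left, hb.smul_right, hf.alternating, mul_zero, mul_zero] at hxw
        exact hxw rfl
      omega
    push Not at hall
    obtain ⟨i₀, hi₀⟩ := hall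
    let Wp : Submodule F (ι → F) := W ⊓ LinearMap.ker (Matrix.toLin' (s i₀) - LinearMap.id)
    let Wm : Submodule F (ι → F) := W ⊓ LinearMap.ker (Matrix.toLin' (s i₀) + LinearMap.id)
    have memp : ∀ v, v ∈ Wp ↔ v ∈ W ∧ s i₀ *ᵥ v = v := fun v => by simp [Wp, sub_eq_zero]
    have memm : ∀ v, v ∈ Wm ↔ v ∈ W ∧ s i₀ *ᵥ v = -v := fun v => by
      simp [Wm, add_eq_zero_iff_eq_neg]
    have hsum : ∀ v ∈ W, (2 : F)⁻¹ • (v + s i₀ *ᵥ v) ∈ Wp ∧ (2 : F)⁻¹ • (v - s i₀ *ᵥ v) ∈ Wm ∧
        v = (2 : F)⁻¹ • (v + s i₀ *ᵥ v) + (2 : F)⁻¹ • (v - s i₀ *ᵥ v) := by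
      intro v hv
      refine ⟨(memp _).2 ⟨W.smul_mem _ (add_mem hv (hinv _ _ hv)), ?_⟩,
        (memm _).2 ⟨W.smul_mem _ (sub_mem hv (hinv _ _ hv)), ?_⟩, ?_⟩
      · rw [Matrix.mulVec_smul, Matrix.mulVec_add, hsq, add_comm]
      · rw [Matrix.mulVec_smul, Matrix.mulVec_sub, hsq, ← smul_neg, neg_sub]
      · rw [← smul_add, show v + s i₀ *ᵥ v + (v - s i₀ *ᵥ v) = (2 : F) • v by
          rw [two_smul]; abel, inv_smul_smul₀ h2]
    have horth : ∀ u ∈ Wp, ∀ v ∈ Wm, f u v = 0 := by
      intro u hu v hv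
      have h := hadj i₀ u v
      rw [((memp u).1 hu).2, ((memm v).1 hv).2, show (-v) = (-1 : F) • v by simp, hb.smul_right] at h
      exact (mul_eq_zero.1 (show (2 : F) * f u v = 0 by linear_combination h)).resolve_left h2
    have hinvp : ∀ i, ∀ v ∈ Wp, s i *ᵥ v ∈ Wp := fun i v hv => (memp _).2
      ⟨hinv i v ((memp v).1 hv).1, by rw [hcomm, ((memp v).1 hv).2]⟩
    have hinvm : ∀ i, ∀ v ∈ Wm, s i *ᵥ v ∈ Wm := fun i v hv => (memm _).2
      ⟨hinv i v ((memm v).1 hv).1, by rw [hcomm, ((memm v).1 hv).2, Matrix.mulVec_neg]⟩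
    have hndp : ∀ w ∈ Wp, w ≠ 0 → ∃ x ∈ Wp, f x w ≠ 0 := by
      intro w hw hw0
      obtain ⟨x, hx, hxw⟩ := hnd w ((memp w).1 hw).1 hw0
      obtain ⟨h1, h2', h3⟩ := hsum x hx
      refine ⟨_, h1, fun h0 => hxw ?_⟩
      rw [h3, hb.add_left, h0, zero_add, hf.skew, horth w hw _ h2', neg_zero]
    have hndm : ∀ w ∈ Wm, w ≠ 0 → ∃ x ∈ Wm, f x w ≠ 0 := by
      intro w hw hw0
      obtain ⟨x, hx, hxw⟩ := hnd w ((memm w).1 hw).1 hw0
      obtain ⟨h1, h2', h3⟩ := hsum x hx
      refine ⟨_, h2', fun h0 => hxw ?_⟩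
      rw [h3, hb.add_left, h0, add_zero, horth _ h1 w hw]
    have hlep : Wp < W := by
      refine lt_of_le_of_ne inf_le_left fun h => ?_
      obtain ⟨v, hv, hne⟩ := hi₀ 1
      exact hne (by rw [one_smul, ((memp v).1 (h.symm ▸ hv)).2])
    have hlem : Wm < W := by
      refine lt_of_le_of_ne inf_le_left fun h => ?_
      obtain ⟨v, hv, hne⟩ := hi₀ (-1)
      exact hne (by rw [((memm v).1 (h.symm ▸ hv)).2, neg_one_smul])
    have hp := ih Wp (by have := Submodule.finrank_lt_finrank_of_lt hlep; omega) hinvp hndp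
    have hm := ih Wm (by have := Submodule.finrank_lt_finrank_of_lt hlem; omega) hinvm hndm
    have hdisj : Disjoint Wp Wm := by
      rw [Submodule.disjoint_def]
      intro v hv hv'
      have h := ((memp v).1 hv).2.symm.trans ((memm v).1 hv').2
      have h' : (2 : F) • v = 0 := by rw [two_smul]; exact add_eq_zero_iff_eq_neg.2 h
      exact (smul_eq_zero.1 h').resolve_left h2
    have hdim : Module.finrank F Wp + Module.finrank F Wm ≤ Module.finrank F W := by
      have h := Submodule.finrank_sup_add_finrank_inf_eq Wp Wm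
      rw [hdisj.eq_bot, finrank_bot, add_zero] at h
      rw [← h]
      exact Submodule.finrank_mono (sup_le inf_le_left inf_le_left)
    let Ψ : (W →ₗ[F] ι → F) →ₗ[F] ((Wp →ₗ[F] ι → F) × (Wm →ₗ[F] ι → F)) :=
      { toFun := fun L => (L.comp (Submodule.inclusion inf_le_left),
          L.comp (Submodule.inclusion inf_le_left))
        map_add' := fun _ _ => rfl
        map_smul' := fun _ _ => rfl }
    have hΨ : Function.Injective Ψ := by
      rw [← LinearMap.ker_eq_bot, Submodule.eq_bot_iff]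
      intro L hL
      refine LinearMap.ext fun w => ?_
      obtain ⟨h1, h2', h3⟩ := hsum _ w.2
      have e : w = (⟨_, ((memp _).1 h1).1⟩ : W) + ⟨_, ((memm _).1 h2').1⟩ := Subtype.ext h3
      rw [e, map_add]
      have hL1 := LinearMap.congr_fun (congrArg Prod.fst (LinearMap.mem_ker.1 hL)) ⟨_, h1⟩
      have hL2 := LinearMap.congr_fun (congrArg Prod.snd (LinearMap.mem_ker.1 hL)) ⟨_, h2'⟩
      show L _ + L _ = 0
      exact (congrArg₂ (· + ·) hL1 hL2).trans (add_zero _)
    set Sp := Submodule.span F (Set.range fun i => (Matrix.toLin' (s i)).comp Wp.subtype) with hSp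
    set Sm := Submodule.span F (Set.range fun i => (Matrix.toLin' (s i)).comp Wm.subtype) with hSm
    have hmap : (Submodule.span F (Set.range fun i => (Matrix.toLin' (s i)).comp W.subtype)).map Ψ ≤
        Sp.prod Sm := by
      rw [Submodule.map_span, Submodule.span_le]
      rintro _ ⟨_, ⟨i, rfl⟩, rfl⟩
      exact ⟨Submodule.subset_span ⟨i, rfl⟩, Submodule.subset_span ⟨i, rfl⟩⟩
    have hle := Submodule.finrank_mono hmap
    rw [← LinearEquiv.finrank_eq (Submodule.equivMapOfInjective Ψ hΨ _)] at hle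
    have hprod : Module.finrank F (Sp.prod Sm) ≤ Module.finrank F Sp + Module.finrank F Sm := by
      have hsup : Sp.prod Sm ≤ Sp.map (LinearMap.inl F _ _) ⊔ Sm.map (LinearMap.inr F _ _) := by
        rintro ⟨x, y⟩ ⟨hx, hy⟩
        rw [show (x, y) = (x, 0) + (0, y) by simp]
        exact Submodule.add_mem_sup ⟨x, hx, rfl⟩ ⟨y, hy, rfl⟩
      exact (Submodule.finrank_mono hsup).trans ((Submodule.finrank_add_le_finrank_add_finrank _ _).trans
        (Nat.add_le_add (Submodule.finrank_map_le _ _) (Submodule.finrank_map_le _ _)))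
    omega

/-- The outcome of the abelian case for a symplectic form. -/
inductive SympAbCase [Fintype F] (f : (ι → F) → (ι → F) → F) (H : Subgroup (GL ι F)) : Prop
  | subfield (h : SubfieldCase (RingEquiv.refl F) f H)
  | symplType {R : Subgroup (GL ι F)} {p k : ℕ} (hcard : Fintype.card ι = 2 ^ k)
      (htype : Geo.IsSymplecticTypeGroup 2 R)
      (habs : Geo.ActsAbsolutelyIrreducibly (Geo.matrixSet R))
      (hsim : R ≤ Geo.similarityGroup f) (hp : p.Prime) (hodd : Odd p)
      (hq : Fintype.card F = p) (hR : Nat.card R = 2 ^ (1 + 2 * k))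
      (hC : Nat.card (Subgroup.center R) = 2) (hminus : Geo.IsOfMinusType k R)
      (h : H ≤ Geo.subgroupNormalizer R)

theorem sympAbCase [Fintype F] {H N : Subgroup (GL ι F)} (S : AbSetup H N)
    (hsf : Geo.IsSymplecticForm f) (hsim : H ≤ Geo.similarityGroup f) : SympAbCase f H := by
  classical
  haveI := S.nonempty
  have hf := IsHermLike.of_symplectic hsf
  obtain ⟨r, hr, hexp⟩ := S.exists_prime_exponent
  obtain ⟨k, hk1, hk⟩ := S.dim_prime_pow hr hexp
  obtain ⟨rfl, h2⟩ := S.two_of_bilinear hf hsim hr hexp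
  set R : Subgroup (GL ι F) := N ⊓ isoGroup f with hRdef
  have hRN : R ≤ N := inf_le_left
  have hnR : ∀ g ∈ H, ∀ x ∈ R, g * x * g⁻¹ ∈ R := fun g hg x hx =>
    ⟨S.normal g hg x hx.1, conj_mem_isoGroup (hsim hg) hx.2⟩
  have hsc : ∀ c : Fˣ, sc ι c ∈ R ↔ c ^ 2 = 1 := fun c => by
    rw [hRdef, Subgroup.mem_inf, hf.sc_mem_isoGroup, Units.ext_iff, Units.val_pow_eq_pow_val, sq]
    exact ⟨fun h => h.2, fun h => ⟨S.scal (sc_mem c), h⟩⟩
  have hsq : ∀ x ∈ R, x ^ 4 = 1 := fun x hx => by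
    obtain ⟨l, hl⟩ := AbSetup.exists_sc (hexp x hx.1)
    have h : sc ι l ∈ R := hl ▸ pow_mem hx 2
    rw [show 4 = 2 * 2 from rfl, _root_.pow_mul, hl, ← map_pow, (hsc l).1 h, map_one]
  -- every coset meets `R`
  have hcov : ∀ x ∈ N, ∃ c : Fˣ, sc ι c * x ∈ R := by
    let M : Subgroup (GL ι F) :=
      { carrier := {x | x ∈ N ∧ ∃ c : Fˣ, sc ι c * x ∈ R}
        mul_mem' := fun {a b} ha hb => ⟨mul_mem ha.1 hb.1, by
          obtain ⟨c, hc⟩ := ha.2
          obtain ⟨d, hd⟩ := hb.2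
          refine ⟨c * d, ?_⟩
          have e : sc ι (c * d) * (a * b) = (sc ι c * a) * (sc ι d * b) := by
            rw [map_mul, mul_assoc, ← mul_assoc (sc ι d) a, sc_comm d a]; simp only [mul_assoc]
          exact e ▸ mul_mem hc hd⟩
        one_mem' := ⟨one_mem N, 1, by rw [map_one, one_mul]; exact one_mem R⟩
        inv_mem' := fun {a} ha => ⟨inv_mem ha.1, by
          obtain ⟨c, hc⟩ := ha.2
          refine ⟨c⁻¹, ?_⟩
          rw [map_inv, show (sc ι c)⁻¹ * a⁻¹ = (a * sc ι c)⁻¹ from (_root_.mul_inv_rev _ _).symm,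
            ← sc_comm c a]
          exact inv_mem hc⟩ }
    have hM := S.minimal M (fun z hz => ⟨S.scal hz, by
        obtain ⟨c, rfl⟩ := AbSetup.exists_sc hz
        exact ⟨c⁻¹, by rw [← map_mul, inv_mul_cancel, map_one]; exact one_mem R⟩⟩)
      (fun z hz => hz.1) (fun g hg x hx => ⟨S.normal g hg x hx.1, by
        obtain ⟨c, hc⟩ := hx.2
        refine ⟨c, ?_⟩
        have := hnR g hg _ hc
        rwa [← mul_assoc g, ← sc_comm c g, mul_assoc (sc ι c), mul_assoc (sc ι c)] at this⟩)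
    refine hM.elim (fun h => ?_) fun h x hx => (h.ge hx : x ∈ M).2
    exfalso
    obtain ⟨x, hx, y, hy, hyx⟩ := S.exists_noncomm
    have hns : ∀ z ∈ N, z ∉ Geo.scalars ι F → ∀ a : Fˣ, (∀ u v, f ((z : Matrix ι ι F) *ᵥ u)
        ((z : Matrix ι ι F) *ᵥ v) = (a : F) * f u v) → ¬ IsSquare (a : F) := by
      rintro z hz hzs a ha ⟨b, hb⟩
      have hb0 : b ≠ 0 := fun h0 => a.ne_zero (by rw [hb, h0, mul_zero])
      refine hzs (h.le ⟨hz, (Units.mk0 b hb0)⁻¹, ⟨mul_mem (S.scal (sc_mem _)) hz, fun u v => ?_⟩⟩)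
      show f (((sc ι (Units.mk0 b hb0)⁻¹ * z : GL ι F) : Matrix ι ι F) *ᵥ u) _ = _
      rw [Units.coeHom_apply, hf.apply_sc, ha, RingEquiv.refl_apply, Units.val_inv_eq_inv_val,
        Units.val_mk0, hb]
      field_simp
    have hxs : x ∉ Geo.scalars ι F := fun h' => hyx (scalars_comm h' y).symm
    have hys : y ∉ Geo.scalars ι F := fun h' => hyx (scalars_comm h' x)
    obtain ⟨a, ha⟩ := hsim (S.le hx)
    obtain ⟨b, hb⟩ := hsim (S.le hy)
    have hab : IsSquare ((a : F) * b) := by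
      rw [← quadraticChar_one_iff_isSquare (mul_ne_zero a.ne_zero b.ne_zero), map_mul,
        quadraticChar_neg_one_iff_not_isSquare.2 (hns x hx hxs a ha),
        quadraticChar_neg_one_iff_not_isSquare.2 (hns y hy hys b hb)]
      norm_num
    have hxy : x * y ∈ Geo.scalars ι F := by
      by_contra hne
      refine hns _ (mul_mem hx hy) hne (a * b) (fun u v => ?_) hab
      rw [Units.val_mul, ← Matrix.mulVec_mulVec, ← Matrix.mulVec_mulVec, ha, hb, Units.val_mul,
        mul_assoc]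
    apply hyx
    have hy' : y = x⁻¹ * (x * y) := by group
    rw [hy', mul_inv_cancel_left, mul_assoc, scalars_comm hxy x, inv_mul_cancel_left]
  choose t₀ ht₀ using (QuotientGroup.mk_surjective : Function.Surjective
    (QuotientGroup.mk : N → S.Q))
  choose c₀ hc₀ using fun a : S.Q => hcov _ (t₀ a).2
  let t : S.Q → N := fun a => ⟨sc ι (c₀ a) * (t₀ a : GL ι F), hRN (hc₀ a)⟩
  have ht : ∀ a, (QuotientGroup.mk (t a) : S.Q) = a := fun a => by
    rw [← ht₀ a, S.mk_eq_iff, ht₀]
    show (sc ι (c₀ a) * (t₀ a : GL ι F))⁻¹ * (t₀ a : GL ι F) ∈ _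
    rw [_root_.mul_inv_rev, mul_assoc, ← map_inv, sc_comm, inv_mul_cancel_left]
    exact sc_mem _
  have htR : ∀ a, (t a : GL ι F) ∈ R := hc₀
  have htop := S.spanAlg_reps t ht htR
  have habs := absIrred_of_spanAlg_eq_top htop
  obtain ⟨p, hp⟩ := CharP.exists F
  haveI hpf := Fact.mk (CharP.char_is_prime F p)
  have hpp : p.Prime := hpf.out
  obtain ⟨e, -, he⟩ := FiniteField.card F p
  by_cases he1 : (e : ℕ) = 1
  swap
  · obtain ⟨F₁, hF₁, -⟩ := exists_subfield_card he one_pos (one_dvd _)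
    have hne : F₁ ≠ ⊤ := by
      intro h
      have hlt : p ^ 1 < Fintype.card F := he ▸ Nat.pow_lt_pow_right hpp.one_lt
        (by have := e.pos; omega)
      rw [← hF₁, h, ← Nat.card_eq_fintype_card] at hlt
      exact hlt.ne (Nat.card_congr Subfield.topEquiv.toEquiv)
    have hcF : ∀ c : Fˣ, sc ι c ∈ R → (c : F) ∈ F₁ := fun c hc => by
      have h := congrArg Units.val ((hsc c).1 hc)
      rw [Units.val_pow_eq_pow_val, Units.val_one, sq] at h
      rcases mul_self_eq_one_iff.1 h with h' | h' <;> rw [h']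
      · exact one_mem _
      · exact neg_mem (one_mem _)
    obtain ⟨B, hB⟩ := S.exists_realise_reps hRN t ht htR F₁ hcF
    exact .subfield (subfieldCase_of_realise S.two hf htop hnR F₁ hne hB
      fun x hx => ⟨1, one_mem _, fun u v => by rw [one_mul]; exact hx.2 u v⟩)
  rw [he1, pow_one] at he
  have hpodd : Odd p := hpp.odd_of_ne_two fun h => h2 (by
    subst h; exact_mod_cast CharP.cast_eq_zero F 2)
  have hdvd : 2 ∣ Fintype.card F - 1 := by
    obtain ⟨j, hj⟩ := hpodd
    rw [he, hj]; exact ⟨j, by omega⟩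
  obtain ⟨hcR, hcC⟩ := S.card_reps hRN t ht htR hsc hdvd
  refine .symplType (R := R) (p := p) (k := k) hk ⟨Nat.prime_two, fun x => ⟨2, ?_⟩,
    S.characteristic_cyclic hRN hnR, ?_⟩ habs (inf_le_right.trans (isoGroup_le f)) hpp hpodd he
    (by rw [hcR, hk]; ring) hcC ?_ ?_
  · exact Subtype.ext (hsq _ x.2)
  · have hd : Monoid.exponent R ∣ 2 ^ 2 :=
      Monoid.exponent_dvd_of_forall_pow_eq_one fun x => Subtype.ext (hsq _ x.2)
    obtain ⟨j, hj, hje⟩ := (Nat.dvd_prime_pow Nat.prime_two).1 hd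
    show Monoid.exponent R = 2 * Nat.gcd 2 2
    rcases Nat.lt_or_ge j 2 with hlt | hge
    · exfalso
      have hinvol : ∀ x : R, x * x = 1 := fun x => by
        have hdv : Monoid.exponent R ∣ 2 := by
          rw [hje]; exact (Nat.pow_dvd_pow 2 (show j ≤ 1 by omega)).trans (pow_one 2).dvd
        rw [← sq]; exact Monoid.exponent_dvd_iff_forall_pow_eq_one.1 hdv x
      have hcommR : ∀ x y : R, x * y = y * x := fun x y => by
        have h := hinvol (x * y)
        calc x * y = x * ((x * y) * (x * y)) * y := by rw [h, mul_one]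
          _ = (x * x) * (y * x) * (y * y) := by simp only [mul_assoc]
          _ = y * x := by rw [hinvol, hinvol, one_mul, mul_one]
      obtain ⟨x, hx, y, hy, hyx⟩ := S.exists_noncomm
      obtain ⟨c, hc⟩ := hcov x hx
      obtain ⟨d, hd'⟩ := hcov y hy
      have h := congrArg Subtype.val (hcommR ⟨_, hc⟩ ⟨_, hd'⟩)
      simp only [Subgroup.coe_mul] at h
      rw [mul_assoc, ← mul_assoc x, ← sc_comm d x, mul_assoc (sc ι d), mul_assoc,
        ← mul_assoc y, ← sc_comm c y, mul_assoc (sc ι c), ← mul_assoc, ← mul_assoc (sc ι d),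
        sc_comm c (sc ι d)] at h
      exact hyx (mul_left_cancel h).symm
    · rw [hje, show j = 2 by omega]; norm_num
  · -- minus type
    intro A hA hA2
    by_contra hlt
    push Not at hlt
    let π : A →* S.Q := (QuotientGroup.mk' _).comp
      ((Subgroup.inclusion hRN).comp A.subtype)
    have hker : Nat.card π.ker ≤ 2 := by
      rw [← AbSetup.card_roots hdvd]
      have hval : ∀ a : π.ker, ∃ c : {c : Fˣ // c ^ 2 = 1},
          (((a : A) : R) : GL ι F) = sc ι c.1 := fun a => by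
        have h := (QuotientGroup.eq_one_iff _).1 (MonoidHom.mem_ker.1 a.2)
        rw [Subgroup.mem_subgroupOf] at h
        obtain ⟨c, hc⟩ := AbSetup.exists_sc h
        exact ⟨⟨c, (hsc c).1 (hc ▸ ((a : A) : R).2)⟩, hc⟩
      choose cc hcc using hval
      exact Nat.card_le_card_of_injective cc fun a b h =>
        Subtype.ext (Subtype.ext (Subtype.ext (by rw [hcc, hcc, h])))
    have hrange : 2 ^ k ≤ Nat.card π.range := by
      have h : Nat.card π.ker * Nat.card π.range = Nat.card A := by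
        rw [← Subgroup.index_ker]; exact Subgroup.card_mul_index _
      rw [pow_succ] at hlt
      nlinarith
    let pick : π.range → A := fun a => a.2.choose
    have hpick : ∀ a : π.range, π (pick a) = (a : S.Q) := fun a => a.2.choose_spec
    let t' : S.Q → N := fun a => if h : a ∈ π.range then
      Subgroup.inclusion hRN (pick ⟨a, h⟩ : R) else t a
    have ht' : ∀ a, (QuotientGroup.mk (t' a) : S.Q) = a := fun a => by
      by_cases h : a ∈ π.range
      · simp only [t', h, dif_pos]; exact hpick ⟨a, h⟩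
      · simp only [t', h, dif_neg, not_false_iff]; exact ht a
    let s : π.range → Matrix ι ι F := fun a => (((pick a : A) : R) : GL ι F)
    have hs : ∀ a : π.range, s a = ((t' a : GL ι F) : Matrix ι ι F) := fun a => by
      simp only [t', a.2, dif_pos]; rfl
    have hind : LinearIndependent F s := by
      rw [show s = (fun a => ((t' a : GL ι F) : Matrix ι ι F)) ∘ Subtype.val from funext hs]
      exact (S.linearIndependent_reps t' ht').comp _ Subtype.val_injective
    have hmulA : ∀ a b : A, (((a : R) : GL ι F) : Matrix ι ι F) * (((b : R) : GL ι F) : Matrix ι ι F) =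
        ((((a * b : A) : R) : GL ι F) : Matrix ι ι F) := fun a b => rfl
    have hinv : ∀ a : A, a * a = 1 := fun a => Subtype.ext (hA2 _ a.2)
    have hsq' : ∀ a v, s a *ᵥ (s a *ᵥ v) = v := fun a v => by
      rw [Matrix.mulVec_mulVec, hmulA, hinv]; simp
    have hbound := two_finrank_span_le hsf h2 s hsq'
      (fun a u v => by
        conv_lhs => rw [← hsq' a v]
        exact ((pick a : A) : R).2.2 u (s a *ᵥ v))
      (fun a b v => by
        rw [Matrix.mulVec_mulVec, Matrix.mulVec_mulVec, hmulA, hmulA,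
          hA.is_comm.comm (pick a) (pick b)])
      _ ⊤ le_rfl (fun _ _ _ => Submodule.mem_top)
      (fun w _ hw => ((hsf.nondegenerate w hw).1).imp fun x hx => ⟨Submodule.mem_top, hx⟩)
    haveI := Fintype.ofFinite π.range
    have hdim : Fintype.card π.range ≤ Module.finrank F (Submodule.span F (Set.range fun a =>
        (Matrix.toLin' (s a)).comp (⊤ : Submodule F (ι → F)).subtype)) := by
      rw [finrank_span_eq_card]
      let Φ : Matrix ι ι F →ₗ[F] ((⊤ : Submodule F (ι → F)) →ₗ[F] ι → F) :=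
        { toFun := fun X => (Matrix.toLin' X).comp (Submodule.subtype _)
          map_add' := fun X Y => by rw [map_add]; rfl
          map_smul' := fun c X => by rw [map_smul]; rfl }
      refine hind.map' Φ (LinearMap.ker_eq_bot.2 fun X Y hXY => mulVec_ext fun v => ?_)
      simpa [Φ] using LinearMap.congr_fun hXY ⟨v, Submodule.mem_top⟩
    rw [finrank_top, Module.finrank_fintype_fun_eq_card, hk] at hbound
    rw [Nat.card_eq_fintype_card] at hrange
    have := Nat.one_le_two_pow (n := k)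
    omega
  · exact fun g hg => Subgroup.mem_normalizer_iff.2 fun x =>
      ⟨fun hx => hnR g hg x hx, fun hx => by
        simpa [mul_assoc] using hnR g⁻¹ (inv_mem hg) _ hx⟩

/-! ### Hermitian forms -/

/-- The outcome of the abelian case for a hermitian form. -/
inductive UnitAbCase [Fintype F] (σ : F ≃+* F) (f : (ι → F) → (ι → F) → F)
    (H : Subgroup (GL ι F)) : Prop
  | subfield (h : SubfieldCase σ f H)
  | symplType {R : Subgroup (GL ι F)} {r p e k : ℕ} (hcard : Fintype.card ι = r ^ k)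
      (htype : Geo.IsSymplecticTypeGroup r R)
      (habs : Geo.ActsAbsolutelyIrreducibly (Geo.matrixSet R))
      (hsim : R ≤ Geo.similarityGroup f) (hrp : r ≠ p)
      (hmin : Geo.IsMinimalFieldFor (Nat.card (Subgroup.center R)) p e F)
      (hdata : (Odd r ∧ Nat.card (Subgroup.center R) = r ∧ 1 ≤ k ∧ Nat.card R = r ^ (1 + 2 * k)) ∨
        (r = 2 ∧ e = 2 ∧ Nat.card (Subgroup.center R) = 4 ∧ Nat.card R = 2 ^ (2 + 2 * k)))
      (h : H ≤ Geo.subgroupNormalizer R)

open AbSetup (zexp zexp_eq) in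
theorem unitAbCase [Fintype F] {H N : Subgroup (GL ι F)} (S : AbSetup H N)
    (hσ : σ ≠ RingEquiv.refl F) (hf : IsHermLike σ 1 f) (hsim : H ≤ Geo.similarityGroup f) :
    UnitAbCase σ f H := by
  classical
  haveI := S.nonempty
  obtain ⟨r, hr, hexp⟩ := S.exists_prime_exponent
  obtain ⟨k, hk1, hk⟩ := S.dim_prime_pow hr hexp
  set R := S.symplR hr hexp with hR
  obtain ⟨t, ht, htR⟩ := S.exists_reps hr hexp
  have htop := S.spanAlg_reps t ht htR
  have habs := absIrred_of_spanAlg_eq_top htop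
  have hn := S.symplR_normal hr hexp
  have hRN : R ≤ N := fun x hx => hx.1
  obtain ⟨p, hp⟩ := CharP.exists F
  haveI hpf := Fact.mk (CharP.char_is_prime F p)
  have hpp : p.Prime := hpf.out
  obtain ⟨e, -, he⟩ := FiniteField.card F p
  have hrdvd := S.exists_prim_root hexp hr
  have hq1 : 1 < Fintype.card F := Fintype.one_lt_card
  have hrp : r ≠ p := by
    rintro rfl
    have h1 : r ∣ Fintype.card F := he ▸ dvd_pow_self r e.pos.ne'
    have h2 := Nat.dvd_sub h1 hrdvd
    rw [Nat.sub_sub_self (by omega)] at h2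
    exact hr.one_lt.ne' (Nat.dvd_one.1 h2)
  have heven : 2 ∣ (e : ℕ) := by
    have h := card_eq_sq hσ hf.invol
    rw [Nat.card_eq_fintype_card, he] at h
    haveI : Fintype (fixedField σ) := Fintype.ofFinite _
    haveI : CharP (fixedField σ) p := CharP.subring F p (fixedField σ).toSubring
    obtain ⟨a, -, ha⟩ := FiniteField.card (fixedField σ) p
    rw [Nat.card_eq_fintype_card, ha, ← _root_.pow_mul] at h
    exact ⟨a, by rw [Nat.pow_right_injective hpp.two_le h, mul_comm]⟩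
  have hz : zexp r ∣ Fintype.card F - 1 := by
    rcases zexp_eq hr with ⟨rfl, h4⟩ | ⟨-, h'⟩
    · obtain ⟨a, ha⟩ := heven
      rw [h4, he, ha, _root_.pow_mul]
      have hodd : p % 2 = 1 := Nat.odd_iff.1 (hpp.odd_of_ne_two (Ne.symm hrp))
      have h1 : p ^ 2 % 4 = 1 := by
        rw [Nat.pow_mod]
        rcases (by omega : p % 4 = 1 ∨ p % 4 = 3) with h | h <;> simp [h]
      have h2 : (p ^ 2) ^ a % 4 = 1 := by rw [Nat.pow_mod, h1, one_pow, Nat.one_mod]
      omega
    · rw [h']; exact hrdvd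
  by_cases hmin : ∃ d : ℕ, 0 < d ∧ d < (e : ℕ) ∧ zexp r ∣ p ^ d - 1
  · obtain ⟨d, hd0, hde, hd⟩ := hmin
    set d' := Nat.gcd d e with hd'
    have hd'0 : 0 < d' := Nat.gcd_pos_of_pos_left _ hd0
    have hzd : zexp r ∣ p ^ d' - 1 := by
      rw [hd', ← Nat.pow_sub_one_gcd_pow_sub_one]
      exact Nat.dvd_gcd hd (he ▸ hz)
    obtain ⟨F₁, hF₁, hF₁m⟩ := exists_subfield_card he hd'0 (Nat.gcd_dvd_right d e)
    have hne : F₁ ≠ ⊤ := by
      intro h
      have hlt : p ^ d' < Fintype.card F := he ▸ Nat.pow_lt_pow_right hpp.one_lt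
        (lt_of_le_of_lt (Nat.gcd_le_left _ hd0) hde)
      rw [← hF₁, h, ← Nat.card_eq_fintype_card] at hlt
      exact hlt.ne (Nat.card_congr Subfield.topEquiv.toEquiv)
    have hroot : ∀ x : F, x ^ zexp r = 1 → x ∈ F₁ := by
      intro x hx
      obtain ⟨m, hm⟩ := hzd
      have h1 : x ^ (p ^ d' - 1) = 1 := by rw [hm, _root_.pow_mul, hx, one_pow]
      refine (hF₁m _).2 ?_
      rw [show p ^ d' = p ^ d' - 1 + 1 from (Nat.sub_add_cancel (Nat.one_le_pow _ _ hpp.pos)).symm,
        pow_succ, h1, one_mul]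
    obtain ⟨B, hB⟩ := S.exists_realise_reps hRN t ht htR F₁ fun c hc => hroot _ (by
      simpa using congrArg Units.val ((S.sc_mem_symplR hr hexp).1 hc))
    refine .subfield (subfieldCase_of_realise S.two hf htop hn F₁ hne hB fun x hx => ?_)
    obtain ⟨μ, hμ⟩ := hsim (S.le hx.1)
    exact ⟨μ, hroot _ (hf.mult_pow hx.2 hμ), hμ⟩
  push Not at hmin
  obtain ⟨hcardR, hcardC⟩ := S.card_symplR hr hexp hz
  haveI := Fact.mk hr
  refine .symplType (R := R) (p := p) (e := e) (k := k) hk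
    ⟨hr, fun x => ?_, S.cyclic_characteristic hr hexp, ?_⟩ habs
    (fun x hx => hsim (S.le hx.1)) hrp ?_ ?_ (S.le_normalizer_symplR hr hexp)
  · have hx : x ^ zexp r = 1 := Subtype.ext x.2.2
    rcases zexp_eq hr with ⟨rfl, h4⟩ | ⟨-, h'⟩
    · exact ⟨2, by simpa [h4] using hx⟩
    · exact ⟨1, by simpa [h'] using hx⟩
  · show Monoid.exponent R = zexp r
    refine Nat.dvd_antisymm
      (Monoid.exponent_dvd_of_forall_pow_eq_one fun x => Subtype.ext x.2.2) ?_
    obtain ⟨g, hg⟩ := IsCyclic.exists_generator (α := Fˣ)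
    have hog : orderOf g = Fintype.card F - 1 := by
      rw [orderOf_eq_card_of_forall_mem_zpowers hg, Nat.card_units, Nat.card_eq_fintype_card]
    have hz' := hz
    obtain ⟨m, hm⟩ := hz'
    have hm0 : m ≠ 0 := by rintro rfl; omega
    have hom : orderOf (g ^ m) = zexp r := by
      rw [orderOf_pow' _ hm0, hog, hm, Nat.gcd_eq_right ⟨zexp r, by ring⟩,
        Nat.mul_div_cancel _ (Nat.pos_of_ne_zero hm0)]
    have hmem : sc ι (g ^ m) ∈ R :=
      (S.sc_mem_symplR hr hexp).2 (by rw [← hom, pow_orderOf_eq_one])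
    have h := Monoid.order_dvd_exponent (⟨_, hmem⟩ : R)
    rwa [← Subgroup.orderOf_coe, orderOf_injective _ sc_injective, hom] at h
  · exact ⟨hpp, hp, he, hcardC ▸ he ▸ hz, fun d hd hde => hcardC ▸ hmin d hd hde⟩
  · rw [hcardC, hcardR, hk]
    rcases zexp_eq hr with ⟨rfl, h4⟩ | ⟨ho, h'⟩
    · refine Or.inr ⟨rfl, ?_, h4, by rw [h4]; ring⟩
      obtain ⟨a, ha⟩ := heven
      have := e.pos
      by_contra hne2
      refine hmin 2 two_pos (by omega) ?_
      rw [h4]
      have hodd : p % 2 = 1 := Nat.odd_iff.1 (hpp.odd_of_ne_two (Ne.symm hrp))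
      have h1 : p ^ 2 % 4 = 1 := by
        rw [Nat.pow_mod]
        rcases (by omega : p % 4 = 1 ∨ p % 4 = 3) with h | h <;> simp [h]
      omega
    · exact Or.inl ⟨ho, h', hk1, by rw [h']; ring⟩

end Cfsg.Agent.Aschbacher
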