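import Cfsg.Agent.Lib.Aschbacher.Forms

/-!
Non-degenerate reflexive sesquilinear forms: adjoints, orthogonal subspaces, similitudes.
-/

set_option autoImplicit false
set_option linter.style.haveILetI false

namespace Cfsg.Agent.Aschbacher

open scoped MatrixGroups Matrix
open Matrix

variable {ι : Type} [Fintype ι] [DecidableEq ι] {F : Type*} [Field F]

/-- A non-degenerate form, linear on the left and `ε`-hermitian for the involution `σ`. -/
structure IsHermLike (σ : F ≃+* F) (ε : F) (f : (ι → F) → (ι → F) → F) : Prop where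
  invol : ∀ a, σ (σ a) = a
  add_left : ∀ x y v, f (x + y) v = f x v + f y v
  smul_left : ∀ (c : F) (x v : ι → F), f (c • x) v = c * f x v
  herm : ∀ v w, f v w = ε * σ (f w v)
  nondegenerate : Geo.IsNondegenerateForm f

omit [Fintype ι] [DecidableEq ι] in
lemma IsHermLike.of_symplectic {f : (ι → F) → (ι → F) → F} (hf : Geo.IsSymplecticForm f) :
    IsHermLike (RingEquiv.refl F) (-1) f :=
  ⟨fun _ => rfl, hf.bilinear.add_left, hf.bilinear.smul_left,
    fun v w => by rw [hf.skew]; simp, hf.nondegenerate⟩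

omit [Fintype ι] [DecidableEq ι] in
lemma IsHermLike.of_unitary {σ : F ≃+* F} {f : (ι → F) → (ι → F) → F}
    (hf : Geo.IsUnitaryForm σ f) : IsHermLike σ 1 f :=
  ⟨hf.involutive, hf.add_left, hf.smul_left,
    fun v w => by rw [one_mul]; exact hf.herm v w, hf.nondegenerate⟩

omit [Fintype ι] [DecidableEq ι] in
lemma IsHermLike.of_symmetric {f : (ι → F) → (ι → F) → F} (hf : Geo.IsSymmetricForm f) :
    IsHermLike (RingEquiv.refl F) 1 f :=
  ⟨fun _ => rfl, hf.bilinear.add_left, hf.bilinear.smul_left,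
    fun v w => by rw [hf.symm]; simp, hf.nondegenerate⟩

/-- The adjoint for the Gram matrix `G`. -/
noncomputable def adjG (σ : F ≃+* F) (G : GL ι F) (X : Matrix ι ι F) : Matrix ι ι F :=
  σ.toRingHom.mapMatrix (((G⁻¹ : GL ι F) : Matrix ι ι F) * Xᵀ * (G : Matrix ι ι F))

variable {σ : F ≃+* F} {ε : F} {f : (ι → F) → (ι → F) → F}

namespace IsHermLike

variable (hf : IsHermLike σ ε f)
include hf

omit [Fintype ι] [DecidableEq ι] in
lemma add_right (v x y : ι → F) : f v (x + y) = f v x + f v y := by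
  rw [hf.herm, hf.add_left, map_add, mul_add, ← hf.herm, ← hf.herm]

omit [Fintype ι] [DecidableEq ι] in
lemma smul_right (c : F) (v x : ι → F) : f v (c • x) = σ c * f v x := by
  rw [hf.herm, hf.smul_left, map_mul, mul_left_comm, ← hf.herm]

omit [Fintype ι] [DecidableEq ι] in
lemma zero_left (v : ι → F) : f 0 v = 0 := by simpa using hf.smul_left 0 0 v

omit [Fintype ι] [DecidableEq ι] in
lemma zero_right (v : ι → F) : f v 0 = 0 := by simpa using hf.smul_right 0 v 0

omit [Fintype ι] [DecidableEq ι] in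
lemma sum_left {κ : Type*} (s : Finset κ) (x : κ → ι → F) (v : ι → F) :
    f (∑ k ∈ s, x k) v = ∑ k ∈ s, f (x k) v := by
  classical
  induction s using Finset.induction_on with
  | empty => simp [hf.zero_left]
  | insert a t ha ih => rw [Finset.sum_insert ha, Finset.sum_insert ha, hf.add_left, ih]

omit [Fintype ι] [DecidableEq ι] in
lemma sum_right {κ : Type*} (s : Finset κ) (v : ι → F) (x : κ → ι → F) :
    f v (∑ k ∈ s, x k) = ∑ k ∈ s, f v (x k) := by
  classical
  induction s using Finset.induction_on with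
  | empty => simp [hf.zero_right]
  | insert a t ha ih => rw [Finset.sum_insert ha, Finset.sum_insert ha, hf.add_right, ih]

omit [Fintype ι] [DecidableEq ι] in
lemma sub_right (v x y : ι → F) : f v (x - y) = f v x - f v y := by
  have h := hf.add_right v (x - y) y
  rw [sub_add_cancel] at h
  rw [h, add_sub_cancel_right]

omit [Fintype ι] [DecidableEq ι] in
lemma eq_zero_comm {u v : ι → F} (h : f u v = 0) : f v u = 0 := by
  rw [hf.herm, h, map_zero, mul_zero]

lemma exists_gram : ∃ G : GL ι F, f = sesqOf σ (G : Matrix ι ι F) := by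
  have h := Aschbacher.exists_gram (σ := σ) hf.add_left hf.smul_left hf.add_right hf.smul_right
  have hu := isUnit_of_nondegenerate (σ := σ) (h ▸ hf.nondegenerate)
  exact ⟨hu.unit, by rw [IsUnit.unit_spec]; exact h⟩

/-- The Gram matrix. -/
noncomputable def gram : GL ι F := hf.exists_gram.choose

lemma eq_sesqOf : f = sesqOf σ (hf.gram : Matrix ι ι F) := hf.exists_gram.choose_spec

/-- The adjoint map. -/
noncomputable def adj (X : Matrix ι ι F) : Matrix ι ι F := adjG σ hf.gram X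

lemma adj_spec (X : Matrix ι ι F) (u v : ι → F) : f (X *ᵥ u) v = f u (hf.adj X *ᵥ v) := by
  have h1 : (fun i => σ ((hf.adj X *ᵥ v) i)) =
      (((hf.gram⁻¹ : GL ι F) : Matrix ι ι F) * Xᵀ * (hf.gram : Matrix ι ι F)) *ᵥ
        fun i => σ (v i) := by
    funext i
    simp only [Matrix.mulVec, dotProduct, map_sum]
    refine Finset.sum_congr rfl fun j _ => ?_
    rw [map_mul]
    congr 1
    exact hf.invol _
  rw [congrFun (congrFun hf.eq_sesqOf _) v, congrFun (congrFun hf.eq_sesqOf u) _]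
  unfold sesqOf
  rw [h1, Matrix.mulVec_mulVec, ← mul_assoc, ← mul_assoc, Units.mul_inv, one_mul,
    ← Matrix.mulVec_mulVec _ Xᵀ, Matrix.dotProduct_mulVec u Xᵀ, Matrix.vecMul_transpose]

lemma adj_unique {X Y : Matrix ι ι F} (h : ∀ u v, f (X *ᵥ u) v = f u (Y *ᵥ v)) :
    hf.adj X = Y := by
  refine mulVec_ext fun v => sub_eq_zero.1 ?_
  by_contra hne
  obtain ⟨⟨u, hu⟩, -⟩ := hf.nondegenerate _ hne
  exact hu (by rw [hf.sub_right, ← hf.adj_spec, h, sub_self])

lemma adj_mul (X Y : Matrix ι ι F) : hf.adj (X * Y) = hf.adj Y * hf.adj X :=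
  hf.adj_unique fun u v => by
    rw [← Matrix.mulVec_mulVec, hf.adj_spec, hf.adj_spec, Matrix.mulVec_mulVec]

lemma adj_add (X Y : Matrix ι ι F) : hf.adj (X + Y) = hf.adj X + hf.adj Y :=
  hf.adj_unique fun u v => by
    rw [Matrix.add_mulVec, hf.add_left, hf.adj_spec, hf.adj_spec, ← hf.add_right, Matrix.add_mulVec]

lemma adj_smul (c : F) (X : Matrix ι ι F) : hf.adj (c • X) = σ c • hf.adj X :=
  hf.adj_unique fun u v => by
    rw [Matrix.smul_mulVec, hf.smul_left, hf.adj_spec, Matrix.smul_mulVec, hf.smul_right, hf.invol]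

lemma adj_one : hf.adj 1 = 1 := hf.adj_unique fun u v => by simp

lemma adj_zero : hf.adj 0 = 0 := hf.adj_unique fun u v => by simp [hf.zero_left, hf.zero_right]

lemma adj_algebraMap (c : F) : hf.adj (algebraMap F _ c) = algebraMap F _ (σ c) := by
  rw [Algebra.algebraMap_eq_smul_one, hf.adj_smul, hf.adj_one, Algebra.algebraMap_eq_smul_one]

lemma adj_adj (X : Matrix ι ι F) : hf.adj (hf.adj X) = X :=
  hf.adj_unique fun u v => by
    rw [hf.herm, ← hf.adj_spec, ← hf.herm]

lemma adj_sum {κ : Type*} (s : Finset κ) (X : κ → Matrix ι ι F) :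
    hf.adj (∑ k ∈ s, X k) = ∑ k ∈ s, hf.adj (X k) :=
  map_sum (⟨⟨hf.adj, hf.adj_zero⟩, hf.adj_add⟩ : Matrix ι ι F →+ Matrix ι ι F) X s

/-- Similitudes commute with the adjoint. -/
lemma adj_cj {g : GL ι F} (hg : g ∈ Geo.similarityGroup f) (X : Matrix ι ι F) :
    hf.adj (cj g X) = cj g (hf.adj X) := by
  obtain ⟨c, hc⟩ := hg
  refine hf.adj_unique fun u v => ?_
  have hu : u = (g : Matrix ι ι F) *ᵥ (((g⁻¹ : GL ι F) : Matrix ι ι F) *ᵥ u) := by
    rw [Matrix.mulVec_mulVec, Units.mul_inv, Matrix.one_mulVec]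
  have hv : v = (g : Matrix ι ι F) *ᵥ (((g⁻¹ : GL ι F) : Matrix ι ι F) *ᵥ v) := by
    rw [Matrix.mulVec_mulVec, Units.mul_inv, Matrix.one_mulVec]
  rw [cj_apply, cj_apply, ← Matrix.mulVec_mulVec, ← Matrix.mulVec_mulVec, ← Matrix.mulVec_mulVec,
    ← Matrix.mulVec_mulVec]
  conv_lhs => rw [hv, hc, hf.adj_spec]
  conv_rhs => rw [hu, hc]

/-- The adjoint of a similitude is a multiple of its inverse. -/
lemma exists_adj_coe {g : GL ι F} (hg : g ∈ Geo.similarityGroup f) :
    ∃ c : F, hf.adj (g : Matrix ι ι F) = c • ((g⁻¹ : GL ι F) : Matrix ι ι F) := by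
  obtain ⟨c, hc⟩ := hg
  refine ⟨σ (c : F), hf.adj_unique fun u v => ?_⟩
  have hv : v = (g : Matrix ι ι F) *ᵥ (((g⁻¹ : GL ι F) : Matrix ι ι F) *ᵥ v) := by
    rw [Matrix.mulVec_mulVec, Units.mul_inv, Matrix.one_mulVec]
  conv_lhs => rw [hv, hc]
  rw [Matrix.smul_mulVec, hf.smul_right, hf.invol]

/-- The span of a group of similitudes is closed under adjoints. -/
lemma adj_mem_spanAlg [Fintype F] {L : Subgroup (GL ι F)} (hL : L ≤ Geo.similarityGroup f)
    {x : Matrix ι ι F} (hx : x ∈ spanAlg L) : hf.adj x ∈ spanAlg L := by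
  refine spanAlg_induction (p := fun y => hf.adj y ∈ spanAlg L) (fun g hg => ?_) ?_ ?_ ?_ hx
  · obtain ⟨c, hc⟩ := hf.exists_adj_coe (hL hg)
    rw [hc]
    exact Subalgebra.smul_mem _ (coe_mem_spanAlg (inv_mem hg)) c
  · rw [hf.adj_zero]; exact zero_mem _
  · intro a b ha hb; rw [hf.adj_add]; exact add_mem ha hb
  · intro c a ha; rw [hf.adj_smul]; exact Subalgebra.smul_mem _ ha _

lemma adj_mem_centre [Fintype F] {A : Subalgebra F (Matrix ι ι F)} (hA : ∀ x ∈ A, hf.adj x ∈ A)
    {x : Matrix ι ι F} (hx : x ∈ centre A) : hf.adj x ∈ centre A := by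
  rw [mem_centre] at hx ⊢
  refine ⟨hA x hx.1, fun a ha => ?_⟩
  have h := congrArg hf.adj (hx.2 _ (hA a ha))
  rw [hf.adj_mul, hf.adj_mul, hf.adj_adj] at h
  exact h.symm

/-! ### Orthogonal subspaces -/

/-- The orthogonal subspace. -/
def orth (W : Submodule F (ι → F)) : Submodule F (ι → F) where
  carrier := {v | ∀ u ∈ W, f u v = 0}
  add_mem' {a b} ha hb u hu := by rw [hf.add_right, ha u hu, hb u hu, add_zero]
  zero_mem' u _ := hf.zero_right u
  smul_mem' c a ha u hu := by rw [hf.smul_right, ha u hu, mul_zero]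

omit [Fintype ι] [DecidableEq ι] in
lemma mem_orth {W : Submodule F (ι → F)} {v : ι → F} :
    v ∈ hf.orth W ↔ ∀ u ∈ W, f u v = 0 := Iff.rfl

omit [DecidableEq ι] in
lemma finrank_orth_ge (W : Submodule F (ι → F)) :
    Fintype.card ι ≤ Module.finrank F W + Module.finrank F (hf.orth W) := by
  classical
  let b := Module.finBasis F W
  let Φ : (ι → F) →ₗ[F] (Fin (Module.finrank F W) → F) :=
    { toFun := fun v i => σ (f (b i : ι → F) v)
      map_add' := fun x y => funext fun i => by simp [hf.add_right]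
      map_smul' := fun c x => funext fun i => by simp [hf.smul_right, hf.invol] }
  have hker : LinearMap.ker Φ ≤ hf.orth W := by
    intro v hv u hu
    have hv' : ∀ i, f (b i : ι → F) v = 0 := fun i => by
      have h := congrFun (LinearMap.mem_ker.1 hv) i
      simpa [Φ] using h
    obtain ⟨c, hc⟩ : ∃ c : Fin (Module.finrank F W) → F, ∑ k, c k • b k = ⟨u, hu⟩ :=
      ⟨_, b.sum_repr ⟨u, hu⟩⟩
    have hc' := congrArg (fun y : W => (y : ι → F)) hc
    simp only [Submodule.coe_sum, Submodule.coe_smul] at hc'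
    rw [← hc', hf.sum_left]
    exact Finset.sum_eq_zero fun k _ => by rw [hf.smul_left, hv', mul_zero]
  have h1 := LinearMap.finrank_range_add_finrank_ker Φ
  have h2 := Submodule.finrank_le (LinearMap.range Φ)
  have h3 := Submodule.finrank_mono hker
  rw [Module.finrank_fintype_fun_eq_card] at h1
  simp only [Module.finrank_fintype_fun_eq_card, Fintype.card_fin] at h2
  omega

omit [Fintype ι] [DecidableEq ι] in
lemma nondegenerateOn {W : Submodule F (ι → F)} (h : W ⊓ hf.orth W = ⊥) :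
    Geo.IsNondegenerateOn f W := by
  intro w hw hw0
  obtain ⟨x, hx, hxw⟩ : ∃ x ∈ W, f x w ≠ 0 := by
    by_contra hc
    push Not at hc
    exact hw0 ((Submodule.eq_bot_iff _).1 h w ⟨hw, hc⟩)
  exact ⟨⟨x, hx, hxw⟩, ⟨x, hx, fun h0 => hxw (hf.eq_zero_comm h0)⟩⟩

omit [Fintype ι] [DecidableEq ι] in
lemma inf_orth_eq_bot {W : Submodule F (ι → F)} (h : Geo.IsNondegenerateOn f W) :
    W ⊓ hf.orth W = ⊥ := by
  refine (Submodule.eq_bot_iff _).2 fun w hw => ?_
  by_contra hw0
  obtain ⟨⟨x, hx, hxw⟩, -⟩ := h w hw.1 hw0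
  exact hxw (hw.2 x hx)

lemma orth_stable {W : Submodule F (ι → F)} {g : GL ι F} (hg : g ∈ Geo.similarityGroup f)
    (hW : ∀ v ∈ W, ((g⁻¹ : GL ι F) : Matrix ι ι F) *ᵥ v ∈ W) {v : ι → F} (hv : v ∈ hf.orth W) :
    (g : Matrix ι ι F) *ᵥ v ∈ hf.orth W := by
  obtain ⟨c, hc⟩ := hg
  intro u hu
  have hu' : u = (g : Matrix ι ι F) *ᵥ (((g⁻¹ : GL ι F) : Matrix ι ι F) *ᵥ u) := by
    rw [Matrix.mulVec_mulVec, Units.mul_inv, Matrix.one_mulVec]
  rw [hu', hc, hv _ (hW u hu), mul_zero]

end IsHermLike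

end Cfsg.Agent.Aschbacher
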