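import Cfsg.Agent.Lib.Aschbacher.FormCoord
import Cfsg.Agent.Lib.Transvec.Herm
import Cfsg.Agent.Lib.Char.Burnside

/-!
Orthogonal bases and the small groups of similitudes without perfect subgroups.
-/

set_option autoImplicit false
set_option linter.style.haveILetI false

namespace Cfsg.Agent.Aschbacher

open scoped MatrixGroups Matrix commutatorElement
open Matrix
open Cfsg.Agent.Transvec.Herm (exists_norm)

variable {ι : Type} [Fintype ι] [DecidableEq ι] {F : Type*} [Field F]
variable {σ : F ≃+* F} {ε : F} {f : (ι → F) → (ι → F) → F}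

/-! ### Orthogonal bases -/

lemma exists_orth_basis [Nonempty ι] (hf : IsHermLike σ ε f) (r : F)
    (hani : ∀ W : Submodule F (ι → F), W ≠ ⊥ → Geo.IsNondegenerateOn f W → ∃ v ∈ W, f v v ≠ 0)
    (hval : ∀ W : Submodule F (ι → F), 2 ≤ Module.finrank F W → Geo.IsNondegenerateOn f W →
      ∃ v ∈ W, f v v = r) (hr : r ≠ 0) :
    ∃ (w : Fin (Fintype.card ι) → ι → F) (δ : F), δ ≠ 0 ∧
      ∀ i j, f (w i) (w j) = if i = j then (if (i : ℕ) + 1 = Fintype.card ι then δ else r) else 0 := by
  classical
  suffices h : ∀ (j : ℕ) (W : Submodule F (ι → F)), Module.finrank F W = j →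
      Geo.IsNondegenerateOn f W → ∃ (w : Fin j → ι → F) (δ : F), δ ≠ 0 ∧ (∀ i, w i ∈ W) ∧
        ∀ i i', f (w i) (w i') = if i = i' then (if (i : ℕ) + 1 = j then δ else r) else 0 by
    obtain ⟨w, δ, hδ, -, hw⟩ := h (Fintype.card ι) ⊤
      (by rw [finrank_top, Module.finrank_fintype_fun_eq_card])
      (fun v _ hv => ⟨(hf.nondegenerate v hv).1.imp fun x hx => ⟨Submodule.mem_top, hx⟩,
        (hf.nondegenerate v hv).2.imp fun x hx => ⟨Submodule.mem_top, hx⟩⟩)
    exact ⟨w, δ, hδ, hw⟩
  intro j
  induction j with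
  | zero => exact fun W _ _ => ⟨Fin.elim0, 1, one_ne_zero, fun i => i.elim0, fun i => i.elim0⟩
  | succ j ih =>
    intro W hW hnd
    have hW0 : W ≠ ⊥ := fun h => by rw [h, finrank_bot] at hW; omega
    obtain ⟨v, hvW, hv0, hv⟩ : ∃ v ∈ W, f v v ≠ 0 ∧ (j ≠ 0 → f v v = r) := by
      by_cases hj : j = 0
      · obtain ⟨v, hv, hv'⟩ := hani W hW0 hnd
        exact ⟨v, hv, hv', fun h => absurd hj h⟩
      · obtain ⟨v, hv, hv'⟩ := hval W (by omega) hnd
        exact ⟨v, hv, hv' ▸ hr, fun _ => hv'⟩
    let W' : Submodule F (ι → F) := W ⊓ hf.orth (Submodule.span F {v})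
    have hspan : ∀ x ∈ W, ∃ a : F, x - a • v ∈ W' := fun x hx => by
      refine ⟨f x v / f v v, sub_mem hx (W.smul_mem _ hvW), fun u hu => ?_⟩
      obtain ⟨b, rfl⟩ := Submodule.mem_span_singleton.1 hu
      rw [hf.smul_left]
      refine mul_eq_zero_of_right _ (hf.eq_zero_comm ?_)
      rw [sub_eq_add_neg, ← neg_smul, hf.add_left, hf.smul_left, neg_mul, div_mul_cancel₀ _ hv0,
        add_neg_cancel]
    have hv' : ∀ x ∈ W', f x v = 0 := fun x hx =>
      hf.eq_zero_comm (hx.2 v (Submodule.mem_span_singleton_self v))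
    have hdisj : W' ⊓ Submodule.span F {v} = ⊥ := by
      refine (Submodule.eq_bot_iff _).2 fun x hx => ?_
      obtain ⟨b, rfl⟩ := Submodule.mem_span_singleton.1 hx.2
      have h := hv' _ hx.1
      rw [hf.smul_left, mul_eq_zero] at h
      rw [h.resolve_right hv0, zero_smul]
    have hsup : W' ⊔ Submodule.span F {v} = W := by
      refine le_antisymm (sup_le inf_le_left ((Submodule.span_singleton_le_iff_mem _ _).2 hvW))
        fun x hx => ?_
      obtain ⟨a, ha⟩ := hspan x hx
      rw [← sub_add_cancel x (a • v)]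
      exact Submodule.add_mem_sup ha (Submodule.smul_mem _ _ (Submodule.mem_span_singleton_self v))
    have hvne : v ≠ 0 := fun h => hv0 (by rw [h, hf.zero_left])
    have hdim : Module.finrank F W' = j := by
      have h := Submodule.finrank_sup_add_finrank_inf_eq W' (Submodule.span F {v})
      rw [hdisj, hsup, finrank_bot, finrank_span_singleton hvne] at h
      omega
    have hnd' : Geo.IsNondegenerateOn f W' := by
      refine hf.nondegenerateOn ((Submodule.eq_bot_iff _).2 fun x hx => ?_)
      by_contra hx0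
      obtain ⟨⟨y, hy, hyx⟩, -⟩ := hnd x hx.1.1 hx0
      obtain ⟨a, ha⟩ := hspan y hy
      apply hyx
      rw [← sub_add_cancel y (a • v), hf.add_left, hx.2 _ ha, hf.smul_left,
        hf.eq_zero_comm (hv' x hx.1), mul_zero, add_zero]
    obtain ⟨w, δ, hδ, hwmem, hw⟩ := ih W' hdim hnd'
    have hzero : ∀ i, f v (w i) = 0 ∧ f (w i) v = 0 := fun i =>
      ⟨hf.eq_zero_comm (hv' _ (hwmem i)), hv' _ (hwmem i)⟩
    by_cases hj : j = 0
    · subst hj
      exact ⟨fun _ => v, f v v, hv0, fun _ => hvW, fun i i' => by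
        rw [if_pos (Subsingleton.elim (α := Fin 1) i i'), if_pos (by omega)]⟩
    refine ⟨Fin.cons v w, δ, hδ, fun i => ?_, fun i i' => ?_⟩
    · induction i using Fin.cases with
      | zero => exact hvW
      | succ i => exact (hwmem i).1
    · induction i using Fin.cases with
      | zero =>
        induction i' using Fin.cases with
        | zero => simp [hv hj, hj, Ne.symm hj]
        | succ i' => simp [(hzero i').1, (Fin.succ_ne_zero i').symm]
      | succ i =>
        induction i' using Fin.cases with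
        | zero => simp [(hzero i).2, Fin.succ_ne_zero i]
        | succ i' => simp [hw i i']

/-- The change of basis to a family with the given Gram matrix. -/
lemma exists_congr {G D : Matrix ι ι F} (hD : IsUnit D) (w : ι → ι → F)
    (h : ∀ i j, sesqOf σ G (w i) (w j) = D i j) :
    ∃ u : GL ι F, (u : Matrix ι ι F)ᵀ * G * σ.toRingHom.mapMatrix (u : Matrix ι ι F) = D := by
  set M : Matrix ι ι F := Matrix.of fun i j => w j i with hM
  have hcol : ∀ j, M *ᵥ Pi.single j 1 = w j := fun j => funext fun i => by simp [hM]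
  have he : Mᵀ * G * σ.toRingHom.mapMatrix M = D := Matrix.ext fun i j => by
    rw [← sesqOf_single σ (Mᵀ * G * σ.toRingHom.mapMatrix M), ← sesqOf_mulVec, hcol, hcol, h]
  have hu : IsUnit M := by
    rw [Matrix.isUnit_iff_isUnit_det, isUnit_iff_ne_zero]
    intro h0
    have h1 := congrArg Matrix.det he
    rw [Matrix.det_mul, Matrix.det_mul, Matrix.det_transpose, h0, zero_mul, zero_mul] at h1
    exact ((Matrix.isUnit_iff_isUnit_det _).1 hD).ne_zero h1.symm
  exact ⟨hu.unit, he⟩

lemma isHermLike_sesqOf (hinv : ∀ a, σ (σ a) = a) {G : Matrix ι ι F} (hu : IsUnit G) {e : F}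
    (hG : Gᵀ = e • σ.toRingHom.mapMatrix G) : IsHermLike σ e (sesqOf σ G) := by
  have hent : ∀ i j, G j i = e * σ (G i j) := fun i j => by
    simpa using congrFun (congrFun hG i) j
  refine ⟨hinv, fun x y v => add_dotProduct _ _ _, fun c x v => smul_dotProduct _ _ _,
    fun v w => ?_, fun v hv => ?_⟩
  · simp only [sesqOf, dotProduct, Matrix.mulVec, map_sum, map_mul, Finset.mul_sum, hinv]
    rw [Finset.sum_comm]
    refine Finset.sum_congr rfl fun a _ => Finset.sum_congr rfl fun b _ => ?_
    rw [hent a b]; ring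
  · have hv' : (fun i => σ (v i)) ≠ 0 := fun h => hv (funext fun i => by
      simpa using congrFun h i)
    constructor
    · obtain ⟨i, hi⟩ := Function.ne_iff.1 (show G *ᵥ (fun i => σ (v i)) ≠ 0 from fun h =>
        hv' (Matrix.mulVec_injective_of_isUnit hu (by simp [h])))
      exact ⟨Pi.single i 1, by simpa [sesqOf, single_dotProduct] using hi⟩
    · obtain ⟨i, hi⟩ := Function.ne_iff.1 (show Gᵀ *ᵥ v ≠ 0 from fun h =>
        hv (Matrix.mulVec_injective_of_isUnit ((Matrix.isUnit_transpose _).2 hu) (by simp [h])))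
      refine ⟨Pi.single i 1, ?_⟩
      have hs : (fun j => σ ((Pi.single i 1 : ι → F) j)) = Pi.single i 1 := by
        funext j
        by_cases hj : j = i
        · subst hj; simp
        · simp [hj]
      rw [sesqOf, hs, Matrix.dotProduct_mulVec, dotProduct_single]
      simpa [Matrix.mulVec_transpose] using hi

variable [Fintype F]

/-- In odd dimension a symmetric form is, up to congruence, a scalar matrix. -/
lemma symm_congr_scalar (h2 : (2 : F) ≠ 0) {n : ℕ} (hn : Odd n) {A : Matrix (Fin n) (Fin n) F}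
    (hu : IsUnit A) (hA : Aᵀ = A) :
    ∃ (u : GL (Fin n) F) (c : F), c ≠ 0 ∧
      (u : Matrix (Fin n) (Fin n) F)ᵀ * A * (u : Matrix (Fin n) (Fin n) F) = c • 1 := by
  classical
  haveI : NeZero n := ⟨by have := hn.pos; omega⟩
  have hid : (RingEquiv.refl F).toRingHom.mapMatrix A = A := rfl
  have hf : IsHermLike (RingEquiv.refl F) 1 (sesqOf (RingEquiv.refl F) A) :=
    isHermLike_sesqOf (fun _ => rfl) hu (by rw [hA, one_smul, hid])
  set g := sesqOf (RingEquiv.refl F) A with hg
  have hsym : ∀ u v, g u v = g v u := fun u v => by rw [hf.herm]; simp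
  have hani : ∀ W : Submodule F (Fin n → F), W ≠ ⊥ → Geo.IsNondegenerateOn g W →
      ∃ v ∈ W, g v v ≠ 0 := by
    intro W hW hnd
    obtain ⟨x, hx, hx0⟩ := W.ne_bot_iff.1 hW
    obtain ⟨⟨y, hy, hyx⟩, -⟩ := hnd x hx hx0
    by_contra h
    push Not at h
    have h3 := h _ (W.add_mem hy hx)
    rw [hf.add_left, hf.add_right, hf.add_right, h x hx, h y hy, hsym x y, zero_add, add_zero,
      ← two_mul] at h3
    exact (mul_ne_zero h2 hyx) h3
  set d := A.det with hd
  have hd0 : d ≠ 0 := ((Matrix.isUnit_iff_isUnit_det _).1 hu).ne_zero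
  have hchar : ringChar F ≠ 2 := fun h => h2 (by
    haveI : CharP F 2 := h ▸ ringChar.charP F
    exact_mod_cast CharP.cast_eq_zero F 2)
  have hval : ∀ W : Submodule F (Fin n → F), 2 ≤ Module.finrank F W →
      Geo.IsNondegenerateOn g W → ∃ v ∈ W, g v v = d := by
    intro W hW hnd
    obtain ⟨a, ha, ha0⟩ := hani W (fun h => by rw [h, finrank_bot] at hW; omega) hnd
    obtain ⟨x, hx, hxa⟩ : ∃ x ∈ W, x ∉ Submodule.span F {a} := by
      by_contra h
      push Not at h
      have h1 : Module.finrank F W ≤ Module.finrank F (Submodule.span F {a}) :=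
        Submodule.finrank_mono h
      have h2' := finrank_span_le_card (R := F) ({a} : Set (Fin n → F))
      simp only [Set.toFinset_singleton, Finset.card_singleton] at h2'
      omega
    set b := x - (g x a / g a a) • a with hb
    have hbW : b ∈ W := sub_mem hx (W.smul_mem _ ha)
    have hba : g b a = 0 := by
      rw [hb, sub_eq_add_neg, ← neg_smul, hf.add_left, hf.smul_left, neg_mul,
        div_mul_cancel₀ _ ha0, add_neg_cancel]
    by_cases hb0 : g b b = 0
    · -- a hyperbolic pair
      have hbne : b ≠ 0 := fun h => hxa (by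
        rw [sub_eq_zero.1 h]; exact Submodule.smul_mem _ _ (Submodule.mem_span_singleton_self a))
      obtain ⟨⟨y, hy, hyb⟩, -⟩ := hnd b hbW hbne
      refine ⟨y + ((d - g y y) / (2 * g y b)) • b, W.add_mem hy (W.smul_mem _ hbW), ?_⟩
      rw [hf.add_left, hf.add_right, hf.add_right, hf.smul_left, hf.smul_left, hf.smul_right,
        hf.smul_right, hb0, hsym b y, RingEquiv.refl_apply]
      field_simp
      ring
    · obtain ⟨s, t, hst⟩ := FiniteField.exists_root_sum_quadratic
        (f := Polynomial.C (g a a) * Polynomial.X ^ 2 - Polynomial.C d)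
        (g := Polynomial.C (g b b) * Polynomial.X ^ 2) (by
          rw [Polynomial.degree_sub_C (by rw [Polynomial.degree_C_mul_X_pow 2 ha0]; norm_num),
            Polynomial.degree_C_mul_X_pow 2 ha0]; rfl)
        (by rw [Polynomial.degree_C_mul_X_pow 2 hb0]; rfl) (FiniteField.odd_card_of_char_ne_two hchar)
      simp only [Polynomial.eval_sub, Polynomial.eval_mul, Polynomial.eval_C, Polynomial.eval_pow,
        Polynomial.eval_X] at hst
      refine ⟨s • a + t • b, W.add_mem (W.smul_mem _ ha) (W.smul_mem _ hbW), ?_⟩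
      rw [hf.add_left, hf.add_right, hf.add_right, hf.smul_left, hf.smul_left, hf.smul_left,
        hf.smul_left, hf.smul_right, hf.smul_right, hf.smul_right, hf.smul_right, hba, hsym a b,
        hba]
      simp only [RingEquiv.refl_apply]
      linear_combination hst
  obtain ⟨w, δ, hδ, hw⟩ := exists_orth_basis hf d hani hval hd0
  let e : Fin n ≃ Fin (Fintype.card (Fin n)) := finCongr (Fintype.card_fin n).symm
  let last : Fin n := ⟨n - 1, by have := hn.pos; omega⟩
  set D : Matrix (Fin n) (Fin n) F :=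
    Matrix.diagonal fun i => if i = last then δ else d with hD
  have hDu : IsUnit D := by
    rw [Matrix.isUnit_iff_isUnit_det, hD, Matrix.det_diagonal, isUnit_iff_ne_zero,
      Finset.prod_ne_zero_iff]
    intro i _
    split_ifs
    · exact hδ
    · exact hd0
  obtain ⟨u, hu'⟩ := exists_congr (σ := RingEquiv.refl F) hDu (fun i => w (e i)) fun i j => by
    rw [← hg, hw, hD, Matrix.diagonal_apply]
    by_cases hij : i = j
    · subst hij
      rw [if_pos rfl, if_pos rfl]
      have hiff : ((e i : ℕ) + 1 = Fintype.card (Fin n)) ↔ i = last := by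
        simp only [e, finCongr_apply, Fin.val_cast, Fintype.card_fin, Fin.ext_iff, last]
        have := i.isLt
        omega
      simp only [hiff]
    · rw [if_neg hij, if_neg fun h => hij (e.injective h)]
  have hu'' : (u : Matrix (Fin n) (Fin n) F)ᵀ * A * (u : Matrix (Fin n) (Fin n) F) = D := hu'
  have hdet := congrArg Matrix.det hu''
  rw [Matrix.det_mul, Matrix.det_mul, Matrix.det_transpose, ← hd, hD, Matrix.det_diagonal,
    Finset.prod_eq_mul_prod_sdiff_singleton_of_mem (Finset.mem_univ last), if_pos rfl,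
    Finset.prod_congr rfl (fun i hi => if_neg (by simpa using hi : i ≠ last)), Finset.prod_const,
    Finset.card_sdiff, Finset.inter_univ, Finset.card_singleton, Finset.card_univ,
    Fintype.card_fin] at hdet
  obtain ⟨j, hj⟩ := hn
  rw [show n - 1 = 2 * j by omega] at hdet
  set du := (u : Matrix (Fin n) (Fin n) F).det
  have hdu : du ≠ 0 := ((Matrix.isUnit_iff_isUnit_det _).1 u.isUnit).ne_zero
  set s := du / d ^ j with hs
  have hs0 : s ≠ 0 := div_ne_zero hdu (pow_ne_zero _ hd0)
  have hδs : δ = d * (s * s) := by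
    rw [hs]
    field_simp
    rw [mul_comm 2 j, pow_mul] at hdet
    linear_combination -hdet
  let v : GL (Fin n) F := Units.mk
    (Matrix.diagonal fun i => if i = last then s⁻¹ else 1)
    (Matrix.diagonal fun i => if i = last then s else 1)
    (by rw [Matrix.diagonal_mul_diagonal, ← Matrix.diagonal_one]; congr 1; funext i
        split_ifs <;> simp [hs0])
    (by rw [Matrix.diagonal_mul_diagonal, ← Matrix.diagonal_one]; congr 1; funext i
        split_ifs <;> simp [hs0])
  refine ⟨u * v, d, hd0, ?_⟩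
  rw [Units.val_mul, Matrix.transpose_mul]
  calc _ = (v : Matrix (Fin n) (Fin n) F)ᵀ * ((u : Matrix (Fin n) (Fin n) F)ᵀ * A *
        (u : Matrix (Fin n) (Fin n) F)) * (v : Matrix (Fin n) (Fin n) F) := by
        simp only [mul_assoc]
    _ = _ := by
        rw [hu'', hD]
        show (Matrix.diagonal _)ᵀ * Matrix.diagonal _ * Matrix.diagonal _ = _
        rw [Matrix.diagonal_transpose, Matrix.diagonal_mul_diagonal, Matrix.diagonal_mul_diagonal,
          Matrix.smul_one_eq_diagonal]
        congr 1; funext i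
        split_ifs
        · rw [hδs]; field_simp
        · ring

/-- A hermitian matrix is congruent to the identity. -/
lemma herm_congr_one (hσ : σ ≠ RingEquiv.refl F) (hinv : ∀ a, σ (σ a) = a) {n : ℕ} [NeZero n]
    {A : Matrix (Fin n) (Fin n) F} (hu : IsUnit A) (hA : Aᵀ = σ.toRingHom.mapMatrix A) :
    ∃ u : GL (Fin n) F, (u : Matrix (Fin n) (Fin n) F)ᵀ * A *
      σ.toRingHom.mapMatrix (u : Matrix (Fin n) (Fin n) F) = 1 := by
  classical
  have hf : IsHermLike σ 1 (sesqOf σ A) := isHermLike_sesqOf hinv hu (by rw [hA, one_smul])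
  have hU : Geo.IsUnitaryForm σ (sesqOf σ A) :=
    ⟨hσ, hinv, hf.add_left, hf.smul_left, fun v w => by rw [hf.herm, one_mul], hf.nondegenerate⟩
  have hani : ∀ W : Submodule F (Fin n → F), W ≠ ⊥ → Geo.IsNondegenerateOn (sesqOf σ A) W →
      ∃ v ∈ W, sesqOf σ A v v ≠ 0 := fun W hW hnd => by
    refine Transvec.Herm.exists_anisotropic hU ?_ hW
    exact hf.inf_orth_eq_bot hnd
  have hself : ∀ v, σ (sesqOf σ A v v) = sesqOf σ A v v := fun v => by
    conv_rhs => rw [hf.herm, one_mul]
  have hone : ∀ W : Submodule F (Fin n → F), W ≠ ⊥ → Geo.IsNondegenerateOn (sesqOf σ A) W →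
      ∃ v ∈ W, sesqOf σ A v v = 1 := by
    intro W hW hnd
    obtain ⟨v, hv, hv0⟩ := hani W hW hnd
    obtain ⟨a, ha⟩ := exists_norm hσ hinv (sesqOf σ A v v)⁻¹ (by rw [map_inv₀, hself])
    refine ⟨a • v, W.smul_mem _ hv, ?_⟩
    rw [hf.smul_left, hf.smul_right, ← mul_assoc, ha, inv_mul_cancel₀ hv0]
  obtain ⟨w, δ, hδ, hw⟩ := exists_orth_basis hf 1 hani
    (fun W hW hnd => hone W (fun h => by rw [h, finrank_bot] at hW; omega) hnd) one_ne_zero
  have hσδ : σ δ = δ := by
    have hlt : Fintype.card (Fin n) - 1 < Fintype.card (Fin n) := by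
      have := NeZero.pos n; simp; omega
    have h := hw ⟨_, hlt⟩ ⟨_, hlt⟩
    rw [if_pos rfl, if_pos (show Fintype.card (Fin n) - 1 + 1 = Fintype.card (Fin n) by
      have := NeZero.pos n; simp; omega)] at h
    rw [← h, hself]
  obtain ⟨a, ha⟩ := exists_norm hσ hinv δ⁻¹ (by rw [map_inv₀, hσδ])
  let c : Fin n → F := fun i => if (i : ℕ) + 1 = n then a else 1
  let e : Fin n ≃ Fin (Fintype.card (Fin n)) := finCongr (Fintype.card_fin n).symm
  refine exists_congr isUnit_one (fun i => c i • w (e i)) fun i j => ?_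
  rw [hf.smul_left, hf.smul_right, hw, Matrix.one_apply]
  by_cases hij : i = j
  · subst hij
    simp only [c, e, finCongr_apply, Fin.val_cast, Fintype.card_fin, if_true]
    split_ifs with h
    · rw [← mul_assoc, ha, inv_mul_cancel₀ hδ]
    · simp
  · rw [if_neg hij, if_neg fun h => hij (e.injective h)]
    simp

/-! ### Groups without perfect subgroups -/

omit [Fintype F] in
lemma isSolvable_perm {n : ℕ} (hn : n ≤ 4) : Group.IsSolvable (Equiv.Perm (Fin n)) := by
  refine Cfsg.Agent.Char.isSolvable_of_card_pq 2 3 Nat.prime_two Nat.prime_three _ _ rfl ?_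
  rw [Nat.card_perm, Nat.card_fin]
  interval_cases n
  · exact ⟨0, 0, rfl⟩
  · exact ⟨0, 0, rfl⟩
  · exact ⟨1, 0, rfl⟩
  · exact ⟨1, 1, rfl⟩
  · exact ⟨3, 1, rfl⟩

omit [Fintype F] in
/-- A perfect group maps trivially to a solvable one. -/
lemma map_eq_one_of_perfect {G K : Type*} [Group G] [Group K] [Group.IsSolvable K] {E : Subgroup G}
    (hE : ⁅E, E⁆ = E) (φ : E →* K) (x : E) : φ x = 1 := by
  have htop : commutator E = ⊤ := by
    refine Subgroup.map_injective E.subtype_injective ?_
    rw [commutator_def, Subgroup.map_commutator, ← MonoidHom.range_eq_map, Subgroup.range_subtype]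
    exact hE
  have hle : ∀ m, φ.range ≤ derivedSeries K m := by
    intro m
    induction m with
    | zero => exact le_top
    | succ m ih =>
      rw [MonoidHom.range_eq_map, ← htop, commutator_def, Subgroup.map_commutator, derivedSeries_succ]
      rw [MonoidHom.range_eq_map] at ih
      exact Subgroup.commutator_mono ih ih
  obtain ⟨m, hm⟩ := Group.IsSolvable.solvable (G := K)
  have h := hle m ⟨x, rfl⟩
  rwa [hm, Subgroup.mem_bot] at h

/-- A perfect monomial group in at most four dimensions is trivial. -/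
lemma eq_bot_of_monomial {n : ℕ} (hn : n ≤ 4) {E : Subgroup (GL (Fin n) F)} (hE : ⁅E, E⁆ = E)
    (hmon : ∀ g ∈ E, ∀ i, ∃ (j : Fin n) (c : F),
      (g : Matrix (Fin n) (Fin n) F) *ᵥ Pi.single i 1 = c • Pi.single j 1) : E = ⊥ := by
  classical
  haveI := isSolvable_perm hn
  choose p c hpc using fun (g : E) i => hmon g g.2 i
  have hc0 : ∀ (g : E) i, c g i ≠ 0 := fun g i h => by
    have h1 := hpc g i
    rw [h, zero_smul] at h1
    have h2 := Matrix.mulVec_injective_of_isUnit ((g : GL (Fin n) F)).isUnit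
      (h1.trans (Matrix.mulVec_zero _).symm)
    simpa using congrFun h2 i
  have huniq : ∀ (g : E) i j (d : F), ((g : GL (Fin n) F) : Matrix (Fin n) (Fin n) F) *ᵥ Pi.single i 1 =
      d • Pi.single j 1 → p g i = j := fun g i j d h => by
    by_contra hne
    have h' := congrFun ((hpc g i).symm.trans h) (p g i)
    simp [hne, hc0] at h'
  have hmul : ∀ (g h : E) i, p (g * h) i = p g (p h i) := fun g h i => by
    refine huniq _ _ _ (c h i * c g (p h i)) ?_
    rw [Subgroup.coe_mul, Units.val_mul, ← Matrix.mulVec_mulVec, hpc, Matrix.mulVec_smul, hpc,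
      smul_smul]
  have hone : ∀ i, p 1 i = i := fun i => huniq _ _ _ 1 (by rw [Subgroup.coe_one, Units.val_one, Matrix.one_mulVec, one_smul])
  let φ : E →* Equiv.Perm (Fin n) :=
    { toFun := fun g =>
        { toFun := p g
          invFun := p g⁻¹
          left_inv := fun i => by rw [← hmul, inv_mul_cancel, hone]
          right_inv := fun i => by rw [← hmul, mul_inv_cancel, hone] }
      map_one' := Equiv.ext hone
      map_mul' := fun g h => Equiv.ext (hmul g h) }
  have hdiag : ∀ g : E, ∀ i, p g i = i := fun g i =>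
    congrArg (fun π : Equiv.Perm (Fin n) => π i) (map_eq_one_of_perfect hE φ g)
  rw [← hE, eq_bot_iff, Subgroup.commutator_le]
  intro a ha b hb
  rw [Subgroup.mem_bot, commutatorElement_eq_one_iff_mul_comm]
  refine Units.ext (Matrix.ext_of_mulVec_single fun i => ?_)
  have h1 := hpc ⟨a, ha⟩ i
  have h2 := hpc ⟨b, hb⟩ i
  rw [hdiag] at h1 h2
  dsimp only at h1 h2
  rw [Units.val_mul, Units.val_mul, ← Matrix.mulVec_mulVec, ← Matrix.mulVec_mulVec, h1, h2,
    Matrix.mulVec_smul, Matrix.mulVec_smul, h1, h2, smul_smul, smul_smul, mul_comm]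

/-- `GL₂(3)` has no perfect subgroups. -/
lemma eq_bot_of_perfect_two_three (hq : Fintype.card F = 3) {E : Subgroup (GL (Fin 2) F)}
    (hE : ⁅E, E⁆ = E) : E = ⊥ := by
  haveI : Group.IsSolvable (GL (Fin 2) F) := by
    refine Cfsg.Agent.Char.isSolvable_of_card_pq 2 3 Nat.prime_two Nat.prime_three _ _ rfl
      ⟨4, 1, ?_⟩
    rw [Matrix.card_GL_field]
    simp [Fin.prod_univ_two, hq]
  rw [eq_bot_iff]
  intro x hx
  exact congrArg Subtype.val (Subtype.ext
    (map_eq_one_of_perfect hE E.subtype ⟨x, hx⟩) : (⟨x, hx⟩ : E) = 1)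

omit [Fintype F] in
lemma card_three_cases [Fintype F] (hq : Fintype.card F = 3) (x : F) :
    x * x = 0 ∨ x * x = 1 := by
  by_cases hx : x = 0
  · exact Or.inl (by rw [hx, zero_mul])
  · right
    have h := FiniteField.pow_card_sub_one_eq_one x hx
    rwa [hq, pow_two] at h

/-- `O₃(3)` has no perfect subgroups. -/
lemma eq_bot_of_perfect_orth (hq : Fintype.card F = 3) {E : Subgroup (GL (Fin 3) F)}
    (hE : ⁅E, E⁆ = E)
    (hiso : ∀ g ∈ E, (g : Matrix (Fin 3) (Fin 3) F)ᵀ * (g : Matrix (Fin 3) (Fin 3) F) = 1) :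
    E = ⊥ := by
  classical
  refine eq_bot_of_monomial (by norm_num) hE fun g hg i => ?_
  have h := congrFun (congrFun (hiso g hg) i) i
  simp only [Matrix.mul_apply, Matrix.transpose_apply, Fin.sum_univ_three, Matrix.one_apply_eq] at h
  have h3 : ((3 : ℕ) : F) = 0 := hq ▸ FiniteField.cast_card_eq_zero F
  push_cast at h3
  have hval : ∀ j, (g : Matrix (Fin 3) (Fin 3) F) j i ≠ 0 →
      (g : Matrix (Fin 3) (Fin 3) F) j i * (g : Matrix (Fin 3) (Fin 3) F) j i = 1 := fun j hj =>
    (card_three_cases hq _).resolve_left (mul_ne_zero hj hj)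
  have hcol : ∀ j, (∀ j', j' ≠ j → (g : Matrix (Fin 3) (Fin 3) F) j' i = 0) →
      ∃ (j : Fin 3) (c : F), (g : Matrix (Fin 3) (Fin 3) F) *ᵥ Pi.single i 1 = c • Pi.single j 1 :=
    fun j hj => ⟨j, (g : Matrix (Fin 3) (Fin 3) F) j i, funext fun j' => by
      by_cases h' : j' = j
      · subst h'; simp
      · simp [h', hj j' h']⟩
  by_cases h0 : (g : Matrix (Fin 3) (Fin 3) F) 0 i = 0 <;>
    by_cases h1 : (g : Matrix (Fin 3) (Fin 3) F) 1 i = 0 <;>
      by_cases h2 : (g : Matrix (Fin 3) (Fin 3) F) 2 i = 0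
  all_goals first
    | (refine hcol 0 fun j hj => ?_; fin_cases j <;> simp_all; done)
    | (refine hcol 1 fun j hj => ?_; fin_cases j <;> simp_all; done)
    | (refine hcol 2 fun j hj => ?_; fin_cases j <;> simp_all; done)
    | (exfalso
       first | rw [h0, hval 1 h1, hval 2 h2] at h
             | rw [hval 0 h0, h1, hval 2 h2] at h
             | rw [hval 0 h0, hval 1 h1, h2] at h
             | rw [hval 0 h0, hval 1 h1, hval 2 h2] at h
       first | exact one_ne_zero (by linear_combination h)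
             | exact one_ne_zero (by linear_combination h3 - h))

end Cfsg.Agent.Aschbacher
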