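import Cfsg.Agent.Lib.Aschbacher.SymplType

/-!
The abelian case of the subgroup theorem: a class-six normaliser, a subfield group or a form.
-/

set_option autoImplicit false
set_option linter.style.haveILetI false

namespace Cfsg.Agent.Aschbacher

open scoped MatrixGroups Matrix
open Matrix

variable {ι : Type} [Fintype ι] [DecidableEq ι] {F : Type*} [Field F] [Fintype F]

namespace AbSetup

variable {H N : Subgroup (GL ι F)} (S : AbSetup H N) {r : ℕ} (hr : r.Prime)
  (hexp : ∀ x ∈ N, x ^ r ∈ Geo.scalars ι F)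

lemma sc_mem_symplR {c : Fˣ} : sc ι c ∈ S.symplR hr hexp ↔ c ^ zexp r = 1 := by
  haveI := S.nonempty
  refine ⟨fun h => sc_injective (ι := ι) ?_, fun h => ⟨S.scal (sc_mem c), ?_⟩⟩
  · rw [map_pow, map_one]; exact h.2
  · rw [← map_pow, h, map_one]

lemma symplR_normal : ∀ g ∈ H, ∀ x ∈ S.symplR hr hexp, g * x * g⁻¹ ∈ S.symplR hr hexp :=
  fun g hg x hx => ⟨S.normal g hg x hx.1, by rw [conj_pow, hx.2, mul_one, mul_inv_cancel]⟩

lemma le_normalizer_symplR : H ≤ Geo.subgroupNormalizer (S.symplR hr hexp) := by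
  intro g hg
  refine Subgroup.mem_normalizer_iff.2 fun x => ⟨S.symplR_normal hr hexp g hg x, fun h => ?_⟩
  have h' := S.symplR_normal hr hexp g⁻¹ (inv_mem hg) _ h
  simpa [mul_assoc] using h'

/-- Coset representatives lying in the symplectic-type group. -/
lemma exists_reps : ∃ t : S.Q → N, (∀ a, (QuotientGroup.mk (t a) : S.Q) = a) ∧
    (∀ a, (t a : GL ι F) ∈ S.symplR hr hexp) := by
  have h : ∀ a : S.Q, ∃ y : N, (QuotientGroup.mk y : S.Q) = a ∧
      (y : GL ι F) ∈ S.symplR hr hexp := by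
    intro a
    obtain ⟨x, rfl⟩ := QuotientGroup.mk_surjective a
    obtain ⟨c, hc⟩ := S.exists_scaled hr hexp x.2
    refine ⟨⟨sc ι c * x, mul_mem (S.scal (sc_mem c)) x.2⟩, ?_, mul_mem (S.scal (sc_mem c)) x.2, hc⟩
    rw [S.mk_eq_iff]
    simp only [_root_.mul_inv_rev, ← map_inv]
    rw [← sc_comm, mul_assoc, inv_mul_cancel, mul_one]
    exact sc_mem _
  choose t ht ht' using h
  exact ⟨t, ht, ht'⟩

include S in
lemma exists_prim_root (hexp : ∀ x ∈ N, x ^ r ∈ Geo.scalars ι F) (hr : r.Prime) :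
    r ∣ Fintype.card F - 1 := by
  obtain ⟨x, hx, hxZ⟩ := SetLike.exists_of_lt (lt_of_le_of_ne S.scal (Ne.symm S.ne_scalars))
  obtain ⟨y, hy, hyx⟩ : ∃ y ∈ N, y * x ≠ x * y := by
    by_contra h
    push Not at h
    exact hxZ (S.commutes_iff.1 h)
  obtain ⟨c, hc⟩ := S.comm x hx y hy
  have hc1 : c ≠ 1 := fun h => hyx (by rw [hc, h, map_one, one_mul])
  haveI := Fact.mk hr
  have ho : orderOf c = r := orderOf_eq_prime (S.comm_pow_eq_one hexp hx hc) hc1
  classical
  rw [← ho, ← Fintype.card_units]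
  exact orderOf_dvd_card

lemma card_roots {z : ℕ} (hz : z ∣ Fintype.card F - 1) :
    Nat.card {c : Fˣ // c ^ z = 1} = z := by
  have h := IsCyclic.card_powMonoidHom_ker (G := Fˣ) z
  rw [Nat.card_units, Nat.card_eq_fintype_card (α := F), Nat.gcd_eq_right hz] at h
  exact h

lemma card_symplR (hz : zexp r ∣ Fintype.card F - 1) :
    Nat.card (S.symplR hr hexp) = zexp r * Fintype.card ι ^ 2 ∧
      Nat.card (Subgroup.center (S.symplR hr hexp)) = zexp r := by
  classical
  haveI := S.nonempty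
  obtain ⟨t, ht, htR⟩ := S.exists_reps hr hexp
  constructor
  · rw [← card_roots hz, ← S.card_Q, ← Nat.card_prod]
    refine (Nat.card_congr (Equiv.ofBijective
      (fun p : {c : Fˣ // c ^ zexp r = 1} × S.Q => (⟨sc ι p.1.1 * (t p.2 : GL ι F),
        mul_mem ((S.sc_mem_symplR hr hexp).2 p.1.2) (htR p.2)⟩ : S.symplR hr hexp)) ⟨?_, ?_⟩)).symm
    · intro p q h
      have h' : sc ι p.1.1 * (t p.2 : GL ι F) = sc ι q.1.1 * (t q.2 : GL ι F) :=
        congrArg (fun v : S.symplR hr hexp => (v : GL ι F)) h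
      have h2 : p.2 = q.2 := by
        rw [← ht p.2, ← ht q.2, S.mk_eq_iff]
        rw [← eq_inv_mul_iff_mul_eq, ← mul_assoc, ← map_inv, ← map_mul] at h'
        rw [h', sc_comm, _root_.mul_inv_rev, mul_assoc, inv_mul_cancel, mul_one]
        exact inv_mem (sc_mem _)
      rw [h2, mul_left_inj] at h'
      exact Prod.ext (Subtype.ext (sc_injective h')) h2
    · rintro ⟨x, hx⟩
      obtain ⟨c, hc⟩ := exists_sc ((S.mk_eq_iff (t (QuotientGroup.mk ⟨x, hx.1⟩)) ⟨x, hx.1⟩).1 (ht _))
      have hxc : x = sc ι c * (t (QuotientGroup.mk ⟨x, hx.1⟩) : GL ι F) := by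
        rw [sc_comm, ← hc, mul_inv_cancel_left]
      refine ⟨(⟨c, (S.sc_mem_symplR hr hexp).1 ?_⟩, _), Subtype.ext hxc.symm⟩
      exact hc ▸ mul_mem (inv_mem (htR _)) hx
  · refine Eq.trans (Nat.card_congr ?_) (card_roots hz)
    refine (Equiv.ofBijective (fun c : {c : Fˣ // c ^ zexp r = 1} =>
      (⟨⟨sc ι c.1, (S.sc_mem_symplR hr hexp).2 c.2⟩, Subgroup.mem_center_iff.2 fun y =>
        Subtype.ext (sc_comm c.1 (y : GL ι F)).symm⟩ :
          Subgroup.center (S.symplR hr hexp))) ⟨?_, ?_⟩).symm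
    · intro a b h
      exact Subtype.ext (sc_injective (congrArg
        (fun v : Subgroup.center (S.symplR hr hexp) => ((v : S.symplR hr hexp) : GL ι F)) h))
    · rintro ⟨⟨x, hx⟩, hxc⟩
      have hmem : x ∈ Geo.scalars ι F := S.commutes_iff.1 fun y hy => by
        obtain ⟨c, hc⟩ := S.exists_scaled hr hexp hy
        have h := congrArg (fun v : S.symplR hr hexp => (v : GL ι F))
          (Subgroup.mem_center_iff.1 hxc ⟨sc ι c * y, mul_mem (S.scal (sc_mem c)) hy, hc⟩)
        simp only [Subgroup.coe_mul, mul_assoc] at h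
        rw [← mul_assoc x, ← sc_comm c x, mul_assoc] at h
        exact mul_left_cancel h
      obtain ⟨c, rfl⟩ := exists_sc hmem
      exact ⟨⟨c, (S.sc_mem_symplR hr hexp).1 hx⟩, rfl⟩

lemma cyclic_characteristic (A : Subgroup (S.symplR hr hexp)) (hA : A.Characteristic)
    (hcomm : IsMulCommutative A) : IsCyclic A := by
  haveI := S.nonempty
  have hAN : A.map (S.symplR hr hexp).subtype ≤ N := (Subgroup.map_subtype_le _).trans fun x hx => hx.1
  have hnorm : ∀ g ∈ H, ∀ x ∈ A.map (S.symplR hr hexp).subtype, g * x * g⁻¹ ∈ A.map (S.symplR hr hexp).subtype := by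
    rintro g hg _ ⟨a, ha, rfl⟩
    let φ : (S.symplR hr hexp) ≃* (S.symplR hr hexp) :=
      { toFun := fun x => ⟨g * x * g⁻¹, S.symplR_normal hr hexp g hg _ x.2⟩
        invFun := fun x => ⟨g⁻¹ * x * g, by
          simpa using S.symplR_normal hr hexp g⁻¹ (inv_mem hg) _ x.2⟩
        left_inv := fun x => Subtype.ext (by show g⁻¹ * (g * x * g⁻¹) * g = x; group)
        right_inv := fun x => Subtype.ext (by show g * (g⁻¹ * x * g) * g⁻¹ = x; group)
        map_mul' := fun x y => Subtype.ext (by simp [mul_assoc]) }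
    refine ⟨φ a, ?_, rfl⟩
    have h := Subgroup.characteristic_iff_map_le.1 hA φ
    exact h ⟨a, ha, rfl⟩
  have hsup : A.map (S.symplR hr hexp).subtype ⊔ Geo.scalars ι F = Geo.scalars ι F := by
    refine (S.minimal _ le_sup_right (sup_le hAN S.scal) ?_).resolve_right fun h => ?_
    · intro g hg x hx
      obtain ⟨a, ha, z, hz, rfl⟩ := Subgroup.mem_sup_of_normal_right.1 hx
      rw [← conj_mul]
      exact Subgroup.mul_mem_sup (hnorm g hg a ha) (Geo.scalars_normal.conj_mem z hz g)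
    · refine S.ne_scalars (le_antisymm (fun x hx => S.commutes_iff.1 fun y hy => ?_) S.scal)
      obtain ⟨a, ⟨a', ha', rfl⟩, z, hz, rfl⟩ := Subgroup.mem_sup_of_normal_right.1 (h.ge hx)
      obtain ⟨b, ⟨b', hb', rfl⟩, w, hw, rfl⟩ := Subgroup.mem_sup_of_normal_right.1 (h.ge hy)
      have hab : (a' : GL ι F) * b' = b' * a' := congrArg Subtype.val (congrArg Subtype.val
        (hcomm.is_comm.comm (⟨a', ha'⟩ : A) ⟨b', hb'⟩))
      have e : ∀ a b z w : GL ι F, z ∈ Geo.scalars ι F → w ∈ Geo.scalars ι F →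
          a * z * (b * w) = a * b * (z * w) := fun a b z w hz _ => by
        rw [mul_assoc, ← mul_assoc z, scalars_comm hz b]; simp only [mul_assoc]
      show (b' : GL ι F) * w * ((a' : GL ι F) * z) = (a' : GL ι F) * z * ((b' : GL ι F) * w)
      rw [e _ _ _ _ hw hz, e _ _ _ _ hz hw, hab, scalars_comm hz w]
  have hle : ∀ a : A, ((a : (S.symplR hr hexp)) : GL ι F) ∈ Geo.scalars ι F := fun a =>
    hsup.le (Subgroup.mem_sup_left ⟨(a : (S.symplR hr hexp)), a.2, rfl⟩)
  obtain ⟨i⟩ := ‹Nonempty ι›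
  choose c hc using fun a => exists_sc (hle a)
  let f : A →* F :=
    { toFun := fun a => (c a : F)
      map_one' := by
        have : c 1 = 1 := sc_injective (ι := ι) (by rw [← hc]; simp)
        simp [this]
      map_mul' := fun a b => by
        have : c (a * b) = c a * c b := sc_injective (ι := ι) (by
          rw [map_mul, ← hc, ← hc, ← hc]; rfl)
        simp [this] }
  refine isCyclic_of_injective_ringHom f fun a b h => ?_
  exact Subtype.ext (Subtype.ext (by rw [hc a, hc b, Units.ext h]))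

end AbSetup

open AbSetup (zexp zexp_eq)

/-- The abelian case. -/
theorem symplCase {H N : Subgroup (GL ι F)} (S : AbSetup H N) : SymplCase H := by
  classical
  haveI := S.nonempty
  obtain ⟨r, hr, hexp⟩ := S.exists_prime_exponent
  obtain ⟨k, hk1, hk⟩ := S.dim_prime_pow hr hexp
  set R := S.symplR hr hexp with hR
  obtain ⟨t, ht, htR⟩ := S.exists_reps hr hexp
  haveI := Fintype.ofFinite S.Q
  have hind := S.linearIndependent_reps t ht
  have hspan := S.span_reps t ht
  have hrep : ∀ x ∈ R, ∃ (c : Fˣ) (a : S.Q), sc ι c ∈ R ∧ x = sc ι c * (t a : GL ι F) := by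
    intro x hx
    obtain ⟨c, hc⟩ := AbSetup.exists_sc
      ((S.mk_eq_iff (t (QuotientGroup.mk ⟨x, hx.1⟩)) ⟨x, hx.1⟩).1 (ht _))
    exact ⟨c, _, hc ▸ mul_mem (inv_mem (htR _)) hx, by rw [sc_comm, ← hc, mul_inv_cancel_left]⟩
  have htop : spanAlg R = ⊤ := by
    refine Algebra.eq_top_iff.2 fun x => ?_
    have hle : Submodule.span F (Set.range fun a => ((t a : GL ι F) : Matrix ι ι F)) ≤
        Subalgebra.toSubmodule (spanAlg R) :=
      Submodule.span_le.2 (by rintro _ ⟨a, rfl⟩; exact coe_mem_spanAlg (htR a))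
    exact hle (hspan.ge (Submodule.mem_top : x ∈ ⊤))
  have habs := absIrred_of_spanAlg_eq_top htop
  have hn := S.symplR_normal hr hexp
  obtain ⟨p, hp⟩ := CharP.exists F
  haveI hpf := Fact.mk (CharP.char_is_prime F p)
  have hpp : p.Prime := hpf.out
  obtain ⟨e, -, he⟩ := FiniteField.card F p
  have hrdvd := S.exists_prim_root hexp hr
  have hq1 : 1 < Fintype.card F := Fintype.one_lt_card
  have hrp : r ≠ p := by
    rintro rfl
    have h1 : r ∣ Fintype.card F := he ▸ dvd_pow_self r e.pos.ne'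
    have h2 := Nat.dvd_sub h1 hrdvd
    rw [Nat.sub_sub_self (by omega)] at h2
    exact hr.one_lt.ne' (Nat.dvd_one.1 h2)
  by_cases hz : zexp r ∣ Fintype.card F - 1
  swap
  · obtain ⟨rfl, hz4⟩ := (zexp_eq hr).resolve_right fun h => hz (by rw [h.2]; exact hrdvd)
    have h2 : (2 : F) ≠ 0 := by
      intro h
      have := (CharP.cast_eq_zero_iff F p 2).1 (by exact_mod_cast h)
      exact hrp ((Nat.prime_dvd_prime_iff_eq hpp Nat.prime_two).1 this).symm
    have hσ : ∀ c : Fˣ, sc ι c ∈ R → (RingEquiv.refl F) (c : F) = (c : F)⁻¹ := by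
      intro c hc
      have h4 : c ^ 4 = 1 := hz4 ▸ (S.sc_mem_symplR hr hexp).1 hc
      have ho : orderOf c ∣ 4 := orderOf_dvd_of_pow_eq_one h4
      have ho' : orderOf c ∣ Fintype.card F - 1 := Fintype.card_units F ▸ orderOf_dvd_card
      have ho2 : orderOf c ∣ 2 := by
        rcases (Nat.dvd_prime_pow Nat.prime_two (m := 2)).1 ho with ⟨j, hj, hoj⟩
        interval_cases j
        · simp [hoj]
        · simp [hoj]
        · exact absurd (hz4 ▸ (hoj ▸ ho' : 2 ^ 2 ∣ Fintype.card F - 1)) hz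
      have hc2 : (c : F) * c = 1 := by
        have h := congrArg Units.val (orderOf_dvd_iff_pow_eq_one.1 ho2)
        simpa [sq] using h
      exact eq_inv_of_mul_eq_one_left hc2
    obtain ⟨G, hG⟩ := exists_invariant_gram R (fun a => (t a : GL ι F)) htR hind hspan hrep
      (RingEquiv.refl F) hσ
    rcases exists_quad_or_symplectic habs h2 G hG with ⟨Q, hQ, hfix⟩ | ⟨f, hf, hfix⟩
    · exact .quad hQ h2 (similar_of_fixes_quad habs hn hQ h2 hfix)
    · exact .symplectic hf (similar_of_fixes_bilinear habs hn hf.bilinear hf.nondegenerate hfix)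
  by_cases hmin : ∃ d : ℕ, 0 < d ∧ d < (e : ℕ) ∧ zexp r ∣ p ^ d - 1
  · obtain ⟨d, hd0, hde, hd⟩ := hmin
    set d' := Nat.gcd d e with hd'
    have hd'0 : 0 < d' := Nat.gcd_pos_of_pos_left _ hd0
    have hzd : zexp r ∣ p ^ d' - 1 := by
      rw [hd', ← Nat.pow_sub_one_gcd_pow_sub_one]
      exact Nat.dvd_gcd hd (he ▸ hz)
    obtain ⟨F₁, hF₁, hF₁m⟩ := exists_subfield_card he hd'0 (Nat.gcd_dvd_right d e)
    have hne : F₁ ≠ ⊤ := by
      intro h
      have hlt : p ^ d' < Fintype.card F := he ▸ Nat.pow_lt_pow_right hpp.one_lt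
        (lt_of_le_of_lt (Nat.gcd_le_left _ hd0) hde)
      rw [← hF₁, h, ← Nat.card_eq_fintype_card] at hlt
      exact hlt.ne (Nat.card_congr Subfield.topEquiv.toEquiv)
    have hcF : ∀ c : Fˣ, sc ι c ∈ R → (c : F) ∈ F₁ := by
      intro c hc
      obtain ⟨m, hm⟩ := hzd
      have h1 : c ^ (p ^ d' - 1) = 1 := by
        rw [hm, pow_mul, (S.sc_mem_symplR hr hexp).1 hc, one_pow]
      have h2 : c ^ (p ^ d') = c := by
        rw [show p ^ d' = p ^ d' - 1 + 1 from (Nat.sub_add_cancel (Nat.one_le_pow _ _ hpp.pos)).symm,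
          pow_succ, h1, one_mul]
      exact (hF₁m _).2 (by simpa using congrArg Units.val h2)
    have hmem : ∀ x ∈ R, (x : Matrix ι ι F) ∈
        Submodule.span F₁ (Set.range fun a => ((t a : GL ι F) : Matrix ι ι F)) := by
      intro x hx
      obtain ⟨c, a, hc, rfl⟩ := hrep x hx
      rw [sc_mul_val]
      exact Submodule.smul_mem _ (⟨(c : F), hcF c hc⟩ : F₁) (Submodule.subset_span ⟨a, rfl⟩)
    obtain ⟨B, hB⟩ := exists_realise F₁ _ hind hspan (by simpa using hmem 1 (one_mem R))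
      (fun a b => hmem _ (mul_mem (htR a) (htR b)))
    refine .subfield hne (le_subfieldSubgroup htop hn F₁ (B := B) ?_)
    rintro _ ⟨x, hx, rfl⟩ i j
    exact hB _ (hmem x hx) i j
  push Not at hmin
  rcases Nat.even_or_odd (e : ℕ) with ⟨h, hh⟩ | hodd
  · have hh0 : 0 < h := by have := e.pos; omega
    have hnd : ¬ zexp r ∣ p ^ h - 1 := hmin h hh0 (by omega)
    have hpl : zexp r ∣ p ^ h + 1 := by
      have hfac : zexp r ∣ (p ^ h + 1) * (p ^ h - 1) := by
        rw [← Nat.sq_sub_sq, one_pow, ← pow_mul, show h * 2 = (e : ℕ) by omega, ← he]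
        exact hz
      rcases AbSetup.zexp_eq hr with ⟨rfl, h4⟩ | ⟨-, h'⟩
      · rw [h4] at hnd hz ⊢
        have hodd : p ^ h % 2 = 1 := Nat.odd_iff.1
          ((hpp.odd_of_ne_two (Ne.symm hrp)).pow)
        omega
      · rw [h'] at hfac hnd ⊢
        exact (hr.dvd_mul.1 hfac).resolve_right hnd
    have hbij : Function.Bijective (iterateFrobenius F p h) :=
      Finite.injective_iff_bijective.1 (RingHom.injective _)
    let σ : F ≃+* F := RingEquiv.ofBijective _ hbij
    have hσ2 : ∀ a, σ (σ a) = a := fun a => by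
      show (a ^ p ^ h) ^ p ^ h = a
      rw [← pow_mul, ← pow_add, ← hh, ← he, FiniteField.pow_card]
    have hσ1 : σ ≠ RingEquiv.refl F := by
      intro heq
      obtain ⟨g, hg⟩ := IsCyclic.exists_generator (α := Fˣ)
      have hog : orderOf g = Fintype.card F - 1 := by
        rw [orderOf_eq_card_of_forall_mem_zpowers hg, Nat.card_units, Nat.card_eq_fintype_card]
      have h1 : g ^ p ^ h = g := Units.ext (by
        rw [Units.val_pow_eq_pow_val]
        exact RingEquiv.congr_fun heq (g : F))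
      rw [show p ^ h = p ^ h - 1 + 1 from (Nat.sub_add_cancel (Nat.one_le_pow _ _ hpp.pos)).symm,
        pow_succ, mul_eq_right, ← orderOf_dvd_iff_pow_eq_one, hog] at h1
      exact hnd (hz.trans h1)
    have hσ : ∀ c : Fˣ, sc ι c ∈ R → σ (c : F) = (c : F)⁻¹ := by
      intro c hc
      obtain ⟨m, hm⟩ := hpl
      have h1 : c ^ (p ^ h + 1) = 1 := by
        rw [hm, pow_mul, (S.sc_mem_symplR hr hexp).1 hc, one_pow]
      refine eq_inv_of_mul_eq_one_left ?_
      show (c : F) ^ p ^ h * c = 1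
      rw [← pow_succ]
      simpa using congrArg Units.val h1
    obtain ⟨G, hG⟩ := exists_invariant_gram R (fun a => (t a : GL ι F)) htR hind hspan hrep σ hσ
    obtain ⟨f, hf, hfix⟩ := exists_unitary habs σ hσ1 hσ2 G hG
    exact .unitary hf (similar_of_fixes_unitary habs hn hf hfix)
  refine .data hk (fun hn3 => ?_) (S.le_normalizer_symplR hr hexp)
  obtain ⟨hcardR, hcardC⟩ := S.card_symplR hr hexp hz
  have hz0 : zexp r ≠ 0 := mul_ne_zero hr.ne_zero (Nat.gcd_pos_of_pos_left _ two_pos).ne'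
  haveI := Fact.mk hr
  refine ⟨⟨hr, fun x => ?_, S.cyclic_characteristic hr hexp, ?_⟩, habs, ?_⟩
  · have hx : x ^ zexp r = 1 := Subtype.ext x.2.2
    rcases AbSetup.zexp_eq hr with ⟨rfl, h4⟩ | ⟨-, h'⟩
    · exact ⟨2, by simpa [h4] using hx⟩
    · exact ⟨1, by simpa [h'] using hx⟩
  · show Monoid.exponent R = zexp r
    refine Nat.dvd_antisymm
      (Monoid.exponent_dvd_of_forall_pow_eq_one fun x => Subtype.ext x.2.2) ?_
    obtain ⟨g, hg⟩ := IsCyclic.exists_generator (α := Fˣ)
    have hog : orderOf g = Fintype.card F - 1 := by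
      rw [orderOf_eq_card_of_forall_mem_zpowers hg, Nat.card_units, Nat.card_eq_fintype_card]
    obtain ⟨m, hm⟩ := hz
    have hm0 : m ≠ 0 := by rintro rfl; omega
    have hom : orderOf (g ^ m) = zexp r := by
      rw [orderOf_pow' _ hm0, hog, hm, Nat.gcd_eq_right ⟨zexp r, by ring⟩,
        Nat.mul_div_cancel _ (Nat.pos_of_ne_zero hm0)]
    have hmem : sc ι (g ^ m) ∈ R :=
      (S.sc_mem_symplR hr hexp).2 (by rw [← hom, pow_orderOf_eq_one])
    have h := Monoid.order_dvd_exponent (⟨_, hmem⟩ : R)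
    rwa [← Subgroup.orderOf_coe, orderOf_injective _ sc_injective, hom] at h
  · refine ⟨p, e, hrp, ⟨hpp, hp, he, hcardC ▸ he ▸ hz, fun d hd hde => hcardC ▸ hmin d hd hde⟩, ?_⟩
    rw [hcardC, hcardR, hk]
    rcases AbSetup.zexp_eq hr with ⟨rfl, h4⟩ | ⟨ho, h'⟩
    · refine Or.inr (Or.inl ⟨rfl, ?_, h4, ?_, k, ?_⟩)
      · by_contra he1
        have h1 := hmin 1 one_pos (by have := e.pos; omega)
        apply h1
        obtain ⟨j, hj⟩ := hodd
        have hmod : p ^ (e : ℕ) % 4 = p % 4 := by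
          have hp2 : p * p % 4 = 1 := by
            obtain ⟨u, hu⟩ := hpp.odd_of_ne_two (Ne.symm hrp)
            subst hu
            ring_nf
            omega
          rw [hj, pow_succ, pow_mul, Nat.mul_mod, Nat.pow_mod, sq, hp2, one_pow]
          omega
        rw [pow_one, h4]
        rw [h4, he] at hz
        have := hpp.two_le
        have := Nat.one_le_pow (e : ℕ) p hpp.pos
        omega
      · by_contra hlt
        have : k < 2 := by
          by_contra hk2
          exact hlt (le_trans (by norm_num) (Nat.pow_le_pow_right two_pos (Nat.le_of_not_lt hk2)))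
        interval_cases k
        omega
      · rw [h4]; ring
    · refine Or.inl ⟨ho, hodd, h', k, hk1, ?_⟩
      rw [h']; ring

end Cfsg.Agent.Aschbacher
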