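import Cfsg.Agent.Lib.Aschbacher.Normal
import Cfsg.Agent.Lib.Aschbacher.Components
import Cfsg.Agent.Lib.Aschbacher.SymplCase

/-!
The subgroup theorem for a finite general linear group, before sorting into classes.
-/

set_option autoImplicit false
set_option linter.style.haveILetI false

namespace Cfsg.Agent.Aschbacher

open scoped MatrixGroups Matrix commutatorElement
open Matrix

variable {ι : Type} [Fintype ι] [DecidableEq ι] {F : Type*} [Field F]

/-- The possible outcomes. -/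
inductive AschCase [Fintype F] (H : Subgroup (GL ι F)) : Prop
  | reducible {W : Submodule F (ι → F)} (h0 : W ≠ ⊥) (h1 : W ≠ ⊤)
      (h : H ≤ Geo.subspaceStabilizer W)
  | decomp {t m : ℕ} {D : Fin t → Submodule F (ι → F)} (hD : Geo.IsMDecomposition m D)
      (h : H ≤ Geo.decompositionStabilizer D)
  | field {r : ℕ} {K : Subalgebra F (Matrix ι ι F)} (hr : r.Prime)
      (hdvd : r ∣ Fintype.card ι) (hK : Geo.IsFieldSubalgebra r K)
      (h : H ≤ Geo.subalgebraNormalizer K)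
  | tensor {a b : ℕ} {eq : ι ≃ Fin a × Fin b} {P : GL ι F} (ha : 2 ≤ a) (hb : 2 ≤ b)
      (h : Normalises H ((kemb eq P).range : Set (Matrix ι ι F)))
  | sympl (h : SymplCase H)
  | nonab (h : NonabCase H)

lemma subspaceStabilizer_mem {W : Submodule F (ι → F)} {g : GL ι F}
    (h : ∀ v ∈ W, (g : Matrix ι ι F) *ᵥ v ∈ W) : g ∈ Geo.subspaceStabilizer W := by
  have hinj : Function.Injective fun v : ι → F => (g : Matrix ι ι F) *ᵥ v :=
    Matrix.mulVec_injective_of_isUnit g.isUnit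
  have heq : W.map (Matrix.toLin' (g : Matrix ι ι F)) = W :=
    Submodule.eq_of_le_of_finrank_eq (by rintro _ ⟨v, hv, rfl⟩; simpa using h v hv)
      (LinearEquiv.finrank_eq (Submodule.equivMapOfInjective _
        (fun a b hab => hinj (by simpa [Matrix.toLin'_apply] using hab)) _).symm)
  intro v
  refine ⟨h v, fun hv => ?_⟩
  obtain ⟨w, hw, hwv⟩ := heq.ge hv
  have e : w = v := hinj (by simpa [Matrix.toLin'_apply, Geo.subspaceStabilizer, glToMat] using hwv)
  exact e ▸ hw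

lemma exists_minimal_normal [Finite F] {H : Subgroup (GL ι F)} (hZH : Geo.scalars ι F ≤ H)
    (hne : H ≠ Geo.scalars ι F) :
    ∃ N : Subgroup (GL ι F), Geo.scalars ι F ≤ N ∧ N ≤ H ∧ N ≠ Geo.scalars ι F ∧
      (∀ g ∈ H, ∀ x ∈ N, g * x * g⁻¹ ∈ N) ∧
      ∀ M : Subgroup (GL ι F), Geo.scalars ι F ≤ M → M ≤ N →
        (∀ g ∈ H, ∀ x ∈ M, g * x * g⁻¹ ∈ M) → M = Geo.scalars ι F ∨ M = N := by
  haveI : Finite (Subgroup (GL ι F)) := inferInstance
  let P : Set (Subgroup (GL ι F)) := {M | Geo.scalars ι F ≤ M ∧ M ≤ H ∧ M ≠ Geo.scalars ι F ∧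
    ∀ g ∈ H, ∀ x ∈ M, g * x * g⁻¹ ∈ M}
  obtain ⟨N, hN⟩ := (Set.toFinite P).exists_minimal
    ⟨H, hZH, le_rfl, hne, fun g hg x hx => H.mul_mem (H.mul_mem hg hx) (H.inv_mem hg)⟩
  obtain ⟨h1, h2, h3, h4⟩ := hN.prop
  refine ⟨N, h1, h2, h3, h4, fun M hM hMN hMn => ?_⟩
  by_cases h : M = Geo.scalars ι F
  · exact Or.inl h
  · exact Or.inr (le_antisymm hMN (hN.le_of_le ⟨hM, hMN.trans h2, h, hMn⟩ hMN))

theorem aschbacher [Fintype F] {H : Subgroup (GL ι F)} (hZH : Geo.scalars ι F ≤ H)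
    (hn : 1 < Fintype.card ι) : AschCase H := by
  classical
  haveI : Nonempty ι := Fintype.card_pos_iff.1 (by omega)
  by_cases hirr : Geo.ActsIrreducibly (Geo.matrixSet H)
  swap
  · obtain ⟨W, hW, h0, h1⟩ : ∃ W : Submodule F (ι → F),
        (∀ s ∈ Geo.matrixSet H, W.map (Matrix.toLin' s) ≤ W) ∧ W ≠ ⊥ ∧ W ≠ ⊤ := by
      simpa [Geo.ActsIrreducibly, not_or] using hirr
    exact .reducible h0 h1 fun g hg => subspaceStabilizer_mem fun v hv =>
      hW _ ⟨g, hg, rfl⟩ ⟨v, hv, Matrix.toLin'_apply _ _⟩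
  by_cases htop : ∀ L : Subgroup (GL ι F), L ≤ H → (∀ g ∈ H, ∀ x ∈ L, g * x * g⁻¹ ∈ L) →
      ¬ L ≤ Geo.scalars ι F → spanAlg L = ⊤
  swap
  · push Not at htop
    obtain ⟨L, -, hLn, hLs, hLt⟩ := htop
    cases normalCase hirr hLn hLs with
    | decomp hD h => exact .decomp hD h
    | field hr hdvd hK h => exact .field hr hdvd hK h
    | tensor ha hb h => exact .tensor ha hb h
    | top h => exact absurd h hLt
  have hne : H ≠ Geo.scalars ι F := by
    intro h
    obtain ⟨i, j, hij⟩ := Fintype.exists_pair_of_one_lt_card hn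
    have hline : Submodule.span F {(Pi.single i 1 : ι → F)} = ⊤ := by
      refine eq_top_of_invariant hirr ?_ (Submodule.mem_span_singleton_self _) (by simp)
      rintro _ ⟨g, hg, rfl⟩ v hv
      obtain ⟨c, hc⟩ := (Geo.mem_scalars_iff g).1 (h ▸ hg)
      show (g : Matrix ι ι F) *ᵥ v ∈ _
      rw [hc, Matrix.smul_mulVec, Matrix.one_mulVec]
      exact Submodule.smul_mem _ _ hv
    obtain ⟨c, hc⟩ := Submodule.mem_span_singleton.1
      (hline.ge (Submodule.mem_top : (Pi.single j 1 : ι → F) ∈ _))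
    simpa [Ne.symm hij] using congrFun hc j
  obtain ⟨N, h1, h2, h3, h4, h5⟩ := exists_minimal_normal hZH hne
  have hNtop : spanAlg N = ⊤ := htop N h2 h4 fun h => h3 (le_antisymm h h1)
  by_cases hab : ⁅N, N⁆ ≤ Geo.scalars ι F
  · refine .sympl (symplCase ⟨h1, h2, h4, h5, fun x hx y hy => ?_, hNtop, hn⟩)
    obtain ⟨c, hc⟩ := AbSetup.exists_sc (hab (Subgroup.commutator_mem_commutator hy hx))
    refine ⟨c, ?_⟩
    rw [← hc, commutatorElement_def]
    group
  · exact .nonab (nonabCase ⟨h1, h2, h4, hab, h5, htop, inferInstance⟩)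

end Cfsg.Agent.Aschbacher
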