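import Cfsg.Agent.Lib.Aschbacher.FormBase
import Cfsg.Agent.Lib.Aschbacher.Master

/-!
Groups of similitudes: invariant subspaces and invariant commutative algebras closed under
adjoints.
-/

set_option autoImplicit false
set_option linter.style.haveILetI false

namespace Cfsg.Agent.Aschbacher

open scoped MatrixGroups Matrix
open Matrix

variable {ι : Type} [Fintype ι] [DecidableEq ι] {F : Type*} [Field F] [Fintype F]
variable {σ : F ≃+* F} {ε : F} {f : (ι → F) → (ι → F) → F}

/-- An invariant subspace of a group of similitudes. -/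
inductive RedCase (f : (ι → F) → (ι → F) → F) (H : Subgroup (GL ι F)) : Prop
  | singular {W : Submodule F (ι → F)} (h0 : W ≠ ⊥) (hW : Geo.IsTotallySingularFor f W)
      (h : H ≤ Geo.subspaceStabilizer W)
  | nondeg {W : Submodule F (ι → F)} (h0 : W ≠ ⊥) (hW : Geo.IsNondegenerateOn f W)
      (hd : 2 * Module.finrank F W < Fintype.card ι) (h : H ≤ Geo.subspaceStabilizer W)
  | half {k : ℕ} {D : Fin 2 → Submodule F (ι → F)} (hk : 2 * k = Fintype.card ι)
      (hD : Geo.IsNondegenerateMDecomposition f k D) (h : H ≤ Geo.decompositionStabilizer D)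

omit [DecidableEq ι] [Fintype F] in
lemma isMDecomposition_pair [Nonempty ι] {W U : Submodule F (ι → F)} {k : ℕ}
    (hk : 2 * k = Fintype.card ι) (hd : Disjoint W U) (hs : W ⊔ U = ⊤)
    (h1 : Module.finrank F W = k) (h2 : Module.finrank F U = k) :
    Geo.IsMDecomposition k (![W, U] : Fin 2 → Submodule F (ι → F)) := by
  have hpos : 0 < k := by
    have := Fintype.card_pos (α := ι)
    omega
  refine ⟨le_rfl, hpos, fun i => ?_, ?_, eq_top_iff.2 ?_⟩
  · fin_cases i
    · exact h1
    · exact h2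
  · rw [iSupIndep_def]
    intro i
    fin_cases i
    · refine hd.mono_right (iSup₂_le fun j hj => ?_)
      fin_cases j
      · exact absurd rfl hj
      · exact le_rfl
    · refine hd.symm.mono_right (iSup₂_le fun j hj => ?_)
      fin_cases j
      · exact le_rfl
      · exact absurd rfl hj
  · rw [← hs]
    exact sup_le (le_iSup (![W, U] : Fin 2 → _) 0) (le_iSup (![W, U] : Fin 2 → _) 1)

/-- A reducible group of similitudes. -/
theorem redCase [Nonempty ι] (hf : IsHermLike σ ε f) {H : Subgroup (GL ι F)}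
    (hsim : H ≤ Geo.similarityGroup f) {W₀ : Submodule F (ι → F)} (h0 : W₀ ≠ ⊥) (h1 : W₀ ≠ ⊤)
    (hW₀ : H ≤ Geo.subspaceStabilizer W₀) : RedCase f H := by
  have hmem : ∀ {W : Submodule F (ι → F)}, H ≤ Geo.subspaceStabilizer W →
      ∀ g ∈ H, ∀ v ∈ W, (g : Matrix ι ι F) *ᵥ v ∈ W := fun h g hg v hv => (h hg v).1 hv
  have horth : H ≤ Geo.subspaceStabilizer (hf.orth W₀) := fun g hg =>
    subspaceStabilizer_mem fun v hv => hf.orth_stable (hsim hg) (hmem hW₀ g⁻¹ (inv_mem hg)) hv
  by_cases hbot : W₀ ⊓ hf.orth W₀ = ⊥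
  swap
  · refine .singular hbot (fun u hu v hv => hv.2 u hu.1) fun g hg => subspaceStabilizer_mem ?_
    exact fun v hv => ⟨hmem hW₀ g hg v hv.1, hmem horth g hg v hv.2⟩
  have hge := hf.finrank_orth_ge W₀
  have hle := Submodule.finrank_sup_add_finrank_inf_eq W₀ (hf.orth W₀)
  rw [hbot, finrank_bot, add_zero] at hle
  have hn : Module.finrank F (ι → F) = Fintype.card ι := Module.finrank_fintype_fun_eq_card F
  have hsup' := Submodule.finrank_le (W₀ ⊔ hf.orth W₀)
  have hsum : Module.finrank F W₀ + Module.finrank F (hf.orth W₀) = Fintype.card ι := by omega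
  have hsup : W₀ ⊔ hf.orth W₀ = ⊤ := Submodule.eq_top_of_finrank_eq (by omega)
  have hbot' : hf.orth W₀ ⊓ hf.orth (hf.orth W₀) = ⊥ := by
    refine (Submodule.eq_bot_iff _).2 fun v hv => ?_
    by_contra hv0
    obtain ⟨⟨x, hx⟩, -⟩ := hf.nondegenerate v hv0
    obtain ⟨a, ha, b, hb, rfl⟩ := Submodule.mem_sup.1 (hsup.ge (Submodule.mem_top : x ∈ ⊤))
    refine hx ?_
    rw [hf.add_left, hv.1 a ha, hv.2 b hb, add_zero]
  rcases Nat.lt_trichotomy (2 * Module.finrank F W₀) (Fintype.card ι) with h | h | h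
  · exact .nondeg h0 (hf.nondegenerateOn hbot) h hW₀
  · refine .half h ⟨isMDecomposition_pair h (disjoint_iff.2 hbot) hsup rfl (by omega),
      fun i => ?_, fun i j hij => ?_⟩ fun g hg => ⟨1, fun i => ?_⟩
    · fin_cases i
      · exact hf.nondegenerateOn hbot
      · exact hf.nondegenerateOn hbot'
    · fin_cases i <;> fin_cases j
      · exact absurd rfl hij
      · exact fun u hu v hv => hv u hu
      · exact fun u hu v hv => hf.eq_zero_comm (hu v hv)
      · exact absurd rfl hij
    · have key : ∀ W : Submodule F (ι → F), H ≤ Geo.subspaceStabilizer W →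
          W.map (Matrix.toLin' (g : Matrix ι ι F)) = W := by
        intro W hW
        refine le_antisymm ?_ fun v hv => ?_
        · rintro _ ⟨v, hv, rfl⟩
          simpa using hmem hW g hg v hv
        · exact ⟨((g⁻¹ : GL ι F) : Matrix ι ι F) *ᵥ v, hmem hW g⁻¹ (inv_mem hg) v hv, by
            simp [Matrix.mulVec_mulVec]⟩
      fin_cases i
      · exact key _ hW₀
      · exact key _ horth
  · refine .nondeg (fun hbt => ?_) (hf.nondegenerateOn hbot') (by omega) horth
    rw [hbt, finrank_bot, add_zero] at hsum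
    exact h1 (Submodule.eq_top_of_finrank_eq (by omega))

/-- An irreducible group of similitudes with an invariant commutative algebra. -/
inductive CommCase (f : (ι → F) → (ι → F) → F) (H : Subgroup (GL ι F)) : Prop
  | ndecomp {t k : ℕ} {D : Fin t → Submodule F (ι → F)}
      (hD : Geo.IsNondegenerateMDecomposition f k D) (h : H ≤ Geo.decompositionStabilizer D)
      (htr : ∀ i j, ∃ g ∈ H, (D i).map (Matrix.toLin' (g : Matrix ι ι F)) = D j)
  | pair {k : ℕ} {D : Fin 2 → Submodule F (ι → F)} (hk : 2 * k = Fintype.card ι)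
      (hD : Geo.IsMDecomposition k D) (hts : ∀ i, Geo.IsTotallySingularFor f (D i))
      (h : H ≤ Geo.decompositionStabilizer D)
  | field {r : ℕ} {K : Subalgebra F (Matrix ι ι F)} (hr : r.Prime) (hdvd : r ∣ Fintype.card ι)
      (hK : Geo.IsFieldSubalgebra r K) (hadj : Geo.IsAdjointClosedFor f K)
      (h : H ≤ Geo.subalgebraNormalizer K)

lemma IsPrim.orth {C : Subalgebra F (Matrix ι ι F)} (hcomm : ∀ x ∈ C, ∀ y ∈ C, x * y = y * x)
    {x y : Matrix ι ι F} (hx : IsPrim C x) (hy : IsPrim C y) (hxy : x ≠ y) : x * y = 0 := by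
  refine (hx.minimal y hy.mem hy.idem).resolve_left fun h => ?_
  rcases hy.minimal x hx.mem hx.idem with h' | h'
  · exact hxy (h ▸ hcomm x hx.mem y hy.mem ▸ h')
  · exact hx.ne_zero (h ▸ hcomm x hx.mem y hy.mem ▸ h')

lemma mem_range_idem {e : Matrix ι ι F} (he : e * e = e) {v : ι → F}
    (hv : v ∈ LinearMap.range (Matrix.toLin' e)) : e *ᵥ v = v := by
  obtain ⟨w, rfl⟩ := hv
  simp [Matrix.mulVec_mulVec, he]

lemma map_range_of_cj {g : GL ι F} {a b : Matrix ι ι F} (h : cj g a = b) :
    (LinearMap.range (Matrix.toLin' a)).map (Matrix.toLin' (g : Matrix ι ι F)) =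
      LinearMap.range (Matrix.toLin' b) := by
  rw [← LinearMap.range_comp, ← Matrix.toLin'_mul,
    show (g : Matrix ι ι F) * a = b * (g : Matrix ι ι F) by rw [← h, cj_apply]; simp [mul_assoc],
    Matrix.toLin'_mul, LinearMap.range_comp_of_range_eq_top]
  refine LinearMap.range_eq_top.2 fun w => ⟨((g⁻¹ : GL ι F) : Matrix ι ι F) *ᵥ w, ?_⟩
  simp [Matrix.toLin'_apply, Matrix.mulVec_mulVec]

/-- Self-adjoint idempotents give a non-degenerate decomposition. -/
lemma nondegenerate_of_fixed (hf : IsHermLike σ ε f) {t k : ℕ} {E : Fin t → Matrix ι ι F}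
    (hD : Geo.IsMDecomposition k (fun i => LinearMap.range (Matrix.toLin' (E i))))
    (hidem : ∀ i, E i * E i = E i) (horth : ∀ i j, i ≠ j → E i * E j = 0)
    (hfix : ∀ i, hf.adj (E i) = E i) :
    Geo.IsNondegenerateMDecomposition f k (fun i => LinearMap.range (Matrix.toLin' (E i))) := by
  refine ⟨hD, fun i => hf.nondegenerateOn ((Submodule.eq_bot_iff _).2 fun w hw => ?_),
    fun i j hij u hu v hv => ?_⟩
  · by_contra hw0
    obtain ⟨⟨x, hx⟩, -⟩ := hf.nondegenerate w hw0
    refine hx ?_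
    have h := hw.2 (E i *ᵥ x) ⟨x, Matrix.toLin'_apply _ _⟩
    rwa [hf.adj_spec, hfix, mem_range_idem (hidem i) hw.1] at h
  · rw [← mem_range_idem (hidem i) hu, ← mem_range_idem (hidem j) hv, hf.adj_spec, hfix,
      Matrix.mulVec_mulVec, horth i j hij, Matrix.zero_mulVec, hf.zero_right]

theorem commCase [Nonempty ι] (hf : IsHermLike σ ε f) {H : Subgroup (GL ι F)}
    (hsim : H ≤ Geo.similarityGroup f) (hirr : Geo.ActsIrreducibly (Geo.matrixSet H))
    {C : Subalgebra F (Matrix ι ι F)} (hcomm : ∀ x ∈ C, ∀ y ∈ C, x * y = y * x)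
    (hC : Normalises H (C : Set (Matrix ι ι F))) (hadj : ∀ x ∈ C, hf.adj x ∈ C) (hne : C ≠ ⊥) :
    CommCase f H := by
  classical
  haveI : Nontrivial C := ⟨⟨0, 1, fun h => zero_ne_one (congrArg Subtype.val h)⟩⟩
  rcases commAlg_cases hirr hcomm hC with hfield | ⟨e, he, he1⟩
  · have hd : 1 < Module.finrank F C := by
      have := Module.finrank_pos (R := F) (M := C)
      rcases Nat.lt_or_ge 1 (Module.finrank F C) with h | h
      · exact h
      · exact absurd (Subalgebra.eq_bot_of_finrank_one (by omega)) hne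
    obtain ⟨r, K, hr, -, -, hK, hKn, hKeq⟩ := exists_prime_subfield hfield hC hd
    refine .field hr (dvd_card_of_isFieldSubalgebra hK) hK ?_ hKn.le_subalgebraNormalizer
    intro x hx
    have hx' : x ∈ C ∧ x ^ (Fintype.card F ^ r) = x := hKeq.le hx
    refine ⟨hf.adj x, hKeq.ge ⟨hadj x hx'.1, ?_⟩, hf.adj_spec x⟩
    have hpow : ∀ N : ℕ, hf.adj (x ^ N) = hf.adj x ^ N := fun N => by
      induction N with
      | zero => simp [hf.adj_one]
      | succ N ih => rw [pow_succ, hf.adj_mul, ih, pow_succ']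
    rw [← hpow, hx'.2]
  obtain ⟨t, m, E, hEinj, hEprim, hD, hH, htr⟩ := exists_decomposition hirr hcomm hC he he1
  have hE : ∀ i, IsPrim C (E i) := fun i => (hEprim _).2 ⟨i, rfl⟩
  have horth : ∀ i j, i ≠ j → E i * E j = 0 := fun i j hij =>
    (hE i).orth hcomm (hE j) fun h => hij (hEinj h)
  have hadjprim : ∀ i, IsPrim C (hf.adj (E i)) := fun i =>
    { mem := hadj _ (hE i).mem
      idem := by rw [← hf.adj_mul, (hE i).idem]
      ne_zero := fun h => (hE i).ne_zero (by rw [← hf.adj_adj (E i), h, hf.adj_zero])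
      minimal := fun g hg hgg => by
        rcases (hE i).minimal (hf.adj g) (hadj g hg) (by rw [← hf.adj_mul, hgg]) with h | h
        · left
          have h' := congrArg hf.adj h
          rw [hf.adj_mul, hf.adj_adj] at h'
          rw [hcomm _ (hadj _ (hE i).mem) g hg, h']
        · right
          have h' := congrArg hf.adj h
          rw [hf.adj_mul, hf.adj_adj, hf.adj_zero] at h'
          rw [hcomm _ (hadj _ (hE i).mem) g hg, h'] }
  choose π hπ using fun i => (hEprim _).1 (hadjprim i)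
  have hπ2 : ∀ i, π (π i) = i := fun i => hEinj (by rw [hπ, hπ, hf.adj_adj])
  have hπcj : ∀ g ∈ H, ∀ i j, cj g (E i) = E j → cj g (E (π i)) = E (π j) := fun g hg i j h => by
    rw [hπ, hπ, ← h, hf.adj_cj (hsim hg)]
  by_cases hfixed : ∃ i, π i = i
  · obtain ⟨i₀, hi₀⟩ := hfixed
    refine .ndecomp (nondegenerate_of_fixed hf hD (fun i => (hE i).idem) horth fun i => ?_) hH
      fun i j => ?_
    · obtain ⟨g, hg, hgi⟩ := htr i₀ i
      rw [← hgi, hf.adj_cj (hsim hg), ← hπ, hi₀]
    · obtain ⟨g, hg, hgi⟩ := htr i j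
      exact ⟨g, hg, map_range_of_cj hgi⟩
  push Not at hfixed
  have htwo := hD.two_le
  by_cases ht : t = 2
  · subst ht
    refine .pair (k := m) ?_ hD (fun i u hu v hv => ?_) hH
    · have hint := DirectSum.isInternal_submodule_of_iSupIndep_of_iSup_eq_top hD.indep hD.iSup_eq_top
      rw [← Module.finrank_fintype_fun_eq_card F (η := ι),
        Module.finrank_eq_card_basis (hint.collectedBasis fun i => Module.finBasis F _),
        Fintype.card_sigma, Fin.sum_univ_two, Fintype.card_fin, Fintype.card_fin, hD.finrank_eq 0,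
        hD.finrank_eq 1, two_mul]
    · rw [← mem_range_idem (hE i).idem hu, ← mem_range_idem (hE i).idem hv, hf.adj_spec, ← hπ,
        Matrix.mulVec_mulVec, horth _ _ (hfixed i), Matrix.zero_mulVec, hf.zero_right]
  -- merge the pairs
  set P : Fin t → Matrix ι ι F := fun i => E i + E (π i) with hP
  have hPadj : ∀ i, hf.adj (P i) = P i := fun i => by
    simp only [hP]
    rw [hf.adj_add, ← hπ, ← hπ, hπ2, add_comm]
  have hPcj : ∀ g ∈ H, ∀ i, ∃ j, cj g (P i) = P j := fun g hg i => by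
    obtain ⟨j, hj⟩ := (hEprim _).1 ((hE i).cj hC hg)
    refine ⟨j, ?_⟩
    simp only [hP]
    rw [map_add, hπcj g hg i j hj.symm, hj]
  have hPmem : ∀ i, P i ∈ C := fun i => add_mem (hE i).mem (hE (π i)).mem
  let C' : Subalgebra F (Matrix ι ι F) :=
    { carrier := {x | x ∈ C ∧ ∀ i, ∃ c : F, x * P i = c • P i}
      mul_mem' := fun {a b} ha hb => ⟨mul_mem ha.1 hb.1, fun i => by
        obtain ⟨c, hc⟩ := ha.2 i
        obtain ⟨d, hd⟩ := hb.2 i
        exact ⟨d * c, by rw [mul_assoc, hd, mul_smul_comm, hc, smul_smul]⟩⟩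
      add_mem' := fun {a b} ha hb => ⟨add_mem ha.1 hb.1, fun i => by
        obtain ⟨c, hc⟩ := ha.2 i
        obtain ⟨d, hd⟩ := hb.2 i
        exact ⟨c + d, by rw [add_mul, hc, hd, add_smul]⟩⟩
      algebraMap_mem' := fun c => ⟨C.algebraMap_mem c, fun i => ⟨c, by
        rw [Algebra.algebraMap_eq_smul_one, smul_one_mul]⟩⟩ }
  have hPidem : ∀ i, P i * P i = P i := fun i => by
    simp only [hP]
    rw [add_mul, mul_add, mul_add, (hE i).idem, (hE (π i)).idem, horth _ _ (Ne.symm (hfixed i)),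
      horth _ _ (hfixed i), add_zero, zero_add]
  have hEP : ∀ i j, j ≠ i → j ≠ π i → E j * P i = 0 := fun i j h1 h2 => by
    simp only [hP]
    rw [mul_add, horth _ _ h1, horth _ _ h2, add_zero]
  have hPP : ∀ i j, j ≠ i → j ≠ π i → P j * P i = 0 := fun i j h1 h2 => by
    have h3 : π j ≠ i := fun h => h2 (by rw [← h, hπ2])
    have h4 : π j ≠ π i := fun h => h1 (by rw [← hπ2 j, h, hπ2])
    show (E j + E (π j)) * P i = 0
    rw [add_mul, hEP i j h1 h2, hEP i (π j) h3 h4, add_zero]
  have hPC' : ∀ i, P i ∈ C' := fun i => ⟨hPmem i, fun j => by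
    by_cases h1 : i = j
    · exact ⟨1, by rw [h1, hPidem, one_smul]⟩
    by_cases h2 : i = π j
    · refine ⟨1, ?_⟩
      rw [one_smul, show P i = P j by simp only [hP]; rw [h2, hπ2, add_comm], hPidem]
    · exact ⟨0, by rw [hPP j i h1 h2, zero_smul]⟩⟩
  have hcomm' : ∀ x ∈ C', ∀ y ∈ C', x * y = y * x := fun x hx y hy => hcomm x hx.1 y hy.1
  have hC' : Normalises H (C' : Set (Matrix ι ι F)) := fun g hg x hx => ⟨hC g hg x hx.1, fun i => by
    obtain ⟨j, hj⟩ := hPcj g⁻¹ (inv_mem hg) i
    obtain ⟨c, hc⟩ := hx.2 j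
    refine ⟨c, ?_⟩
    have h := congrArg (cj g) hc
    rw [map_mul, map_smul, ← hj, cj_cj_inv] at h
    exact h⟩
  obtain ⟨i₀⟩ : Nonempty (Fin t) := ⟨⟨0, by omega⟩⟩
  have hprim : IsPrim C' (P i₀) :=
    { mem := hPC' i₀
      idem := hPidem i₀
      ne_zero := fun h => (hE i₀).ne_zero (by
        have h' := congrArg (fun z => E i₀ * z) h
        simpa [hP, mul_add, (hE i₀).idem, horth _ _ (Ne.symm (hfixed i₀))] using h')
      minimal := fun g hg hgg => by
        obtain ⟨c, hc⟩ := hg.2 i₀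
        rw [hcomm _ (hPmem i₀) g hg.1, hc]
        have h2 : g * (g * P i₀) = g * P i₀ := by rw [← mul_assoc, hgg]
        rw [hc, mul_smul_comm, hc, smul_smul] at h2
        by_cases h0 : P i₀ = 0
        · exact Or.inr (by rw [h0, smul_zero])
        rcases eq_or_ne c 0 with rfl | hc0
        · exact Or.inr (zero_smul _ _)
        · have := smul_left_injective F h0 h2
          exact Or.inl (by rw [mul_eq_left₀ hc0] at this; rw [this, one_smul]) }
  have hne1 : P i₀ ≠ 1 := fun h => by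
    obtain ⟨j, hj1, hj2⟩ : ∃ j, j ≠ i₀ ∧ j ≠ π i₀ := by
      by_contra hc
      push Not at hc
      have hsub : (Finset.univ : Finset (Fin t)) ⊆ {i₀, π i₀} := fun j _ => by
        by_cases hj : j = i₀
        · simp [hj]
        · simp [hc j hj]
      have hcard := (Finset.card_le_card hsub).trans Finset.card_le_two
      rw [Finset.card_univ, Fintype.card_fin] at hcard
      omega
    have h' := hEP i₀ j hj1 hj2
    rw [h, mul_one] at h'
    exact (hE j).ne_zero h'
  obtain ⟨t', m', E', hE'inj, hE'prim, hD', hH', htr'⟩ :=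
    exists_decomposition hirr hcomm' hC' hprim hne1
  have hE' : ∀ i, IsPrim C' (E' i) := fun i => (hE'prim _).2 ⟨i, rfl⟩
  refine .ndecomp (nondegenerate_of_fixed hf hD' (fun i => (hE' i).idem)
    (fun i j hij => (hE' i).orth hcomm' (hE' j) fun h => hij (hE'inj h)) fun i => ?_) hH' fun i j => ?_
  · obtain ⟨j₀, hj₀⟩ := (hE'prim _).1 hprim
    obtain ⟨g, hg, hgi⟩ := htr' j₀ i
    rw [← hgi, hf.adj_cj (hsim hg), hj₀, hPadj]
  · obtain ⟨g, hg, hgi⟩ := htr' i j
    exact ⟨g, hg, map_range_of_cj hgi⟩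

end Cfsg.Agent.Aschbacher
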