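import Cfsg.Agent.Lib.Aschbacher.Group

/-!
A non-scalar normal subgroup of an irreducible group: decomposition, extension field, tensor
factor, or absolutely irreducible.
-/

set_option autoImplicit false
set_option linter.style.haveILetI false

namespace Cfsg.Agent.Aschbacher

open scoped MatrixGroups Matrix Kronecker
open Matrix

variable {ι : Type} [Fintype ι] [DecidableEq ι] {F : Type*} [Field F]

/-- The degree of a field subalgebra divides the dimension. -/
lemma dvd_card_of_isFieldSubalgebra [Nonempty ι] {r : ℕ} {K : Subalgebra F (Matrix ι ι F)}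
    (hK : Geo.IsFieldSubalgebra r K) : r ∣ Fintype.card ι := by
  haveI : Nontrivial K := ⟨⟨0, 1, fun h => zero_ne_one (congrArg Subtype.val h)⟩⟩
  have hfield : IsField K :=
    { exists_pair_ne := exists_pair_ne _
      mul_comm := fun a b => Subtype.ext (hK.comm _ a.2 _ b.2)
      mul_inv_cancel := fun {a} ha => by
        obtain ⟨y, hy, hxy⟩ := hK.inv a.1 a.2 fun h => ha (Subtype.ext h)
        exact ⟨⟨y, hy⟩, Subtype.ext hxy⟩ }
  letI : Field K := hfield.toField
  letI : Module K (ι → F) :=
    Module.compHom (ι → F) ((Matrix.toLinAlgEquiv' (R := F) (n := ι)).toAlgHom.comp K.val).toRingHom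
  have htower : IsScalarTower F K (ι → F) := ⟨fun c k v => by
    show (Matrix.toLinAlgEquiv' ((c • k : K) : Matrix ι ι F)) v =
      c • (Matrix.toLinAlgEquiv' (k : Matrix ι ι F)) v
    simp⟩
  refine ⟨Module.finrank K (ι → F), ?_⟩
  have h := @Module.finrank_mul_finrank F K (ι → F) _ _ _ _ _ _ htower _ _ _ _
  rw [Module.finrank_fintype_fun_eq_card, hK.finrank_eq] at h
  exact h.symm

/-- A tensor factor with one-dimensional complement is the whole matrix algebra. -/
lemma kemb_range_eq_top {κ β : Type} [Fintype κ] [DecidableEq κ] [Fintype β] [DecidableEq β]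
    (eq : ι ≃ κ × β) (P : GL ι F) (hβ : Fintype.card β = 1) : (kemb eq P).range = ⊤ := by
  haveI : Nonempty β := Fintype.card_pos_iff.1 (by omega)
  refine Algebra.eq_top_iff.2 fun x => ?_
  have hsurj : Function.Surjective (kemb eq P).toLinearMap := by
    refine (LinearMap.injective_iff_surjective_of_finrank_eq_finrank ?_).1 (kemb_injective eq P)
    rw [Module.finrank_matrix, Module.finrank_matrix, Fintype.card_congr eq, Fintype.card_prod, hβ]
    simp
  obtain ⟨X, hX⟩ := hsurj x
  exact ⟨X, hX⟩

/-- The possible outcomes for a normal subgroup of an irreducible group. -/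
inductive NormalCase (H L : Subgroup (GL ι F)) : Prop
  | decomp {t m : ℕ} {D : Fin t → Submodule F (ι → F)} (hD : Geo.IsMDecomposition m D)
      (h : H ≤ Geo.decompositionStabilizer D)
  | field {r : ℕ} {K : Subalgebra F (Matrix ι ι F)} (hr : r.Prime)
      (hdvd : r ∣ Fintype.card ι) (hK : Geo.IsFieldSubalgebra r K)
      (h : H ≤ Geo.subalgebraNormalizer K)
  | tensor {a b : ℕ} {eq : ι ≃ Fin a × Fin b} {P : GL ι F} (ha : 2 ≤ a) (hb : 2 ≤ b)
      (h : Normalises H ((kemb eq P).range : Set (Matrix ι ι F)))
  | top (h : spanAlg L = ⊤)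

theorem normalCase [Fintype F] [Nonempty ι] {H L : Subgroup (GL ι F)}
    (hirr : Geo.ActsIrreducibly (Geo.matrixSet H)) (hn : ∀ g ∈ H, ∀ x ∈ L, g * x * g⁻¹ ∈ L)
    (hL : ¬ L ≤ Geo.scalars ι F) : NormalCase H L := by
  have hA := normalises_spanAlg hn
  have hC := hA.centre
  have hcomm : ∀ x ∈ centre (spanAlg L), ∀ y ∈ centre (spanAlg L), x * y = y * x :=
    fun x hx y hy => hy.2 x hx.1
  rcases commAlg_cases hirr hcomm hC with hfield | ⟨e, he, hne⟩
  · by_cases hd : 1 < Module.finrank F (centre (spanAlg L))
    · obtain ⟨r, K, hr, -, -, hK, hKn, -⟩ := exists_prime_subfield hfield hC hd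
      exact .field hr (dvd_card_of_isFieldSubalgebra hK) hK hKn.le_subalgebraNormalizer
    · have hZ : centre (spanAlg L) = ⊥ := by
        haveI : Nontrivial (centre (spanAlg L)) :=
          ⟨⟨0, 1, fun h => zero_ne_one (congrArg Subtype.val h)⟩⟩
        have := Module.finrank_pos (R := F) (M := centre (spanAlg L))
        exact Subalgebra.eq_bot_of_finrank_one (by omega)
      obtain ⟨a, b, eq, P, hP⟩ := exists_kemb_range hirr hA hZ
      obtain ⟨⟨i, s⟩⟩ : Nonempty (Fin a × Fin b) := ⟨eq (Classical.arbitrary ι)⟩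
      have hi := i.pos
      have hs := s.pos
      by_cases ha : a = 1
      · refine absurd (le_scalars_iff.2 ?_) hL
        rw [hP]
        refine eq_bot_iff.2 ?_
        rintro _ ⟨X, rfl⟩
        subst ha
        have hX : X = algebraMap F _ (X 0 0) := by
          ext r c
          simp [Subsingleton.elim r 0, Subsingleton.elim c 0, Matrix.algebraMap_matrix_apply]
        show kemb eq P X ∈ ⊥
        rw [hX, AlgHom.commutes]
        exact Subalgebra.algebraMap_mem _ _
      by_cases hb : b = 1
      · exact .top (hP.trans (kemb_range_eq_top eq P (by simp [hb])))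
      exact .tensor (by omega) (by omega) (hP ▸ hA)
  · obtain ⟨t, m, E, -, -, hD, hH, -⟩ := exists_decomposition hirr hcomm hC he hne
    exact .decomp hD hH

end Cfsg.Agent.Aschbacher
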