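import Cfsg.Agent.Lib.Aschbacher.Tensor
import Cfsg.Agent.Lib.Aschbacher.Normal

/-!
Tensor powers: commuting copies of a matrix algebra permuted by a group.
-/

set_option autoImplicit false
set_option linter.style.haveILetI false

namespace Cfsg.Agent.Aschbacher

open scoped MatrixGroups Matrix Kronecker
open Matrix

variable {ι : Type} [Fintype ι] [DecidableEq ι] {F : Type*} [Field F]

section MatUnits

variable {R : Type*} [Semiring R]

lemma IsMatUnits.prod {κ₁ κ₂ : Type*} [Fintype κ₁] [DecidableEq κ₁] [Fintype κ₂] [DecidableEq κ₂]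
    {e : κ₁ → κ₁ → R} {f : κ₂ → κ₂ → R} (he : IsMatUnits e) (hf : IsMatUnits f)
    (hc : ∀ i j k l, e i j * f k l = f k l * e i j) :
    IsMatUnits (fun p q : κ₁ × κ₂ => e p.1 q.1 * f p.2 q.2) where
  mul p q p' q' := by
    rw [mul_assoc, ← mul_assoc (f p.2 q.2), ← hc, mul_assoc, ← mul_assoc, he.mul, hf.mul]
    split_ifs <;> simp_all [Prod.ext_iff]
  sum_diag := by
    rw [Fintype.sum_prod_type]
    simp only [← Finset.mul_sum, hf.sum_diag, mul_one, he.sum_diag]

lemma IsMatUnits.reindex {κ κ' : Type*} [Fintype κ] [DecidableEq κ] [Fintype κ'] [DecidableEq κ']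
    {e : κ → κ → R} (he : IsMatUnits e) (u : κ' ≃ κ) :
    IsMatUnits (fun i j => e (u i) (u j)) where
  mul i j k l := by
    rw [he.mul]
    simp [u.injective.eq_iff]
  sum_diag := by rw [u.sum_comp (fun i => e i i), he.sum_diag]

end MatUnits

/-! ### Pure tensors -/

variable {k a : ℕ}

/-- The tensor product of a family of `a × a` matrices. -/
def pureMat (gs : Fin k → Matrix (Fin a) (Fin a) F) : Matrix (Fin k → Fin a) (Fin k → Fin a) F :=
  Matrix.of fun x y => ∏ i, gs i (x i) (y i)

/-- The matrix `X` in factor `i`, the identity elsewhere. -/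
def pureAt (i : Fin k) (X : Matrix (Fin a) (Fin a) F) : Matrix (Fin k → Fin a) (Fin k → Fin a) F :=
  pureMat (Function.update (fun _ => 1) i X)

lemma pureMat_mul (gs hs : Fin k → Matrix (Fin a) (Fin a) F) :
    pureMat gs * pureMat hs = pureMat (fun i => gs i * hs i) := by
  ext x z
  simp only [pureMat, Matrix.mul_apply, Matrix.of_apply, ← Finset.prod_mul_distrib]
  exact (Fintype.prod_sum fun i y => gs i (x i) y * hs i y (z i)).symm

lemma pureMat_one : pureMat (fun _ : Fin k => (1 : Matrix (Fin a) (Fin a) F)) = 1 := by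
  ext x y
  by_cases h : x = y
  · subst h; simp [pureMat]
  · obtain ⟨i, hi⟩ := Function.ne_iff.1 h
    simp only [pureMat, Matrix.of_apply, Matrix.one_apply_ne h]
    exact Finset.prod_eq_zero (Finset.mem_univ i) (Matrix.one_apply_ne hi)

lemma pureMat_transpose (gs : Fin k → Matrix (Fin a) (Fin a) F) :
    (pureMat gs)ᵀ = pureMat (fun i => (gs i)ᵀ) := by
  ext x y; rfl

lemma pureMat_smul (c : Fin k → F) (gs : Fin k → Matrix (Fin a) (Fin a) F) :
    pureMat (fun i => c i • gs i) = (∏ i, c i) • pureMat gs := by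
  ext x y
  simp [pureMat, Finset.prod_mul_distrib]

/-- A tensor product of invertible matrices. -/
def pureGL (gs : Fin k → GL (Fin a) F) : GL (Fin k → Fin a) F where
  val := pureMat fun i => (gs i : Matrix (Fin a) (Fin a) F)
  inv := pureMat fun i => (((gs i)⁻¹ : GL (Fin a) F) : Matrix (Fin a) (Fin a) F)
  val_inv := by rw [pureMat_mul]; simp [pureMat_one]
  inv_val := by rw [pureMat_mul]; simp [pureMat_one]

lemma cj_pureGL (gs : Fin k → GL (Fin a) F) (i : Fin k) (X : Matrix (Fin a) (Fin a) F) :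
    cj (pureGL gs) (pureAt i X) = pureAt i (cj (gs i) X) := by
  rw [cj_apply]
  show pureMat _ * pureMat _ * pureMat _ = pureMat _
  rw [pureMat_mul, pureMat_mul]
  congr 1
  funext j
  by_cases h : j = i
  · subst h; simp [cj_apply]
  · simp [Function.update_of_ne h]

/-- Permutation of the factors, as a permutation of the index set. -/
def factorPerm (σ : Equiv.Perm (Fin k)) : Equiv.Perm (Fin k → Fin a) where
  toFun x := x ∘ σ
  invFun x := x ∘ σ.symm
  left_inv x := by ext i; simp
  right_inv x := by ext i; simp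

lemma pureMat_submatrix (σ : Equiv.Perm (Fin k)) (gs : Fin k → Matrix (Fin a) (Fin a) F) :
    (pureMat gs).submatrix (factorPerm σ) (factorPerm σ) = pureMat (fun i => gs (σ.symm i)) := by
  ext x y
  simp only [Matrix.submatrix_apply, pureMat, Matrix.of_apply, factorPerm, Equiv.coe_fn_mk,
    Function.comp_apply]
  exact Fintype.prod_equiv σ _ _ fun i => by simp

lemma cj_factorPerm (σ : Equiv.Perm (Fin k)) (i : Fin k) (X : Matrix (Fin a) (Fin a) F) :
    cj (permGL (factorPerm σ)) (pureAt i X) = pureAt (σ i) X := by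
  rw [cj_permGL, pureAt, pureMat_submatrix, pureAt]
  congr 1
  funext j
  simp [Function.update_apply, Equiv.symm_apply_eq]

lemma isPureTensor_pureGL (gs : Fin k → GL (Fin a) F) : Geo.IsPureTensor a k (pureGL gs) :=
  ⟨gs, fun _ _ => rfl⟩

lemma isFactorPermutation_permGL (σ : Equiv.Perm (Fin k)) :
    Geo.IsFactorPermutation a k (permGL (factorPerm σ) : GL (Fin k → Fin a) F) :=
  ⟨σ, fun x y => by
    show (1 : Matrix (Fin k → Fin a) (Fin k → Fin a) F).submatrix (factorPerm σ) id x y = _
    simp [factorPerm, Matrix.one_apply, eq_comm]⟩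

/-- Commuting homomorphisms combine to one system of matrix units. -/
lemma exists_tensor_units {A : Type*} [Semiring A] : ∀ {k : ℕ}
    (φ : Fin k → (Matrix (Fin a) (Fin a) F →+* A)),
    (∀ i j, i ≠ j → ∀ X Y, φ i X * φ j Y = φ j Y * φ i X) →
    ∃ e : (Fin k → Fin a) → (Fin k → Fin a) → A, IsMatUnits e ∧
      (∀ z, (∀ i X, φ i X * z = z * φ i X) → ∀ x y, e x y * z = z * e x y) ∧
      ∀ i c d, φ i (Matrix.single c d 1) =
        ∑ x, if x i = c then e x (Function.update x i d) else 0 := by
  intro k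
  induction k with
  | zero =>
    intro φ _
    refine ⟨fun _ _ => 1, ⟨fun i j k l => ?_, by simp⟩, fun z _ x y => by simp, fun i => i.elim0⟩
    rw [if_pos (Subsingleton.elim j k), mul_one]
  | succ k ih =>
    intro φ hφ
    obtain ⟨e, he, hec, heq⟩ :=
      ih (fun i => φ i.succ) fun i j h => hφ _ _ fun h' => h (Fin.succ_injective _ h')
    have hc : ∀ c d x y, φ 0 (Matrix.single c d 1) * e x y = e x y * φ 0 (Matrix.single c d 1) :=
      fun c d x y => (hec _ (fun i X => hφ _ _ (Fin.succ_ne_zero i) X _) x y).symm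
    let u := (Fin.consEquiv fun _ : Fin (k + 1) => Fin a).symm
    let E : (Fin (k + 1) → Fin a) → (Fin (k + 1) → Fin a) → A := fun x y =>
      φ 0 (Matrix.single (x 0) (y 0) 1) * e (Fin.tail x) (Fin.tail y)
    have hU : IsMatUnits E :=
      ((((isMatUnits_single F (κ := Fin a)).map (φ 0)).prod he hc).reindex u)
    refine ⟨E, hU, fun z hz x y => ?_, fun i c d => ?_⟩
    · rw [mul_assoc, hec z (fun i X => hz _ X), ← mul_assoc, hz, mul_assoc]
    rw [← (Fin.consEquiv fun _ : Fin (k + 1) => Fin a).sum_comp, Fintype.sum_prod_type]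
    show _ = ∑ c', ∑ x' : Fin k → Fin a, if (Fin.cons c' x' : Fin (k + 1) → Fin a) i = c then
      E (Fin.cons c' x') (Function.update (Fin.cons c' x') i d) else 0
    induction i using Fin.cases with
    | zero =>
      rw [Finset.sum_eq_single c]
      · simp only [Fin.cons_zero, if_true, E, Fin.update_cons_zero,
          Fin.tail_cons]
        rw [← Finset.mul_sum, he.sum_diag, mul_one]
      · intro b _ hb
        simp [hb]
      · simp
    | succ i =>
      simp only [Fin.cons_succ, E, ← Fin.cons_update, Fin.cons_zero,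
        Fin.tail_cons, ← mul_ite_zero, ← Finset.mul_sum, ← heq i c d, ← Finset.sum_mul]
      rw [← map_sum, (isMatUnits_single F (κ := Fin a)).sum_diag, map_one, one_mul]

lemma pureAt_single (i : Fin k) (c d : Fin a) : pureAt i (Matrix.single c d (1 : F)) =
    ∑ x : Fin k → Fin a,
      if x i = c then Matrix.single x (Function.update x i d) (1 : F) else 0 := by
  ext u v
  rw [Matrix.sum_apply, Finset.sum_eq_single u]
  · by_cases hu : u i = c
    · rw [if_pos hu, Matrix.single_apply]
      by_cases hv : Function.update u i d = v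
      · subst hv
        simp only [pureAt, pureMat, Matrix.of_apply, and_self, if_true]
        refine Finset.prod_eq_one fun j _ => ?_
        by_cases h : j = i
        · subst h; simp [hu]
        · simp [Function.update_of_ne h]
      · obtain ⟨j, hj⟩ := Function.ne_iff.1 hv
        simp only [pureAt, pureMat, Matrix.of_apply, hv, and_false, if_false]
        refine Finset.prod_eq_zero (Finset.mem_univ j) ?_
        by_cases h : j = i
        · subst h
          simp at hj
          simp [hj]
        · simp [Function.update_of_ne h] at hj ⊢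
          exact Matrix.one_apply_ne hj
    · simp only [if_neg hu, pureAt, pureMat, Matrix.of_apply, Matrix.zero_apply]
      refine Finset.prod_eq_zero (Finset.mem_univ i) ?_
      simp [Ne.symm hu]
  · intro b _ hb
    split_ifs
    · simp [hb]
    · simp
  · simp

lemma pureAt_linear (i : Fin k) : ∀ X : Matrix (Fin a) (Fin a) F,
    pureAt i X = ∑ c, ∑ d, X c d • pureAt i (Matrix.single c d (1 : F)) := by
  intro X
  ext u v
  have h : ∀ Y : Matrix (Fin a) (Fin a) F, pureAt i Y u v = Y (u i) (v i) *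
      ∏ j ∈ Finset.univ \ {i}, (1 : Matrix (Fin a) (Fin a) F) (u j) (v j) := by
    intro Y
    simp only [pureAt, pureMat, Matrix.of_apply]
    rw [Finset.prod_eq_mul_prod_sdiff_singleton_of_mem (Finset.mem_univ i), Function.update_self]
    congr 1
    refine Finset.prod_congr rfl fun j hj => ?_
    rw [Function.update_of_ne (by simpa using hj)]
  simp only [Matrix.sum_apply, Matrix.smul_apply, h, smul_eq_mul, ← mul_assoc, ← Finset.sum_mul]
  congr 1
  simp [Matrix.single_apply, ite_and]

/-- Commuting copies of a matrix algebra generating everything form a tensor power. -/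
theorem exists_tensor_power [Nonempty ι] [NeZero a]
    (φ : Fin k → (Matrix (Fin a) (Fin a) F →ₐ[F] Matrix ι ι F))
    (hcomm : ∀ i j, i ≠ j → ∀ X Y, φ i X * φ j Y = φ j Y * φ i X)
    (hgen : (⨆ i, (φ i).range) = ⊤) :
    ∃ (eq : ι ≃ (Fin k → Fin a)) (P : GL ι F),
      ∀ i X, φ i X = cj P ((pureAt i X).submatrix eq eq) := by
  obtain ⟨e, he, -, heq⟩ := exists_tensor_units (fun i => (φ i).toRingHom) hcomm
  obtain ⟨b, eq, P, hP⟩ := he.exists_conj
  have hval : ∀ i X, φ i X = kemb eq P (pureAt i X) := by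
    intro i X
    conv_lhs => rw [Matrix.matrix_eq_sum_single X]
    rw [pureAt_linear i X, map_sum, map_sum]
    refine Finset.sum_congr rfl fun c _ => ?_
    rw [map_sum, map_sum]
    refine Finset.sum_congr rfl fun d _ => ?_
    rw [← mul_one (X c d), ← smul_eq_mul, ← Matrix.smul_single, smul_eq_mul, mul_one, map_smul,
      map_smul, pureAt_single, map_sum]
    congr 1
    refine (heq i c d).trans (Finset.sum_congr rfl fun x _ => ?_)
    split_ifs
    · exact hP _ _
    · exact (map_zero _).symm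
  have htop : (kemb eq P).range = ⊤ := by
    refine top_le_iff.1 (hgen ▸ iSup_le fun i => ?_)
    rintro _ ⟨X, rfl⟩
    exact ⟨_, (hval i X).symm⟩
  haveI : Nonempty ((Fin k → Fin a) × Fin b) := ⟨eq (Classical.arbitrary ι)⟩
  haveI : Nonempty (Fin b) := ⟨(Classical.arbitrary ((Fin k → Fin a) × Fin b)).2⟩
  have hb : b = 1 := by
    have h1 := LinearMap.finrank_range_of_inj (f := (kemb eq P).toLinearMap) (kemb_injective eq P)
    have h2 : LinearMap.range (kemb eq P).toLinearMap = ⊤ :=
      LinearMap.range_eq_top.2 fun x => (htop.ge (Algebra.mem_top : x ∈ _) : x ∈ (kemb eq P).range)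
    rw [h2, finrank_top, Module.finrank_matrix, Module.finrank_matrix, Module.finrank_self,
      mul_one, mul_one, Fintype.card_congr eq, Fintype.card_prod, Fintype.card_fin] at h1
    have hpos : 0 < Fintype.card (Fin k → Fin a) := Fintype.card_pos
    have hb0 : 0 < b := Fin.pos (Classical.arbitrary (Fin b))
    rcases Nat.lt_or_ge b 2 with h | h
    · omega
    · exfalso; nlinarith [Nat.mul_le_mul h h, Nat.mul_pos hpos hpos]
  subst hb
  refine ⟨eq.trans (Equiv.prodUnique (Fin k → Fin a) (Fin 1)), P, fun i X => ?_⟩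
  rw [hval, kemb_apply]
  congr 1
  ext r c
  rw [Matrix.submatrix_apply, Matrix.submatrix_apply, Matrix.kroneckerMap_apply,
    Subsingleton.elim (eq r).2 (eq c).2, Matrix.one_apply_eq, mul_one]
  rfl

/-- An element permuting the factors of a tensor power by `σ` is a factor permutation times a pure
tensor. -/
lemma exists_pure_of_perm [Nonempty ι] [NeZero a] [NeZero k]
    (φ : Fin k → (Matrix (Fin a) (Fin a) F →ₐ[F] Matrix ι ι F))
    (hgen : (⨆ i, (φ i).range) = ⊤) (eq : ι ≃ (Fin k → Fin a)) (P : GL ι F)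
    (hP : ∀ i X, φ i X = cj P ((pureAt i X).submatrix eq eq))
    {g : GL ι F} (σ : Equiv.Perm (Fin k)) (hσ : ∀ i X, cj g (φ i X) ∈ (φ (σ i)).range) :
    ∃ gs : Fin k → GL (Fin a) F, (g : Matrix ι ι F) =
      cj P (((permGL (factorPerm σ) * pureGL gs : GL (Fin k → Fin a) F) :
        Matrix (Fin k → Fin a) (Fin k → Fin a) F).submatrix eq eq) := by
  have hinj : ∀ i, Function.Injective (φ i) := fun i => by
    haveI : Nontrivial (Matrix ι ι F) := inferInstance
    exact RingHom.injective (φ i).toRingHom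
  have hσ' : ∀ i X, ∃ Y, φ (σ i) Y = cj g (φ i X) := hσ
  choose f hf using hσ'
  let ψ : Fin k → (Matrix (Fin a) (Fin a) F →ₐ[F] Matrix (Fin a) (Fin a) F) := fun i =>
    { toFun := f i
      map_one' := hinj (σ i) (by simp [hf])
      map_mul' := fun X Y => hinj (σ i) (by rw [hf, map_mul, map_mul, map_mul, hf, hf])
      map_zero' := hinj (σ i) (by simp [hf])
      map_add' := fun X Y => hinj (σ i) (by rw [hf, map_add, map_add, map_add, hf, hf])
      commutes' := fun r => hinj (σ i) (by rw [hf]; simp [AlgHom.commutes]) }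
  choose gs hgs using fun i => exists_cj_of_algHom (ψ i)
  set w : GL (Fin k → Fin a) F := permGL (factorPerm σ) * pureGL gs with hw
  let w' : GL ι F := P * Geo.glReindex eq.symm w * P⁻¹
  have hre : ∀ (u : GL (Fin k → Fin a) F) (X : Matrix (Fin k → Fin a) (Fin k → Fin a) F),
      cj (Geo.glReindex eq.symm u) (X.submatrix eq eq) = (cj u X).submatrix eq eq := by
    intro u X
    have h1 : ((Geo.glReindex eq.symm u : GL ι F) : Matrix ι ι F) =
        (u : Matrix (Fin k → Fin a) (Fin k → Fin a) F).submatrix eq eq := by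
      simp [Geo.glReindex]
    have h2 : (((Geo.glReindex eq.symm u)⁻¹ : GL ι F) : Matrix ι ι F) =
        ((u⁻¹ : GL (Fin k → Fin a) F) :
          Matrix (Fin k → Fin a) (Fin k → Fin a) F).submatrix eq eq := by
      rw [← map_inv]; simp [Geo.glReindex]
    rw [cj_apply, cj_apply, h1, h2, Matrix.submatrix_mul_equiv, Matrix.submatrix_mul_equiv]
  have hw' : ∀ i X, cj w' (φ i X) = cj g (φ i X) := by
    intro i X
    rw [← hf, show f i X = cj (gs i) X from hgs i X, hP, hP]
    simp only [w', cj_mul, cj_inv_cj, hre, hw, cj_pureGL, cj_factorPerm]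
  have hcomm : ∀ x : Matrix ι ι F,
      ((w'⁻¹ * g : GL ι F) : Matrix ι ι F) * x = x * ((w'⁻¹ * g : GL ι F) : Matrix ι ι F) := by
    intro x
    have hle : ((⨆ i, (φ i).range) : Subalgebra F (Matrix ι ι F)) ≤
        Subalgebra.centralizer F {((w'⁻¹ * g : GL ι F) : Matrix ι ι F)} := by
      refine iSup_le fun i => ?_
      rintro _ ⟨X, rfl⟩
      rw [Subalgebra.mem_centralizer_iff]
      rintro _ rfl
      refine (cj_eq_self_iff (w'⁻¹ * g) _).1 ?_
      show cj (w'⁻¹ * g) (φ i X) = φ i X
      rw [cj_mul, ← hw', cj_inv_cj]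
    exact (Subalgebra.mem_centralizer_iff F).1 (hle (hgen.ge Algebra.mem_top)) _ rfl
  obtain ⟨c, hc⟩ := Matrix.mem_range_scalar_of_commute_single
    (M := ((w'⁻¹ * g : GL ι F) : Matrix ι ι F)) (fun i j _ => (hcomm _).symm)
  have hc0 : c ≠ 0 := by
    intro h
    rw [h, map_zero] at hc
    exact (w'⁻¹ * g).ne_zero hc.symm
  let i₀ : Fin k := 0
  let cs : Fin k → GL (Fin a) F := fun i =>
    if i = i₀ then Units.map (Matrix.scalar (Fin a) : F →+* Matrix (Fin a) (Fin a) F).toMonoidHom
      (Units.mk0 c hc0) else 1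
  refine ⟨fun i => gs i * cs i, ?_⟩
  have hcs : ((pureGL cs : GL (Fin k → Fin a) F) : Matrix (Fin k → Fin a) (Fin k → Fin a) F) =
      c • 1 := by
    show pureMat _ = _
    have : (fun i => (cs i : Matrix (Fin a) (Fin a) F)) =
        fun i => (if i = i₀ then c else 1) • (1 : Matrix (Fin a) (Fin a) F) := by
      funext i
      by_cases h : i = i₀ <;> simp [cs, h, Matrix.smul_one_eq_diagonal]
    rw [this, pureMat_smul, pureMat_one]
    simp
  have hmul : pureGL (fun i => gs i * cs i) = pureGL gs * pureGL cs := by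
    refine Units.ext ?_
    show pureMat _ = pureMat _ * pureMat _
    rw [pureMat_mul]
    simp
  rw [hmul, ← mul_assoc, ← hw, Units.val_mul, hcs, mul_smul_comm, mul_one]
  show _ = cj P (c • (w : Matrix (Fin k → Fin a) (Fin k → Fin a) F).submatrix eq eq)
  rw [map_smul]
  calc (g : Matrix ι ι F) = (w' : Matrix ι ι F) * ((w'⁻¹ * g : GL ι F) : Matrix ι ι F) := by
        rw [← Units.val_mul, mul_inv_cancel_left]
    _ = c • (w' : Matrix ι ι F) := by
        rw [← hc, Matrix.scalar_apply, ← Matrix.smul_one_eq_diagonal, mul_smul_comm, mul_one]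
    _ = _ := by simp [w', cj_apply, Geo.glReindex]

/-- A group permuting the factors of a tensor power lies in the tensor wreath subgroup; the
elements are products of a scalar, a factor permutation and a pure tensor. -/
lemma exists_perm_pure [Nonempty ι] [NeZero a] [NeZero k] {H : Subgroup (GL ι F)}
    (φ : Fin k → (Matrix (Fin a) (Fin a) F →ₐ[F] Matrix ι ι F))
    (hgen : (⨆ i, (φ i).range) = ⊤) (eq : ι ≃ (Fin k → Fin a)) (P : GL ι F)
    (hP : ∀ i X, φ i X = cj P ((pureAt i X).submatrix eq eq))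
    (hperm : ∀ g ∈ H, ∃ σ : Equiv.Perm (Fin k), ∀ i X, cj g (φ i X) ∈ (φ (σ i)).range)
    {g : GL ι F} (hg : g ∈ H) :
    ∃ (σ : Equiv.Perm (Fin k)) (gs : Fin k → GL (Fin a) F), (g : Matrix ι ι F) =
      cj P (((permGL (factorPerm σ) * pureGL gs : GL (Fin k → Fin a) F) :
        Matrix (Fin k → Fin a) (Fin k → Fin a) F).submatrix eq eq) := by
  obtain ⟨σ, hσ⟩ := hperm g hg
  obtain ⟨gs, hgs⟩ := exists_pure_of_perm φ hgen eq P hP σ hσ
  exact ⟨σ, gs, hgs⟩

/-- The Gram matrix of the tensor power of the two-dimensional alternating form. -/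
def jPow (eq : ι ≃ (Fin k → Fin 2)) (P : GL ι F) : Matrix ι ι F :=
  congrGram P ((pureMat fun _ : Fin k => J2 F).submatrix eq eq)

lemma mem_jPow_similarity (eq : ι ≃ (Fin k → Fin 2)) (P : GL ι F) (σ : Equiv.Perm (Fin k))
    (gs : Fin k → GL (Fin 2) F) {g : GL ι F} (h : (g : Matrix ι ι F) =
      cj P (((permGL (factorPerm σ) * pureGL gs : GL (Fin k → Fin 2) F) :
        Matrix (Fin k → Fin 2) (Fin k → Fin 2) F).submatrix eq eq)) :
    g ∈ Geo.similarityGroup (formOf (jPow eq P)) ∧
      g ∈ Geo.quadSimilarityGroup (fun v => formOf (jPow eq P) v v) := by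
  have hc : (∏ i, (gs i : Matrix (Fin 2) (Fin 2) F).det) ≠ 0 := Finset.prod_ne_zero_iff.2 fun i _ =>
    ((Matrix.isUnit_iff_isUnit_det _).1 (gs i).isUnit).ne_zero
  have hgram : (g : Matrix ι ι F)ᵀ * jPow eq P * (g : Matrix ι ι F) =
      (∏ i, (gs i : Matrix (Fin 2) (Fin 2) F).det) • jPow eq P := by
    rw [h]
    refine cj_gram P ?_
    rw [Matrix.transpose_submatrix, Matrix.submatrix_mul_equiv, Matrix.submatrix_mul_equiv]
    set J : Matrix (Fin k → Fin 2) (Fin k → Fin 2) F := pureMat fun _ => J2 F with hJ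
    set Wp : GL (Fin k → Fin 2) F := permGL (factorPerm σ)
    have hperm : (Wp : Matrix (Fin k → Fin 2) (Fin k → Fin 2) F)ᵀ * J *
        (Wp : Matrix (Fin k → Fin 2) (Fin k → Fin 2) F) = J := by
      have h1 : (Wp : Matrix (Fin k → Fin 2) (Fin k → Fin 2) F)ᵀ =
          ((Wp⁻¹ : GL (Fin k → Fin 2) F) : Matrix (Fin k → Fin 2) (Fin k → Fin 2) F) := by
        show ((1 : Matrix (Fin k → Fin 2) (Fin k → Fin 2) F).submatrix _ id)ᵀ =
          (1 : Matrix (Fin k → Fin 2) (Fin k → Fin 2) F).submatrix id _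
        rw [Matrix.transpose_submatrix, Matrix.transpose_one]
      have h2 : cj Wp J = J := by
        rw [cj_permGL, hJ, pureMat_submatrix]
      rw [h1]
      have h3 := congrArg (fun z => cj Wp⁻¹ z) h2
      simp only [cj_inv_cj] at h3
      conv_rhs => rw [h3]
      simp [cj_apply]
    have hpure : (pureMat fun i => (gs i : Matrix (Fin 2) (Fin 2) F))ᵀ * J *
        (pureMat fun i => (gs i : Matrix (Fin 2) (Fin 2) F)) =
        (∏ i, (gs i : Matrix (Fin 2) (Fin 2) F).det) • J := by
      rw [hJ, pureMat_transpose, pureMat_mul, pureMat_mul]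
      simp only [J2_gram]
      exact pureMat_smul _ _
    have hval : ((pureGL gs : GL (Fin k → Fin 2) F) : Matrix (Fin k → Fin 2) (Fin k → Fin 2) F) =
        pureMat fun i => (gs i : Matrix (Fin 2) (Fin 2) F) := rfl
    rw [Units.val_mul, Matrix.transpose_mul, hval]
    calc _ = ((pureMat fun i => (gs i : Matrix (Fin 2) (Fin 2) F))ᵀ *
          ((Wp : Matrix (Fin k → Fin 2) (Fin k → Fin 2) F)ᵀ * J *
            (Wp : Matrix (Fin k → Fin 2) (Fin k → Fin 2) F)) *
          (pureMat fun i => (gs i : Matrix (Fin 2) (Fin 2) F))).submatrix eq eq := by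
          simp only [mul_assoc]
      _ = _ := by rw [hperm, hpure]; rfl
  exact ⟨mem_similarity_of_gram hc hgram, mem_quadSimilarity_of_gram hc hgram⟩

lemma jPow_props (eq : ι ≃ (Fin k → Fin 2)) (P : GL ι F) :
    IsUnit (jPow eq P) ∧ (Even k → (jPow eq P)ᵀ = jPow eq P) ∧
      ((Odd k ∨ ((2 : F) = 0 ∧ 0 < k)) → Geo.IsSymplecticForm (formOf (jPow eq P))) := by
  set J0 := (pureMat fun _ : Fin k => J2 F).submatrix eq eq with hJ0
  have hu : IsUnit J0 := by
    rw [hJ0, Matrix.isUnit_submatrix_equiv]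
    exact (pureGL (fun _ : Fin k => (J2_isUnit (F := F)).unit)).isUnit
  have hT : J0ᵀ = ((-1 : F) ^ k) • J0 := by
    rw [hJ0, Matrix.transpose_submatrix, pureMat_transpose, J2_transpose]
    have : (fun _ : Fin k => -J2 F) = fun _ => (-1 : F) • J2 F := by
      funext _; rw [neg_one_smul]
    rw [this, pureMat_smul]
    ext r c
    simp
  refine ⟨congrGram_isUnit P hu, fun hk => congrGram_transpose P (by rw [hT, hk.neg_one_pow, one_smul]), fun hk => ?_⟩
  have hn : J0ᵀ = -J0 := by
    rcases hk with hk | ⟨h2, -⟩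
    · rw [hT, hk.neg_one_pow, neg_one_smul]
    · rcases Nat.even_or_odd k with hk | hk
      · exact transpose_neg_of_symm (by rw [hT, hk.neg_one_pow, one_smul]) h2
      · rw [hT, hk.neg_one_pow, neg_one_smul]
  have hk0 : 0 < k := hk.elim (fun h => h.pos) (fun h => h.2)
  refine formOf_symplectic (congrGram_isUnit P hu) (congrGram_transpose_neg P hn)
    (congrGram_diag P hn fun i => ?_)
  simp only [hJ0, Matrix.submatrix_apply, pureMat, Matrix.of_apply]
  refine Finset.prod_eq_zero (Finset.mem_univ (⟨0, hk0⟩ : Fin k)) ?_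
  generalize eq i ⟨0, hk0⟩ = x
  fin_cases x <;> simp [J2]

end Cfsg.Agent.Aschbacher
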