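import Cfsg.Agent.Lib.Aschbacher.FormTensor
import Cfsg.Agent.Lib.Aschbacher.FormAbelian
import Cfsg.Agent.Lib.Aschbacher.TensorPower

/-!
Coordinates, pure tensors, and quadratic forms with a given polar form.
-/

set_option autoImplicit false
set_option linter.style.haveILetI false

namespace Cfsg.Agent.Aschbacher

open scoped MatrixGroups Matrix Kronecker commutatorElement
open Matrix

variable {ι : Type} [Fintype ι] [DecidableEq ι] {F : Type*} [Field F]
variable {σ : F ≃+* F} {ε : F} {f : (ι → F) → (ι → F) → F}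
variable {κ : Type} [Fintype κ] [DecidableEq κ]

/-! ### Coordinates -/

/-- The coordinates of `v` for the basis `P` and the indexing `eq`. -/
def coords (eq : ι ≃ κ) (P : GL ι F) (v : ι → F) : κ → F :=
  (((P⁻¹ : GL ι F) : Matrix ι ι F) *ᵥ v) ∘ eq.symm

omit [DecidableEq κ] in
lemma coords_spec (eq : ι ≃ κ) (P : GL ι F) (x : κ → F) :
    coords eq P ((P : Matrix ι ι F) *ᵥ (x ∘ eq)) = x := by
  rw [coords, Matrix.mulVec_mulVec, Units.inv_mul, Matrix.one_mulVec, Function.comp_assoc,
    Equiv.self_comp_symm, Function.comp_id]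

omit [DecidableEq κ] [Fintype κ] in
lemma mulVec_coords (eq : ι ≃ κ) (P : GL ι F) (v : ι → F) :
    (P : Matrix ι ι F) *ᵥ (coords eq P v ∘ eq) = v := by
  rw [coords, Function.comp_assoc, Equiv.symm_comp_self, Function.comp_id, Matrix.mulVec_mulVec,
    Units.mul_inv, Matrix.one_mulVec]

lemma coords_mulVec (eq : ι ≃ κ) (P : GL ι F) {g : Matrix ι ι F} {W : Matrix κ κ F}
    (h : g = cj P (W.submatrix eq eq)) (v : ι → F) :
    coords eq P (g *ᵥ v) = W *ᵥ coords eq P v := by
  conv_lhs => rw [h, ← mulVec_coords eq P v, cj_mulVec, Matrix.submatrix_mulVec_equiv,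
    Function.comp_assoc, Equiv.self_comp_symm, Function.comp_id, coords_spec]

/-! ### Quadratic forms -/

/-- The quadratic form of `U` in coordinates. -/
def quadOf (eq : ι ≃ κ) (P : GL ι F) (U : Matrix κ κ F) (v : ι → F) : F :=
  formOf U (coords eq P v) (coords eq P v)

lemma polar_quadOf (eq : ι ≃ κ) (P : GL ι F) (U : Matrix κ κ F) (u v : ι → F) :
    QuadraticMap.polar (quadOf eq P U) u v = formOf (U + Uᵀ) (coords eq P u) (coords eq P v) := by
  have hc : coords eq P (u + v) = coords eq P u + coords eq P v := by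
    rw [coords, coords, coords, Matrix.mulVec_add]; rfl
  have hb := formOf_bilinear U
  have hswap : formOf Uᵀ (coords eq P u) (coords eq P v) =
      formOf U (coords eq P v) (coords eq P u) := by
    unfold formOf
    rw [Matrix.dotProduct_mulVec, Matrix.vecMul_transpose, dotProduct_comm]
  simp only [QuadraticMap.polar, quadOf, hc, hb.add_left, hb.add_right]
  rw [show formOf (U + Uᵀ) (coords eq P u) (coords eq P v) =
    formOf U (coords eq P u) (coords eq P v) + formOf Uᵀ (coords eq P u) (coords eq P v) by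
      simp [formOf, Matrix.add_mulVec, dotProduct_add], hswap]
  ring

lemma quadOf_smul (eq : ι ≃ κ) (P : GL ι F) (U : Matrix κ κ F) (c : F) (v : ι → F) :
    quadOf eq P U (c • v) = c ^ 2 * quadOf eq P U v := by
  have hc : coords eq P (c • v) = c • coords eq P v := by
    rw [coords, coords, Matrix.mulVec_smul]; rfl
  rw [quadOf, quadOf, hc, (formOf_bilinear U).smul_left, (formOf_bilinear U).smul_right]
  ring

/-- A quadratic form with the given alternating polar form. -/
lemma quadOf_spec (hf : Geo.IsSymplecticForm f) (eq : ι ≃ κ) (P : GL ι F) {U G : Matrix κ κ F}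
    (hU : U + Uᵀ = G) (hG : ∀ u v, f u v = formOf G (coords eq P u) (coords eq P v)) :
    Geo.IsNondegenerateQuadraticForm (quadOf eq P U) ∧
      ∀ u v, QuadraticMap.polar (quadOf eq P U) u v = f u v := by
  have hp : ∀ u v, QuadraticMap.polar (quadOf eq P U) u v = f u v := fun u v => by
    rw [polar_quadOf, hU, hG]
  have hp' : QuadraticMap.polar (quadOf eq P U) = f := funext fun u => funext fun v => hp u v
  exact ⟨⟨quadOf_smul eq P U, hp' ▸ hf.bilinear, hp' ▸ hf.nondegenerate⟩, hp⟩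

omit [DecidableEq ι] in
/-- A similitude of the polar form respecting `Q` on a basis respects it everywhere. -/
lemma quad_invariance {Q : (ι → F) → F} (hs : ∀ (c : F) v, Q (c • v) = c ^ 2 * Q v)
    {g : Matrix ι ι F} {μ : F}
    (hpol : ∀ u v, QuadraticMap.polar Q (g *ᵥ u) (g *ᵥ v) = μ * QuadraticMap.polar Q u v)
    {α : Type*} [Fintype α] (b : α → ι → F) (hb : Submodule.span F (Set.range b) = ⊤)
    (hgb : ∀ i, Q (g *ᵥ b i) = μ * Q (b i)) (v : ι → F) : Q (g *ᵥ v) = μ * Q v := by
  let D : Submodule F (ι → F) :=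
    { carrier := {v | Q (g *ᵥ v) = μ * Q v}
      add_mem' := fun {x y} hx hy => by
        show Q _ = _
        have h := hpol x y
        simp only [QuadraticMap.polar, ← Matrix.mulVec_add] at h
        rw [show Q (g *ᵥ x) = μ * Q x from hx, show Q (g *ᵥ y) = μ * Q y from hy] at h
        linear_combination h
      zero_mem' := by
        have h0 : Q 0 = 0 := by simpa using hs 0 0
        show Q _ = _
        rw [Matrix.mulVec_zero, h0, mul_zero]
      smul_mem' := fun c x hx => by
        show Q _ = _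
        rw [Matrix.mulVec_smul, hs, hs, show Q (g *ᵥ x) = μ * Q x from hx]
        ring }
  have h : Submodule.span F (Set.range b) ≤ D := Submodule.span_le.2 (by
    rintro _ ⟨i, rfl⟩; exact hgb i)
  exact h (hb.ge (Submodule.mem_top : v ∈ ⊤))

/-- The coordinate basis. -/
lemma span_coord_basis (eq : ι ≃ κ) (P : GL ι F) :
    Submodule.span F (Set.range fun a : κ =>
      (P : Matrix ι ι F) *ᵥ ((Pi.single a 1 : κ → F) ∘ eq)) = ⊤ := by
  refine eq_top_iff.2 fun v _ => ?_
  rw [← mulVec_coords eq P v, pi_eq_sum_univ' (coords eq P v)]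
  have hsum : ((∑ a, coords eq P v a • (Pi.single a 1 : κ → F)) ∘ eq) =
      ∑ a, coords eq P v a • ((Pi.single a 1 : κ → F) ∘ eq) := by
    funext i; simp [Finset.sum_apply]
  rw [hsum, Matrix.mulVec_sum]
  exact sum_mem fun a _ => by
    rw [Matrix.mulVec_smul]
    exact Submodule.smul_mem _ _ (Submodule.subset_span ⟨a, rfl⟩)

/-! ### Perfect groups of similitudes -/

lemma le_isoGroup_of_perfect [Nonempty ι] (hf : IsHermLike σ ε f) {L : Subgroup (GL ι F)}
    (hL : L ≤ Geo.similarityGroup f) (hp : ⁅L, L⁆ = L) : L ≤ isoGroup f := by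
  have h : ⁅L, L⁆ ≤ isoGroup f := by
    rw [Subgroup.commutator_le]
    intro a ha b hb u v
    obtain ⟨x, hx⟩ := hL ha
    obtain ⟨y, hy⟩ := hL hb
    obtain ⟨z, hz⟩ := hL (mul_mem (mul_mem ha hb) (mul_mem (inv_mem ha) (inv_mem hb)))
    have hab : ⁅a, b⁆ * (b * a) = a * b := by rw [commutatorElement_def]; group
    have hz' : ∀ u v, f ((⁅a, b⁆ : GL ι F) *ᵥ u : ι → F) ((⁅a, b⁆ : GL ι F) *ᵥ v) =
        (z : F) * f u v := by
      rw [commutatorElement_def, mul_assoc (a * b)]; exact hz
    obtain ⟨u₀, v₀, h0⟩ := hf.exists_ne_zero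
    have h1 : f (((a * b : GL ι F) : Matrix ι ι F) *ᵥ u₀) (((a * b : GL ι F) : Matrix ι ι F) *ᵥ v₀) =
        (x : F) * y * f u₀ v₀ := by
      rw [Units.val_mul, ← Matrix.mulVec_mulVec, ← Matrix.mulVec_mulVec, hx, hy, mul_assoc]
    rw [← hab, Units.val_mul, ← Matrix.mulVec_mulVec, ← Matrix.mulVec_mulVec, hz', Units.val_mul,
      ← Matrix.mulVec_mulVec, ← Matrix.mulVec_mulVec, hy, hx] at h1
    have hz1 : (z : F) = 1 := by
      refine mul_right_cancel₀ (mul_ne_zero (mul_ne_zero x.ne_zero y.ne_zero) h0) ?_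
      linear_combination h1
    show f ((⁅a, b⁆ : GL ι F) *ᵥ u : ι → F) ((⁅a, b⁆ : GL ι F) *ᵥ v) = f u v
    rw [hz', hz1, one_mul]
  rwa [hp] at h

/-! ### Pure tensors -/

variable {k a : ℕ}

lemma pureMat_map {R : Type*} [Field R] (τ : F →+* R) (A : Fin k → Matrix (Fin a) (Fin a) F) :
    τ.mapMatrix (pureMat A) = pureMat fun i => τ.mapMatrix (A i) := by
  ext x y
  simp [pureMat, map_prod]

lemma pureAt_apply (i : Fin k) (X : Matrix (Fin a) (Fin a) F) (u v : Fin k → Fin a) :
    pureAt i X u v = X (u i) (v i) *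
      ∏ j ∈ Finset.univ \ {i}, (1 : Matrix (Fin a) (Fin a) F) (u j) (v j) := by
  simp only [pureAt, pureMat, Matrix.of_apply]
  rw [Finset.prod_eq_mul_prod_sdiff_singleton_of_mem (Finset.mem_univ i), Function.update_self]
  congr 1
  refine Finset.prod_congr rfl fun j hj => ?_
  rw [Function.update_of_ne (by simpa using hj)]

lemma pureAt_one (i : Fin k) : pureAt i (1 : Matrix (Fin a) (Fin a) F) = 1 := by
  rw [pureAt, Function.update_eq_self, pureMat_one]

/-- `pureAt` as an algebra homomorphism. -/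
def pureAtHom (i : Fin k) :
    Matrix (Fin a) (Fin a) F →ₐ[F] Matrix (Fin k → Fin a) (Fin k → Fin a) F where
  toFun := pureAt i
  map_one' := pureAt_one i
  map_mul' X Y := by
    rw [pureAt, pureAt, pureAt, pureMat_mul]
    congr 1
    funext j
    by_cases h : j = i
    · subst h; simp
    · simp [Function.update_of_ne h]
  map_zero' := by ext u v; simp [pureAt_apply]
  map_add' X Y := by ext u v; simp [pureAt_apply, add_mul]
  commutes' c := by
    ext u v
    rw [pureAt_apply, Algebra.algebraMap_eq_smul_one, Algebra.algebraMap_eq_smul_one,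
      Matrix.smul_apply, Matrix.smul_apply, smul_eq_mul, smul_eq_mul, mul_assoc, ← pureAt_apply,
      pureAt_one]

lemma pureMat_factor {X A : Fin k → Matrix (Fin a) (Fin a) F} {μ : F}
    (h : pureMat X = μ • pureMat A) (hμ : μ ≠ 0) (hA : ∀ i, A i ≠ 0) :
    ∃ c : Fin k → F, (∀ i, c i ≠ 0) ∧ (∀ i, X i = c i • A i) ∧ ∏ i, c i = μ := by
  have hent : ∀ x y : Fin k → Fin a, (∏ i, X i (x i) (y i)) = μ * ∏ i, A i (x i) (y i) := fun x y => by
    simpa [pureMat] using congrFun (congrFun h x) y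
  have hex : ∀ i, ∃ p q, A i p q ≠ 0 := fun i => by
    by_contra hc
    push Not at hc
    exact hA i (Matrix.ext hc)
  choose p q hpq using hex
  have h0 := hent p q
  have hX0 : ∀ i, X i (p i) (q i) ≠ 0 := fun i hi => by
    rw [Finset.prod_eq_zero (Finset.mem_univ i) hi] at h0
    exact mul_ne_zero hμ (Finset.prod_ne_zero_iff.2 fun j _ => hpq j) h0.symm
  refine ⟨fun i => X i (p i) (q i) / A i (p i) (q i), fun i => div_ne_zero (hX0 i) (hpq i),
    fun i => Matrix.ext fun r s => ?_, ?_⟩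
  · have h1 := hent (Function.update p i r) (Function.update q i s)
    rw [Finset.prod_eq_mul_prod_sdiff_singleton_of_mem (Finset.mem_univ i),
      Finset.prod_eq_mul_prod_sdiff_singleton_of_mem (Finset.mem_univ i)
        (f := fun j => A j _ _)] at h1
    rw [Finset.prod_eq_mul_prod_sdiff_singleton_of_mem (Finset.mem_univ i),
      Finset.prod_eq_mul_prod_sdiff_singleton_of_mem (Finset.mem_univ i)
        (f := fun j => A j _ _)] at h0
    simp only [Function.update_self] at h1
    have e1 : ∏ j ∈ Finset.univ \ {i}, X j (Function.update p i r j) (Function.update q i s j) =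
        ∏ j ∈ Finset.univ \ {i}, X j (p j) (q j) := Finset.prod_congr rfl fun j hj => by
      rw [Function.update_of_ne (by simpa using hj), Function.update_of_ne (by simpa using hj)]
    have e2 : ∏ j ∈ Finset.univ \ {i}, A j (Function.update p i r j) (Function.update q i s j) =
        ∏ j ∈ Finset.univ \ {i}, A j (p j) (q j) := Finset.prod_congr rfl fun j hj => by
      rw [Function.update_of_ne (by simpa using hj), Function.update_of_ne (by simpa using hj)]
    rw [e1, e2] at h1
    set RX := ∏ j ∈ Finset.univ \ {i}, X j (p j) (q j)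
    set RA := ∏ j ∈ Finset.univ \ {i}, A j (p j) (q j)
    have hRX : RX ≠ 0 := Finset.prod_ne_zero_iff.2 fun j _ => hX0 j
    show X i r s = X i (p i) (q i) / A i (p i) (q i) * A i r s
    rw [div_mul_eq_mul_div, eq_div_iff (hpq i)]
    refine mul_right_cancel₀ hRX ?_
    linear_combination A i (p i) (q i) * h1 - A i r s * h0
  · rw [Finset.prod_div_distrib, div_eq_iff (Finset.prod_ne_zero_iff.2 fun j _ => hpq j)]
    exact h0

lemma perm_gram (τ : Equiv.Perm (Fin k)) (A : Fin k → Matrix (Fin a) (Fin a) F) :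
    ((permGL (factorPerm τ) : GL (Fin k → Fin a) F) :
        Matrix (Fin k → Fin a) (Fin k → Fin a) F)ᵀ * pureMat A *
      ((permGL (factorPerm τ) : GL (Fin k → Fin a) F) :
        Matrix (Fin k → Fin a) (Fin k → Fin a) F) = pureMat (fun i => A (τ i)) := by
  have h2 : cj (permGL (factorPerm τ)) (pureMat fun i => A (τ i)) = pureMat A := by
    rw [cj_permGL, pureMat_submatrix]
    congr 1
    funext i
    rw [Equiv.apply_symm_apply]
  have h1 : ((permGL (factorPerm τ) : GL (Fin k → Fin a) F) :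
      Matrix (Fin k → Fin a) (Fin k → Fin a) F)ᵀ =
      (((permGL (factorPerm τ) : GL (Fin k → Fin a) F)⁻¹ : GL (Fin k → Fin a) F) :
        Matrix (Fin k → Fin a) (Fin k → Fin a) F) := by
    show ((1 : Matrix (Fin k → Fin a) (Fin k → Fin a) F).submatrix _ id)ᵀ =
      (1 : Matrix (Fin k → Fin a) (Fin k → Fin a) F).submatrix id _
    rw [Matrix.transpose_submatrix, Matrix.transpose_one]
  have h3 := congrArg (cj (permGL (factorPerm τ))⁻¹) h2
  rw [cj_inv_cj] at h3
  rw [h1, h3]
  simp [cj_apply]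

lemma permGL_map (τ : Equiv.Perm κ) (ρ : F ≃+* F) :
    ρ.toRingHom.mapMatrix ((permGL τ : GL κ F) : Matrix κ κ F) = (permGL τ : GL κ F) := by
  ext x y
  show ρ ((1 : Matrix κ κ F) (τ x) y) = (1 : Matrix κ κ F) (τ x) y
  simp [Matrix.one_apply, apply_ite ρ]

lemma pureGL_val (gs : Fin k → GL (Fin a) F) :
    ((pureGL gs : GL (Fin k → Fin a) F) : Matrix (Fin k → Fin a) (Fin k → Fin a) F) =
      pureMat fun i => (gs i : Matrix (Fin a) (Fin a) F) := rfl

/-- The form in coordinates. -/
def coordForm (f : (ι → F) → (ι → F) → F) (eq : ι ≃ κ) (P : GL ι F) (x y : κ → F) : F :=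
  f ((P : Matrix ι ι F) *ᵥ (x ∘ eq)) ((P : Matrix ι ι F) *ᵥ (y ∘ eq))

lemma IsHermLike.coord (hf : IsHermLike σ ε f) (eq : ι ≃ κ) (P : GL ι F) :
    IsHermLike σ ε (coordForm f eq P) where
  invol := hf.invol
  add_left x y v := by
    show f _ _ = _
    rw [show (x + y) ∘ eq = x ∘ eq + y ∘ eq from rfl, Matrix.mulVec_add, hf.add_left]; rfl
  smul_left c x v := by
    show f _ _ = _
    rw [show (c • x) ∘ eq = c • (x ∘ eq) from rfl, Matrix.mulVec_smul, hf.smul_left]; rfl
  herm v w := hf.herm _ _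
  nondegenerate v hv := by
    have hv' : (P : Matrix ι ι F) *ᵥ (v ∘ eq) ≠ 0 := fun h => hv (by
      have h' := coords_spec eq P v
      rw [h] at h'
      rw [← h', coords, Matrix.mulVec_zero]; rfl)
    obtain ⟨⟨x, hx⟩, ⟨y, hy⟩⟩ := hf.nondegenerate _ hv'
    refine ⟨⟨coords eq P x, ?_⟩, ⟨coords eq P y, ?_⟩⟩
    · show f _ _ ≠ 0
      rwa [mulVec_coords]
    · show f _ _ ≠ 0
      rwa [mulVec_coords]

/-- Factors closed under adjoints split the form. -/
theorem exists_pure_form [Fintype F] [Nonempty ι] [NeZero a] [NeZero k] (hf : IsHermLike σ ε f)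
    (eq : ι ≃ (Fin k → Fin a)) (P : GL ι F)
    (φ : Fin k → (Matrix (Fin a) (Fin a) F →ₐ[F] Matrix ι ι F))
    (hφ : ∀ i X, φ i X = cj P ((pureAt i X).submatrix eq eq))
    (hgen : (⨆ i, (φ i).range) = ⊤) (hadj : ∀ i X, hf.adj (φ i X) ∈ (φ i).range) :
    ∃ A : Fin k → GL (Fin a) F,
      (∀ x y, coordForm f eq P x y =
        sesqOf σ (pureMat fun i => (A i : Matrix (Fin a) (Fin a) F)) x y) ∧
      ∃ d : Fin k → F, ∏ i, d i = ε ∧ ∀ i, d i * σ (d i) = 1 ∧
        (A i : Matrix (Fin a) (Fin a) F)ᵀ =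
          d i • σ.toRingHom.mapMatrix (A i : Matrix (Fin a) (Fin a) F) := by
  classical
  have hf' := hf.coord eq P
  have hσσ : ∀ {μ : Type} [Fintype μ] [DecidableEq μ] (M : Matrix μ μ F),
      σ.toRingHom.mapMatrix (σ.toRingHom.mapMatrix M) = M := fun M => Matrix.ext fun i j => by
    simp [hf.invol]
  have hpm : ∀ (i : Fin k) (X : Matrix (Fin a) (Fin a) F),
      σ.toRingHom.mapMatrix (pureAt i X) = pureAt i (σ.toRingHom.mapMatrix X) := fun i X => by
    rw [pureAt, pureMat_map, pureAt]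
    congr 1
    funext j
    by_cases h : j = i
    · subst h; simp
    · simp [Function.update_of_ne h]
  have hadj' : ∀ i X, ∃ Y, hf'.adj (pureAt i X) = pureAt i Y := by
    intro i X
    obtain ⟨Y, hY⟩ := hadj i X
    refine ⟨Y, hf'.adj_unique fun u v => ?_⟩
    have hact : ∀ (M : Matrix (Fin k → Fin a) (Fin k → Fin a) F) (x : (Fin k → Fin a) → F),
        cj P (M.submatrix eq eq) *ᵥ ((P : Matrix ι ι F) *ᵥ (x ∘ eq)) =
          (P : Matrix ι ι F) *ᵥ ((M *ᵥ x) ∘ eq) := fun M x => by
      rw [cj_mulVec, Matrix.submatrix_mulVec_equiv, Function.comp_assoc, Equiv.self_comp_symm,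
        Function.comp_id]
    show f _ _ = f _ _
    rw [← hact, ← hact, ← hφ, ← hφ, hf.adj_spec,
      show φ i Y = hf.adj (φ i X) from hY]
  set G' : GL (Fin k → Fin a) F := hf'.gram with hG'
  let ψ : Fin k → (Matrix (Fin a) (Fin a) F →ₐ[F]
      Matrix (Fin k → Fin a) (Fin k → Fin a) F) := pureAtHom
  have hψ : ∀ i X, ψ i X = cj (1 : GL (Fin k → Fin a) F)
      ((pureAt i X).submatrix (Equiv.refl _) (Equiv.refl _)) := fun i X => by
    simp only [cj_apply, Equiv.coe_refl, Matrix.submatrix_id_id, Units.val_one, inv_one, one_mul,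
      mul_one]
    rfl
  have hψgen : (⨆ i, (ψ i).range) = ⊤ := by
    let Φ : Matrix (Fin k → Fin a) (Fin k → Fin a) F ≃ₐ[F] Matrix ι ι F :=
      (Matrix.reindexAlgEquiv F F eq.symm).trans (cj P)
    have hΦ : ∀ i X, Φ (ψ i X) = φ i X := fun i X => by
      rw [hφ]; rfl
    refine eq_top_iff.2 fun M _ => ?_
    have hle : (⨆ i, (φ i).range) ≤ ((⨆ i, (ψ i).range).map Φ.toAlgHom) := by
      refine iSup_le fun i => ?_
      rintro _ ⟨X, rfl⟩
      exact ⟨ψ i X, le_iSup (fun i => (ψ i).range) i ⟨X, rfl⟩, hΦ i X⟩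
    obtain ⟨M', hM', he⟩ := hle (hgen.ge (Algebra.mem_top : Φ M ∈ ⊤))
    exact Φ.injective he ▸ hM'
  have hσ' : ∀ i X, cj G'⁻¹ (ψ i X) ∈ (ψ ((Equiv.refl (Fin k)) i)).range := by
    intro i X
    obtain ⟨Y, hY⟩ := hadj' i Xᵀ
    refine ⟨σ.toRingHom.mapMatrix Y, ?_⟩
    have h := congrArg σ.toRingHom.mapMatrix hY
    rw [IsHermLike.adj, adjG, hσσ, hpm] at h
    show pureAt i _ = cj G'⁻¹ (pureAt i X)
    rw [← h, cj_apply, inv_inv]
    congr 2
    rw [pureAt, pureMat_transpose, pureAt]
    congr 1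
    funext j
    by_cases hj : j = i
    · subst hj; simp
    · simp [Function.update_of_ne hj]
  obtain ⟨gs, hgs⟩ := exists_pure_of_perm ψ hψgen (Equiv.refl _) 1 hψ (g := G'⁻¹)
    (Equiv.refl (Fin k)) hσ'
  let A : Fin k → GL (Fin a) F := fun i => (gs i)⁻¹
  have hG : (G' : Matrix (Fin k → Fin a) (Fin k → Fin a) F) =
      pureMat fun i => (A i : Matrix (Fin a) (Fin a) F) := by
    have hone : permGL (factorPerm (Equiv.refl (Fin k))) = (1 : GL (Fin k → Fin a) F) :=
      Units.ext (by ext x y; rfl)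
    have e : G'⁻¹ = pureGL gs := Units.ext (by
      rw [hgs, hone]; simp [cj_apply])
    rw [← inv_inv G', e]
    rfl
  have hform : ∀ x y, coordForm f eq P x y =
      sesqOf σ (pureMat fun i => (A i : Matrix (Fin a) (Fin a) F)) x y := fun x y => by
    rw [← hG]; exact congrFun (congrFun hf'.eq_sesqOf x) y
  refine ⟨A, hform, ?_⟩
  have hε : ε ≠ 0 := fun h => by
    obtain ⟨u, v, huv⟩ := hf.exists_ne_zero
    exact huv (by rw [hf.herm, h, zero_mul])
  have hGT : (pureMat fun i => (A i : Matrix (Fin a) (Fin a) F))ᵀ =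
      ε • σ.toRingHom.mapMatrix (pureMat fun i => (A i : Matrix (Fin a) (Fin a) F)) := by
    ext i j
    have h := hf'.herm (Pi.single j 1) (Pi.single i 1)
    rw [hform, hform, sesqOf_single, sesqOf_single] at h
    simpa using h
  rw [pureMat_transpose, pureMat_map] at hGT
  obtain ⟨c, -, hc, hprod⟩ := pureMat_factor hGT hε fun i h => (A i).ne_zero (Matrix.ext fun r s => by
    simpa using congrFun (congrFun h r) s)
  exact ⟨c, hprod, fun i => ⟨sq_of_transpose hf.invol (hc i), hc i⟩⟩

end Cfsg.Agent.Aschbacher
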