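import Cfsg.Agent.Lib.Aschbacher.FormQuad

/-!
Extension fields closed under adjoints.
-/

set_option autoImplicit false
set_option linter.style.haveILetI false

namespace Cfsg.Agent.Aschbacher

open scoped MatrixGroups Matrix
open Matrix
open Cfsg.Agent.Transvec.Herm (fixedField mem_fixedField card_eq_sq)

variable {ι : Type} [Fintype ι] [DecidableEq ι] {F : Type*} [Field F]
variable {σ : F ≃+* F} {ε : F} {f : (ι → F) → (ι → F) → F}
variable {r : ℕ} {K : Subalgebra F (Matrix ι ι F)}

/-- A field subalgebra as a field. -/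
noncomputable abbrev fieldOf [Nonempty ι] (hK : Geo.IsFieldSubalgebra r K) : Field K :=
  have h : IsField K :=
    { exists_pair_ne := ⟨0, 1, fun e => zero_ne_one (congrArg Subtype.val e)⟩
      mul_comm := fun a b => Subtype.ext (hK.comm _ a.2 _ b.2)
      mul_inv_cancel := fun {a} ha => by
        obtain ⟨y, hy, hxy⟩ := hK.inv a.1 a.2 fun e => ha (Subtype.ext e)
        exact ⟨⟨y, hy⟩, Subtype.ext hxy⟩ }
  h.toField

/-- The only square roots of one in a field subalgebra. -/
lemma sq_eq_one_cases (hK : Geo.IsFieldSubalgebra r K) {x : Matrix ι ι F} (hx : x ∈ K)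
    (h : x * x = 1) : x = 1 ∨ x = -1 := by
  by_cases h1 : x - 1 = 0
  · exact Or.inl (sub_eq_zero.1 h1)
  obtain ⟨y, -, hy⟩ := hK.inv _ (sub_mem hx (one_mem K)) h1
  refine Or.inr (eq_neg_of_add_eq_zero_left ?_)
  calc x + 1 = (x + 1) * ((x - 1) * y) := by rw [hy, mul_one]
    _ = (x * x - 1) * y := by noncomm_ring
    _ = 0 := by rw [h, sub_self, zero_mul]

namespace IsHermLike

lemma adj_mem_of_closed (hf : IsHermLike σ ε f) (hadj : Geo.IsAdjointClosedFor f K)
    {x : Matrix ι ι F} (hx : x ∈ K) : hf.adj x ∈ K := by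
  obtain ⟨y, hy, hxy⟩ := hadj x hx
  rwa [hf.adj_unique hxy]

lemma adj_neg (hf : IsHermLike σ ε f) (x : Matrix ι ι F) : hf.adj (-x) = -hf.adj x := by
  rw [← neg_one_smul F x, hf.adj_smul, map_neg, map_one, neg_one_smul]

lemma selfAdjoint_of_adj (hf : IsHermLike σ ε f) (h : ∀ x ∈ K, hf.adj x = x) :
    Geo.IsSelfAdjointFor f K := fun k hk u v => by rw [hf.adj_spec, h k hk]

/-- The adjoint on a field subalgebra, as a ring equivalence. -/
noncomputable def adjEquiv (hf : IsHermLike σ ε f) (hK : Geo.IsFieldSubalgebra r K)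
    (hadj : Geo.IsAdjointClosedFor f K) : K ≃+* K where
  toFun x := ⟨hf.adj x.1, hf.adj_mem_of_closed hadj x.2⟩
  invFun x := ⟨hf.adj x.1, hf.adj_mem_of_closed hadj x.2⟩
  left_inv x := Subtype.ext (hf.adj_adj _)
  right_inv x := Subtype.ext (hf.adj_adj _)
  map_mul' x y := Subtype.ext (by
    show hf.adj (x.1 * y.1) = hf.adj x.1 * hf.adj y.1
    rw [hf.adj_mul, hK.comm _ (hf.adj_mem_of_closed hadj y.2) _ (hf.adj_mem_of_closed hadj x.2)])
  map_add' x y := Subtype.ext (hf.adj_add _ _)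

end IsHermLike

variable [Fintype F] [Nonempty ι]

/-- In odd degree every element is self-adjoint. -/
lemma adj_eq_self_of_odd (hf : IsHermLike (RingEquiv.refl F) ε f) (hK : Geo.IsFieldSubalgebra r K)
    (hadj : Geo.IsAdjointClosedFor f K) (hr : Odd r) {x : Matrix ι ι F} (hx : x ∈ K) :
    hf.adj x = x := by
  letI := fieldOf hK
  haveI : Finite K := inferInstance
  haveI : Finite (K ≃ₐ[F] K) := inferInstance
  let α : K ≃ₐ[F] K := AlgEquiv.ofRingEquiv (f := hf.adjEquiv hK hadj) fun c => Subtype.ext (by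
    show hf.adj (algebraMap F (Matrix ι ι F) c) = algebraMap F (Matrix ι ι F) c
    rw [hf.adj_algebraMap]; rfl)
  have h2 : α ^ 2 = 1 := AlgEquiv.ext fun y => Subtype.ext (by
    show (α (α y)).1 = y.1
    exact hf.adj_adj _)
  have hcard : Nat.card (K ≃ₐ[F] K) = r := by
    rw [IsGalois.card_aut_eq_finrank, hK.finrank_eq]
  have hr' : α ^ r = 1 := hcard ▸ pow_card_eq_one'
  have h1 : α = 1 := by
    have h := Nat.dvd_gcd (orderOf_dvd_of_pow_eq_one h2) (orderOf_dvd_of_pow_eq_one hr')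
    rw [Nat.coprime_two_left.2 hr, Nat.dvd_one, orderOf_eq_one_iff] at h
    exact h
  exact congrArg Subtype.val (AlgEquiv.ext_iff.1 h1 ⟨x, hx⟩)

/-- Self-adjoint, or of degree two. -/
lemma selfAdjoint_or_two (hf : IsHermLike (RingEquiv.refl F) ε f) (hr : r.Prime)
    (hK : Geo.IsFieldSubalgebra r K) (hadj : Geo.IsAdjointClosedFor f K) :
    Geo.IsSelfAdjointFor f K ∨ r = 2 := by
  rcases hr.eq_two_or_odd' with h | h
  · exact Or.inr h
  · exact Or.inl (hf.selfAdjoint_of_adj fun x hx => adj_eq_self_of_odd hf hK hadj h hx)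

/-- A field closed under the adjoint of a hermitian form has odd prime degree. -/
lemma odd_of_unitary_field (hf : IsHermLike σ ε f) (hσ : σ ≠ RingEquiv.refl F) (hr : r.Prime)
    (hK : Geo.IsFieldSubalgebra r K) (hadj : Geo.IsAdjointClosedFor f K) : Odd r := by
  refine (hr.eq_two_or_odd').resolve_left fun h2 => hσ (RingEquiv.ext fun c => ?_)
  subst h2
  letI := fieldOf hK
  haveI : Fintype K := Fintype.ofFinite K
  let α := hf.adjEquiv hK hadj
  have hinv : ∀ x, α (α x) = x := fun x => Subtype.ext (hf.adj_adj _)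
  have hα : ∀ d : F, α (algebraMap F K d) = algebraMap F K (σ d) := fun d =>
    Subtype.ext (hf.adj_algebraMap d)
  by_cases hne : α = RingEquiv.refl K
  · have h := hα c
    rw [hne] at h
    exact ((algebraMap F K).injective h).symm
  have h1 := card_eq_sq hne hinv
  have h2 := Module.natCard_eq_pow_finrank (K := F) (V := K)
  rw [hK.finrank_eq] at h2
  have hFK : Nat.card F = Nat.card (fixedField α) :=
    Nat.pow_left_injective two_ne_zero (h2.symm.trans h1)
  have hc : algebraMap F K c ∈ fixedField α := by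
    rw [mem_subfield_iff, ← hFK, ← map_pow, Nat.card_eq_fintype_card, FiniteField.pow_card]
  have h := hα c
  rw [mem_fixedField.1 hc] at h
  exact ((algebraMap F K).injective h).symm

omit [Fintype F] [Nonempty ι] in
lemma alternating_of_selfAdjoint_odd (hf : Geo.IsSymplecticForm f) (h2 : (2 : F) ≠ 0)
    (hsa : Geo.IsSelfAdjointFor f K) {k : Matrix ι ι F} (hk : k ∈ K) (v : ι → F) :
    f (k *ᵥ v) v = 0 := by
  have h := hf.skew (k *ᵥ v) v
  rw [← hsa k hk] at h
  refine (mul_eq_zero.1 (?_ : (2 : F) * f (k *ᵥ v) v = 0)).resolve_left h2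
  linear_combination h

/-- Self-adjoint fields give an alternating form. -/
lemma alternating_of_selfAdjoint (hf : Geo.IsSymplecticForm f) (hK : Geo.IsFieldSubalgebra r K)
    (hsa : Geo.IsSelfAdjointFor f K) {k : Matrix ι ι F} (hk : k ∈ K) (v : ι → F) :
    f (k *ᵥ v) v = 0 := by
  by_cases h2 : (2 : F) = 0
  swap
  · exact alternating_of_selfAdjoint_odd hf h2 hsa hk v
  letI := fieldOf hK
  haveI : Fintype K := Fintype.ofFinite K
  haveI : CharP F 2 := CharTwo.of_one_ne_zero_of_two_eq_zero one_ne_zero h2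
  haveI : CharP K 2 := charP_of_injective_algebraMap (algebraMap F K).injective 2
  obtain ⟨l, hl⟩ := (bijective_frobenius K 2).surjective ⟨k, hk⟩
  have hl' : l.1 * l.1 = k := by
    have h := congrArg Subtype.val hl
    rwa [frobenius_def, pow_two] at h
  rw [← hl', ← Matrix.mulVec_mulVec, hsa _ l.2]
  exact hf.alternating _

/-- An adjoint-closed quadratic field without being self-adjoint, in characteristic two. -/
theorem quadCase_of_field (hf : Geo.IsSymplecticForm f) (h2 : (2 : F) = 0)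
    (hK : Geo.IsFieldSubalgebra 2 K) (hadj : Geo.IsAdjointClosedFor f K)
    (hns : ¬ Geo.IsSelfAdjointFor f K) {H : Subgroup (GL ι F)}
    (hsim : H ≤ Geo.similarityGroup f) (hN : H ≤ Geo.subalgebraNormalizer K) : QuadCase f H := by
  have hf' := IsHermLike.of_symplectic hf
  obtain ⟨k, hk, hkne⟩ : ∃ k ∈ K, hf'.adj k ≠ k := by
    by_contra hc
    push Not at hc
    exact hns (hf'.selfAdjoint_of_adj hc)
  have hneg : ∀ x : Matrix ι ι F, -x = x := fun x =>
    Matrix.ext fun i j => neg_eq_of_char_two h2 _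
  -- the fixed elements are the scalars
  let S : Submodule F K :=
    { carrier := {x | hf'.adj x.1 = x.1}
      add_mem' := fun {a b} ha hb => by
        show hf'.adj (a.1 + b.1) = a.1 + b.1
        rw [hf'.adj_add, ha, hb]
      zero_mem' := hf'.adj_zero
      smul_mem' := fun c a ha => by
        show hf'.adj (c • a.1) = c • a.1
        rw [hf'.adj_smul, ha]; rfl }
  have hS : ∀ x ∈ K, hf'.adj x = x → ∃ c : F, x = c • (1 : Matrix ι ι F) := by
    intro x hx hxa
    have hne : S ≠ ⊤ := fun h => hkne (h.ge (Submodule.mem_top : (⟨k, hk⟩ : K) ∈ _))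
    have hlt := Submodule.finrank_lt hne
    rw [hK.finrank_eq] at hlt
    have h1 : (1 : K) ∈ S := hf'.adj_one
    have hle : Submodule.span F {(1 : K)} ≤ S := by simpa [Submodule.span_le] using h1
    have h1ne : (1 : K) ≠ 0 := fun e => one_ne_zero (congrArg Subtype.val e)
    have heq : Submodule.span F {(1 : K)} = S := Submodule.eq_of_le_of_finrank_le hle (by
      rw [finrank_span_singleton h1ne]; omega)
    obtain ⟨c, hc⟩ := Submodule.mem_span_singleton.1 (heq.ge (show (⟨x, hx⟩ : K) ∈ S from hxa))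
    exact ⟨c, (congrArg Subtype.val hc).symm⟩
  set t₀ := k + hf'.adj k with ht₀
  obtain ⟨a, ha⟩ := hS t₀ (add_mem hk (hf'.adj_mem_of_closed hadj hk))
    (by rw [ht₀, hf'.adj_add, hf'.adj_adj, add_comm])
  have ha0 : a ≠ 0 := fun h0 => hkne (by
    rw [h0, zero_smul] at ha
    exact (eq_neg_of_add_eq_zero_right ha).trans (hneg k))
  set θ := a⁻¹ • k with hθ
  have hθK : θ ∈ K := K.smul_mem hk _
  have hsum : θ + hf'.adj θ = 1 := by
    rw [hθ, hf'.adj_smul]
    show a⁻¹ • k + a⁻¹ • hf'.adj k = 1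
    rw [← smul_add, ← ht₀, ha, smul_smul, inv_mul_cancel₀ ha0, one_smul]
  let Q : (ι → F) → F := fun v => f (θ *ᵥ v) v
  have hsym : ∀ u v, f u v = f v u := fun u v => by rw [hf.skew, neg_eq_of_char_two h2]
  have hp : ∀ u v, QuadraticMap.polar Q u v = f u v := fun u v => by
    simp only [QuadraticMap.polar, Q, Matrix.mulVec_add, hf'.add_left, hf'.add_right]
    have h1 : f (θ *ᵥ v) u = f (hf'.adj θ *ᵥ u) v := by
      rw [hsym (hf'.adj θ *ᵥ u) v, ← hf'.adj_spec]
    rw [h1]
    have h3 : f u v = f (θ *ᵥ u) v + f (hf'.adj θ *ᵥ u) v := by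
      rw [← hf'.add_left, ← Matrix.add_mulVec, hsum, Matrix.one_mulVec]
    rw [h3]; ring
  have hp' : QuadraticMap.polar Q = f := funext fun u => funext fun v => hp u v
  refine ⟨Q, ⟨fun c v => ?_, hp' ▸ hf.bilinear, hp' ▸ hf.nondegenerate⟩, hp, fun g hg => ?_⟩
  · simp only [Q, Matrix.mulVec_smul, hf.bilinear.smul_left, hf.bilinear.smul_right]; ring
  obtain ⟨μ, hμ⟩ := hsim hg
  refine ⟨μ, fun v => ?_⟩
  set θ' := cj g⁻¹ θ with hθ'
  have hθ'K : θ' ∈ K := by
    rw [hθ', cj_apply]
    exact ((hN (inv_mem hg)) θ).1 hθK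
  have hsum' : θ' + hf'.adj θ' = 1 := by
    rw [hθ', hf'.adj_cj (hsim (inv_mem hg)), ← map_add, hsum, map_one]
  obtain ⟨c, hc⟩ := hS (θ' - θ) (sub_mem hθ'K hθK) (by
    rw [sub_eq_add_neg, hf'.adj_add, hf'.adj_neg, eq_sub_of_add_eq' hsum',
      eq_sub_of_add_eq' hsum, hneg, hneg, sub_eq_add_neg, sub_eq_add_neg, hneg, hneg]
    have h11 : (1 : Matrix ι ι F) + 1 = 0 := by
      nth_rw 2 [← hneg 1]; rw [add_neg_cancel]
    calc 1 + θ' + (1 + θ) = (1 + 1) + (θ' + θ) := by abel
      _ = θ' + θ := by rw [h11, zero_add])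
  have hgθ : θ *ᵥ ((g : Matrix ι ι F) *ᵥ v) = (g : Matrix ι ι F) *ᵥ (θ' *ᵥ v) := by
    rw [Matrix.mulVec_mulVec, Matrix.mulVec_mulVec, hθ', cj_apply, inv_inv, ← mul_assoc,
      ← mul_assoc, Units.mul_inv, one_mul]
  show f (θ *ᵥ _) _ = (μ : F) * f (θ *ᵥ v) v
  rw [hgθ, hμ, show θ' = θ + c • 1 by rw [← hc, add_sub_cancel], Matrix.add_mulVec,
    hf'.add_left, Matrix.smul_mulVec c 1 v, Matrix.one_mulVec, hf.bilinear.smul_left c v, hf.alternating,
    mul_zero, add_zero]

omit [Fintype F] in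
/-- An irreducible group is not scalar in dimension above one. -/
lemma not_le_scalars_of_irred (hn : 1 < Fintype.card ι) {H : Subgroup (GL ι F)}
    (hirr : Geo.ActsIrreducibly (Geo.matrixSet H)) : ¬ H ≤ Geo.scalars ι F := by
  intro h
  obtain ⟨i, j, hij⟩ := Fintype.exists_pair_of_one_lt_card hn
  have hline : Submodule.span F {(Pi.single i 1 : ι → F)} = ⊤ := by
    refine eq_top_of_invariant hirr ?_ (Submodule.mem_span_singleton_self _) (by simp)
    rintro _ ⟨g, hg, rfl⟩ v hv
    obtain ⟨c, hc⟩ := (Geo.mem_scalars_iff g).1 (h hg)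
    show (g : Matrix ι ι F) *ᵥ v ∈ _
    rw [hc, Matrix.smul_mulVec, Matrix.one_mulVec]
    exact Submodule.smul_mem _ _ hv
  obtain ⟨c, hc⟩ := Submodule.mem_span_singleton.1
    (hline.ge (Submodule.mem_top : (Pi.single j 1 : ι → F) ∈ _))
  simpa [Ne.symm hij] using congrFun hc j

omit [Fintype F] in
/-- A field of full degree is its own centraliser. -/
lemma mem_of_commute_field (hK : Geo.IsFieldSubalgebra (Fintype.card ι) K) {x : Matrix ι ι F}
    (hx : ∀ k ∈ K, x * k = k * x) : x ∈ K := by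
  obtain ⟨i⟩ := ‹Nonempty ι›
  let φ : K →ₗ[F] (ι → F) :=
    { toFun := fun k => k.1 *ᵥ Pi.single i 1
      map_add' := fun a b => Matrix.add_mulVec _ _ _
      map_smul' := fun c a => Matrix.smul_mulVec _ _ _ }
  have hinj : Function.Injective φ := by
    refine (injective_iff_map_eq_zero φ).2 fun k hk => ?_
    by_contra hne
    obtain ⟨y, hy, hky⟩ := hK.inv k.1 k.2 fun e => hne (Subtype.ext e)
    have h := congrArg (y *ᵥ ·) (show k.1 *ᵥ Pi.single i (1 : F) = 0 from hk)
    simp only [Matrix.mulVec_mulVec, Matrix.mulVec_zero, hK.comm y hy _ k.2, hky,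
      Matrix.one_mulVec] at h
    simpa using congrFun h i
  have hsurj : Function.Surjective φ := (LinearMap.injective_iff_surjective_of_finrank_eq_finrank
    (by rw [hK.finrank_eq, Module.finrank_fintype_fun_eq_card])).1 hinj
  obtain ⟨k, hk⟩ := hsurj (x *ᵥ Pi.single i 1)
  have he : x = k.1 := mulVec_ext fun v => by
    obtain ⟨l, rfl⟩ := hsurj v
    show x *ᵥ (l.1 *ᵥ _) = k.1 *ᵥ (l.1 *ᵥ _)
    rw [Matrix.mulVec_mulVec, hx _ l.2, ← Matrix.mulVec_mulVec,
      show x *ᵥ Pi.single i 1 = k.1 *ᵥ Pi.single i (1 : F) from hk.symm, Matrix.mulVec_mulVec,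
      hK.comm _ l.2 _ k.2, ← Matrix.mulVec_mulVec]
  exact he ▸ k.2

/-- No field of full degree in odd dimension is normalised by an irreducible group of special
isometries. -/
theorem false_of_full_field (hf : IsHermLike (RingEquiv.refl F) ε f)
    (hodd : Odd (Fintype.card ι)) (hn : 1 < Fintype.card ι)
    (hK : Geo.IsFieldSubalgebra (Fintype.card ι) K) (hadj : Geo.IsAdjointClosedFor f K)
    {H : Subgroup (GL ι F)} (hiso : H ≤ isoGroup f)
    (hdet : H ≤ Geo.specialLinear ι F) (hirr : Geo.ActsIrreducibly (Geo.matrixSet H))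
    (hN : H ≤ Geo.subalgebraNormalizer K) : False := by
  letI := fieldOf hK
  haveI : Finite K := inferInstance
  have hsq : ∀ (C : Subalgebra F (Matrix ι ι F)) (d : ℕ), Geo.IsFieldSubalgebra d C → Odd d →
      Geo.IsAdjointClosedFor f C → ∀ x : GL ι F, x ∈ isoGroup f →
        (x : Matrix ι ι F) ∈ C → (x : Matrix ι ι F) = 1 ∨ (x : Matrix ι ι F) = -1 := by
    intro C d hC hd hCa x hx hxC
    have h1 := adj_eq_self_of_odd hf hC hCa hd hxC
    have h2 : hf.adj (x : Matrix ι ι F) = ((x⁻¹ : GL ι F) : Matrix ι ι F) :=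
      hf.adj_unique fun u v => by
        have h := hx u (((x⁻¹ : GL ι F) : Matrix ι ι F) *ᵥ v)
        simp only [glToMat, Units.coeHom_apply, Matrix.mulVec_mulVec, Units.mul_inv,
          Matrix.one_mulVec] at h
        exact h
    refine sq_eq_one_cases hC hxC ?_
    nth_rw 2 [← h1]
    rw [h2, Units.mul_inv]
  -- the action on `K`
  let ρ : H → (K ≃ₐ[F] K) := fun g => AlgEquiv.ofAlgHom
    { toFun := fun k => ⟨cj g.1 k.1, by rw [cj_apply]; exact ((hN g.2) k.1).1 k.2⟩
      map_one' := Subtype.ext (map_one _)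
      map_mul' := fun a b => Subtype.ext (map_mul _ _ _)
      map_zero' := Subtype.ext (map_zero _)
      map_add' := fun a b => Subtype.ext (map_add _ _ _)
      commutes' := fun c => Subtype.ext (AlgEquiv.commutes _ c) }
    { toFun := fun k => ⟨cj g.1⁻¹ k.1, by
        rw [cj_apply]; exact ((hN (inv_mem g.2)) k.1).1 k.2⟩
      map_one' := Subtype.ext (map_one _)
      map_mul' := fun a b => Subtype.ext (map_mul _ _ _)
      map_zero' := Subtype.ext (map_zero _)
      map_add' := fun a b => Subtype.ext (map_add _ _ _)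
      commutes' := fun c => Subtype.ext (AlgEquiv.commutes _ c) }
    (AlgHom.ext fun k => Subtype.ext (cj_cj_inv g.1 k.1))
    (AlgHom.ext fun k => Subtype.ext (cj_inv_cj g.1 k.1))
  have hab : ∀ g ∈ H, ∀ h ∈ H, g * h = h * g := by
    intro g hg h hh
    have hcomm : ∀ k ∈ K, cj g (cj h k) = cj h (cj g k) := by
      intro k hk
      letI : CommGroup (K ≃ₐ[F] K) := IsCyclic.commGroup
      have e : ρ ⟨g, hg⟩ * ρ ⟨h, hh⟩ = ρ ⟨h, hh⟩ * ρ ⟨g, hg⟩ := mul_comm _ _
      exact congrArg Subtype.val (AlgEquiv.ext_iff.1 e ⟨k, hk⟩)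
    set c := (h * g)⁻¹ * (g * h) with hc
    have hcH : c ∈ H := mul_mem (inv_mem (mul_mem hh hg)) (mul_mem hg hh)
    have hck : ∀ k ∈ K, cj c k = k := fun k hk => by
      rw [hc, cj_mul, cj_mul g h k, hcomm k hk, ← cj_mul h g k, cj_inv_cj]
    have hcK : (c : Matrix ι ι F) ∈ K := mem_of_commute_field hK fun k hk => by
      have h1 := hck k hk
      rw [cj_apply] at h1
      conv_rhs => rw [← h1]
      simp [mul_assoc]
    have hc1 : (c : Matrix ι ι F) = 1 := by
      rcases hsq K _ hK hodd hadj c (hiso hcH) hcK with h1 | h1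
      · exact h1
      · have hd : (c : Matrix ι ι F).det = 1 :=
          congrArg Units.val (MonoidHom.mem_ker.1 (hdet hcH))
        rw [h1, Matrix.det_neg, Matrix.det_one, mul_one, hodd.neg_one_pow] at hd
        have h2 : (2 : F) = 0 := by linear_combination -hd
        rw [h1]
        exact Matrix.ext fun i j => neg_eq_of_char_two h2 _
    exact inv_mul_eq_one.1 (Units.ext hc1) |>.symm
  have hcomm : ∀ x ∈ spanAlg H, ∀ y ∈ spanAlg H, x * y = y * x := fun x hx y hy =>
    commute_spanAlg (fun g hg => (commute_spanAlg (fun h hh => by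
      rw [← Units.val_mul, ← Units.val_mul, hab h hh g hg]) hy).symm) hx
  rcases commAlg_cases hirr hcomm (normalises_spanAlg fun g hg x hx =>
      mul_mem (mul_mem hg hx) (inv_mem hg)) with hfield | ⟨e, he, he1⟩
  · refine not_le_scalars_of_irred hn hirr fun x hx => ?_
    rcases hsq _ _ hfield (hodd.of_dvd_nat (dvd_card_of_isFieldSubalgebra hfield))
      (fun y hy => ⟨hf.adj y, hf.adj_mem_spanAlg (hiso.trans (isoGroup_le f)) hy, hf.adj_spec y⟩)
      x (hiso hx) (coe_mem_spanAlg hx) with h | h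
    · exact (Geo.mem_scalars_iff x).2 ⟨1, by simpa using h⟩
    · exact (Geo.mem_scalars_iff x).2 ⟨-1, by simpa using h⟩
  · have hW : LinearMap.range (Matrix.toLin' e) = ⊤ := by
      refine (hirr _ ?_).resolve_left ?_
      · rintro _ ⟨g, hg, rfl⟩ _ ⟨_, ⟨w, rfl⟩, rfl⟩
        refine ⟨(g : Matrix ι ι F) *ᵥ w, ?_⟩
        simp only [Matrix.toLin'_apply, Matrix.mulVec_mulVec]
        rw [hcomm e he.mem _ (coe_mem_spanAlg hg)]
      · rw [LinearMap.range_eq_bot]
        exact fun h0 => he.ne_zero (Matrix.toLin'.map_eq_zero_iff.1 h0)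
    exact he1 (mulVec_ext fun v => by
      rw [Matrix.one_mulVec, mem_range_idem he.idem (hW ▸ Submodule.mem_top)])

end Cfsg.Agent.Aschbacher
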