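import Cfsg.Agent.Lib.Aschbacher.SympStructure

/-!
Orthogonal frames and isometric decompositions.
-/

set_option autoImplicit false
set_option linter.style.haveILetI false

namespace Cfsg.Agent.Aschbacher

open scoped MatrixGroups Matrix
open Matrix

variable {ι : Type} [Fintype ι] [DecidableEq ι] {F : Type*} [Field F]
variable {σ : F ≃+* F} {f : (ι → F) → (ι → F) → F}

omit [DecidableEq ι] in
/-- The members of a decomposition add up to the whole space. -/
lemma mdecomp_card {t k : ℕ} {D : Fin t → Submodule F (ι → F)}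
    (hD : Geo.IsMDecomposition k D) : t * k = Fintype.card ι := by
  classical
  have hint := DirectSum.isInternal_submodule_of_iSupIndep_of_iSup_eq_top hD.indep hD.iSup_eq_top
  rw [← Module.finrank_fintype_fun_eq_card F (η := ι),
    Module.finrank_eq_card_basis (hint.collectedBasis fun i => Module.finBasis F _),
    Fintype.card_sigma, Finset.sum_congr rfl fun i _ => (Fintype.card_fin _).trans (hD.finrank_eq i)]
  simp

omit [DecidableEq ι] in
lemma eq_span_of_finrank_one {W : Submodule F (ι → F)} (hW : Module.finrank F W = 1) {w : ι → F}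
    (hw : w ∈ W) (hw0 : w ≠ 0) : W = Submodule.span F {w} :=
  (Submodule.eq_of_le_of_finrank_le (by simpa [Submodule.span_le] using hw)
    (by rw [hW, finrank_span_singleton hw0])).symm

/-- Two lines whose spanning vectors take the same value are isometric. -/
lemma areIsometric_span {Q : (ι → F) → F} (hs : ∀ (c : F) v, Q (c • v) = c ^ 2 * Q v) {w w' : ι → F}
    (hw : w ≠ 0) (hw' : w' ≠ 0) (hQ : Q w = Q w') :
    Geo.AreIsometricFor Q (Submodule.span F {w}) (Submodule.span F {w'}) := by
  refine ⟨(LinearEquiv.toSpanNonzeroSingleton F (ι → F) w hw).symm.trans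
    (LinearEquiv.toSpanNonzeroSingleton F (ι → F) w' hw'), fun x => ?_⟩
  obtain ⟨a, rfl⟩ := (LinearEquiv.toSpanNonzeroSingleton F (ι → F) w hw).surjective x
  rw [LinearEquiv.trans_apply, LinearEquiv.symm_apply_apply]
  show Q (a • w') = Q (a • w)
  rw [hs, hs, hQ]

/-- An isometry carrying one member onto another. -/
lemma areIsometric_map {Q : (ι → F) → F} {g : GL ι F} (hg : g ∈ isometryGroup F Q)
    {W W' : Submodule F (ι → F)} (h : W.map (Matrix.toLin' (g : Matrix ι ι F)) = W') :
    Geo.AreIsometricFor Q W W' := by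
  have hinj : Function.Injective (Matrix.toLin' (g : Matrix ι ι F)) :=
    Matrix.mulVec_injective_of_isUnit g.isUnit
  refine ⟨(Submodule.equivMapOfInjective _ hinj W).trans (LinearEquiv.ofEq _ _ h), fun w => ?_⟩
  simp only [LinearEquiv.trans_apply, LinearEquiv.coe_ofEq_apply, Submodule.coe_equivMapOfInjective_apply,
    Matrix.toLin'_apply]
  exact hg (w : ι → F) (w : ι → F)

/-- A scalar Gram matrix gives an orthogonal frame, stabilised by monomial matrices. -/
lemma exists_frame {κ : Type} [Fintype κ] [DecidableEq κ] (hf : IsHermLike σ 1 f)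
    (eq : ι ≃ κ) (P : GL ι F) {c : F} (hc : c ≠ 0)
    (hform : ∀ x y, coordForm f eq P x y = c * sesqOf σ (1 : Matrix κ κ F) x y)
    (hκ : 2 ≤ Fintype.card κ) :
    ∃ D : Fin (Fintype.card κ) → Submodule F (ι → F), Geo.IsNondegenerateMDecomposition f 1 D ∧
      (∀ i, ∃ w : ι → F, D i = Submodule.span F {w} ∧ w ≠ 0 ∧ f w w = c) ∧
      ∀ (g : GL ι F) (W : Matrix κ κ F), (g : Matrix ι ι F) = cj P (W.submatrix eq eq) →
        (∀ p, ∃ (r : κ) (a : F), W *ᵥ Pi.single p 1 = a • Pi.single r 1) →
        g ∈ Geo.decompositionStabilizer D := by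
  classical
  let e := (Fintype.equivFin κ).symm
  let w : κ → ι → F := fun p => (P : Matrix ι ι F) *ᵥ ((Pi.single p 1 : κ → F) ∘ eq)
  have hval : ∀ p r, f (w p) (w r) = if p = r then c else 0 := fun p r => by
    have h := hform (Pi.single p 1) (Pi.single r 1)
    rw [coordForm, sesqOf_single] at h
    rw [h, Matrix.one_apply, mul_ite, mul_one, mul_zero]
  have hw0 : ∀ p, w p ≠ 0 := fun p h0 => hc (by
    have h := hval p p
    rw [h0, hf.zero_left, if_pos rfl] at h
    exact h.symm)
  have hli : LinearIndependent F w := by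
    rw [Fintype.linearIndependent_iff]
    intro a ha p
    have h := congrArg (fun v => f v (w p)) ha
    simp only [hf.sum_left, hf.zero_left, hf.smul_left, hval, mul_ite, mul_zero,
      Finset.sum_ite_eq', Finset.mem_univ, if_true] at h
    exact (mul_eq_zero.1 h).resolve_right hc
  refine ⟨fun i => Submodule.span F {w (e i)}, ⟨⟨hκ, one_pos, fun i => finrank_span_singleton (hw0 _),
    (hli.comp e e.injective).iSupIndep_span_singleton, ?_⟩, fun i => ?_, fun i j hij u hu v hv => ?_⟩,
    fun i => ⟨_, rfl, hw0 _, by rw [hval, if_pos rfl]⟩, fun g W hW hmon => ?_⟩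
  · rw [eq_top_iff, ← span_coord_basis eq P, Submodule.span_le]
    rintro _ ⟨p, rfl⟩
    exact le_iSup (fun i => Submodule.span F {w (e i)}) (e.symm p)
      (by rw [Equiv.apply_symm_apply]; exact Submodule.mem_span_singleton_self _)
  · intro x hx hx0
    obtain ⟨a, rfl⟩ := Submodule.mem_span_singleton.1 hx
    have ha : a ≠ 0 := fun h => hx0 (by rw [h, zero_smul])
    have hσa : σ a ≠ 0 := (map_ne_zero σ.toRingHom).2 ha
    refine ⟨⟨w (e i), Submodule.mem_span_singleton_self _, ?_⟩,
      ⟨w (e i), Submodule.mem_span_singleton_self _, ?_⟩⟩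
    · rw [hf.smul_right, hval, if_pos rfl]; exact mul_ne_zero hσa hc
    · rw [hf.smul_left, hval, if_pos rfl]; exact mul_ne_zero ha hc
  · obtain ⟨a, rfl⟩ := Submodule.mem_span_singleton.1 hu
    obtain ⟨b, rfl⟩ := Submodule.mem_span_singleton.1 hv
    rw [hf.smul_left, hf.smul_right, hval, if_neg (e.injective.ne hij), mul_zero, mul_zero]
  · choose r a hr using hmon
    have hgw : ∀ p, (g : Matrix ι ι F) *ᵥ w p = a p • w (r p) := fun p => by
      show _ *ᵥ (_ *ᵥ _) = _
      rw [hW, cj_mulVec, Matrix.submatrix_mulVec_equiv, Function.comp_assoc, Equiv.self_comp_symm,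
        Function.comp_id, hr]
      show _ = a p • ((P : Matrix ι ι F) *ᵥ _)
      rw [← Matrix.mulVec_smul]
      rfl
    have ha : ∀ p, a p ≠ 0 := fun p h0 => by
      have h := hgw p
      rw [h0, zero_smul] at h
      exact hw0 p (Matrix.mulVec_injective_of_isUnit g.isUnit (by simpa using h))
    have hinj : Function.Injective r := by
      intro p q hpq
      by_contra hne
      have h2 : (g : Matrix ι ι F) *ᵥ w p = (g : Matrix ι ι F) *ᵥ ((a p / a q) • w q) := by
        rw [Matrix.mulVec_smul, hgw, hgw, smul_smul, div_mul_cancel₀ _ (ha q), hpq]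
      have h := congrArg (fun v => f v (w q)) (Matrix.mulVec_injective_of_isUnit g.isUnit h2)
      simp only [hval, hf.smul_left, if_neg hne, if_pos] at h
      exact mul_ne_zero (div_ne_zero (ha p) (ha q)) hc h.symm
    let π : Equiv.Perm κ := Equiv.ofBijective r ((Fintype.bijective_iff_injective_and_card r).2 ⟨hinj, rfl⟩)
    refine ⟨(e.trans π).trans e.symm, fun i => ?_⟩
    rw [Submodule.map_span, Set.image_singleton, Matrix.toLin'_apply, hgw]
    show _ = Submodule.span F {w (e (e.symm (π (e i))))}
    rw [Equiv.apply_symm_apply, Submodule.span_singleton_smul_eq (Ne.isUnit (ha _))]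
    rfl

/-- Similitudes of the identity in dimension three over three elements are monomial. -/
lemma monomial_of_orth_three [Fintype F] (hq : Fintype.card F = 3) (u : GL (Fin 3) F) {e : F}
    (he : e ≠ 0)
    (hu : (u : Matrix (Fin 3) (Fin 3) F)ᵀ * (u : Matrix (Fin 3) (Fin 3) F) = e • 1) (p : Fin 3) :
    ∃ r : Fin 3, ∀ s, s ≠ r → (u : Matrix (Fin 3) (Fin 3) F) s p = 0 := by
  have he1 : e = 1 := by
    have h := congrArg Matrix.det hu
    rw [Matrix.det_mul, Matrix.det_transpose, Matrix.det_smul, Matrix.det_one, mul_one,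
      Fintype.card_fin] at h
    rcases card_three_cases hq ((u : Matrix (Fin 3) (Fin 3) F).det) with h1 | h1 <;> rw [h1] at h
    · exact absurd h.symm (pow_ne_zero _ he)
    · rcases card_three_cases hq e with h3 | h3
      · exact absurd (mul_self_eq_zero.1 h3) he
      · linear_combination -h - e * h3
  rw [he1, one_smul] at hu
  have hsum := congrFun (congrFun hu p) p
  simp only [Matrix.mul_apply, Matrix.transpose_apply, Matrix.one_apply_eq, Fin.sum_univ_three] at hsum
  have h3 : (3 : F) = 0 := by
    have h := FiniteField.cast_card_eq_zero F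
    rw [hq] at h
    exact_mod_cast h
  rcases card_three_cases hq ((u : Matrix (Fin 3) (Fin 3) F) 0 p) with h0 | h0 <;>
  rcases card_three_cases hq ((u : Matrix (Fin 3) (Fin 3) F) 1 p) with h1 | h1 <;>
  rcases card_three_cases hq ((u : Matrix (Fin 3) (Fin 3) F) 2 p) with h2 | h2 <;>
  rw [h0, h1, h2] at hsum
  · simp at hsum
  · exact ⟨2, fun s hs => by fin_cases s <;> simp_all⟩
  · exact ⟨1, fun s hs => by fin_cases s <;> simp_all⟩
  · exact absurd hsum (fun h => one_ne_zero (α := F) (by linear_combination h))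
  · exact ⟨0, fun s hs => by fin_cases s <;> simp_all⟩
  · exact absurd hsum (fun h => one_ne_zero (α := F) (by linear_combination h))
  · exact absurd hsum (fun h => one_ne_zero (α := F) (by linear_combination h))
  · exact absurd hsum (fun h => one_ne_zero (α := F) (by linear_combination h3 - h))

/-- Monomial factors give a monomial tensor. -/
lemma monomial_perm_pure {k a : ℕ} (τ : Equiv.Perm (Fin k)) (gs : Fin k → GL (Fin a) F)
    (h : ∀ i p, ∃ r : Fin a, ∀ s, s ≠ r → (gs i : Matrix (Fin a) (Fin a) F) s p = 0)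
    (p : Fin k → Fin a) : ∃ (r : Fin k → Fin a) (x : F),
      ((permGL (factorPerm τ) * pureGL gs : GL (Fin k → Fin a) F) :
        Matrix (Fin k → Fin a) (Fin k → Fin a) F) *ᵥ Pi.single p 1 = x • Pi.single r 1 := by
  choose r hr using h
  set q : Fin k → Fin a := fun i => r i (p i)
  set φ : Equiv.Perm (Fin k → Fin a) := factorPerm τ
  refine ⟨φ.symm q, pureMat (fun i => (gs i : Matrix (Fin a) (Fin a) F)) q p, ?_⟩
  have hperm : ((permGL φ : GL (Fin k → Fin a) F) : Matrix (Fin k → Fin a) (Fin k → Fin a) F) =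
      (1 : Matrix (Fin k → Fin a) (Fin k → Fin a) F).submatrix φ id := rfl
  funext x
  rw [Matrix.mulVec_single_one, Units.val_mul, pureGL_val, hperm, Matrix.col_apply,
    Matrix.mul_apply, Pi.smul_apply, smul_eq_mul, Pi.single_apply]
  simp only [Matrix.submatrix_apply, id, Matrix.one_apply, ite_mul, one_mul, zero_mul,
    Finset.sum_ite_eq, Finset.mem_univ, if_true, mul_ite, mul_one, mul_zero]
  split_ifs with hx
  · rw [hx, Equiv.apply_symm_apply]
  · have hne : φ x ≠ q := fun h => hx (by rw [← h, Equiv.symm_apply_apply])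
    obtain ⟨i, hi⟩ := Function.ne_iff.1 hne
    exact Finset.prod_eq_zero (Finset.mem_univ i) (hr i (p i) _ hi)

end Cfsg.Agent.Aschbacher
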