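import Cfsg.Agent.Lib.Aschbacher.FormField

/-!
The subgroup theorem for groups of similitudes, before sorting into classes.
-/

set_option autoImplicit false
set_option linter.style.haveILetI false

namespace Cfsg.Agent.Aschbacher

open scoped MatrixGroups Matrix commutatorElement
open Matrix

variable {ι : Type} [Fintype ι] [DecidableEq ι] {F : Type*} [Field F] [Fintype F]
variable {σ : F ≃+* F} {ε : F} {f : (ι → F) → (ι → F) → F}

/-- The possible outcomes for a group of similitudes. -/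
inductive FormAsch (σ : F ≃+* F) (ε : F) (f : (ι → F) → (ι → F) → F) (H : Subgroup (GL ι F)) : Prop
  | red (h : RedCase f H)
  | comm (hirr : Geo.ActsIrreducibly (Geo.matrixSet H)) (h : CommCase f H)
  | tensor {a b : ℕ} {eq : ι ≃ Fin a × Fin b} {P : GL ι F} {A : GL (Fin a) F} {B : GL (Fin b) F}
      (hirr : Geo.ActsIrreducibly (Geo.matrixSet H)) (ha : 2 ≤ a) (hb : 2 ≤ b)
      (hs : TensorSplit σ ε f eq P A B)
      (hN : Normalises H ((kemb eq P).range : Set (Matrix ι ι F)))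
  | abelian {N : Subgroup (GL ι F)} (hirr : Geo.ActsIrreducibly (Geo.matrixSet H)) (S : AbSetup H N)
  | wreath {k a : ℕ} (hirr : Geo.ActsIrreducibly (Geo.matrixSet H)) (hk : 2 ≤ k) (ha : 2 ≤ a)
      (h : WreathSplit σ ε f H k a (PerfectCond σ))
  | core {L : Subgroup (GL ι F)} (le : L ≤ H) (normal : ∀ h ∈ H, ∀ x ∈ L, h * x * h⁻¹ ∈ L)
      (perfect : ⁅L, L⁆ = L) (simple : IsSimpleGroup (L ⧸ (Geo.scalars ι F).subgroupOf L))
      (nonabelian : ¬ IsMulCommutative (L ⧸ (Geo.scalars ι F).subgroupOf L))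
      (centralizer : ∀ h ∈ H, (∀ x ∈ L, h * x * h⁻¹ * x⁻¹ ∈ Geo.scalars ι F) → h ∈ Geo.scalars ι F)
      (top : spanAlg L = ⊤) (fix : L ≤ isoGroup f)

/-- The subgroup theorem for similitudes of a reflexive form. -/
theorem formAsch (hf : IsHermLike σ ε f) {H : Subgroup (GL ι F)} (hZH : Geo.scalars ι F ≤ H)
    (hsim : H ≤ Geo.similarityGroup f) (hn : 1 < Fintype.card ι) : FormAsch σ ε f H := by
  classical
  haveI : Nonempty ι := Fintype.card_pos_iff.1 (by omega)
  by_cases hirr : Geo.ActsIrreducibly (Geo.matrixSet H)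
  swap
  · obtain ⟨W, hW, h0, h1⟩ : ∃ W : Submodule F (ι → F),
        (∀ s ∈ Geo.matrixSet H, W.map (Matrix.toLin' s) ≤ W) ∧ W ≠ ⊥ ∧ W ≠ ⊤ := by
      simpa [Geo.ActsIrreducibly, not_or] using hirr
    exact .red (redCase hf hsim h0 h1 fun g hg => subspaceStabilizer_mem fun v hv =>
      hW _ ⟨g, hg, rfl⟩ ⟨v, hv, Matrix.toLin'_apply _ _⟩)
  by_cases htop : ∀ L : Subgroup (GL ι F), L ≤ H → (∀ g ∈ H, ∀ x ∈ L, g * x * g⁻¹ ∈ L) →
      ¬ L ≤ Geo.scalars ι F → spanAlg L = ⊤
  swap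
  · push Not at htop
    obtain ⟨L, hLH, hLn, hLs, hLt⟩ := htop
    have hA := normalises_spanAlg hLn
    have hadjA : ∀ x ∈ spanAlg L, hf.adj x ∈ spanAlg L := fun x hx =>
      hf.adj_mem_spanAlg (hLH.trans hsim) hx
    by_cases hZ : centre (spanAlg L) = ⊥
    swap
    · exact .comm hirr (commCase hf hsim hirr (fun x hx y hy => (mem_centre.1 hy).2 x (mem_centre.1 hx).1) hA.centre
        (fun x hx => hf.adj_mem_centre hadjA hx) hZ)
    obtain ⟨a, b, eq, P, hP⟩ := exists_kemb_range hirr hA hZ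
    obtain ⟨⟨i, s⟩⟩ : Nonempty (Fin a × Fin b) := ⟨eq (Classical.arbitrary ι)⟩
    have hi := i.pos
    have hs := s.pos
    have ha : a ≠ 1 := by
      rintro rfl
      refine hLs (le_scalars_iff.2 ?_)
      rw [hP]
      refine eq_bot_iff.2 ?_
      rintro _ ⟨X, rfl⟩
      have hX : X = algebraMap F _ (X 0 0) := by
        ext r c
        simp [Subsingleton.elim r 0, Subsingleton.elim c 0, Matrix.algebraMap_matrix_apply]
      show kemb eq P X ∈ ⊥
      rw [hX, AlgHom.commutes]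
      exact Subalgebra.algebraMap_mem _ _
    have hb : b ≠ 1 := fun hb => hLt (hP.trans (kemb_range_eq_top eq P (by simp [hb])))
    obtain ⟨A, B, hAB⟩ := tensorSplit hf eq P fun X => by
      rw [← hP]
      exact hadjA _ (hP ▸ ⟨X, rfl⟩)
    exact .tensor hirr (by omega) (by omega) hAB (hP ▸ hA)
  have hne : H ≠ Geo.scalars ι F := fun h => not_le_scalars_of_irred hn hirr h.le
  obtain ⟨N, h1, h2, h3, h4, h5⟩ := exists_minimal_normal hZH hne
  have hNtop : spanAlg N = ⊤ := htop N h2 h4 fun h => h3 (le_antisymm h h1)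
  by_cases hab : ⁅N, N⁆ ≤ Geo.scalars ι F
  · refine .abelian hirr (N := N) ⟨h1, h2, h4, h5, fun x hx y hy => ?_, hNtop, hn⟩
    obtain ⟨c, hc⟩ := AbSetup.exists_sc (hab (Subgroup.commutator_mem_commutator hy hx))
    refine ⟨c, ?_⟩
    rw [← hc, commutatorElement_def]
    group
  cases nonabCase ⟨h1, h2, h4, hab, h5, htop, inferInstance⟩ with
  | wreath hk ha hφ hgen hE htr h =>
    exact .wreath hirr hk ha (wreathSplit hf hsim hk ha hφ hgen hE htr h)
  | core le normal perfect simple nonabelian centralizer top =>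
    exact .core le normal perfect simple nonabelian centralizer top
      (le_isoGroup_of_perfect hf (le.trans hsim) perfect)

variable {H : Subgroup (GL ι F)}

/-- The group together with the scalars is still made of similitudes. -/
lemma sup_scalars_le_sim (hf : IsHermLike σ ε f) (h : H ≤ Geo.similarityGroup f) :
    H ⊔ Geo.scalars ι F ≤ Geo.similarityGroup f := by
  refine sup_le h ?_
  rintro z ⟨c, rfl⟩
  have hne : (c : F) * σ (c : F) ≠ 0 := mul_ne_zero c.ne_zero ((map_ne_zero σ.toRingHom).2 c.ne_zero)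
  refine ⟨Units.mk0 _ hne, fun u v => ?_⟩
  have h' := hf.apply_sc c 1 u v
  simpa [sc] using h'

lemma perfect_le_of_sup {L : Subgroup (GL ι F)} (hp : ⁅L, L⁆ = L)
    (hle : L ≤ H ⊔ Geo.scalars ι F) : L ≤ H := by
  rw [← hp]
  refine ((Subgroup.commutator_mono hle hle).trans (commutator_sup_scalars H)).trans ?_
  rw [Subgroup.commutator_le]
  exact fun a ha b hb => mul_mem (mul_mem (mul_mem ha hb) (inv_mem ha)) (inv_mem hb)

/-- A core not realisable over a proper subfield gives the core conditions for `H`. -/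
lemma residualCore_of {L : Subgroup (GL ι F)} (le : L ≤ H ⊔ Geo.scalars ι F)
    (normal : ∀ h ∈ H ⊔ Geo.scalars ι F, ∀ x ∈ L, h * x * h⁻¹ ∈ L)
    (perfect : ⁅L, L⁆ = L) (simple : IsSimpleGroup (L ⧸ (Geo.scalars ι F).subgroupOf L))
    (nonabelian : ¬ IsMulCommutative (L ⧸ (Geo.scalars ι F).subgroupOf L))
    (centralizer : ∀ h ∈ H ⊔ Geo.scalars ι F,
      (∀ x ∈ L, h * x * h⁻¹ * x⁻¹ ∈ Geo.scalars ι F) → h ∈ Geo.scalars ι F)
    (top : spanAlg L = ⊤)
    (hsub : ∀ F₀ : Subfield F, F₀ ≠ ⊤ → ¬ Geo.RealisableOver F₀ (Geo.matrixSet L)) :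
    Geo.IsResidualCore H L :=
  { le := perfect_le_of_sup perfect le
    normal := fun h hh => normal h (Subgroup.mem_sup_left hh)
    perfect := perfect
    simple := simple
    nonabelian := nonabelian
    centralizer_scalar := fun h hh => centralizer h (Subgroup.mem_sup_left hh)
    absIrred := absIrred_of_spanAlg_eq_top top
    no_subfield := hsub }

/-- A core realisable over a proper subfield gives a subfield member. -/
lemma subfieldCase_of_core (hn : 1 < Fintype.card ι) (hf : IsHermLike σ ε f) {L : Subgroup (GL ι F)}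
    (normal : ∀ h ∈ H, ∀ x ∈ L, h * x * h⁻¹ ∈ L) (top : spanAlg L = ⊤) (fix : L ≤ isoGroup f)
    {F₀ : Subfield F} (hne : F₀ ≠ ⊤) (hreal : Geo.RealisableOver F₀ (Geo.matrixSet L)) :
    SubfieldCase σ f H := by
  obtain ⟨B, hB⟩ := hreal
  exact subfieldCase_of_realise hn hf top normal F₀ hne hB fun x hx =>
    ⟨1, one_mem _, fun u v => by rw [one_mul]; exact fix hx u v⟩

omit [Fintype F] in
lemma fixesForm_of_le_iso {L : Subgroup (GL ι F)} (h : L ≤ isoGroup f) :
    Geo.FixesForm (Geo.matrixSet L) f := by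
  rintro _ ⟨x, hx, rfl⟩
  exact h hx

omit [Fintype F] in
lemma subfieldSubgroup_mono₂ {F₁ F₂ : Subfield F} (h : F₁ ≤ F₂) (P : GL ι F) :
    Geo.subfieldSubgroup F₁ P ≤ Geo.subfieldSubgroup F₂ P := by
  refine Subgroup.map_mono (sup_le_sup_right ?_ _)
  rintro _ ⟨x, rfl⟩
  exact ⟨Matrix.GeneralLinearGroup.map (Subfield.inclusion h) x, Units.ext (Matrix.ext fun i j => rfl)⟩

/-- A subfield member for a subfield of prime index. -/
lemma SubfieldCase.exists_prime (h : SubfieldCase σ f H) :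
    ∃ (F₁ : Subfield F) (r : ℕ) (P : GL ι F) (ζ : F) (G : Matrix ι ι F), r.Prime ∧
      Fintype.card F = Nat.card F₁ ^ r ∧ RatGram σ f F₁ P ζ G ∧
      H ≤ Geo.subfieldSubgroup F₁ P ∧
      ((2 : F) = 0 → (∀ a ∈ F₁, σ a = a) → Gᵀ = G → ∀ i, G i i = 0) := by
  obtain ⟨hne, hG, hH, halt⟩ := h
  obtain ⟨F₁, r, hle, hr, hcard⟩ := exists_prime_index hne
  exact ⟨F₁, r, _, _, _, hr, hcard,
    ⟨hG.ne_zero, hG.isUnit, fun i j => hle (hG.entries i j), hG.eq⟩,
    hH.trans (subfieldSubgroup_mono₂ hle _), fun h2 hfix => halt h2 fun a ha => hfix a (hle ha)⟩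

end Cfsg.Agent.Aschbacher
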