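import Cfsg.Agent.Lib.Aschbacher.FormWreath

/-!
Characteristic two: quadratic forms preserved up to multipliers, with a given polar form.
-/

set_option autoImplicit false
set_option linter.style.haveILetI false

namespace Cfsg.Agent.Aschbacher

open scoped MatrixGroups Matrix Kronecker
open Matrix

variable {ι : Type} [Fintype ι] [DecidableEq ι] {F : Type*} [Field F]
variable {f : (ι → F) → (ι → F) → F} {H : Subgroup (GL ι F)}

/-- A quadratic form with polar form `f`, kept by `H` up to multipliers. -/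
def QuadCase (f : (ι → F) → (ι → F) → F) (H : Subgroup (GL ι F)) : Prop :=
  ∃ Q : (ι → F) → F, Geo.IsNondegenerateQuadraticForm Q ∧
    (∀ u v, QuadraticMap.polar Q u v = f u v) ∧ H ≤ Geo.quadSimilarityGroup Q

omit [DecidableEq ι] in
lemma formOf_single_self {κ : Type} [Fintype κ] [DecidableEq κ] (M : Matrix κ κ F) (a : κ) :
    formOf M (Pi.single a 1) (Pi.single a 1) = M a a := by
  simp [formOf, single_dotProduct]

/-- Similitudes with singular images of a basis keep the form of `U`. -/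
lemma quadCase_of_singular {κ : Type} [Fintype κ] [DecidableEq κ] (hf : Geo.IsSymplecticForm f)
    (eq : ι ≃ κ) (P : GL ι F) {U G : Matrix κ κ F} (hU : U + Uᵀ = G)
    (hG : ∀ u v, f u v = formOf G (coords eq P u) (coords eq P v))
    (hsim : H ≤ Geo.similarityGroup f)
    (hz : ∀ g ∈ H, ∃ W : Matrix κ κ F, (g : Matrix ι ι F) = cj P (W.submatrix eq eq) ∧
      ∀ a, (Wᵀ * U * W) a a = 0) : QuadCase f H := by
  obtain ⟨hQ, hp⟩ := quadOf_spec hf eq P hU hG
  have hb : ∀ g ∈ H, ∀ a : κ, quadOf eq P U ((g : Matrix ι ι F) *ᵥ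
      ((P : Matrix ι ι F) *ᵥ ((Pi.single a 1 : κ → F) ∘ eq))) = 0 := by
    intro g hg a
    obtain ⟨W, hW, hWa⟩ := hz g hg
    rw [quadOf, coords_mulVec eq P hW, coords_spec, formOf_mulVec, formOf_single_self, hWa]
  refine ⟨_, hQ, hp, fun g hg => ?_⟩
  obtain ⟨μ, hμ⟩ := hsim hg
  refine ⟨μ, fun v => quad_invariance hQ.smul (fun x y => ?_) _ (span_coord_basis eq P)
    (fun a => ?_) v⟩
  · rw [hp, hp, hμ]
  · have h1 := hb 1 (one_mem _) a
    rw [Units.val_one, Matrix.one_mulVec] at h1
    rw [hb g hg a, h1, mul_zero]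

/-- The strict upper part. -/
def upperPart {a : ℕ} (A : Matrix (Fin a) (Fin a) F) : Matrix (Fin a) (Fin a) F :=
  Matrix.of fun i j => if i < j then A i j else 0

lemma upperPart_add {a : ℕ} {A : Matrix (Fin a) (Fin a) F} (hA : Aᵀ = A) (hd : ∀ i, A i i = 0) :
    upperPart A + (upperPart A)ᵀ = A := by
  ext i j
  have hs : A j i = A i j := congrFun (congrFun hA i) j
  rcases lt_trichotomy i j with h | rfl | h
  · simp [upperPart, h, not_lt_of_gt h]
  · simp [upperPart, hd]
  · simp [upperPart, h, not_lt_of_gt h, hs]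

omit [DecidableEq ι] in
lemma neg_eq_of_char_two (h2 : (2 : F) = 0) (x : F) : -x = x := by linear_combination (-x) * h2

/-- A tensor product of two alternating forms. -/
theorem quadCase_of_tensor [Fintype F] (hf : Geo.IsSymplecticForm f) (h2 : (2 : F) = 0) {a b : ℕ}
    [NeZero a] [NeZero b] {eq : ι ≃ Fin a × Fin b} {P : GL ι F} {A : GL (Fin a) F}
    {B : GL (Fin b) F} (h : TensorSplit (RingEquiv.refl F) (-1) f eq P A B)
    (hsim : H ≤ Geo.similarityGroup f)
    (hN : Normalises H ((kemb eq P).range : Set (Matrix ι ι F)))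
    (hA : (A : Matrix (Fin a) (Fin a) F)ᵀ = A) (hAd : ∀ i, (A : Matrix (Fin a) (Fin a) F) i i = 0)
    (hB : (B : Matrix (Fin b) (Fin b) F)ᵀ = B) (hBd : ∀ i, (B : Matrix (Fin b) (Fin b) F) i i = 0) :
    QuadCase f H := by
  refine quadCase_of_singular hf eq P
    (U := upperPart (A : Matrix (Fin a) (Fin a) F) ⊗ₖ (B : Matrix (Fin b) (Fin b) F)) (G :=
      (A : Matrix (Fin a) (Fin a) F) ⊗ₖ (B : Matrix (Fin b) (Fin b) F)) ?_ (fun u v => ?_) hsim
    fun g hg => ?_
  · rw [← Matrix.kroneckerMap_transpose, hB, ← Matrix.add_kronecker, upperPart_add hA hAd]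
  · have h' := h.form (coords eq P u) (coords eq P v)
    rwa [mulVec_coords, mulVec_coords, sesqOf_refl] at h'
  · obtain ⟨u, w, c, d, -, -, hg', -, hw⟩ := h.exists_factors (hsim hg) fun X => hN g hg _ ⟨X, rfl⟩
    refine ⟨(u : Matrix (Fin a) (Fin a) F) ⊗ₖ (w : Matrix (Fin b) (Fin b) F),
      by rw [hg', kemb_mul_kembR], fun p => ?_⟩
    rw [show (RingEquiv.refl F).toRingHom.mapMatrix (w : Matrix (Fin b) (Fin b) F) = w from rfl] at hw
    rw [← Matrix.kroneckerMap_transpose, ← Matrix.mul_kronecker_mul, ← Matrix.mul_kronecker_mul, hw]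
    simp [hBd]

lemma pureMat_update_add {k a : ℕ} (A : Fin k → Matrix (Fin a) (Fin a) F) (i : Fin k)
    (X Y : Matrix (Fin a) (Fin a) F) :
    pureMat (Function.update A i X) + pureMat (Function.update A i Y) =
      pureMat (Function.update A i (X + Y)) := by
  ext x y
  have key : ∀ Z : Matrix (Fin a) (Fin a) F, pureMat (Function.update A i Z) x y =
      Z (x i) (y i) * ∏ j ∈ Finset.univ \ {i}, A j (x j) (y j) := by
    intro Z
    rw [show pureMat (Function.update A i Z) x y =
      ∏ j, Function.update A i Z j (x j) (y j) from rfl,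
      Finset.prod_eq_mul_prod_sdiff_singleton_of_mem (Finset.mem_univ i)]
    rw [Function.update_self]
    congr 1
    refine Finset.prod_congr rfl fun j hj => ?_
    rw [Function.update_of_ne (by simpa using hj)]
  rw [Matrix.add_apply, key, key, key, Matrix.add_apply, add_mul]

/-- A tensor power of an alternating form. -/
theorem quadCase_of_wreath (hf : Geo.IsSymplecticForm f) (h2 : (2 : F) = 0) {k a : ℕ}
    (hk : 2 ≤ k) {eq : ι ≃ (Fin k → Fin a)} {P : GL ι F} {A : GL (Fin a) F} {c : F}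
    (hform : ∀ x y, coordForm f eq P x y =
      c * sesqOf (RingEquiv.refl F) (pureMat fun _ => (A : Matrix (Fin a) (Fin a) F)) x y)
    (hA : (A : Matrix (Fin a) (Fin a) F)ᵀ = A) (hAd : ∀ i, (A : Matrix (Fin a) (Fin a) F) i i = 0)
    (hsim : H ≤ Geo.similarityGroup f)
    (h : ∀ g ∈ H, ∃ (τ : Equiv.Perm (Fin k)) (gs : Fin k → GL (Fin a) F),
      (g : Matrix ι ι F) = cj P (((permGL (factorPerm τ) * pureGL gs : GL (Fin k → Fin a) F) :
        Matrix (Fin k → Fin a) (Fin k → Fin a) F).submatrix eq eq) ∧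
      ∀ i, ∃ e : F, e ≠ 0 ∧ (gs i : Matrix (Fin a) (Fin a) F)ᵀ * (A : Matrix (Fin a) (Fin a) F) *
        (RingEquiv.refl F).toRingHom.mapMatrix (gs i : Matrix (Fin a) (Fin a) F) =
          e • (A : Matrix (Fin a) (Fin a) F)) :
    QuadCase f H := by
  let z : Fin k := ⟨0, by omega⟩
  let A' : Fin k → Matrix (Fin a) (Fin a) F := fun _ => (A : Matrix (Fin a) (Fin a) F)
  let U0 : Fin k → Matrix (Fin a) (Fin a) F :=
    Function.update A' z (upperPart (A : Matrix (Fin a) (Fin a) F))
  refine quadCase_of_singular hf eq P (U := c • pureMat U0) (G := c • pureMat A') ?_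
    (fun u v => ?_) hsim fun g hg => ?_
  · have hT : (fun i => (U0 i)ᵀ) =
        Function.update A' z (upperPart (A : Matrix (Fin a) (Fin a) F))ᵀ := by
      funext i
      by_cases hi : i = z
      · subst hi; simp [U0]
      · simp [U0, hi, A', hA]
    rw [Matrix.transpose_smul, pureMat_transpose, hT, ← smul_add, pureMat_update_add,
      upperPart_add hA hAd]
    congr 2
    exact Function.update_eq_self z A'
  · have h' := hform (coords eq P u) (coords eq P v)
    rw [coordForm, mulVec_coords, mulVec_coords, sesqOf_refl] at h'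
    rw [h']
    simp [formOf, A', Matrix.smul_mulVec, dotProduct_smul]
  · obtain ⟨τ, gs, hg', he⟩ := h g hg
    refine ⟨_, hg', fun p => ?_⟩
    rw [Units.val_mul, pureGL_val, Matrix.transpose_mul, pureMat_transpose, Matrix.mul_smul,
      Matrix.smul_mul, Matrix.smul_apply]
    rw [show ∀ M N X U : Matrix (Fin k → Fin a) (Fin k → Fin a) F,
        N * Mᵀ * U * (M * X) = N * (Mᵀ * U * M) * X from fun M N X U => by simp only [mul_assoc],
      perm_gram, pureMat_mul, pureMat_mul]
    refine smul_eq_zero.2 (Or.inr ?_)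
    haveI : Nontrivial (Fin k) := Fin.nontrivial_iff_two_le.2 hk
    obtain ⟨i, hi⟩ := exists_ne (τ.symm z)
    have hne : τ i ≠ z := fun h => hi (by rw [← h, Equiv.symm_apply_apply])
    refine Finset.prod_eq_zero (Finset.mem_univ i) ?_
    obtain ⟨e, -, he'⟩ := he i
    rw [show (RingEquiv.refl F).toRingHom.mapMatrix (gs i : Matrix (Fin a) (Fin a) F) = gs i from rfl]
      at he'
    simp only [U0, Function.update_of_ne hne, A', he', Matrix.smul_apply, hAd, smul_zero]

/-- Two complementary totally singular subspaces. -/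
theorem quadCase_of_pair (hf : Geo.IsSymplecticForm f) (h2 : (2 : F) = 0) {k : ℕ}
    {D : Fin 2 → Submodule F (ι → F)} (hD : Geo.IsMDecomposition k D)
    (hts : ∀ i, Geo.IsTotallySingularFor f (D i)) (h : H ≤ Geo.decompositionStabilizer D)
    (hsim : H ≤ Geo.similarityGroup f) : QuadCase f H := by
  have hf' := IsHermLike.of_symplectic hf
  have hd : IsCompl (D 0) (D 1) := by
    refine IsCompl.of_le ?_ ?_
    · refine ((iSupIndep_def.1 hD.indep) 0).le_bot.trans' (inf_le_inf_left _ ?_)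
      exact le_iSup₂ (f := fun j (_ : j ≠ (0 : Fin 2)) => D j) 1 (by decide)
    · rw [← hD.iSup_eq_top]
      refine iSup_le fun i => ?_
      fin_cases i
      · exact le_sup_left
      · exact le_sup_right
  set p := (D 0).subtype.comp (Submodule.projectionOnto (D 0) (D 1) hd) with hp
  have hp0 : ∀ v, p v ∈ D 0 := fun v => (Submodule.projectionOnto (D 0) (D 1) hd v).2
  have hp1 : ∀ v, v - p v ∈ D 1 := fun v => by
    rw [← Submodule.ker_projectionOnto hd, LinearMap.mem_ker, map_sub, sub_eq_zero]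
    exact (Submodule.projectionOnto_apply_left hd _).symm
  have hsym : ∀ u v, f u v = f v u := fun u v => by rw [hf.skew, neg_eq_of_char_two h2]
  let Q : (ι → F) → F := fun v => f (p v) (v - p v)
  have key : ∀ x ∈ D 0, ∀ y ∈ D 1, Q (x + y) = f x y := fun x hx y hy => by
    have hx' : p x = x := congrArg Subtype.val (Submodule.projectionOnto_apply_left hd ⟨x, hx⟩)
    have hy' : p y = 0 :=
      congrArg Subtype.val (Submodule.projectionOnto_apply_right hd ⟨y, hy⟩)
    show f (p (x + y)) (x + y - p (x + y)) = f x y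
    rw [map_add, hx', hy', add_zero, add_sub_cancel_left]
  have hpol : ∀ u v, QuadraticMap.polar Q u v = f u v := by
    intro u v
    have hu : u = p u + (u - p u) := (add_sub_cancel (p u) u).symm
    have hv : v = p v + (v - p v) := (add_sub_cancel (p v) v).symm
    have h00 := hts 0 _ (hp0 u) _ (hp0 v)
    have h11 := hts 1 _ (hp1 u) _ (hp1 v)
    have hr : f u v = f (p u) (v - p v) + f (p v) (u - p u) := by
      conv_lhs => rw [hu, hv, hf'.add_left, hf'.add_right, hf'.add_right, h00, h11,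
        hsym (u - p u)]
      ring
    rw [hr]
    simp only [QuadraticMap.polar, Q, map_add, hf'.add_left]
    rw [show u + v - (p u + p v) = (u - p u) + (v - p v) by abel, hf'.add_right, hf'.add_right]
    ring
  have hpol' : QuadraticMap.polar Q = f := funext fun u => funext fun v => hpol u v
  refine ⟨Q, ⟨fun c v => ?_, hpol' ▸ hf.bilinear, hpol' ▸ hf.nondegenerate⟩, hpol, fun g hg => ?_⟩
  · show f (p (c • v)) (c • v - p (c • v)) = c ^ 2 * f (p v) (v - p v)
    rw [map_smul, ← smul_sub, hf.bilinear.smul_left, hf.bilinear.smul_right]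
    ring
  obtain ⟨μ, hμ⟩ := hsim hg
  obtain ⟨τ, hτ⟩ := h hg
  refine ⟨μ, fun v => ?_⟩
  have hm : ∀ i, ∀ x ∈ D i, (g : Matrix ι ι F) *ᵥ x ∈ D (τ i) := fun i x hx => by
    rw [← hτ i]; exact ⟨x, hx, Matrix.toLin'_apply _ _⟩
  conv_lhs => rw [← add_sub_cancel (p v) v, Matrix.mulVec_add]
  have h0 := hm 0 _ (hp0 v)
  have h1 := hm 1 _ (hp1 v)
  have hτ01 : τ 0 = 0 ∧ τ 1 = 1 ∨ τ 0 = 1 ∧ τ 1 = 0 := by
    have h01 : τ 0 ≠ τ 1 := fun e => absurd (τ.injective e) (by decide)
    revert h01
    generalize τ 0 = x, τ 1 = y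
    fin_cases x <;> fin_cases y <;> simp
  rcases hτ01 with ⟨e0, e1⟩ | ⟨e0, e1⟩
  · rw [e0] at h0; rw [e1] at h1
    rw [key _ h0 _ h1, hμ]
  · rw [e0] at h0; rw [e1] at h1
    rw [add_comm, key _ h1 _ h0, hsym, hμ]

/-- A group fixing a quadratic form, irreducibly, with `f` its polar form up to a scalar. -/
theorem quadCase_of_fixes [Finite F] (hn : 1 < Fintype.card ι) (hf : Geo.IsSymplecticForm f)
    (h2 : (2 : F) = 0) {L : Subgroup (GL ι F)} (hL : spanAlg L = ⊤)
    (hnorm : ∀ g ∈ H, ∀ x ∈ L, g * x * g⁻¹ ∈ L) (hsim : H ≤ Geo.similarityGroup f)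
    {Q₀ : (ι → F) → F} (hQ₀ : Geo.IsNondegenerateQuadraticForm Q₀)
    (hfix : Geo.FixesQuadForm (Geo.matrixSet L) Q₀) {e : F}
    (he : ∀ u v, QuadraticMap.polar Q₀ u v = e * f u v) : QuadCase f H := by
  haveI : Nonempty ι := Fintype.card_pos_iff.1 (by omega)
  haveI : Fintype F := Fintype.ofFinite F
  have he0 : e ≠ 0 := fun h0 => by
    obtain ⟨v, hv⟩ : ∃ v : ι → F, v ≠ 0 :=
      ⟨Pi.single (Classical.arbitrary ι) 1, by simp⟩
    obtain ⟨⟨x, hx⟩, -⟩ := hQ₀.nondegenerate v hv
    exact hx (by rw [he, h0, zero_mul])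
  let Q : (ι → F) → F := fun v => e⁻¹ * Q₀ v
  have hp : ∀ u v, QuadraticMap.polar Q u v = f u v := fun u v => by
    have h := he u v
    simp only [QuadraticMap.polar, Q] at h ⊢
    field_simp
    linear_combination h
  have hp' : QuadraticMap.polar Q = f := funext fun u => funext fun v => hp u v
  have hs : ∀ (c : F) v, Q (c • v) = c ^ 2 * Q v := fun c v => by
    simp only [Q, hQ₀.smul]; ring
  refine ⟨Q, ⟨hs, hp' ▸ hf.bilinear, hp' ▸ hf.nondegenerate⟩, hp, fun g hg => ?_⟩
  obtain ⟨μ, hμ⟩ := hsim hg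
  let D : (ι → F) → F := fun v => Q ((g : Matrix ι ι F) *ᵥ v) - μ * Q v
  have hadd : ∀ x y, D (x + y) = D x + D y := fun x y => by
    have h1 := hp ((g : Matrix ι ι F) *ᵥ x) ((g : Matrix ι ι F) *ᵥ y)
    have h3 := hp x y
    rw [hμ] at h1
    simp only [QuadraticMap.polar] at h1 h3
    simp only [D, Matrix.mulVec_add]
    linear_combination h1 - (μ : F) * h3
  have hsm : ∀ (c : F) x, D (c • x) = c ^ 2 * D x := fun c x => by
    simp only [D, Matrix.mulVec_smul, hs]; ring
  let W : Submodule F (ι → F) :=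
    { carrier := {v | D v = 0}
      add_mem' := fun {x y} hx hy => by
        show D _ = 0
        rw [hadd, show D x = 0 from hx, show D y = 0 from hy, add_zero]
      zero_mem' := by
        show D _ = 0
        simpa using hsm 0 0
      smul_mem' := fun c x hx => by
        show D _ = 0
        rw [hsm, show D x = 0 from hx, mul_zero] }
  have hinv : ∀ s ∈ Geo.matrixSet L, W.map (Matrix.toLin' s) ≤ W := by
    rintro _ ⟨x, hx, rfl⟩ _ ⟨v, hv, rfl⟩
    show D (Matrix.toLin' (x : Matrix ι ι F) v) = 0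
    have hQx : ∀ y ∈ L, ∀ w, Q ((y : Matrix ι ι F) *ᵥ w) = Q w := fun y hy w => by
      simp only [Q, hfix _ ⟨y, hy, rfl⟩]
    rw [Matrix.toLin'_apply]
    show Q _ - (μ : F) * Q _ = 0
    rw [hQx x hx, Matrix.mulVec_mulVec, show (g : Matrix ι ι F) * (x : Matrix ι ι F) =
      ((g * x * g⁻¹ : GL ι F) : Matrix ι ι F) * (g : Matrix ι ι F) by
        rw [← Units.val_mul, ← Units.val_mul, inv_mul_cancel_right],
      ← Matrix.mulVec_mulVec, hQx _ (hnorm g hg x hx)]
    exact hv
  rcases (absIrred_of_spanAlg_eq_top hL).1 W hinv with hW | hW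
  · exfalso
    obtain ⟨i, j, hij⟩ := Fintype.exists_pair_of_one_lt_card hn
    obtain ⟨p, hchar⟩ := CharP.exists F
    haveI : CharP F 2 := CharTwo.of_one_ne_zero_of_two_eq_zero one_ne_zero h2
    have hz : ∀ v, D v = 0 → v = 0 := fun v hv => (Submodule.eq_bot_iff _).1 hW v hv
    have hi : D (Pi.single i 1) ≠ 0 := fun h0 => by simpa using congrFun (hz _ h0) i
    obtain ⟨t, ht⟩ : ∃ t : F, t ^ 2 = D (Pi.single j 1) / D (Pi.single i 1) := by
      have := (bijective_frobenius F 2).surjective (D (Pi.single j 1) / D (Pi.single i 1))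
      simpa [frobenius_def] using this
    have h0 : D (Pi.single j 1 + t • Pi.single i 1) = 0 := by
      rw [hadd, hsm, ht, div_mul_cancel₀ _ hi]
      linear_combination (D (Pi.single j 1)) * h2
    simpa [Pi.single_apply, hij.symm] using congrFun (hz _ h0) j
  · refine ⟨μ, fun v => sub_eq_zero.1 ?_⟩
    exact (hW.ge (Submodule.mem_top : v ∈ ⊤) : v ∈ W)

end Cfsg.Agent.Aschbacher
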