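import Cfsg.Agent.Lib.Aschbacher.FormComm

/-!
A tensor factor closed under adjoints splits the form.
-/

set_option autoImplicit false
set_option linter.style.haveILetI false

namespace Cfsg.Agent.Aschbacher

open scoped MatrixGroups Matrix Kronecker
open Matrix

variable {ι : Type} [Fintype ι] [DecidableEq ι] {F : Type*} [Field F]
variable {σ : F ≃+* F} {ε : F} {f : (ι → F) → (ι → F) → F}

lemma gramMatrix_sesqOf (σ : F ≃+* F) (G : Matrix ι ι F) : Geo.gramMatrix (sesqOf σ G) = G :=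
  Matrix.ext fun a b => sesqOf_single σ G a b

omit [DecidableEq ι] in
lemma formOfGram_eq (σ : F ≃+* F) (G : Matrix ι ι F) (x y : ι → F) :
    Geo.formOfGram σ G x y = sesqOf σ G x y := by
  simp only [Geo.formOfGram, sesqOf, dotProduct, Matrix.mulVec, Finset.mul_sum, mul_assoc]

/-- If `X ⊗ Y` is a non-zero multiple of `A ⊗ B` the factors are proportional. -/
lemma kron_factor {κ β : Type} [Fintype κ] [DecidableEq κ] [Fintype β] [DecidableEq β]
    {X A : Matrix κ κ F} {Y B : Matrix β β F} {μ : F} (h : X ⊗ₖ Y = μ • (A ⊗ₖ B)) (hY : Y ≠ 0)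
    (hX : X ≠ 0) (hμ : μ ≠ 0) (hA : A ≠ 0) : ∃ c d : F, c * d = μ ∧ X = c • A ∧ Y = d • B := by
  have hent : ∀ i j s t, X i j * Y s t = μ * (A i j * B s t) := fun i j s t => by
    have h' := congrFun (congrFun h (i, s)) (j, t)
    simpa using h'
  obtain ⟨s₀, t₀, hs⟩ : ∃ s t, Y s t ≠ 0 := by
    by_contra hc
    push Not at hc
    exact hY (Matrix.ext hc)
  obtain ⟨i₁, j₁, hi₁⟩ : ∃ i j, X i j ≠ 0 := by
    by_contra hc
    push Not at hc
    exact hX (Matrix.ext hc)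
  obtain ⟨i₀, j₀, hi⟩ : ∃ i j, A i j ≠ 0 := by
    by_contra hc
    push Not at hc
    exact hA (Matrix.ext hc)
  have hB : B s₀ t₀ ≠ 0 := fun h0 => by
    have h1 := hent i₁ j₁ s₀ t₀
    rw [h0, mul_zero, mul_zero] at h1
    exact mul_ne_zero hi₁ hs h1
  set c := μ * B s₀ t₀ / Y s₀ t₀ with hc
  have hc0 : c ≠ 0 := div_ne_zero (mul_ne_zero hμ hB) hs
  have hXc : X = c • A := Matrix.ext fun i j => by
    rw [Matrix.smul_apply, smul_eq_mul, hc, div_mul_eq_mul_div, eq_div_iff hs, hent]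
    ring
  refine ⟨c, μ / c, by field_simp, hXc, Matrix.ext fun s t => ?_⟩
  have h1 := hent i₀ j₀ s t
  rw [hXc, Matrix.smul_apply, smul_eq_mul] at h1
  rw [Matrix.smul_apply, smul_eq_mul, div_mul_eq_mul_div, eq_div_iff hc0]
  refine mul_left_cancel₀ hi ?_
  linear_combination h1

lemma exists_semifixed [Finite F] {σ : F ≃+* F} (hinv : ∀ a, σ (σ a) = a)
    (hσ : σ ≠ RingEquiv.refl F) {c : F} (hc : c * σ c = 1) : ∃ e : F, e ≠ 0 ∧ σ e = c * e := by
  obtain ⟨y, hy⟩ : ∃ y : F, y + σ c * σ y ≠ 0 := by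
    by_contra h
    push Not at h
    have h1 := h 1
    rw [map_one, mul_one] at h1
    refine hσ (RingEquiv.ext fun a => ?_)
    have h2 := h a
    show σ a = a
    linear_combination h1 * σ a - h2
  refine ⟨_, hy, ?_⟩
  rw [map_add, map_mul, hinv, hinv]
  linear_combination -(σ y) * hc

/-- The data of a split form. -/
structure TensorSplit (σ : F ≃+* F) (ε : F) (f : (ι → F) → (ι → F) → F) {a b : ℕ}
    (eq : ι ≃ Fin a × Fin b) (P : GL ι F) (A : GL (Fin a) F) (B : GL (Fin b) F) : Prop where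
  form : ∀ x y, f ((P : Matrix ι ι F) *ᵥ (x ∘ eq)) ((P : Matrix ι ι F) *ᵥ (y ∘ eq)) =
    sesqOf σ ((A : Matrix (Fin a) (Fin a) F) ⊗ₖ (B : Matrix (Fin b) (Fin b) F)) x y
  symm : ∃ c d : F, c * d = ε ∧ c * σ c = 1 ∧ d * σ d = 1 ∧
    (A : Matrix (Fin a) (Fin a) F)ᵀ = c • σ.toRingHom.mapMatrix (A : Matrix (Fin a) (Fin a) F) ∧
    (B : Matrix (Fin b) (Fin b) F)ᵀ = d • σ.toRingHom.mapMatrix (B : Matrix (Fin b) (Fin b) F)

variable [Fintype F]

omit [Fintype ι] [DecidableEq ι] [Fintype F] in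
lemma sq_of_transpose {κ : Type} [Fintype κ] [DecidableEq κ] [Nonempty κ] {σ : F ≃+* F}
    (hinv : ∀ a, σ (σ a) = a) {A : GL κ F} {c : F}
    (h : (A : Matrix κ κ F)ᵀ = c • σ.toRingHom.mapMatrix (A : Matrix κ κ F)) : c * σ c = 1 := by
  obtain ⟨i, j, hij⟩ : ∃ i j, (A : Matrix κ κ F) i j ≠ 0 := by
    by_contra hc
    push Not at hc
    exact A.ne_zero (Matrix.ext hc)
  have h1 : (A : Matrix κ κ F) i j = c * σ ((A : Matrix κ κ F) j i) := by
    simpa using congrFun (congrFun h j) i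
  have h2 : (A : Matrix κ κ F) j i = c * σ ((A : Matrix κ κ F) i j) := by
    simpa using congrFun (congrFun h i) j
  rw [h2, map_mul, hinv] at h1
  refine mul_right_cancel₀ hij ?_
  linear_combination -h1

theorem tensorSplit [Nonempty ι] (hf : IsHermLike σ ε f) {a b : ℕ} (eq : ι ≃ Fin a × Fin b)
    (P : GL ι F) (hadj : ∀ X, hf.adj (kemb eq P X) ∈ (kemb eq P).range) :
    ∃ (A : GL (Fin a) F) (B : GL (Fin b) F), TensorSplit σ ε f eq P A B := by
  classical
  obtain ⟨⟨ia, ib⟩⟩ : Nonempty (Fin a × Fin b) := ⟨eq (Classical.arbitrary ι)⟩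
  haveI : NeZero a := ⟨by have := ia.pos; omega⟩
  haveI : NeZero b := ⟨by have := ib.pos; omega⟩
  let f' : (Fin a × Fin b → F) → (Fin a × Fin b → F) → F :=
    fun x y => f ((P : Matrix ι ι F) *ᵥ (x ∘ eq)) ((P : Matrix ι ι F) *ᵥ (y ∘ eq))
  have hinjP : ∀ v : ι → F, ∃ x : Fin a × Fin b → F, (P : Matrix ι ι F) *ᵥ (x ∘ eq) = v := fun v =>
    ⟨(((P⁻¹ : GL ι F) : Matrix ι ι F) *ᵥ v) ∘ eq.symm, by
      rw [Function.comp_assoc, Equiv.symm_comp_self, Function.comp_id, Matrix.mulVec_mulVec,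
        Units.mul_inv, Matrix.one_mulVec]⟩
  have hf' : IsHermLike σ ε f' :=
    { invol := hf.invol
      add_left := fun x y v => by
        show f _ _ = _
        rw [show (x + y) ∘ eq = x ∘ eq + y ∘ eq from rfl, Matrix.mulVec_add, hf.add_left]
      smul_left := fun c x v => by
        show f _ _ = _
        rw [show (c • x) ∘ eq = c • (x ∘ eq) from rfl, Matrix.mulVec_smul, hf.smul_left]
      herm := fun v w => hf.herm _ _
      nondegenerate := fun v hv => by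
        have hv' : (P : Matrix ι ι F) *ᵥ (v ∘ eq) ≠ 0 := fun h => hv (by
          have h' := congrArg (fun z => (((P⁻¹ : GL ι F) : Matrix ι ι F) *ᵥ z) ∘ eq.symm) h
          simpa [Matrix.mulVec_mulVec, Function.comp_assoc] using h')
        obtain ⟨⟨x, hx⟩, ⟨y, hy⟩⟩ := hf.nondegenerate _ hv'
        obtain ⟨x', rfl⟩ := hinjP x
        obtain ⟨y', rfl⟩ := hinjP y
        exact ⟨⟨x', hx⟩, ⟨y', hy⟩⟩ }
  have hact : ∀ (M : Matrix (Fin a × Fin b) (Fin a × Fin b) F) (x : Fin a × Fin b → F),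
      cj P (M.submatrix eq eq) *ᵥ ((P : Matrix ι ι F) *ᵥ (x ∘ eq)) =
        (P : Matrix ι ι F) *ᵥ ((M *ᵥ x) ∘ eq) := fun M x => by
    rw [cj_mulVec, Matrix.submatrix_mulVec_equiv, Function.comp_assoc, Equiv.self_comp_symm,
      Function.comp_id]
  have hadj' : ∀ X : Matrix (Fin a) (Fin a) F, ∃ Y : Matrix (Fin a) (Fin a) F,
      hf'.adj (X ⊗ₖ (1 : Matrix (Fin b) (Fin b) F)) = Y ⊗ₖ (1 : Matrix (Fin b) (Fin b) F) := by
    intro X
    obtain ⟨Y, hY⟩ := hadj X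
    refine ⟨Y, hf'.adj_unique fun u v => ?_⟩
    show f _ _ = f _ _
    rw [← hact, ← hact, ← kemb_apply eq P, ← kemb_apply eq P, hf.adj_spec]
    rw [show kemb eq P Y = hf.adj (kemb eq P X) from hY]
  let G' : GL (Fin a × Fin b) F := hf'.gram
  have hnorm : ∀ X, cj G'⁻¹ (kemb (Equiv.refl (Fin a × Fin b)) 1 X) ∈
      (kemb (Equiv.refl (Fin a × Fin b)) (1 : GL (Fin a × Fin b) F)).range := by
    intro X
    obtain ⟨Y, hY⟩ := hadj' Xᵀ
    refine ⟨σ.toRingHom.mapMatrix Y, ?_⟩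
    have h := congrArg σ.toRingHom.mapMatrix hY
    have hss : ∀ M : Matrix (Fin a × Fin b) (Fin a × Fin b) F,
        σ.toRingHom.mapMatrix (σ.toRingHom.mapMatrix M) = M := fun M => Matrix.ext fun i j => by
      simp [hf.invol]
    rw [IsHermLike.adj, adjG, hss] at h
    show kemb _ _ _ = _
    simp only [kemb_apply, cj_apply, Equiv.coe_refl, Matrix.submatrix_id_id, Units.val_one,
      inv_one, one_mul, mul_one, inv_inv]
    rw [← Matrix.kroneckerMap_transpose, Matrix.transpose_one, Matrix.transpose_transpose] at h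
    rw [h]
    ext ⟨i, s⟩ ⟨j, t⟩
    simp [Matrix.one_apply, apply_ite σ]
  obtain ⟨A, B, hAB⟩ := exists_kron_of_normalises (Equiv.refl (Fin a × Fin b)) 1 (g := G'⁻¹) hnorm
  have hG' : (G' : Matrix (Fin a × Fin b) (Fin a × Fin b) F) =
      ((A⁻¹ : GL (Fin a) F) : Matrix (Fin a) (Fin a) F) ⊗ₖ
        ((B⁻¹ : GL (Fin b) F) : Matrix (Fin b) (Fin b) F) := by
    have e : G'⁻¹ = kronGL A B := Units.ext (by
      rw [hAB]; simp [kronGL, cj_apply])
    rw [← inv_inv G', e]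
    rfl
  have hform : ∀ x y, f' x y = sesqOf σ (G' : Matrix (Fin a × Fin b) (Fin a × Fin b) F) x y :=
    fun x y => congrFun (congrFun hf'.eq_sesqOf x) y
  have hGT : (G' : Matrix (Fin a × Fin b) (Fin a × Fin b) F)ᵀ =
      ε • σ.toRingHom.mapMatrix (G' : Matrix (Fin a × Fin b) (Fin a × Fin b) F) := by
    ext i j
    have h := hf'.herm (Pi.single j 1) (Pi.single i 1)
    rw [hform, hform, sesqOf_single, sesqOf_single] at h
    simpa using h
  have hG'' := hGT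
  rw [hG', ← Matrix.kroneckerMap_transpose] at hG''
  have hmap : σ.toRingHom.mapMatrix (((A⁻¹ : GL (Fin a) F) : Matrix (Fin a) (Fin a) F) ⊗ₖ
      ((B⁻¹ : GL (Fin b) F) : Matrix (Fin b) (Fin b) F)) =
      σ.toRingHom.mapMatrix ((A⁻¹ : GL (Fin a) F) : Matrix (Fin a) (Fin a) F) ⊗ₖ
      σ.toRingHom.mapMatrix ((B⁻¹ : GL (Fin b) F) : Matrix (Fin b) (Fin b) F) := by
    ext i j; simp
  rw [hmap] at hG''
  have hε : ε ≠ 0 := fun h => G'.ne_zero (by
    have h' := congrArg Matrix.transpose hGT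
    rwa [Matrix.transpose_transpose, h, zero_smul, Matrix.transpose_zero] at h')
  obtain ⟨c, d, hcd, hcA, hdB⟩ := kron_factor hG''
    (fun h => (B⁻¹).ne_zero (Matrix.transpose_injective (h.trans Matrix.transpose_zero.symm)))
    (fun h => (A⁻¹).ne_zero (Matrix.transpose_injective (h.trans Matrix.transpose_zero.symm)))
    hε (fun h => (A⁻¹).ne_zero (Matrix.ext fun i j => by
      have h' := congrFun (congrFun h i) j
      simpa using h'))
  exact ⟨A⁻¹, B⁻¹, ⟨fun x y => by rw [← hG']; exact hform x y,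
    c, d, hcd, sq_of_transpose hf.invol hcA, sq_of_transpose hf.invol hdB, hcA, hdB⟩⟩

lemma TensorSplit.swap {a b : ℕ} {eq : ι ≃ Fin a × Fin b} {P : GL ι F} {A : GL (Fin a) F}
    {B : GL (Fin b) F} (h : TensorSplit σ ε f eq P A B) :
    TensorSplit σ ε f (eq.trans (Equiv.prodComm _ _)) P B A := by
  obtain ⟨c, d, hcd, hc, hd, hA, hB⟩ := h.symm
  refine ⟨fun x y => ?_, d, c, by rw [mul_comm, hcd], hd, hc, hB, hA⟩
  have hx : x ∘ (eq.trans (Equiv.prodComm _ _)) = (x ∘ Prod.swap) ∘ eq := rfl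
  have hy : y ∘ (eq.trans (Equiv.prodComm _ _)) = (y ∘ Prod.swap) ∘ eq := rfl
  rw [hx, hy, h.form, ← formOfGram_eq, ← formOfGram_eq]
  simp only [Geo.formOfGram]
  refine Fintype.sum_equiv (Equiv.prodComm _ _) _ _ fun p => ?_
  refine Fintype.sum_equiv (Equiv.prodComm _ _) _ _ fun r => ?_
  simp [mul_comm ((A : Matrix (Fin a) (Fin a) F) _ _)]

omit [Fintype F] in
lemma TensorSplit.isTensorFormStructure {a b : ℕ} {eq : ι ≃ Fin a × Fin b} {P : GL ι F}
    {A : GL (Fin a) F} {B : GL (Fin b) F} (h : TensorSplit σ ε f eq P A B) {e : F} (he : e ≠ 0) :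
    Geo.IsTensorFormStructure σ f (sesqOf σ (e • (A : Matrix (Fin a) (Fin a) F)))
      (sesqOf σ (B : Matrix (Fin b) (Fin b) F)) eq P := by
  refine ⟨e⁻¹, inv_ne_zero he, fun x y => ?_⟩
  rw [h.form, gramMatrix_sesqOf, gramMatrix_sesqOf, formOfGram_eq, Matrix.smul_kronecker]
  simp [sesqOf, Matrix.smul_mulVec, dotProduct_smul, inv_mul_cancel_left₀ he]

/-- Elements normalising both the form and a factor are products of similitudes of the factors. -/
lemma TensorSplit.exists_factors {a b : ℕ} [NeZero a] [NeZero b] {eq : ι ≃ Fin a × Fin b}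
    {P : GL ι F} {A : GL (Fin a) F} {B : GL (Fin b) F} (h : TensorSplit σ ε f eq P A B)
    {g : GL ι F} (hg : g ∈ Geo.similarityGroup f)
    (hN : ∀ X, cj g (kemb eq P X) ∈ (kemb eq P).range) :
    ∃ (u : GL (Fin a) F) (w : GL (Fin b) F) (c d : F), c ≠ 0 ∧ d ≠ 0 ∧
      (g : Matrix ι ι F) = kemb eq P (u : Matrix (Fin a) (Fin a) F) *
        kembR eq P (w : Matrix (Fin b) (Fin b) F) ∧
      (u : Matrix (Fin a) (Fin a) F)ᵀ * (A : Matrix (Fin a) (Fin a) F) *
          σ.toRingHom.mapMatrix (u : Matrix (Fin a) (Fin a) F) = c • (A : Matrix (Fin a) (Fin a) F) ∧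
      (w : Matrix (Fin b) (Fin b) F)ᵀ * (B : Matrix (Fin b) (Fin b) F) *
          σ.toRingHom.mapMatrix (w : Matrix (Fin b) (Fin b) F) = d • (B : Matrix (Fin b) (Fin b) F) := by
  obtain ⟨u, w, hg'⟩ := exists_kron_of_normalises eq P hN
  obtain ⟨μ, hμ⟩ := hg
  have key : ((u : Matrix (Fin a) (Fin a) F)ᵀ * (A : Matrix _ _ F) *
      σ.toRingHom.mapMatrix (u : Matrix _ _ F)) ⊗ₖ ((w : Matrix (Fin b) (Fin b) F)ᵀ *
      (B : Matrix _ _ F) * σ.toRingHom.mapMatrix (w : Matrix _ _ F)) =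
      (μ : F) • ((A : Matrix (Fin a) (Fin a) F) ⊗ₖ (B : Matrix (Fin b) (Fin b) F)) := by
    refine gram_ext (σ := σ) fun x y => ?_
    have hm : σ.toRingHom.mapMatrix ((u : Matrix (Fin a) (Fin a) F) ⊗ₖ (w : Matrix (Fin b) (Fin b) F)) =
        σ.toRingHom.mapMatrix (u : Matrix _ _ F) ⊗ₖ σ.toRingHom.mapMatrix (w : Matrix _ _ F) := by
      ext i j; simp
    rw [Matrix.mul_kronecker_mul, Matrix.mul_kronecker_mul, Matrix.kroneckerMap_transpose, ← hm, ← sesqOf_mulVec, ← h.form]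
    have hact : ∀ z : Fin a × Fin b → F, (g : Matrix ι ι F) *ᵥ ((P : Matrix ι ι F) *ᵥ (z ∘ eq)) =
        (P : Matrix ι ι F) *ᵥ ((((u : Matrix (Fin a) (Fin a) F) ⊗ₖ
          (w : Matrix (Fin b) (Fin b) F)) *ᵥ z) ∘ eq) := fun z => by
      rw [hg', cj_mulVec, Matrix.submatrix_mulVec_equiv, Function.comp_assoc,
        Equiv.self_comp_symm, Function.comp_id]
    rw [← hact, ← hact, hμ, h.form]
    simp [sesqOf, Matrix.smul_mulVec, dotProduct_smul]
  obtain ⟨c, d, hcd, hc, hd⟩ := kron_factor key (fun h0 => by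
    have hu : IsUnit ((w : Matrix (Fin b) (Fin b) F)ᵀ * (B : Matrix _ _ F) *
        σ.toRingHom.mapMatrix (w : Matrix _ _ F)) :=
      ((Matrix.isUnit_transpose _).2 w.isUnit).mul B.isUnit |>.mul (w.isUnit.map _)
    exact hu.ne_zero h0) (fun h0 => by
    have hu : IsUnit ((u : Matrix (Fin a) (Fin a) F)ᵀ * (A : Matrix _ _ F) *
        σ.toRingHom.mapMatrix (u : Matrix _ _ F)) :=
      ((Matrix.isUnit_transpose _).2 u.isUnit).mul A.isUnit |>.mul (u.isUnit.map _)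
    exact hu.ne_zero h0) μ.ne_zero A.ne_zero
  refine ⟨u, w, c, d, left_ne_zero_of_mul (hcd ▸ μ.ne_zero), right_ne_zero_of_mul (hcd ▸ μ.ne_zero),
    ?_, hc, hd⟩
  rw [kemb_mul_kembR]
  exact hg'

end Cfsg.Agent.Aschbacher
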