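import Cfsg.Agent.Lib.Aschbacher.FormMaster

/-!
Tensor decompositions of symplectic, hermitian and symmetric forms.
-/

set_option autoImplicit false
set_option linter.style.haveILetI false

namespace Cfsg.Agent.Aschbacher

open scoped MatrixGroups Matrix Kronecker
open Matrix
open Cfsg.Agent.Transvec.Herm (fixedField mem_fixedField)

variable {ι : Type} [Fintype ι] [DecidableEq ι] {F : Type*} [Field F]
variable {σ : F ≃+* F} {ε : F} {f : (ι → F) → (ι → F) → F}
variable {a b : ℕ} {eq : ι ≃ Fin a × Fin b} {P : GL ι F} {A : GL (Fin a) F} {B : GL (Fin b) F}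
variable {H : Subgroup (GL ι F)}

lemma kemb_swap (eq : ι ≃ Fin a × Fin b) (P : GL ι F) (Y : Matrix (Fin b) (Fin b) F) :
    kemb (eq.trans (Equiv.prodComm _ _)) P Y = kembR eq P Y := by
  rw [kemb_apply, kembR_apply]
  congr 1
  ext r c
  simp [mul_comm]
  left
  rfl

lemma kembR_swap (eq : ι ≃ Fin a × Fin b) (P : GL ι F) (X : Matrix (Fin a) (Fin a) F) :
    kembR (eq.trans (Equiv.prodComm _ _)) P X = kemb eq P X := by
  rw [kemb_apply, kembR_apply]
  congr 1
  ext r c
  simp [mul_comm]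
  left
  rfl

/-- The other factor is normalised as well. -/
lemma normalises_swap [NeZero a] [NeZero b]
    (hN : Normalises H ((kemb eq P).range : Set (Matrix ι ι F))) :
    Normalises H ((kemb (eq.trans (Equiv.prodComm _ _)) P).range : Set (Matrix ι ι F)) := by
  intro g hg x hx
  obtain ⟨Y, rfl⟩ := hx
  obtain ⟨u, w, hg'⟩ := exists_kron_of_normalises eq P fun X => hN g hg _ ⟨X, rfl⟩
  refine ⟨(w : Matrix (Fin b) (Fin b) F) * Y * ((w⁻¹ : GL (Fin b) F) : Matrix (Fin b) (Fin b) F), ?_⟩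
  show kemb _ P _ = cj g (kemb _ P Y)
  rw [kemb_swap, kemb_swap, cj_apply]
  rw [← kemb_mul_kembR] at hg'
  set Z := (w : Matrix (Fin b) (Fin b) F) * Y *
    ((w⁻¹ : GL (Fin b) F) : Matrix (Fin b) (Fin b) F) with hZ
  have hcomm : kembR eq P Z * kemb eq P (u : Matrix (Fin a) (Fin a) F) =
      kemb eq P (u : Matrix (Fin a) (Fin a) F) * kembR eq P Z := by
    rw [kembR_mul_kemb, kemb_mul_kembR]
  have h1 : (g : Matrix ι ι F) * kembR eq P Y = kembR eq P Z * (g : Matrix ι ι F) := by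
    rw [hg', mul_assoc, ← map_mul, ← mul_assoc (kembR eq P Z), hcomm, mul_assoc, ← map_mul, hZ,
      mul_assoc ((w : Matrix (Fin b) (Fin b) F) * Y), Units.inv_mul, mul_one]
  rw [h1, Units.mul_inv_cancel_right]

/-- Writing an element through factors of the swapped decomposition. -/
lemma exists_factor_reps [NeZero a] [NeZero b] [Fintype F]
    (h : TensorSplit σ ε f eq P A B) (hsim : H ≤ Geo.similarityGroup f)
    (hN : Normalises H ((kemb eq P).range : Set (Matrix ι ι F))) :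
    ∀ g ∈ H, ∃ (u : GL (Fin a) F) (w : GL (Fin b) F) (c : F), c ≠ 0 ∧
      (g : Matrix ι ι F) = kemb eq P (u : Matrix (Fin a) (Fin a) F) *
        kembR eq P (w : Matrix (Fin b) (Fin b) F) ∧
      (u : Matrix (Fin a) (Fin a) F)ᵀ * (A : Matrix (Fin a) (Fin a) F) *
        σ.toRingHom.mapMatrix (u : Matrix (Fin a) (Fin a) F) = c • (A : Matrix (Fin a) (Fin a) F) := by
  intro g hg
  obtain ⟨u, w, c, d, hc, -, h1, h2, -⟩ := h.exists_factors (hsim hg) fun X => hN g hg _ ⟨X, rfl⟩
  exact ⟨u, w, c, hc, h1, h2⟩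

/-- The similitudes of a factor act irreducibly. -/
lemma factor_irred [NeZero a] [NeZero b] (hirr : Geo.ActsIrreducibly (Geo.matrixSet H))
    {L : Subgroup (GL (Fin a) F)}
    (h : ∀ g ∈ H, ∃ u ∈ L, ∃ w : GL (Fin b) F, (g : Matrix ι ι F) =
      kemb eq P (u : Matrix (Fin a) (Fin a) F) * kembR eq P (w : Matrix (Fin b) (Fin b) F)) :
    Geo.ActsIrreducibly (Geo.matrixSet L) := by
  intro W hW
  let U : Submodule F (ι → F) :=
    { carrier := {v | ∀ s, (fun i => coords eq P v (i, s)) ∈ W}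
      add_mem' := fun {x y} hx hy s => by
        have e : (fun i => coords eq P (x + y) (i, s)) =
            (fun i => coords eq P x (i, s)) + fun i => coords eq P y (i, s) := by
          funext i; simp [coords, Matrix.mulVec_add]
        rw [e]; exact add_mem (hx s) (hy s)
      zero_mem' := fun s => by
        have e : (fun i => coords eq P (0 : ι → F) (i, s)) = 0 := by
          funext i; simp [coords]
        rw [e]; exact zero_mem _
      smul_mem' := fun c x hx s => by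
        have e : (fun i => coords eq P (c • x) (i, s)) = c • fun i => coords eq P x (i, s) := by
          funext i; simp [coords, Matrix.mulVec_smul]
        rw [e]; exact W.smul_mem c (hx s) }
  have hU : ∀ s ∈ Geo.matrixSet H, U.map (Matrix.toLin' s) ≤ U := by
    rintro _ ⟨g, hg, rfl⟩ _ ⟨v, hv, rfl⟩ s
    obtain ⟨u, hu, w, hg'⟩ := h g hg
    rw [kemb_mul_kembR] at hg'
    have hc := coords_mulVec eq P hg' v
    have e : (fun i => coords eq P ((g : Matrix ι ι F) *ᵥ v) (i, s)) =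
        ∑ t, (w : Matrix (Fin b) (Fin b) F) s t •
          ((u : Matrix (Fin a) (Fin a) F) *ᵥ fun i => coords eq P v (i, t)) := by
      funext i
      rw [hc]
      simp only [Matrix.mulVec, dotProduct, Fintype.sum_prod_type, Matrix.kroneckerMap_apply,
        Finset.sum_apply, Pi.smul_apply, smul_eq_mul, Finset.mul_sum]
      rw [Finset.sum_comm]
      exact Finset.sum_congr rfl fun t _ => Finset.sum_congr rfl fun j _ => by ring
    rw [Matrix.toLin'_apply, e]
    exact sum_mem fun t _ => W.smul_mem _ (hW _ ⟨u, hu, rfl⟩ ⟨_, hv t, Matrix.toLin'_apply _ _⟩)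
  let pv : (Fin a → F) → (ι → F) := fun x =>
    (P : Matrix ι ι F) *ᵥ ((fun p : Fin a × Fin b => if p.2 = 0 then x p.1 else 0) ∘ eq)
  have hpv : ∀ x s, (fun i => coords eq P (pv x) (i, s)) = if s = 0 then x else 0 := fun x s => by
    funext i
    simp only [pv, coords_spec]
    split_ifs <;> rfl
  have hmem : ∀ x, pv x ∈ U ↔ x ∈ W := fun x => by
    constructor
    · intro hx
      have h0 := hx 0
      rwa [hpv, if_pos rfl] at h0
    · intro hx s
      rw [hpv]
      split_ifs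
      · exact hx
      · exact zero_mem _
  rcases hirr U hU with hU' | hU'
  · refine Or.inl ((Submodule.eq_bot_iff _).2 fun x hx => ?_)
    have h0 : pv x = 0 := (Submodule.eq_bot_iff _).1 hU' _ ((hmem x).2 hx)
    have h1 := hpv x 0
    rw [h0, if_pos rfl] at h1
    rw [← h1]
    funext i
    simp [coords]
  · exact Or.inr (eq_top_iff.2 fun x _ => (hmem x).1 (hU' ▸ Submodule.mem_top))

/-- The adjoint preserves a factor. -/
lemma TensorSplit.adj_kemb (hf : IsHermLike σ ε f) (h : TensorSplit σ ε f eq P A B)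
    (X : Matrix (Fin a) (Fin a) F) :
    hf.adj (kemb eq P X) = kemb eq P (adjG σ A X) := by
  refine hf.adj_unique fun u v => ?_
  have hact : ∀ (M : Matrix (Fin a) (Fin a) F) (z : ι → F),
      kemb eq P M *ᵥ z = (P : Matrix ι ι F) *ᵥ
        (((M ⊗ₖ (1 : Matrix (Fin b) (Fin b) F)) *ᵥ coords eq P z) ∘ eq) := fun M z => by
    conv_lhs => rw [← mulVec_coords eq P z, kemb_apply, cj_mulVec, Matrix.submatrix_mulVec_equiv,
      Function.comp_assoc, Equiv.self_comp_symm, Function.comp_id]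
  conv_lhs => rw [hact, ← mulVec_coords eq P v, h.form]
  conv_rhs => rw [hact, ← mulVec_coords eq P u, h.form]
  conv_lhs => arg 4; rw [← Matrix.one_mulVec (coords eq P v)]
  conv_rhs => arg 3; rw [← Matrix.one_mulVec (coords eq P u)]
  rw [sesqOf_mulVec, sesqOf_mulVec]
  congr 1
  have hss : σ.toRingHom.mapMatrix (adjG σ A X) =
      ((A⁻¹ : GL (Fin a) F) : Matrix (Fin a) (Fin a) F) * Xᵀ * (A : Matrix (Fin a) (Fin a) F) :=
    Matrix.ext fun i j => hf.invol _
  have hmap : σ.toRingHom.mapMatrix (adjG σ A X ⊗ₖ (1 : Matrix (Fin b) (Fin b) F)) =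
      σ.toRingHom.mapMatrix (adjG σ A X) ⊗ₖ (1 : Matrix (Fin b) (Fin b) F) := by
    ext i j; simp [Matrix.one_apply, apply_ite σ]
  rw [map_one, mul_one, Matrix.transpose_one, one_mul, hmap, hss, ← Matrix.kroneckerMap_transpose,
    Matrix.transpose_one, ← Matrix.mul_kronecker_mul, ← Matrix.mul_kronecker_mul, one_mul, mul_one,
    ← mul_assoc, ← mul_assoc, Units.mul_inv, one_mul]

variable [Fintype F]

/-- A symmetric factor of dimension two gives a commutative algebra. -/
theorem commCase_of_symm_two [Nonempty ι] {eq : ι ≃ Fin 2 × Fin b} {A : GL (Fin 2) F} [NeZero b]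
    (hf : IsHermLike (RingEquiv.refl F) ε f)
    (h : TensorSplit (RingEquiv.refl F) ε f eq P A B) (h2 : (2 : F) ≠ 0)
    (hA : (A : Matrix (Fin 2) (Fin 2) F)ᵀ = A) (hsim : H ≤ Geo.similarityGroup f)
    (hirr : Geo.ActsIrreducibly (Geo.matrixSet H))
    (hN : Normalises H ((kemb eq P).range : Set (Matrix ι ι F))) : CommCase f H := by
  set x : Matrix (Fin 2) (Fin 2) F := ((A⁻¹ : GL (Fin 2) F) : Matrix (Fin 2) (Fin 2) F) * J2 F
    with hx
  set X := kemb eq P x with hX
  refine commCase hf hsim hirr (C := Algebra.adjoin F {X})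
    (fun y hy z hz => (Algebra.commute_of_mem_adjoin_singleton_of_commute hz
      (Algebra.commute_of_mem_adjoin_self hy).symm).eq) ?_ ?_ ?_
  · -- invariance
    intro g hg y hy
    obtain ⟨u, w, c, -, hg', hu⟩ := exists_factor_reps h hsim hN g hg
    rw [show (RingEquiv.refl F).toRingHom.mapMatrix (u : Matrix (Fin 2) (Fin 2) F) = u from rfl] at hu
    set d := (u : Matrix (Fin 2) (Fin 2) F).det with hd
    have hd0 : d ≠ 0 := ((Matrix.isUnit_iff_isUnit_det _).1 u.isUnit).ne_zero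
    have hux : (u : Matrix (Fin 2) (Fin 2) F) * x = (c / d) • (x * u) := by
      refine (((Matrix.isUnit_transpose _).2 u.isUnit).mul A.isUnit).mul_left_cancel ?_
      have hAx : (A : Matrix (Fin 2) (Fin 2) F) * x = J2 F := by
        rw [hx, ← mul_assoc, Units.mul_inv, one_mul]
      rw [← mul_assoc, hu, Matrix.smul_mul, hAx, Matrix.mul_smul, ← mul_assoc,
        mul_assoc _ (A : Matrix (Fin 2) (Fin 2) F) x, hAx, J2_gram, ← hd, smul_smul,
        div_mul_cancel₀ _ hd0]
    have hgX : cj g X = (c / d) • X := by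
      have h1 : (g : Matrix ι ι F) * X = ((c / d) • X) * (g : Matrix ι ι F) := by
        rw [hX, ← map_smul, hg', mul_assoc, kembR_mul_kemb,
          ← kemb_mul_kembR, ← mul_assoc, ← mul_assoc, ← map_mul, ← map_mul, hux, Matrix.smul_mul]
      rw [cj_apply, h1, mul_assoc, Units.mul_inv, mul_one]
    show cj g y ∈ Algebra.adjoin F {X}
    refine Algebra.adjoin_induction (p := fun z _ => cj g z ∈ Algebra.adjoin F {X}) ?_ ?_ ?_ ?_ hy
    · rintro z hz
      rw [Set.mem_singleton_iff.1 hz, hgX]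
      exact Subalgebra.smul_mem _ (Algebra.subset_adjoin (Set.mem_singleton X)) _
    · intro r; rw [AlgEquiv.commutes]; exact Subalgebra.algebraMap_mem _ r
    · intro p q _ _ hp hq; rw [map_add]; exact add_mem hp hq
    · intro p q _ _ hp hq; rw [map_mul]; exact mul_mem hp hq
  · intro y hy
    refine Algebra.adjoin_induction (p := fun z _ => hf.adj z ∈ Algebra.adjoin F {X}) ?_ ?_ ?_ ?_ hy
    · rintro z hz
      rw [Set.mem_singleton_iff.1 hz, hX, h.adj_kemb hf]
      have hAi : (((A⁻¹ : GL (Fin 2) F) : Matrix (Fin 2) (Fin 2) F))ᵀ =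
          ((A⁻¹ : GL (Fin 2) F) : Matrix (Fin 2) (Fin 2) F) := by
        rw [Matrix.coe_units_inv, Matrix.transpose_nonsing_inv, hA]
      have e : adjG (RingEquiv.refl F) A x = -x := by
        show ((A⁻¹ : GL (Fin 2) F) : Matrix (Fin 2) (Fin 2) F) * xᵀ * (A : Matrix (Fin 2) (Fin 2) F) = -x
        rw [hx, Matrix.transpose_mul, J2_transpose, hAi, neg_mul, mul_neg, neg_mul,
          mul_assoc, mul_assoc, Units.inv_mul, mul_one]
      rw [e, map_neg]
      exact neg_mem (Algebra.subset_adjoin (Set.mem_singleton X))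
    · intro r; rw [hf.adj_algebraMap]; exact Subalgebra.algebraMap_mem _ _
    · intro p q _ _ hp hq; rw [hf.adj_add]; exact add_mem hp hq
    · intro p q _ _ hp hq; rw [hf.adj_mul]; exact mul_mem hq hp
  · intro hbot
    have hmem : X ∈ (⊥ : Subalgebra F (Matrix ι ι F)) := hbot.le (Algebra.subset_adjoin (Set.mem_singleton X))
    obtain ⟨c, hc⟩ := Algebra.mem_bot.1 hmem
    have hxc : x = algebraMap F _ c := kemb_injective eq P (by rw [← hX, AlgHom.commutes]; exact hc.symm)
    have hJ : J2 F = c • (A : Matrix (Fin 2) (Fin 2) F) := by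
      rw [← one_mul (J2 F), ← Units.mul_inv A, mul_assoc, ← hx, hxc,
        Algebra.algebraMap_eq_smul_one, Matrix.mul_smul, mul_one]
    have h01 := congrFun (congrFun hJ 0) 1
    have h10 := congrFun (congrFun hJ 1) 0
    have hsymm : (A : Matrix (Fin 2) (Fin 2) F) 1 0 = (A : Matrix (Fin 2) (Fin 2) F) 0 1 :=
      congrFun (congrFun hA 0) 1
    simp only [J2, Matrix.smul_apply, smul_eq_mul, hsymm] at h01 h10
    norm_num at h01 h10
    exact h2 (by linear_combination h01 - h10)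

/-- The outcome for a tensor decomposition of a symplectic form. -/
inductive SympTensorCase (f : (ι → F) → (ι → F) → F) (H : Subgroup (GL ι F)) : Prop
  | comm (h : CommCase f H)
  | quad (h2 : (2 : F) = 0) (h : QuadCase f H)
  | tens {n₁ n₂ : ℕ} {eq : ι ≃ Fin n₁ × Fin n₂} {P : GL ι F}
      {f₁ : (Fin n₁ → F) → (Fin n₁ → F) → F} {f₂ : (Fin n₂ → F) → (Fin n₂ → F) → F}
      (h2 : (2 : F) ≠ 0) (hn₂ : 3 ≤ n₂) (hf₁ : Geo.IsSymplecticForm f₁)
      (hf₂ : Geo.IsSymmetricForm f₂) (hs : Geo.IsTensorFormStructure id f f₁ f₂ eq P)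
      (h : H ≤ Geo.tensorProductSubgroup n₁ n₂ eq P)

omit [Fintype F] in
lemma formOf_symmetric {κ : Type} [Fintype κ] [DecidableEq κ] {G : GL κ F}
    (hG : (G : Matrix κ κ F)ᵀ = G) : Geo.IsSymmetricForm (formOf (G : Matrix κ κ F)) :=
  ⟨formOf_bilinear _, formOf_symm hG, formOf_nondegenerate G.isUnit⟩

omit [Fintype F] in
lemma diag_zero_of_skew {κ : Type} {G : Matrix κ κ F} (h2 : (2 : F) ≠ 0) (hG : Gᵀ = -G) (i : κ) :
    G i i = 0 := by
  have h := congrFun (congrFun hG i) i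
  simp only [Matrix.transpose_apply, Matrix.neg_apply] at h
  refine (mul_eq_zero.1 (?_ : (2 : F) * G i i = 0)).resolve_left h2
  linear_combination h

/-- Oriented: a skew factor and a symmetric one, in odd characteristic. -/
lemma sympTensor_odd [Nonempty ι] [NeZero a] [NeZero b] (hf : Geo.IsSymplecticForm f)
    (hb : 2 ≤ b) (h : TensorSplit (RingEquiv.refl F) (-1) f eq P A B) (h2 : (2 : F) ≠ 0)
    (hA : (A : Matrix (Fin a) (Fin a) F)ᵀ = -(A : Matrix (Fin a) (Fin a) F))
    (hB : (B : Matrix (Fin b) (Fin b) F)ᵀ = B) (hsim : H ≤ Geo.similarityGroup f)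
    (hirr : Geo.ActsIrreducibly (Geo.matrixSet H))
    (hN : Normalises H ((kemb eq P).range : Set (Matrix ι ι F))) : SympTensorCase f H := by
  rcases lt_or_ge b 3 with hb' | hb'
  · obtain rfl : b = 2 := by omega
    exact .comm (commCase_of_symm_two (IsHermLike.of_symplectic hf) h.swap h2 hB hsim hirr
      (normalises_swap hN))
  · refine .tens h2 hb' (formOf_symplectic A.isUnit hA (diag_zero_of_skew h2 hA))
      (formOf_symmetric hB) ?_ (le_tensorProduct eq P hN)
    have hs := h.isTensorFormStructure (e := 1) one_ne_zero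
    rwa [one_smul, sesqOf_refl, sesqOf_refl] at hs

theorem sympTensor [Nonempty ι] (hf : Geo.IsSymplecticForm f) (ha : 2 ≤ a) (hb : 2 ≤ b)
    (h : TensorSplit (RingEquiv.refl F) (-1) f eq P A B) (hsim : H ≤ Geo.similarityGroup f)
    (hirr : Geo.ActsIrreducibly (Geo.matrixSet H))
    (hN : Normalises H ((kemb eq P).range : Set (Matrix ι ι F))) : SympTensorCase f H := by
  haveI : NeZero a := ⟨by omega⟩
  haveI : NeZero b := ⟨by omega⟩
  obtain ⟨c, d, hcd, hc, hd, hA, hB⟩ := h.symm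
  have hmap : ∀ {κ : Type} [Fintype κ] [DecidableEq κ] (M : Matrix κ κ F),
      (RingEquiv.refl F).toRingHom.mapMatrix M = M := fun M => rfl
  rw [hmap] at hA hB
  replace hc : c * c = 1 := hc
  by_cases h2 : (2 : F) = 0
  · have hone : ∀ e : F, e * e = 1 → e = 1 := fun e he => by
      have : (e - 1) * (e - 1) = 0 := by linear_combination he + (1 - e) * h2
      exact sub_eq_zero.1 (mul_self_eq_zero.1 this)
    rw [hone c hc, one_smul] at hA
    rw [hone d hd, one_smul] at hB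
    refine .quad h2 (quadCase_of_tensor hf h2 h hsim hN hA ?_ hB ?_)
    · refine fun i => diag_eq_zero_of_irred h2 (by rw [Fintype.card_fin]; omega) (factor_irred (eq := eq) (P := P) hirr
        fun g hg => ?_) hA le_rfl i
      obtain ⟨u, w, e, he, hg', hu⟩ := exists_factor_reps h hsim hN g hg
      exact ⟨u, mem_similarity_of_gram he hu, w, hg'⟩
    · refine fun i => diag_eq_zero_of_irred h2 (by rw [Fintype.card_fin]; omega) (factor_irred
        (eq := eq.trans (Equiv.prodComm _ _)) (P := P) hirr fun g hg => ?_) hB le_rfl i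
      obtain ⟨u, w, e, he, hg', hu⟩ := exists_factor_reps h.swap hsim (normalises_swap hN) g hg
      exact ⟨u, mem_similarity_of_gram he hu, w, hg'⟩
  rcases mul_self_eq_one_iff.1 hc with h1 | h1
  · subst h1
    rw [one_mul] at hcd
    subst hcd
    rw [one_smul] at hA
    rw [neg_one_smul] at hB
    exact sympTensor_odd hf ha h.swap h2 hB hA hsim hirr (normalises_swap hN)
  · subst h1
    rw [neg_one_mul, neg_inj] at hcd
    subst hcd
    rw [neg_one_smul] at hA
    rw [one_smul] at hB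
    exact sympTensor_odd hf hb h h2 hA hB hsim hirr hN

/-! ### Equal factors -/

/-- A decomposition into two equal factors, read as a tensor square. -/
lemma reps_two [NeZero a] {eq : ι ≃ Fin a × Fin a}
    (hN : Normalises H ((kemb eq P).range : Set (Matrix ι ι F))) :
    ∀ g ∈ H, ∃ (τ : Equiv.Perm (Fin 2)) (gs : Fin 2 → GL (Fin a) F),
      (g : Matrix ι ι F) = cj P (((permGL (factorPerm τ) * pureGL gs : GL (Fin 2 → Fin a) F) :
        Matrix (Fin 2 → Fin a) (Fin 2 → Fin a) F).submatrix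
          (eq.trans (finTwoArrowEquiv (Fin a)).symm) (eq.trans (finTwoArrowEquiv (Fin a)).symm)) := by
  intro g hg
  obtain ⟨u, w, hg'⟩ := exists_kron_of_normalises eq P fun X => hN g hg _ ⟨X, rfl⟩
  refine ⟨1, ![u, w], ?_⟩
  rw [hg']
  have hperm : (permGL (factorPerm (1 : Equiv.Perm (Fin 2))) : GL (Fin 2 → Fin a) F) = 1 :=
    Units.ext (by
      show (1 : Matrix (Fin 2 → Fin a) (Fin 2 → Fin a) F).submatrix _ id = 1
      ext x y; rfl)
  rw [hperm, one_mul, pureGL_val]
  congr 1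
  ext r c
  simp [pureMat, Fin.prod_univ_two]

/-- A tensor square of congruent factors is a wreath split. -/
theorem wreathSplit_two [NeZero a] (hf : IsHermLike σ ε f) {eq : ι ≃ Fin a × Fin a}
    {A B : GL (Fin a) F} (h : TensorSplit σ ε f eq P A B) (hsim : H ≤ Geo.similarityGroup f)
    (hN : Normalises H ((kemb eq P).range : Set (Matrix ι ι F))) (A₀ : GL (Fin a) F) {e : F}
    (he : (A₀ : Matrix (Fin a) (Fin a) F)ᵀ =
      e • σ.toRingHom.mapMatrix (A₀ : Matrix (Fin a) (Fin a) F))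
    {u v : GL (Fin a) F} {c d : F}
    (hA : (A : Matrix (Fin a) (Fin a) F) = c • ((u : Matrix (Fin a) (Fin a) F)ᵀ *
      (A₀ : Matrix (Fin a) (Fin a) F) * σ.toRingHom.mapMatrix (u : Matrix (Fin a) (Fin a) F)))
    (hB : (B : Matrix (Fin a) (Fin a) F) = d • ((v : Matrix (Fin a) (Fin a) F)ᵀ *
      (A₀ : Matrix (Fin a) (Fin a) F) * σ.toRingHom.mapMatrix (v : Matrix (Fin a) (Fin a) F))) :
    WreathSplit σ ε f H 2 a (fun M => M = (A₀ : Matrix (Fin a) (Fin a) F)) := by
  refine wreathSplit_of_congr hf hsim (eq := eq.trans (finTwoArrowEquiv (Fin a)).symm) (P := P)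
    (A := ![A, B]) (fun x y => ?_) A₀ (u := ![u, v]) (d := ![c, d])
    (Fin.forall_fin_two.2 ⟨hA, hB⟩) he rfl (reps_two hN)
  have e1 : ∀ z : (Fin 2 → Fin a) → F, z ∘ (eq.trans (finTwoArrowEquiv (Fin a)).symm) =
      (z ∘ (finTwoArrowEquiv (Fin a)).symm) ∘ eq := fun z => rfl
  rw [coordForm, e1, e1, h.form, ← formOfGram_eq, ← formOfGram_eq]
  simp only [Geo.formOfGram]
  refine Fintype.sum_equiv (finTwoArrowEquiv (Fin a)).symm _ _ fun p => ?_
  refine Fintype.sum_equiv (finTwoArrowEquiv (Fin a)).symm _ _ fun r => ?_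
  simp [pureMat, Fin.prod_univ_two]

/-! ### Hermitian forms -/

/-- A form similar to a hermitian one. -/
lemma exists_herm_scale (hσ : σ ≠ RingEquiv.refl F) (hinv : ∀ x, σ (σ x) = x) {n : ℕ}
    {A : GL (Fin n) F} {c : F} (hc : c * σ c = 1)
    (hA : (A : Matrix (Fin n) (Fin n) F)ᵀ = c • σ.toRingHom.mapMatrix (A : Matrix (Fin n) (Fin n) F)) :
    ∃ e : F, e ≠ 0 ∧ (e • (A : Matrix (Fin n) (Fin n) F))ᵀ =
      σ.toRingHom.mapMatrix (e • (A : Matrix (Fin n) (Fin n) F)) := by
  obtain ⟨e, he, hec⟩ := exists_semifixed hinv hσ hc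
  refine ⟨e, he, Matrix.ext fun i j => ?_⟩
  have h := congrFun (congrFun hA i) j
  simp only [Matrix.transpose_apply, Matrix.smul_apply, RingHom.mapMatrix_apply, Matrix.map_apply,
    smul_eq_mul] at h ⊢
  show e * (A : Matrix (Fin n) (Fin n) F) j i = σ (e * (A : Matrix (Fin n) (Fin n) F) i j)
  rw [h, map_mul, hec]
  show e * (c * σ _) = _
  ring

/-- Hermitian-like Gram matrices of equal size are congruent up to scalars. -/
lemma herm_congr (hσ : σ ≠ RingEquiv.refl F) (hinv : ∀ x, σ (σ x) = x) {n : ℕ} [NeZero n]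
    {A A₀ : GL (Fin n) F} {c c₀ : F} (hc : c * σ c = 1) (hc₀ : c₀ * σ c₀ = 1)
    (hA : (A : Matrix (Fin n) (Fin n) F)ᵀ = c • σ.toRingHom.mapMatrix (A : Matrix (Fin n) (Fin n) F))
    (hA₀ : (A₀ : Matrix (Fin n) (Fin n) F)ᵀ =
      c₀ • σ.toRingHom.mapMatrix (A₀ : Matrix (Fin n) (Fin n) F)) :
    ∃ (d : F) (u : GL (Fin n) F), (A : Matrix (Fin n) (Fin n) F) =
      d • ((u : Matrix (Fin n) (Fin n) F)ᵀ * (A₀ : Matrix (Fin n) (Fin n) F) *
        σ.toRingHom.mapMatrix (u : Matrix (Fin n) (Fin n) F)) := by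
  obtain ⟨e, he, hA'⟩ := exists_herm_scale hσ hinv hc hA
  obtain ⟨e₀, he₀, hA₀'⟩ := exists_herm_scale hσ hinv hc₀ hA₀
  have hu : ∀ {M : GL (Fin n) F} {t : F}, t ≠ 0 → IsUnit (t • (M : Matrix (Fin n) (Fin n) F)) :=
    fun {M t} ht => by
      rw [Matrix.isUnit_iff_isUnit_det, Matrix.det_smul, isUnit_iff_ne_zero]
      exact mul_ne_zero (pow_ne_zero _ ht) ((Matrix.isUnit_iff_isUnit_det _).1 M.isUnit).ne_zero
  obtain ⟨v, hv⟩ := herm_congr_one hσ hinv (hu he) hA'
  obtain ⟨v₀, hv₀⟩ := herm_congr_one hσ hinv (hu he₀) hA₀'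
  have inv_side : ∀ {w : GL (Fin n) F} {M : Matrix (Fin n) (Fin n) F},
      (w : Matrix (Fin n) (Fin n) F)ᵀ * M * σ.toRingHom.mapMatrix (w : Matrix (Fin n) (Fin n) F) = 1 →
      M = ((w⁻¹ : GL (Fin n) F) : Matrix (Fin n) (Fin n) F)ᵀ *
        σ.toRingHom.mapMatrix ((w⁻¹ : GL (Fin n) F) : Matrix (Fin n) (Fin n) F) := by
    intro w M h
    have h1 : ((w⁻¹ : GL (Fin n) F) : Matrix (Fin n) (Fin n) F)ᵀ *
        ((w : Matrix (Fin n) (Fin n) F)ᵀ * M * σ.toRingHom.mapMatrix (w : Matrix (Fin n) (Fin n) F)) *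
        σ.toRingHom.mapMatrix ((w⁻¹ : GL (Fin n) F) : Matrix (Fin n) (Fin n) F) =
        ((w : Matrix (Fin n) (Fin n) F) * ((w⁻¹ : GL (Fin n) F) : Matrix (Fin n) (Fin n) F))ᵀ * M *
          σ.toRingHom.mapMatrix ((w : Matrix (Fin n) (Fin n) F) *
            ((w⁻¹ : GL (Fin n) F) : Matrix (Fin n) (Fin n) F)) := by
      rw [Matrix.transpose_mul, map_mul]; simp only [mul_assoc]
    rw [h, mul_one, Units.mul_inv, Matrix.transpose_one, one_mul, map_one, mul_one] at h1
    exact h1.symm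
  have hM := inv_side hv
  refine ⟨e⁻¹ * e₀, v₀ * v⁻¹, ?_⟩
  have e1 : ((v₀ * v⁻¹ : GL (Fin n) F) : Matrix (Fin n) (Fin n) F)ᵀ *
      (e₀ • (A₀ : Matrix (Fin n) (Fin n) F)) *
      σ.toRingHom.mapMatrix ((v₀ * v⁻¹ : GL (Fin n) F) : Matrix (Fin n) (Fin n) F) =
      e • (A : Matrix (Fin n) (Fin n) F) := by
    rw [hM, Units.val_mul, Matrix.transpose_mul, map_mul]
    calc _ = ((v⁻¹ : GL (Fin n) F) : Matrix (Fin n) (Fin n) F)ᵀ *
        ((v₀ : Matrix (Fin n) (Fin n) F)ᵀ * (e₀ • (A₀ : Matrix (Fin n) (Fin n) F)) *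
          σ.toRingHom.mapMatrix (v₀ : Matrix (Fin n) (Fin n) F)) *
        σ.toRingHom.mapMatrix ((v⁻¹ : GL (Fin n) F) : Matrix (Fin n) (Fin n) F) := by
          simp only [mul_assoc]
      _ = _ := by rw [hv₀, mul_one]
  rw [Matrix.mul_smul, Matrix.smul_mul] at e1
  rw [mul_smul, e1, smul_smul, inv_mul_cancel₀ he, one_smul]

omit [Fintype F] in
lemma isUnitary_sesqOf (hσ : σ ≠ RingEquiv.refl F) (hinv : ∀ x, σ (σ x) = x) {n : ℕ}
    {G : Matrix (Fin n) (Fin n) F} (hu : IsUnit G) (hG : Gᵀ = σ.toRingHom.mapMatrix G) :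
    Geo.IsUnitaryForm σ (sesqOf σ G) := by
  have h := isHermLike_sesqOf hinv hu (e := 1) (by rw [one_smul]; exact hG)
  exact ⟨hσ, hinv, h.add_left, h.smul_left, fun v w => by rw [h.herm, one_mul], h.nondegenerate⟩

/-- The outcome for a tensor decomposition of a hermitian form. -/
inductive UnitTensorCase (σ : F ≃+* F) (f : (ι → F) → (ι → F) → F) (H : Subgroup (GL ι F)) : Prop
  | tens {n₁ n₂ : ℕ} {eq : ι ≃ Fin n₁ × Fin n₂} {P : GL ι F}
      {f₁ : (Fin n₁ → F) → (Fin n₁ → F) → F} {f₂ : (Fin n₂ → F) → (Fin n₂ → F) → F}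
      (h1 : 2 ≤ n₁) (h2 : n₁ < n₂) (hf₁ : Geo.IsUnitaryForm σ f₁) (hf₂ : Geo.IsUnitaryForm σ f₂)
      (hs : Geo.IsTensorFormStructure σ f f₁ f₂ eq P)
      (h : H ≤ Geo.tensorProductSubgroup n₁ n₂ eq P)
  | wreath {a : ℕ} (ha : 2 ≤ a)
      (h : WreathSplit σ 1 f H 2 a (fun M => M = (1 : Matrix (Fin a) (Fin a) F)))

lemma unitTensor_lt [Nonempty ι] [NeZero a] [NeZero b] (hf : IsHermLike σ 1 f)
    (hσ : σ ≠ RingEquiv.refl F) (h : TensorSplit σ 1 f eq P A B) (ha : 2 ≤ a) (hab : a < b)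
    (hN : Normalises H ((kemb eq P).range : Set (Matrix ι ι F))) : UnitTensorCase σ f H := by
  obtain ⟨c, d, -, hc, hd, hA, hB⟩ := h.symm
  obtain ⟨e, he, hA'⟩ := exists_herm_scale hσ hf.invol hc hA
  obtain ⟨e', he', hB'⟩ := exists_herm_scale hσ hf.invol hd hB
  have hu : ∀ {n : ℕ} {M : GL (Fin n) F} {t : F}, t ≠ 0 → IsUnit (t • (M : Matrix (Fin n) (Fin n) F)) :=
    fun {n M t} ht => by
      rw [Matrix.isUnit_iff_isUnit_det, Matrix.det_smul, isUnit_iff_ne_zero]
      exact mul_ne_zero (pow_ne_zero _ ht) ((Matrix.isUnit_iff_isUnit_det _).1 M.isUnit).ne_zero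
  refine .tens ha hab (isUnitary_sesqOf hσ hf.invol (hu he) hA')
    (isUnitary_sesqOf hσ hf.invol (hu he') hB') ?_ (le_tensorProduct eq P hN)
  refine ⟨(e * e')⁻¹, inv_ne_zero (mul_ne_zero he he'), fun x y => ?_⟩
  rw [h.form, gramMatrix_sesqOf, gramMatrix_sesqOf, formOfGram_eq, Matrix.smul_kronecker,
    Matrix.kronecker_smul, smul_smul]
  simp [sesqOf, Matrix.smul_mulVec, dotProduct_smul]
  field_simp

theorem unitTensor [Nonempty ι] (hf : IsHermLike σ 1 f) (hσ : σ ≠ RingEquiv.refl F)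
    (h : TensorSplit σ 1 f eq P A B) (ha : 2 ≤ a) (hb : 2 ≤ b)
    (hsim : H ≤ Geo.similarityGroup f)
    (hN : Normalises H ((kemb eq P).range : Set (Matrix ι ι F))) : UnitTensorCase σ f H := by
  haveI : NeZero a := ⟨by omega⟩
  haveI : NeZero b := ⟨by omega⟩
  rcases lt_trichotomy a b with hab | rfl | hab
  · exact unitTensor_lt hf hσ h ha hab hN
  · obtain ⟨c, d, -, hc, hd, hA, hB⟩ := h.symm
    have h1 : ((1 : GL (Fin a) F) : Matrix (Fin a) (Fin a) F)ᵀ =
        (1 : F) • σ.toRingHom.mapMatrix ((1 : GL (Fin a) F) : Matrix (Fin a) (Fin a) F) := by simp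
    obtain ⟨p, u, hu⟩ := herm_congr hσ hf.invol hc (by simp) hA h1
    obtain ⟨q, v, hv⟩ := herm_congr hσ hf.invol hd (by simp) hB h1
    exact .wreath ha (wreathSplit_two hf h hsim hN 1 h1 hu hv)
  · exact unitTensor_lt hf hσ h.swap hb hab (normalises_swap hN)

omit [Fintype F] in
/-- Matrices with entries in the subfield up to a scalar. -/
lemma mem_subfieldSubgroup_of_entries {F₁ : Subfield F} (P : GL ι F) {g : GL ι F}
    {M : Matrix ι ι F} {x : F} (hx : x ≠ 0) (hM : ∀ i j, x * M i j ∈ F₁)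
    (hg : (g : Matrix ι ι F) = cj P M) : g ∈ Geo.subfieldSubgroup F₁ P := by
  let M₁ : Matrix ι ι F₁ := Matrix.of fun i j => ⟨x * M i j, hM i j⟩
  have hmap : (F₁.subtype : F₁ →+* F).mapMatrix M₁ = x • M := Matrix.ext fun i j => rfl
  have hMu : IsUnit M := by
    have h : M = cj P⁻¹ (g : Matrix ι ι F) := by rw [hg, cj_inv_cj]
    rw [h]; exact g.isUnit.map _
  have hdet : M₁.det ≠ 0 := fun h0 => by
    have h := RingHom.map_det (F₁.subtype : F₁ →+* F) M₁
    rw [hmap, h0, map_zero, Matrix.det_smul] at h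
    exact mul_ne_zero (pow_ne_zero _ hx) ((Matrix.isUnit_iff_isUnit_det _).1 hMu).ne_zero h.symm
  let W : GL ι F₁ := Matrix.GeneralLinearGroup.mkOfDetNeZero M₁ hdet
  refine ⟨Matrix.GeneralLinearGroup.map (F₁.subtype : F₁ →+* F) W *
    sc ι (Units.mk0 x⁻¹ (inv_ne_zero hx)),
    Subgroup.mul_mem_sup ⟨W, rfl⟩ (sc_mem _), Units.ext ?_⟩
  have hW : ((Matrix.GeneralLinearGroup.map (F₁.subtype : F₁ →+* F) W *
      sc ι (Units.mk0 x⁻¹ (inv_ne_zero hx)) : GL ι F) : Matrix ι ι F) = M := by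
    rw [Units.val_mul]
    show (F₁.subtype : F₁ →+* F).mapMatrix M₁ * _ = M
    rw [hmap]
    simp [sc, ← Matrix.smul_one_eq_diagonal, smul_smul, hx]
  rw [hg, cj_apply]
  show ((P * _ * P⁻¹ : GL ι F) : Matrix ι ι F) = _
  rw [Units.val_mul, Units.val_mul, hW]

/-- In dimension two the similitudes of a hermitian form are scalar times rational. -/
theorem subfieldCase_of_two [Nonempty ι] (hf : IsHermLike σ 1 f) (hσ : σ ≠ RingEquiv.refl F)
    {k : ℕ} (hk : 1 ≤ k) {cond : Matrix (Fin 2) (Fin 2) F → Prop}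
    (hsim : H ≤ Geo.similarityGroup f) (h : WreathSplit σ 1 f H k 2 cond) :
    SubfieldCase σ f H := by
  classical
  obtain ⟨hc, form, hd, symm, -, -, hrep⟩ := h
  rename_i eq P A c d
  haveI : NeZero k := ⟨by omega⟩
  let J : GL (Fin 2) F := (J2_isUnit (F := F)).unit
  have hJv : (J : Matrix (Fin 2) (Fin 2) F) = J2 F := IsUnit.unit_spec _
  have hσJ : σ.toRingHom.mapMatrix (J2 F) = J2 F := by
    ext i j; fin_cases i <;> fin_cases j <;> simp [J2]
  have hJT : (J : Matrix (Fin 2) (Fin 2) F)ᵀ =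
      (-1 : F) • σ.toRingHom.mapMatrix (J : Matrix (Fin 2) (Fin 2) F) := by
    rw [hJv, hσJ, J2_transpose, neg_one_smul]
  obtain ⟨p, v, hv⟩ := herm_congr hσ hf.invol hd (by simp) symm hJT
  let z : Fin k := ⟨0, by omega⟩
  let Ai : Fin k → GL (Fin 2) F := fun i =>
    if i = z then sc (Fin 2) (Units.mk0 c hc) * A else A
  have hAi : ∀ i, (Ai i : Matrix (Fin 2) (Fin 2) F) =
      (if i = z then c else 1) • (A : Matrix (Fin 2) (Fin 2) F) := fun i => by
    by_cases hi : i = z
    · simp [Ai, hi, sc, ← Matrix.smul_one_eq_diagonal]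
    · simp [Ai, hi]
  have hW : WreathSplit σ 1 f H k 2 (fun M => M = J2 F) := by
    refine wreathSplit_of_congr hf hsim (eq := eq) (P := P) (A := Ai) (fun x y => ?_) J
      (u := fun _ => v) (d := fun i => (if i = z then c else 1) * p)
      (fun i => by rw [hAi, mul_smul, ← hv]) hJT hJv fun g hg => ?_
    · rw [form, funext hAi, pureMat_smul, Finset.prod_ite_eq']
      simp [sesqOf, Matrix.smul_mulVec, dotProduct_smul]
    · obtain ⟨τ, gs, hg', -⟩ := hrep g hg
      exact ⟨τ, gs, hg'⟩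
  obtain ⟨hc, form, -, -, -, hcond, hrep⟩ := hW
  rename_i eq P A c d
  rw [hcond] at form hrep
  set F₁ := fixedField σ with hF₁
  set G : Matrix ι ι F := (pureMat fun _ : Fin k => J2 F).submatrix eq eq with hG
  have hJe : ∀ i j, J2 F i j ∈ F₁ := fun i j => by
    have h' := congrFun (congrFun hσJ i) j
    exact mem_fixedField.2 h'
  have hGd : ∀ i, G i i = 0 := fun i => by
    refine Finset.prod_eq_zero (Finset.mem_univ z) ?_
    generalize eq i z = x
    fin_cases x <;> simp [J2]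
  refine .mk (F₁ := F₁) (P := P) (ζ := c⁻¹) (G := G)
    (fun h => hσ (RingEquiv.ext fun x => mem_fixedField.1 (h.ge (Subfield.mem_top x))))
    ⟨inv_ne_zero hc, ?_, fun i j => ?_, fun u w => ?_⟩ (fun g hg => ?_) (fun _ _ _ => hGd)
  · rw [hG, Matrix.isUnit_submatrix_equiv]
    exact ⟨pureGL fun _ => J, by rw [pureGL_val]; simp [hJv]⟩
  · simp only [hG, Matrix.submatrix_apply, pureMat, Matrix.of_apply]
    exact prod_mem fun l _ => hJe _ _
  · have e : ∀ z : ι → F, z = (z ∘ eq.symm) ∘ eq := fun z => by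
      rw [Function.comp_assoc, Equiv.symm_comp_self, Function.comp_id]
    have h' := form (u ∘ eq.symm) (w ∘ eq.symm)
    rw [coordForm, ← e, ← e] at h'
    rw [h', ← mul_assoc, inv_mul_cancel₀ hc, one_mul, hG]
    simp only [sesqOf, Matrix.submatrix_mulVec_equiv]
    rw [comp_equiv_symm_dotProduct]
    rfl
  · obtain ⟨τ, gs, hg', he⟩ := hrep g hg
    -- each factor is a scalar times a rational matrix
    have hs : ∀ i, ∃ x : F, x ≠ 0 ∧ ∀ s t, x * (gs i : Matrix (Fin 2) (Fin 2) F) s t ∈ F₁ := by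
      intro i
      obtain ⟨e, -, he'⟩ := he i
      set u := (gs i : Matrix (Fin 2) (Fin 2) F) with hu
      have hd0 : u.det ≠ 0 := ((Matrix.isUnit_iff_isUnit_det _).1 (gs i).isUnit).ne_zero
      have hσu : σ.toRingHom.mapMatrix u = (e / u.det) • u := by
        refine (((Matrix.isUnit_transpose _).2 (gs i).isUnit).mul J2_isUnit).mul_left_cancel ?_
        rw [he', Matrix.mul_smul, J2_gram, smul_smul, div_mul_cancel₀ _ hd0]
      obtain ⟨s₀, t₀, h0⟩ : ∃ s t, u s t ≠ 0 := by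
        by_contra hall
        push Not at hall
        exact (gs i).ne_zero (Matrix.ext hall)
      refine ⟨(u s₀ t₀)⁻¹, inv_ne_zero h0, fun s t => mem_fixedField.2 ?_⟩
      have he1 : ∀ s t, σ (u s t) = e / u.det * u s t := fun s t => congrFun (congrFun hσu s) t
      have hk0 : e / u.det ≠ 0 := fun h' => (map_ne_zero σ.toRingHom).2 h0 (by
        show σ (u s₀ t₀) = 0
        rw [he1, h', zero_mul])
      rw [map_mul, map_inv₀, he1, he1, _root_.mul_inv_rev, mul_assoc,
        inv_mul_cancel_left₀ hk0]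
    choose x hx0 hx using hs
    set W := ((permGL (factorPerm τ) * pureGL gs : GL (Fin k → Fin 2) F) :
      Matrix (Fin k → Fin 2) (Fin k → Fin 2) F) with hW
    set X := ∏ i, x i with hX
    have hX0 : X ≠ 0 := Finset.prod_ne_zero_iff.2 fun i _ => hx0 i
    have hWF : ∀ p r, X * W p r ∈ F₁ := by
      intro p r
      rw [hW, Units.val_mul, pureGL_val, Matrix.mul_apply, Finset.mul_sum]
      refine sum_mem fun q _ => ?_
      rw [show X * (((permGL (factorPerm τ) : GL (Fin k → Fin 2) F) :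
          Matrix (Fin k → Fin 2) (Fin k → Fin 2) F) p q *
          pureMat (fun i => (gs i : Matrix (Fin 2) (Fin 2) F)) q r) =
        ((permGL (factorPerm τ) : GL (Fin k → Fin 2) F) :
          Matrix (Fin k → Fin 2) (Fin k → Fin 2) F) p q *
          ∏ i, x i * (gs i : Matrix (Fin 2) (Fin 2) F) (q i) (r i) by
        rw [Finset.prod_mul_distrib]
        simp only [pureMat, Matrix.of_apply, hX]
        ring]
      refine mul_mem ?_ (prod_mem fun i _ => hx i _ _)
      show (1 : Matrix (Fin k → Fin 2) (Fin k → Fin 2) F) _ _ ∈ F₁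
      rw [Matrix.one_apply]
      split_ifs
      · exact one_mem _
      · exact zero_mem _
    exact mem_subfieldSubgroup_of_entries P (M := W.submatrix eq eq) hX0 (fun i j => hWF _ _) hg'

end Cfsg.Agent.Aschbacher
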