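import Cfsg.Agent.Lib.Aschbacher.FormBasis

/-!
Tensor powers of a form, permuted by a group of similitudes.
-/

set_option autoImplicit false
set_option linter.style.haveILetI false

namespace Cfsg.Agent.Aschbacher

open scoped MatrixGroups Matrix Kronecker commutatorElement
open Matrix
open Cfsg.Agent.Transvec.Herm (fixedField apply_eq_pow card_eq_sq)

variable {ι : Type} [Fintype ι] [DecidableEq ι] {F : Type*} [Field F]
variable {σ : F ≃+* F} {ε : F} {f : (ι → F) → (ι → F) → F}

/-- A group permuting the factors of a tensor power of a form. -/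
inductive WreathSplit (σ : F ≃+* F) (ε : F) (f : (ι → F) → (ι → F) → F) (H : Subgroup (GL ι F))
    (k a : ℕ) (cond : Matrix (Fin a) (Fin a) F → Prop) : Prop
  | mk {eq : ι ≃ (Fin k → Fin a)} {P : GL ι F} {A : GL (Fin a) F} {c d : F} (hc : c ≠ 0)
      (form : ∀ x y, coordForm f eq P x y =
        c * sesqOf σ (pureMat fun _ => (A : Matrix (Fin a) (Fin a) F)) x y)
      (hd : d * σ d = 1)
      (symm : (A : Matrix (Fin a) (Fin a) F)ᵀ = d • σ.toRingHom.mapMatrix (A : Matrix (Fin a) (Fin a) F))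
      (hε : d ^ k * c = ε * σ c)
      (hcond : cond (A : Matrix (Fin a) (Fin a) F))
      (h : ∀ g ∈ H, ∃ (τ : Equiv.Perm (Fin k)) (gs : Fin k → GL (Fin a) F),
        (g : Matrix ι ι F) = cj P (((permGL (factorPerm τ) * pureGL gs : GL (Fin k → Fin a) F) :
          Matrix (Fin k → Fin a) (Fin k → Fin a) F).submatrix eq eq) ∧
        ∀ i, ∃ e : F, e ≠ 0 ∧ (gs i : Matrix (Fin a) (Fin a) F)ᵀ * (A : Matrix (Fin a) (Fin a) F) *
          σ.toRingHom.mapMatrix (gs i : Matrix (Fin a) (Fin a) F) =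
            e • (A : Matrix (Fin a) (Fin a) F))

variable {k a : ℕ}

lemma le_tensorWreath_of_reps {H : Subgroup (GL ι F)} (eq : ι ≃ (Fin k → Fin a)) (P : GL ι F)
    (h : ∀ g ∈ H, ∃ (τ : Equiv.Perm (Fin k)) (gs : Fin k → GL (Fin a) F),
      (g : Matrix ι ι F) = cj P (((permGL (factorPerm τ) * pureGL gs : GL (Fin k → Fin a) F) :
        Matrix (Fin k → Fin a) (Fin k → Fin a) F).submatrix eq eq)) :
    H ≤ Geo.tensorWreathSubgroup a k eq P := by
  intro g hg
  obtain ⟨τ, gs, hg'⟩ := h g hg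
  rw [eq_conj_glReindex eq P (permGL (factorPerm τ) * pureGL gs) hg']
  exact Subgroup.mem_map_of_mem _ (Subgroup.mem_map_of_mem _ (mul_mem
    (Subgroup.subset_closure (Or.inr (isFactorPermutation_permGL τ)))
    (Subgroup.subset_closure (Or.inl (isPureTensor_pureGL gs)))))

lemma pureGL_mul_perm (τ : Equiv.Perm (Fin k)) (u : Fin k → GL (Fin a) F) :
    pureGL u * permGL (factorPerm τ) =
      (permGL (factorPerm τ) : GL (Fin k → Fin a) F) * pureGL fun i => u (τ i) := by
  have h : cj (permGL (factorPerm τ)) (pureMat fun i => (u (τ i) : Matrix (Fin a) (Fin a) F)) =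
      pureMat fun i => (u i : Matrix (Fin a) (Fin a) F) := by
    rw [cj_permGL, pureMat_submatrix]
    congr 1
    funext i
    rw [Equiv.apply_symm_apply]
  refine Units.ext ?_
  rw [Units.val_mul, Units.val_mul, pureGL_val, pureGL_val, ← h, cj_apply]
  simp [mul_assoc]

lemma pureGL_mul (u v : Fin k → GL (Fin a) F) : pureGL u * pureGL v = pureGL fun i => u i * v i :=
  Units.ext (by rw [Units.val_mul, pureGL_val, pureGL_val, pureMat_mul]; rfl)

lemma pureGL_inv (u : Fin k → GL (Fin a) F) : (pureGL u)⁻¹ = pureGL fun i => (u i)⁻¹ :=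
  Units.ext rfl

/-- The Gram equation of a permuting similitude. -/
lemma rep_gram {eq : ι ≃ (Fin k → Fin a)} {P : GL ι F}
    {M : Fin k → Matrix (Fin a) (Fin a) F} {c : F} (hc : c ≠ 0)
    (hform : ∀ x y, coordForm f eq P x y = c * sesqOf σ (pureMat M) x y)
    {g : GL ι F} (hg : g ∈ Geo.similarityGroup f) {τ : Equiv.Perm (Fin k)}
    {gs : Fin k → GL (Fin a) F}
    (hrep : (g : Matrix ι ι F) = cj P (((permGL (factorPerm τ) * pureGL gs : GL (Fin k → Fin a) F) :
      Matrix (Fin k → Fin a) (Fin k → Fin a) F).submatrix eq eq)) :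
    ∃ μ : F, μ ≠ 0 ∧ pureMat (fun i => (gs i : Matrix (Fin a) (Fin a) F)ᵀ * M (τ i) *
      σ.toRingHom.mapMatrix (gs i : Matrix (Fin a) (Fin a) F)) = μ • pureMat M := by
  obtain ⟨μ, hμ⟩ := hg
  refine ⟨μ, μ.ne_zero, ?_⟩
  set W : GL (Fin k → Fin a) F := permGL (factorPerm τ) * pureGL gs with hW
  have hWg : (W : Matrix (Fin k → Fin a) (Fin k → Fin a) F)ᵀ * pureMat M *
      σ.toRingHom.mapMatrix (W : Matrix (Fin k → Fin a) (Fin k → Fin a) F) =
      (μ : F) • pureMat M := by
    refine gram_ext (σ := σ) fun x y => ?_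
    have hact : ∀ z, (g : Matrix ι ι F) *ᵥ ((P : Matrix ι ι F) *ᵥ (z ∘ eq)) =
        (P : Matrix ι ι F) *ᵥ (((W : Matrix (Fin k → Fin a) (Fin k → Fin a) F) *ᵥ z) ∘ eq) :=
      fun z => by
        rw [hrep, cj_mulVec, Matrix.submatrix_mulVec_equiv, Function.comp_assoc,
          Equiv.self_comp_symm, Function.comp_id]
    rw [← sesqOf_mulVec]
    refine mul_left_cancel₀ hc ?_
    rw [← hform]
    show f _ _ = _
    rw [← hact, ← hact, hμ, show f ((P : Matrix ι ι F) *ᵥ (x ∘ eq))
      ((P : Matrix ι ι F) *ᵥ (y ∘ eq)) = c * sesqOf σ (pureMat M) x y from hform x y]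
    simp [sesqOf, Matrix.smul_mulVec, dotProduct_smul, mul_left_comm]
  rw [hW, Units.val_mul, Matrix.transpose_mul, map_mul, permGL_map, pureGL_val] at hWg
  rw [← hWg]
  calc pureMat (fun i => (gs i : Matrix (Fin a) (Fin a) F)ᵀ * M (τ i) *
        σ.toRingHom.mapMatrix (gs i : Matrix (Fin a) (Fin a) F))
      = (pureMat fun i => (gs i : Matrix (Fin a) (Fin a) F))ᵀ * pureMat (fun i => M (τ i)) *
          σ.toRingHom.mapMatrix (pureMat fun i => (gs i : Matrix (Fin a) (Fin a) F)) := by
        rw [pureMat_transpose, pureMat_map, pureMat_mul, pureMat_mul]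
    _ = _ := by rw [← perm_gram τ M]; simp only [mul_assoc]

/-- Rebasing congruent factors to a single one. -/
theorem wreathSplit_of_congr [NeZero a] [NeZero k] (hf : IsHermLike σ ε f) {H : Subgroup (GL ι F)}
    (hsim : H ≤ Geo.similarityGroup f) {eq : ι ≃ (Fin k → Fin a)} {P : GL ι F}
    {A : Fin k → GL (Fin a) F}
    (hform : ∀ x y, coordForm f eq P x y =
      sesqOf σ (pureMat fun i => (A i : Matrix (Fin a) (Fin a) F)) x y)
    (A₀ : GL (Fin a) F) {u : Fin k → GL (Fin a) F} {d : Fin k → F}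
    (hA : ∀ i, (A i : Matrix (Fin a) (Fin a) F) = d i • ((u i : Matrix (Fin a) (Fin a) F)ᵀ *
      (A₀ : Matrix (Fin a) (Fin a) F) * σ.toRingHom.mapMatrix (u i : Matrix (Fin a) (Fin a) F)))
    {e : F} (he : (A₀ : Matrix (Fin a) (Fin a) F)ᵀ =
      e • σ.toRingHom.mapMatrix (A₀ : Matrix (Fin a) (Fin a) F))
    {cond : Matrix (Fin a) (Fin a) F → Prop} (hcond : cond (A₀ : Matrix (Fin a) (Fin a) F))
    (h : ∀ g ∈ H, ∃ (τ : Equiv.Perm (Fin k)) (gs : Fin k → GL (Fin a) F),
      (g : Matrix ι ι F) = cj P (((permGL (factorPerm τ) * pureGL gs : GL (Fin k → Fin a) F) :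
        Matrix (Fin k → Fin a) (Fin k → Fin a) F).submatrix eq eq)) :
    WreathSplit σ ε f H k a cond := by
  classical
  haveI : Nonempty ι := ⟨eq.symm fun _ => 0⟩
  set U : GL (Fin k → Fin a) F := pureGL u with hU
  set D := ∏ i, d i with hD
  have hpure : pureMat (fun i => (A i : Matrix (Fin a) (Fin a) F)) =
      D • ((U : Matrix (Fin k → Fin a) (Fin k → Fin a) F)ᵀ *
        pureMat (fun _ => (A₀ : Matrix (Fin a) (Fin a) F)) *
        σ.toRingHom.mapMatrix (U : Matrix (Fin k → Fin a) (Fin k → Fin a) F)) := by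
    rw [hU, pureGL_val, pureMat_transpose, pureMat_map, pureMat_mul, pureMat_mul, hD,
      ← pureMat_smul]
    congr 1
    funext i
    exact hA i
  have hD0 : D ≠ 0 := by
    refine Finset.prod_ne_zero_iff.2 fun i _ h0 => (A i).ne_zero ?_
    rw [hA i, h0, zero_smul]
  set P' : GL ι F := P * Geo.glReindex eq.symm U⁻¹ with hP'
  have hre : ∀ (W : GL (Fin k → Fin a) F) (x : (Fin k → Fin a) → F),
      ((Geo.glReindex eq.symm W : GL ι F) : Matrix ι ι F) *ᵥ (x ∘ eq) =
        ((W : Matrix (Fin k → Fin a) (Fin k → Fin a) F) *ᵥ x) ∘ eq := fun W x => by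
    have h1 : ((Geo.glReindex eq.symm W : GL ι F) : Matrix ι ι F) =
        (W : Matrix (Fin k → Fin a) (Fin k → Fin a) F).submatrix eq eq := by
      simp [Geo.glReindex]
    rw [h1, Matrix.submatrix_mulVec_equiv, Function.comp_assoc, Equiv.self_comp_symm,
      Function.comp_id]
  have hform' : ∀ x y, coordForm f eq P' x y =
      D * sesqOf σ (pureMat fun _ => (A₀ : Matrix (Fin a) (Fin a) F)) x y := by
    intro x y
    show f _ _ = _
    rw [hP', Units.val_mul, ← Matrix.mulVec_mulVec, ← Matrix.mulVec_mulVec, hre, hre]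
    refine (hform _ _).trans ?_
    rw [hpure]
    have e1 : ∀ z, (U : Matrix (Fin k → Fin a) (Fin k → Fin a) F) *ᵥ
        (((U⁻¹ : GL (Fin k → Fin a) F) : Matrix (Fin k → Fin a) (Fin k → Fin a) F) *ᵥ z) = z :=
      fun z => by rw [Matrix.mulVec_mulVec, Units.mul_inv, Matrix.one_mulVec]
    conv_rhs => rw [← e1 x, ← e1 y, sesqOf_mulVec]
    simp [sesqOf, Matrix.smul_mulVec, dotProduct_smul]
  have hM0 : pureMat (fun _ : Fin k => (A₀ : Matrix (Fin a) (Fin a) F)) ≠ 0 :=
    (pureGL fun _ : Fin k => A₀).ne_zero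
  refine .mk (eq := eq) (P := P') hD0 hform' (sq_of_transpose hf.invol he) he ?_ hcond fun g hg => ?_
  · -- the symmetry of the constants
    obtain ⟨p, q, hpq⟩ : ∃ p q, pureMat (fun _ : Fin k => (A₀ : Matrix (Fin a) (Fin a) F)) p q ≠ 0 := by
      by_contra hc
      push Not at hc
      exact hM0 (Matrix.ext hc)
    have h1 := (hf.coord eq P').herm (Pi.single p 1) (Pi.single q 1)
    rw [hform', hform', sesqOf_single, sesqOf_single, map_mul] at h1
    have hT : pureMat (fun _ : Fin k => (A₀ : Matrix (Fin a) (Fin a) F)) p q =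
        e ^ k * σ (pureMat (fun _ : Fin k => (A₀ : Matrix (Fin a) (Fin a) F)) q p) := by
      simp only [pureMat, Matrix.of_apply, map_prod]
      rw [show e ^ k = ∏ _i : Fin k, e by rw [Finset.prod_const, Finset.card_univ, Fintype.card_fin],
        ← Finset.prod_mul_distrib]
      refine Finset.prod_congr rfl fun i _ => ?_
      simpa using congrFun (congrFun he (q i)) (p i)
    have hne : σ (pureMat (fun _ : Fin k => (A₀ : Matrix (Fin a) (Fin a) F)) q p) ≠ 0 := fun h0 =>
      hpq (by rw [hT, h0, mul_zero])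
    rw [hT] at h1
    exact mul_right_cancel₀ hne (by linear_combination h1)
  · obtain ⟨τ, gs, hrep⟩ := h g hg
    let gs' : Fin k → GL (Fin a) F := fun i => u (τ i) * gs i * (u i)⁻¹
    have hW : U * (permGL (factorPerm τ) * pureGL gs) * U⁻¹ =
        permGL (factorPerm τ) * pureGL gs' := by
      rw [← mul_assoc, hU, pureGL_mul_perm, pureGL_inv, mul_assoc, mul_assoc, pureGL_mul,
        pureGL_mul]
      simp only [gs', mul_assoc]
    have hrep' : (g : Matrix ι ι F) =
        cj P' (((permGL (factorPerm τ) * pureGL gs' : GL (Fin k → Fin a) F) :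
          Matrix (Fin k → Fin a) (Fin k → Fin a) F).submatrix eq eq) := by
      have hg' := eq_conj_glReindex eq P (permGL (factorPerm τ) * pureGL gs) hrep
      have hg'' : g = MulAut.conj P' (Geo.glReindex eq.symm
          (permGL (factorPerm τ) * pureGL gs')) := by
        rw [hg', ← hW, hP', MulAut.conj_apply, MulAut.conj_apply]
        simp only [map_mul, map_inv]
        group
      conv_lhs => rw [hg'']
      simp [Geo.glReindex, cj_apply]
    obtain ⟨μ, hμ, hgram⟩ := rep_gram hD0 hform' (hsim hg) hrep'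
    obtain ⟨c, hc0, hc, -⟩ := pureMat_factor hgram hμ fun _ => A₀.ne_zero
    exact ⟨τ, gs', hrep', fun i => ⟨c i, hc0 i, hc i⟩⟩

lemma pureAt_commute {i j : Fin k} (hij : i ≠ j) (X Y : Matrix (Fin a) (Fin a) F) :
    pureAt i X * pureAt j Y = pureAt j Y * pureAt i X := by
  rw [pureAt, pureAt, pureMat_mul, pureMat_mul]
  congr 1
  funext l
  by_cases h1 : l = i
  · subst h1; simp [Function.update_of_ne hij]
  · simp [Function.update_of_ne h1]

/-- The condition coming from a non-abelian minimal normal subgroup. -/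
def PerfectCond (σ : F ≃+* F) (A : Matrix (Fin a) (Fin a) F) : Prop :=
  ∃ E : Subgroup (GL (Fin a) F), ⁅E, E⁆ = E ∧ spanAlg E = ⊤ ∧
    ∀ g ∈ E, (g : Matrix (Fin a) (Fin a) F)ᵀ * A *
      σ.toRingHom.mapMatrix (g : Matrix (Fin a) (Fin a) F) = A

variable [Fintype F]

/-- The tensor power case for groups of similitudes. -/
theorem wreathSplit [Nonempty ι] (hf : IsHermLike σ ε f) {H : Subgroup (GL ι F)}
    (hsim : H ≤ Geo.similarityGroup f) (hk : 2 ≤ k) (ha : 2 ≤ a) {eq : ι ≃ (Fin k → Fin a)}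
    {P : GL ι F} {φ : Fin k → (Matrix (Fin a) (Fin a) F →ₐ[F] Matrix ι ι F)}
    (hφ : ∀ i X, φ i X = cj P ((pureAt i X).submatrix eq eq))
    (hgen : (⨆ i, (φ i).range) = ⊤)
    (hE : ∀ i, ∃ E : Subgroup (GL ι F), E ≤ H ∧ ⁅E, E⁆ = E ∧ ¬ E ≤ Geo.scalars ι F ∧
      spanAlg E = (φ i).range)
    (htr : ∀ i j, ∃ g ∈ H, ∀ X, cj g (φ i X) = φ j X)
    (h : ∀ g ∈ H, ∃ (τ : Equiv.Perm (Fin k)) (gs : Fin k → GL (Fin a) F), (g : Matrix ι ι F) =
      cj P (((permGL (factorPerm τ) * pureGL gs : GL (Fin k → Fin a) F) :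
        Matrix (Fin k → Fin a) (Fin k → Fin a) F).submatrix eq eq)) :
    WreathSplit σ ε f H k a (PerfectCond σ) := by
  classical
  haveI : NeZero a := ⟨by omega⟩
  haveI : NeZero k := ⟨by omega⟩
  have hadj : ∀ i X, hf.adj (φ i X) ∈ (φ i).range := by
    intro i X
    obtain ⟨E, hEH, -, -, hsp⟩ := hE i
    rw [← hsp]
    exact hf.adj_mem_spanAlg (hEH.trans hsim) (hsp ▸ ⟨X, rfl⟩)
  obtain ⟨A, hform, d, -, hd⟩ := exists_pure_form hf eq P φ hφ hgen hadj
  have hform1 : ∀ x y, coordForm f eq P x y =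
      1 * sesqOf σ (pureMat fun i => (A i : Matrix (Fin a) (Fin a) F)) x y := fun x y => by
    rw [one_mul, hform]
  let Φ : Matrix (Fin k → Fin a) (Fin k → Fin a) F ≃ₐ[F] Matrix ι ι F :=
    (Matrix.reindexAlgEquiv F F eq.symm).trans (cj P)
  have hΦ : ∀ i X, Φ (pureAt i X) = φ i X := fun i X => by rw [hφ]; rfl
  have hτ : ∀ i j, ∀ g ∈ H, (∀ X, cj g (φ i X) = φ j X) → ∀ (τ : Equiv.Perm (Fin k))
      (gs : Fin k → GL (Fin a) F), (g : Matrix ι ι F) =
      cj P (((permGL (factorPerm τ) * pureGL gs : GL (Fin k → Fin a) F) :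
        Matrix (Fin k → Fin a) (Fin k → Fin a) F).submatrix eq eq) → τ i = j := by
    intro i j g _ hgij τ gs hrep
    by_contra hne
    have hW : ∀ X, pureAt (τ i) (cj (gs i) X) = pureAt j X := fun X => by
      refine Φ.injective ?_
      rw [hΦ, hΦ, ← hgij X]
      have hg' := eq_conj_glReindex eq P (permGL (factorPerm τ) * pureGL gs) hrep
      rw [hφ (τ i), ← cj_factorPerm τ i, ← cj_pureGL, ← cj_mul, hg']
      show cj P ((cj _ (pureAt i X)).submatrix eq eq) = _
      rw [hφ, MulAut.conj_apply, cj_mul (P * _) P⁻¹, cj_inv_cj, cj_mul P]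
      congr 1
      have h1 : ((Geo.glReindex eq.symm (permGL (factorPerm τ) * pureGL gs) : GL ι F) : Matrix ι ι F) =
          ((permGL (factorPerm τ) * pureGL gs : GL (Fin k → Fin a) F) :
            Matrix (Fin k → Fin a) (Fin k → Fin a) F).submatrix eq eq := by
        simp [Geo.glReindex]
      have h2 : (((Geo.glReindex eq.symm (permGL (factorPerm τ) * pureGL gs))⁻¹ : GL ι F) :
          Matrix ι ι F) = (((permGL (factorPerm τ) * pureGL gs)⁻¹ : GL (Fin k → Fin a) F) :
            Matrix (Fin k → Fin a) (Fin k → Fin a) F).submatrix eq eq := by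
        rw [← map_inv]; simp [Geo.glReindex]
      rw [cj_apply, cj_apply, h1, h2, Matrix.submatrix_mul_equiv, Matrix.submatrix_mul_equiv]
    have hcomm : ∀ X Y : Matrix (Fin a) (Fin a) F, X * Y = Y * X := fun X Y => by
      refine (pureAtHom (F := F) j).toRingHom.injective ?_
      show pureAt j (X * Y) = pureAt j (Y * X)
      rw [show pureAt j (X * Y) = pureAt j X * pureAt j Y from map_mul (pureAtHom j) X Y,
        show pureAt j (Y * X) = pureAt j Y * pureAt j X from map_mul (pureAtHom j) Y X]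
      conv_lhs => rw [← hW X, pureAt_commute hne, hW X]
    have hcd := hcomm (Matrix.single 0 ⟨1, by omega⟩ 1) (Matrix.single ⟨1, by omega⟩ 0 1)
    have h00 := congrFun (congrFun hcd 0) 0
    simp [Matrix.single_mul_single_same, Matrix.single_apply, Fin.ext_iff] at h00
  have hcongr : ∀ j, ∃ (v : GL (Fin a) F) (c : F), (A j : Matrix (Fin a) (Fin a) F) =
      c • ((v : Matrix (Fin a) (Fin a) F)ᵀ * (A 0 : Matrix (Fin a) (Fin a) F) *
        σ.toRingHom.mapMatrix (v : Matrix (Fin a) (Fin a) F)) := by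
    intro j
    obtain ⟨g, hg, hgj⟩ := htr 0 j
    obtain ⟨τ, gs, hrep⟩ := h g hg
    obtain ⟨μ, hμ, hgram⟩ := rep_gram one_ne_zero hform1 (hsim hg) hrep
    obtain ⟨c, -, hc, -⟩ := pureMat_factor hgram hμ fun i => (A i).ne_zero
    have h0 := hc 0
    rw [hτ 0 j g hg hgj τ gs hrep] at h0
    refine ⟨(gs 0)⁻¹, c 0, ?_⟩
    have h2 : (((gs 0)⁻¹ : GL (Fin a) F) : Matrix (Fin a) (Fin a) F)ᵀ *
        (gs 0 : Matrix (Fin a) (Fin a) F)ᵀ = 1 := by
      rw [← Matrix.transpose_mul, Units.mul_inv, Matrix.transpose_one]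
    calc (A j : Matrix (Fin a) (Fin a) F)
        = ((((gs 0)⁻¹ : GL (Fin a) F) : Matrix (Fin a) (Fin a) F)ᵀ *
            (gs 0 : Matrix (Fin a) (Fin a) F)ᵀ) * (A j : Matrix (Fin a) (Fin a) F) *
          (σ.toRingHom.mapMatrix (gs 0 : Matrix (Fin a) (Fin a) F) *
            σ.toRingHom.mapMatrix (((gs 0)⁻¹ : GL (Fin a) F) : Matrix (Fin a) (Fin a) F)) := by
          rw [h2, one_mul, ← map_mul, Units.mul_inv, map_one, mul_one]
      _ = (((gs 0)⁻¹ : GL (Fin a) F) : Matrix (Fin a) (Fin a) F)ᵀ *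
            ((gs 0 : Matrix (Fin a) (Fin a) F)ᵀ * (A j : Matrix (Fin a) (Fin a) F) *
              σ.toRingHom.mapMatrix (gs 0 : Matrix (Fin a) (Fin a) F)) *
            σ.toRingHom.mapMatrix (((gs 0)⁻¹ : GL (Fin a) F) : Matrix (Fin a) (Fin a) F) := by
          simp only [mul_assoc]
      _ = _ := by rw [h0, Matrix.mul_smul, Matrix.smul_mul]
  choose v c hvc using hcongr
  refine wreathSplit_of_congr hf hsim hform (A 0) hvc (hd 0).2 ?_ h
  -- the perfect group on the first factor
  obtain ⟨E, hEH, hEp, -, hsp⟩ := hE 0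
  let ψ : GL (Fin a) F →* GL ι F := Units.map (φ 0).toRingHom.toMonoidHom
  have hinj : Function.Injective (φ 0) := by
    intro X Y hXY
    rw [← hΦ, ← hΦ] at hXY
    exact (pureAtHom (F := F) (k := k) 0).toRingHom.injective (Φ.injective hXY)
  have hψinj : Function.Injective ψ := fun x y hxy =>
    Units.ext (hinj (congrArg Units.val hxy))
  have hrange : E ≤ ψ.range := by
    intro g hg
    obtain ⟨X, hX⟩ : (g : Matrix ι ι F) ∈ (φ 0).range := hsp ▸ coe_mem_spanAlg hg
    obtain ⟨Y, hY⟩ : ((g⁻¹ : GL ι F) : Matrix ι ι F) ∈ (φ 0).range :=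
      hsp ▸ coe_mem_spanAlg (inv_mem hg)
    change φ 0 X = _ at hX
    change φ 0 Y = _ at hY
    exact ⟨⟨X, Y, hinj (by rw [map_mul, hX, hY, Units.mul_inv, map_one]),
      hinj (by rw [map_mul, hX, hY, Units.inv_mul, map_one])⟩, Units.ext hX⟩
  set E' := E.comap ψ with hE'
  have hmap : E'.map ψ = E := by rw [hE', Subgroup.map_comap_eq, inf_eq_right.2 hrange]
  have hperf : ⁅E', E'⁆ = E' :=
    Subgroup.map_injective hψinj (by rw [Subgroup.map_commutator, hmap, hEp])
  have htop : spanAlg E' = ⊤ := by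
    refine Algebra.eq_top_iff.2 fun X => ?_
    have hX : φ 0 X ∈ spanAlg E := hsp ▸ ⟨X, rfl⟩
    obtain ⟨Y, hY, hYX⟩ : ∃ Y ∈ spanAlg E', φ 0 Y = φ 0 X :=
      spanAlg_induction (p := fun z => ∃ Y ∈ spanAlg E', φ 0 Y = z) (fun u hu => by
          obtain ⟨v', hv'⟩ := hrange hu
          exact ⟨v', coe_mem_spanAlg (show v' ∈ E' by rw [hE', Subgroup.mem_comap, hv']; exact hu),
            congrArg Units.val hv'⟩)
        ⟨0, zero_mem _, map_zero _⟩
        (fun x y ⟨X', hX', hx⟩ ⟨Y', hY', hy⟩ => ⟨X' + Y', add_mem hX' hY', by rw [map_add, hx, hy]⟩)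
        (fun r x ⟨X', hX', hx⟩ => ⟨r • X', Subalgebra.smul_mem _ hX' r, by rw [map_smul, hx]⟩) hX
    exact hinj hYX ▸ hY
  have hsimA : ∀ x ∈ E', ∃ e : F, e ≠ 0 ∧ (x : Matrix (Fin a) (Fin a) F)ᵀ *
      (A 0 : Matrix (Fin a) (Fin a) F) * σ.toRingHom.mapMatrix (x : Matrix (Fin a) (Fin a) F) =
        e • (A 0 : Matrix (Fin a) (Fin a) F) := by
    intro x hx
    have hxH : ψ x ∈ Geo.similarityGroup f := hsim (hEH hx)
    have hrep : ((ψ x : GL ι F) : Matrix ι ι F) = cj P (((permGL (factorPerm (Equiv.refl (Fin k))) *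
        pureGL (Function.update (fun _ => 1) 0 x) : GL (Fin k → Fin a) F) :
          Matrix (Fin k → Fin a) (Fin k → Fin a) F).submatrix eq eq) := by
      have hone : permGL (factorPerm (Equiv.refl (Fin k))) = (1 : GL (Fin k → Fin a) F) :=
        Units.ext (by ext r s; rfl)
      rw [hone, one_mul, pureGL_val]
      show φ 0 (x : Matrix (Fin a) (Fin a) F) = _
      rw [hφ, pureAt]
      congr 3
      funext i
      by_cases hi : i = 0
      · subst hi; simp
      · simp [Function.update_of_ne hi]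
    obtain ⟨μ, hμ, hgram⟩ := rep_gram one_ne_zero hform1 hxH hrep
    obtain ⟨c', hc0, hc', -⟩ := pureMat_factor hgram hμ fun i => (A i).ne_zero
    refine ⟨c' 0, hc0 0, ?_⟩
    simpa using hc' 0
  have hherm : IsHermLike σ (d 0) (sesqOf σ (A 0 : Matrix (Fin a) (Fin a) F)) :=
    isHermLike_sesqOf hf.invol (A 0).isUnit (hd 0).2
  have hle : E' ≤ Geo.similarityGroup (sesqOf σ (A 0 : Matrix (Fin a) (Fin a) F)) := fun x hx => by
    obtain ⟨e, he, hxe⟩ := hsimA x hx
    exact ⟨Units.mk0 e he, fun u w => by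
      rw [sesqOf_mulVec, hxe]
      simp [sesqOf, Matrix.smul_mulVec, dotProduct_smul]⟩
  refine ⟨E', hperf, htop, fun x hx => gram_ext (σ := σ) fun u w => ?_⟩
  rw [← sesqOf_mulVec]
  exact le_isoGroup_of_perfect hherm hle hperf hx u w

/-! ### Exceptions -/

/-- The unitary group in three dimensions over four elements has no perfect subgroups. -/
lemma eq_bot_of_perfect_unitary (hq : Fintype.card F = 4) (hσ : σ ≠ RingEquiv.refl F)
    (hinv : ∀ a, σ (σ a) = a) {E : Subgroup (GL (Fin 3) F)} (hE : ⁅E, E⁆ = E)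
    (hiso : ∀ g ∈ E, (g : Matrix (Fin 3) (Fin 3) F)ᵀ *
      σ.toRingHom.mapMatrix (g : Matrix (Fin 3) (Fin 3) F) = 1) : E = ⊥ := by
  classical
  have hsq : ∀ x, σ x = x * x := fun x => by
    have h := card_eq_sq hσ hinv
    rw [Nat.card_eq_fintype_card, hq] at h
    have h2 : Nat.card (fixedField σ) = 2 :=
      (Nat.pow_left_injective two_ne_zero (show 2 ^ 2 = _ from h)).symm
    rw [apply_eq_pow hσ hinv, h2, sq]
  have h2 : (2 : F) = 0 := by
    have h4 := FiniteField.cast_card_eq_zero F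
    rw [hq] at h4
    push_cast at h4
    exact mul_self_eq_zero.1 (by linear_combination h4)
  have hcube : ∀ x : F, x ≠ 0 → x * x * x = 1 := fun x hx => by
    have h := FiniteField.pow_card_sub_one_eq_one x hx
    rw [hq] at h
    linear_combination h
  let f : (Fin 3 → F) → (Fin 3 → F) → F := fun u w =>
    u 0 * (w 0 * w 0) + u 1 * (w 1 * w 1) + u 2 * (w 2 * w 2)
  let I : (Fin 3 → F) → F := fun v => v 0 * v 1 * v 2
  let R : (Fin 3 → F) → (Fin 3 → F) → Prop := fun u w => f u w = 0 ∨ ∃ c : F, u = c • w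
  have hfg : ∀ g ∈ E, ∀ u w, f ((g : Matrix (Fin 3) (Fin 3) F) *ᵥ u)
      ((g : Matrix (Fin 3) (Fin 3) F) *ᵥ w) = f u w := by
    intro g hg u w
    have hfs : ∀ u w, f u w = sesqOf σ (1 : Matrix (Fin 3) (Fin 3) F) u w := fun u w => by
      simp [f, sesqOf, dotProduct, Fin.sum_univ_three, Matrix.one_mulVec, hsq]
    rw [hfs, hfs, sesqOf_mulVec, mul_one, hiso g hg]
  -- the vectors of norm one
  have hshape : ∀ v, f v v = 1 → I v = 0 → ∃ (i : Fin 3) (c : F), c ≠ 0 ∧ v = c • Pi.single i 1 := by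
    intro v hv hI
    have hn : ∀ i, v i ≠ 0 → v i * (v i * v i) = 1 := fun i hi => by
      rw [← mul_assoc]; exact hcube _ hi
    have mk : ∀ i, (∀ j, j ≠ i → v j = 0) → v i ≠ 0 →
        ∃ (i : Fin 3) (c : F), c ≠ 0 ∧ v = c • Pi.single i 1 := fun i hz hi =>
      ⟨i, v i, hi, funext fun j => by
        by_cases hj : j = i
        · subst hj; simp
        · simp [hj, hz j hj]⟩
    simp only [f] at hv
    simp only [I, mul_eq_zero] at hI
    by_cases h0 : v 0 = 0 <;> by_cases h1 : v 1 = 0 <;> by_cases hh2 : v 2 = 0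
    · simp [h0, h1, hh2] at hv
    · exact mk 2 (fun j hj => by fin_cases j <;> simp_all) hh2
    · exact mk 1 (fun j hj => by fin_cases j <;> simp_all) h1
    · rw [h0, hn 1 h1, hn 2 hh2, zero_mul, zero_add] at hv
      exact absurd hv (fun h => one_ne_zero (by linear_combination h2 - h))
    · exact mk 0 (fun j hj => by fin_cases j <;> simp_all) h0
    · rw [hn 0 h0, h1, hn 2 hh2, zero_mul, add_zero] at hv
      exact absurd hv (fun h => one_ne_zero (by linear_combination h2 - h))
    · rw [hn 0 h0, hn 1 h1, hh2, zero_mul, add_zero] at hv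
      exact absurd hv (fun h => one_ne_zero (by linear_combination h2 - h))
    · simp [h0, h1, hh2] at hI
  have hIsmul : ∀ (c : F) v, c ≠ 0 → I (c • v) = I v := fun c v hc => by
    simp only [I, Pi.smul_apply, smul_eq_mul]
    linear_combination (v 0 * v 1 * v 2) * hcube c hc
  have hkey : ∀ u w, f u u = 1 → f w w = 1 → (I u = I w ↔ R u w) := by
    intro u w hu hw
    have hwne : ∀ c : F, u = c • w → c ≠ 0 := fun c hc h0 => by
      rw [h0, zero_smul] at hc
      simp [f, hc] at hu
    by_cases hIu : I u = 0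
    · obtain ⟨i, c, hc, rfl⟩ := hshape u hu hIu
      by_cases hIw : I w = 0
      · obtain ⟨j, d, hd, rfl⟩ := hshape w hw hIw
        refine iff_of_true (hIu.trans hIw.symm) ?_
        by_cases hij : i = j
        · subst hij
          exact Or.inr ⟨c / d, by rw [smul_smul, div_mul_cancel₀ _ hd]⟩
        · left
          fin_cases i <;> fin_cases j <;> simp_all [f]
      · refine iff_of_false (fun h => hIw (h.symm.trans hIu)) ?_
        rintro (h | ⟨e, he⟩)
        · have hw' : w i ≠ 0 := fun h0 => hIw (by fin_cases i <;> simp_all [I])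
          have : f (c • Pi.single i 1) w = c * (w i * w i) := by fin_cases i <;> simp [f]
          rw [this] at h
          exact mul_ne_zero hc (mul_ne_zero hw' hw') h
        · rw [he, hIsmul _ _ (hwne e he)] at hIu
          exact hIw hIu
    · by_cases hIw : I w = 0
      · refine iff_of_false (fun h => hIu (h.trans hIw)) ?_
        rintro (h | ⟨e, he⟩)
        · obtain ⟨j, d, hd, rfl⟩ := hshape w hw hIw
          have hu' : u j ≠ 0 := fun h0 => hIu (by fin_cases j <;> simp_all [I])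
          have : f u (d • Pi.single j 1) = u j * (d * d) := by fin_cases j <;> simp [f]
          rw [this] at h
          exact mul_ne_zero hu' (mul_ne_zero hd hd) h
        · rw [he, hIsmul _ _ (hwne e he)] at hIu
          exact hIu hIw
      · -- all coordinates non-zero
        have hu0 : ∀ i, u i ≠ 0 := fun i h0 => hIu (by fin_cases i <;> simp_all [I])
        have hw0 : ∀ i, w i ≠ 0 := fun i h0 => hIw (by fin_cases i <;> simp_all [I])
        let s : Fin 3 → F := fun i => u i / w i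
        have hs0 : ∀ i, s i ≠ 0 := fun i => div_ne_zero (hu0 i) (hw0 i)
        have hus : ∀ i, u i = s i * w i := fun i => (div_mul_cancel₀ _ (hw0 i)).symm
        have hfs : f u w = s 0 + s 1 + s 2 := by
          simp only [f]
          rw [hus 0, hus 1, hus 2]
          linear_combination s 0 * hcube _ (hw0 0) + s 1 * hcube _ (hw0 1) + s 2 * hcube _ (hw0 2)
        have hIs : I u = s 0 * s 1 * s 2 * I w := by
          simp only [I]; rw [hus 0, hus 1, hus 2]; ring
        constructor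
        · intro h
          have hprod : s 0 * s 1 * s 2 = 1 :=
            mul_right_cancel₀ hIw (by rw [one_mul, ← hIs, h])
          by_cases h01 : s 0 = s 1
          · right
            refine ⟨s 0, funext fun i => ?_⟩
            have h20 : s 2 = s 0 := by
              refine mul_left_cancel₀ (mul_ne_zero (hs0 0) (hs0 0)) ?_
              rw [hcube _ (hs0 0)]
              conv_lhs => arg 1; arg 2; rw [h01]
              exact hprod
            rw [Pi.smul_apply, smul_eq_mul, hus i]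
            fin_cases i <;> simp [← h01, h20]
          · left
            rw [hfs]
            -- distinct cube roots of unity
            have hq : s 0 * s 0 + s 0 * s 1 + s 1 * s 1 = 0 := by
              refine (mul_eq_zero.1 ?_).resolve_left (sub_ne_zero.2 h01)
              linear_combination hcube _ (hs0 0) - hcube _ (hs0 1)
            refine (mul_eq_zero.1 (show (s 0 * s 1) * (s 0 + s 1 + s 2) = 0 from ?_)).resolve_left
              (mul_ne_zero (hs0 0) (hs0 1))
            have h3 : (s 0 + s 1) * (s 0 + s 1) = s 0 * s 1 := by linear_combination hq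
            have hne : s 0 + s 1 ≠ 0 := fun h0 => mul_ne_zero (hs0 0) (hs0 1)
              (by rw [← h3, h0, mul_zero])
            have h4 := hcube _ hne
            rw [h3] at h4
            linear_combination h4 + hprod - h2 * 0 + h2
        · rintro (h | ⟨c, hc⟩)
          · rw [hfs] at h
            have h01 : s 0 ≠ s 1 := fun h01 => hs0 2 (by linear_combination h + h01 - s 0 * h2)
            have hq : s 0 * s 0 + s 0 * s 1 + s 1 * s 1 = 0 := by
              refine (mul_eq_zero.1 ?_).resolve_left (sub_ne_zero.2 h01)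
              linear_combination hcube _ (hs0 0) - hcube _ (hs0 1)
            have h3 : (s 0 + s 1) * (s 0 + s 1) = s 0 * s 1 := by linear_combination hq
            have hne : s 0 + s 1 ≠ 0 := fun h0 => mul_ne_zero (hs0 0) (hs0 1)
              (by rw [← h3, h0, mul_zero])
            have h4 := hcube _ hne
            rw [h3] at h4
            rw [hIs, show s 2 = s 0 + s 1 by linear_combination h - (s 0 + s 1) * h2, h4, one_mul]
          · rw [hc, hIsmul _ _ (hwne c hc)]
  let rep : F → (Fin 3 → F) := fun t => if t = 0 then Pi.single 0 1 else ![t, 1, 1]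
  have hrep : ∀ t, f (rep t) (rep t) = 1 ∧ I (rep t) = t := fun t => by
    by_cases ht : t = 0
    · subst ht; simp [rep, f, I]
    · simp only [rep, if_neg ht]
      refine ⟨?_, by simp [I]⟩
      simp [f]
      linear_combination hcube t ht + h2
  let p : E → F → F := fun g t => I (((g : GL (Fin 3) F) : Matrix (Fin 3) (Fin 3) F) *ᵥ rep t)
  have hp : ∀ (g : E) v, f v v = 1 →
      I (((g : GL (Fin 3) F) : Matrix (Fin 3) (Fin 3) F) *ᵥ v) = p g (I v) := by
    intro g v hv
    refine (hkey _ _ (by rw [hfg _ g.2]; exact hv) (by rw [hfg _ g.2]; exact (hrep _).1)).2 ?_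
    rcases (hkey v (rep (I v)) hv (hrep _).1).1 (hrep _).2.symm with h | ⟨c, hc⟩
    · exact Or.inl (by rw [hfg _ g.2]; exact h)
    · exact Or.inr ⟨c, by conv_lhs => rw [hc, Matrix.mulVec_smul]⟩
  have hpmul : ∀ (g h : E) t, p (g * h) t = p g (p h t) := fun g h t => by
    show I _ = _
    rw [Subgroup.coe_mul, Units.val_mul, ← Matrix.mulVec_mulVec,
      hp g _ (by rw [hfg _ h.2]; exact (hrep t).1)]
  have hpone : ∀ t, p 1 t = t := fun t => by
    show I _ = _
    rw [Subgroup.coe_one, Units.val_one, Matrix.one_mulVec]; exact (hrep t).2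
  let φ : E →* Equiv.Perm F :=
    { toFun := fun g =>
        { toFun := p g
          invFun := p g⁻¹
          left_inv := fun i => by rw [← hpmul, inv_mul_cancel, hpone]
          right_inv := fun i => by rw [← hpmul, mul_inv_cancel, hpone] }
      map_one' := Equiv.ext hpone
      map_mul' := fun g h => Equiv.ext (hpmul g h) }
  haveI : Group.IsSolvable (Equiv.Perm F) :=
    Cfsg.Agent.Char.isSolvable_of_card_pq 2 3 Nat.prime_two Nat.prime_three _ _ rfl
      ⟨3, 1, by rw [Nat.card_perm, Nat.card_eq_fintype_card, hq]; rfl⟩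
  refine eq_bot_of_monomial (by norm_num) hE fun g hg i => ?_
  have hsingle : f (Pi.single i 1) (Pi.single i 1) = 1 ∧ I (Pi.single i 1) = 0 := by
    fin_cases i <;> simp [f, I]
  have h0 : I ((g : Matrix (Fin 3) (Fin 3) F) *ᵥ Pi.single i 1) = 0 := by
    rw [hp ⟨g, hg⟩ _ hsingle.1, hsingle.2]
    exact congrArg (fun π : Equiv.Perm F => π 0) (map_eq_one_of_perfect hE φ ⟨g, hg⟩)
  obtain ⟨j, c, -, hc⟩ := hshape _ (by rw [hfg g hg]; exact hsingle.1) h0
  exact ⟨j, c, hc⟩

end Cfsg.Agent.Aschbacher
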