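import Cfsg.Agent.Lib.Aschbacher.Algebra

/-!
The algebra spanned by a matrix group, absolute irreducibility, and the first trichotomy for an
algebra normalised by an irreducible group.
-/

set_option autoImplicit false

namespace Cfsg.Agent.Aschbacher

open scoped MatrixGroups Matrix Kronecker
open Matrix

variable {ι : Type} [Fintype ι] [DecidableEq ι] {F : Type*} [Field F]

/-- The algebra spanned by a matrix group. -/
def spanAlg (L : Subgroup (GL ι F)) : Subalgebra F (Matrix ι ι F) :=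
  Algebra.adjoin F (Geo.matrixSet L)

lemma coe_mem_spanAlg {L : Subgroup (GL ι F)} {g : GL ι F} (hg : g ∈ L) :
    (g : Matrix ι ι F) ∈ spanAlg L :=
  Algebra.subset_adjoin ⟨g, hg, rfl⟩

lemma spanAlg_induction {L : Subgroup (GL ι F)} {p : Matrix ι ι F → Prop}
    (hL : ∀ g ∈ L, p (g : Matrix ι ι F)) (h0 : p 0) (hadd : ∀ x y, p x → p y → p (x + y))
    (hsmul : ∀ (c : F) x, p x → p (c • x)) {x : Matrix ι ι F} (hx : x ∈ spanAlg L) : p x := by
  have h : x ∈ Submodule.span F (Submonoid.closure (Geo.matrixSet L) : Set (Matrix ι ι F)) := by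
    rw [← Algebra.adjoin_eq_span]; exact hx
  refine Submodule.span_induction (fun y hy => ?_) h0 (fun a b _ _ => hadd a b)
    (fun c a _ => hsmul c a) h
  have hmono : Submonoid.closure (Geo.matrixSet L) ≤
      L.toSubmonoid.map (Units.coeHom (Matrix ι ι F)) :=
    Submonoid.closure_le.2 fun _ hz => hz
  obtain ⟨g, hg, rfl⟩ := hmono hy
  exact hL g hg

lemma spanAlg_mono {L K : Subgroup (GL ι F)} (h : L ≤ K) : spanAlg L ≤ spanAlg K :=
  Algebra.adjoin_mono (Set.image_mono h)

lemma normalises_spanAlg {H L : Subgroup (GL ι F)}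
    (hn : ∀ g ∈ H, ∀ x ∈ L, g * x * g⁻¹ ∈ L) :
    Normalises H (spanAlg L : Set (Matrix ι ι F)) := by
  intro g hg x hx
  refine spanAlg_induction (p := fun y => cj g y ∈ spanAlg L) (fun k hk => ?_) ?_ ?_ ?_ hx
  · rw [cj_coe]; exact coe_mem_spanAlg (hn g hg k hk)
  · simp
  · intro a b ha hb; rw [map_add]; exact add_mem ha hb
  · intro c a ha; rw [map_smul]; exact (spanAlg L).smul_mem ha c

/-- A matrix commuting with a group commutes with the algebra it spans. -/
lemma commute_spanAlg {L : Subgroup (GL ι F)} {x : Matrix ι ι F}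
    (h : ∀ g ∈ L, (g : Matrix ι ι F) * x = x * (g : Matrix ι ι F)) {y : Matrix ι ι F}
    (hy : y ∈ spanAlg L) : y * x = x * y := by
  refine spanAlg_induction (p := fun z => z * x = x * z) h (by simp) ?_ ?_ hy
  · intro a b ha hb; rw [add_mul, mul_add, ha, hb]
  · intro c a ha; rw [smul_mul_assoc, mul_smul_comm, ha]

lemma mem_scalars_iff_mem_bot (g : GL ι F) :
    g ∈ Geo.scalars ι F ↔ (g : Matrix ι ι F) ∈ (⊥ : Subalgebra F (Matrix ι ι F)) := by
  rw [Geo.mem_scalars_iff, Algebra.mem_bot]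
  constructor
  · rintro ⟨c, hc⟩; exact ⟨c, by rw [hc, Algebra.algebraMap_eq_smul_one]⟩
  · rintro ⟨c, hc⟩
    rcases isEmpty_or_nonempty ι with h | h
    · exact ⟨1, Subsingleton.elim _ _⟩
    · have hc0 : c ≠ 0 := fun h0 => g.ne_zero (by rw [← hc, h0, map_zero])
      exact ⟨Units.mk0 c hc0, by simp [← hc, Algebra.algebraMap_eq_smul_one]⟩

lemma le_scalars_iff {L : Subgroup (GL ι F)} : L ≤ Geo.scalars ι F ↔ spanAlg L = ⊥ := by
  constructor
  · intro h
    refine eq_bot_iff.2 fun x hx => ?_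
    exact spanAlg_induction (p := fun y => y ∈ (⊥ : Subalgebra F (Matrix ι ι F)))
      (fun g hg => (mem_scalars_iff_mem_bot g).1 (h hg)) (zero_mem _) (fun _ _ => add_mem)
      (fun c y hy => Subalgebra.smul_mem _ hy c) hx
  · exact fun h g hg => (mem_scalars_iff_mem_bot g).2 (h ▸ coe_mem_spanAlg hg)

lemma scalars_comm {z : GL ι F} (hz : z ∈ Geo.scalars ι F) (g : GL ι F) : z * g = g * z := by
  obtain ⟨c, hc⟩ := (Geo.mem_scalars_iff z).1 hz
  exact Units.ext (by rw [Units.val_mul, Units.val_mul, hc]; simp)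

/-- A group whose span is everything acts absolutely irreducibly. -/
lemma absIrred_of_spanAlg_eq_top {L : Subgroup (GL ι F)} (h : spanAlg L = ⊤) :
    Geo.ActsAbsolutelyIrreducibly (Geo.matrixSet L) := by
  constructor
  · intro W hW
    by_cases h0 : W = ⊥
    · exact Or.inl h0
    right
    obtain ⟨v, hv, hv0⟩ := Submodule.exists_mem_ne_zero_of_ne_bot h0
    obtain ⟨i, hi⟩ : ∃ i, v i ≠ 0 := Function.ne_iff.1 hv0
    have hall : ∀ x ∈ spanAlg L, ∀ w ∈ W, x *ᵥ w ∈ W := by
      intro x hx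
      refine spanAlg_induction (p := fun y => ∀ w ∈ W, y *ᵥ w ∈ W) ?_ ?_ ?_ ?_ hx
      · intro g hg w hw
        exact hW _ ⟨g, hg, rfl⟩ ⟨w, hw, Matrix.toLin'_apply _ _⟩
      · intro w _; simp
      · intro a b ha hb w hw; rw [Matrix.add_mulVec]; exact add_mem (ha w hw) (hb w hw)
      · intro c a ha w hw; rw [Matrix.smul_mulVec]; exact W.smul_mem c (ha w hw)
    refine eq_top_iff.2 fun u _ => ?_
    have hu : Matrix.vecMulVec u (Pi.single i (v i)⁻¹) *ᵥ v = u := by
      rw [Matrix.vecMulVec_mulVec]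
      simp [single_dotProduct, hi]
    rw [← hu]
    exact hall _ (h ▸ Algebra.mem_top) v hv
  · intro M hM
    have hM' : M ∈ Set.center (Matrix ι ι F) := by
      rw [Semigroup.mem_center_iff]
      intro y
      exact commute_spanAlg (fun g hg => (hM _ ⟨g, hg, rfl⟩).symm) (h ▸ Algebra.mem_top)
    obtain ⟨c, hc⟩ := Matrix.mem_range_scalar_of_commute_single (M := M) (fun i j _ =>
      (Semigroup.mem_center_iff.1 hM' (Matrix.single i j 1)))
    exact ⟨c, by rw [← hc]; simp [Matrix.smul_one_eq_diagonal]⟩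

variable [Fintype F]

/-- An absolutely irreducible group spans the whole matrix algebra. -/
lemma spanAlg_eq_top [Nonempty ι] {L : Subgroup (GL ι F)}
    (h : Geo.ActsAbsolutelyIrreducibly (Geo.matrixSet L)) : spanAlg L = ⊤ := by
  have hn : Normalises L (spanAlg L : Set (Matrix ι ι F)) :=
    normalises_spanAlg fun g hg x hx => L.mul_mem (L.mul_mem hg hx) (L.inv_mem hg)
  have hcomm : ∀ x : Matrix ι ι F, (∀ g ∈ L, (g : Matrix ι ι F) * x = x * (g : Matrix ι ι F)) →
      x ∈ (⊥ : Subalgebra F (Matrix ι ι F)) := by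
    intro x hx
    obtain ⟨c, rfl⟩ := h.2 x (by rintro _ ⟨g, hg, rfl⟩; exact (hx g hg).symm)
    exact Subalgebra.smul_mem _ (one_mem _) c
  have hZ : centre (spanAlg L) = ⊥ :=
    eq_bot_iff.2 fun x hx => hcomm x fun g hg => hx.2 _ (coe_mem_spanAlg hg)
  obtain ⟨a, b, eq, P, hP⟩ := exists_kemb_range h.1 hn hZ
  obtain ⟨⟨i, s⟩⟩ : Nonempty (Fin a × Fin b) := ⟨eq (Classical.arbitrary ι)⟩
  haveI : Nonempty (Fin a) := ⟨i⟩
  haveI : Nonempty (Fin b) := ⟨s⟩
  have hY : ∀ Y : Matrix (Fin b) (Fin b) F, kembR eq P Y ∈ (⊥ : Subalgebra F (Matrix ι ι F)) := by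
    intro Y
    refine hcomm _ fun g hg => ?_
    have hg' := hP ▸ coe_mem_spanAlg hg
    obtain ⟨X, hX⟩ := hg'
    rw [← hX]
    exact (kemb_mul_kembR eq P X Y).trans (kembR_mul_kemb eq P X Y).symm
  have hb : b = 1 := by
    by_contra hne
    obtain ⟨t, ht⟩ : ∃ t : Fin b, t ≠ s := by
      haveI : Nontrivial (Fin b) := by
        refine Fin.nontrivial_iff_two_le.2 ?_
        have := s.pos
        omega
      exact exists_ne s
    obtain ⟨c, hc⟩ := Algebra.mem_bot.1 (hY (Matrix.single s s 1))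
    rw [← AlgHom.commutes (kembR eq P)] at hc
    have h2 := kembR_injective eq P hc
    have hs := congrFun (congrFun h2 s) s
    have ht' := congrFun (congrFun h2 t) t
    simp [Matrix.algebraMap_matrix_apply, Ne.symm ht] at hs ht'
    exact one_ne_zero (hs.symm.trans ht')
  subst hb
  rw [hP]
  refine Algebra.eq_top_iff.2 fun x => ?_
  have hsurj : Function.Surjective (kemb eq P).toLinearMap := by
    refine (LinearMap.injective_iff_surjective_of_finrank_eq_finrank ?_).1 (kemb_injective eq P)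
    rw [Module.finrank_matrix, Module.finrank_matrix, Fintype.card_congr eq]
    simp
  obtain ⟨X, hX⟩ := hsurj x
  exact ⟨X, hX⟩

/-- Field subalgebras of prime degree inside a field subalgebra. -/
lemma exists_prime_subfield {H : Subgroup (GL ι F)} [Nonempty ι]
    {C : Subalgebra F (Matrix ι ι F)} {d : ℕ} (hC : Geo.IsFieldSubalgebra d C)
    (hn : Normalises H (C : Set (Matrix ι ι F))) (hd : 1 < d) :
    ∃ (r : ℕ) (K : Subalgebra F (Matrix ι ι F)), r.Prime ∧ r ∣ d ∧ K ≤ C ∧
      Geo.IsFieldSubalgebra r K ∧ Normalises H (K : Set (Matrix ι ι F)) ∧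
      (K : Set (Matrix ι ι F)) = {x | x ∈ C ∧ x ^ (Fintype.card F ^ r) = x} := by
  classical
  obtain ⟨r, hr, hrd⟩ := Nat.exists_prime_and_dvd (show d ≠ 1 by omega)
  set q := Fintype.card F with hq
  obtain ⟨p, _⟩ := CharP.exists F
  haveI := Fact.mk (CharP.char_is_prime F p)
  obtain ⟨e, -, he⟩ := FiniteField.card F p
  haveI : CharP (Matrix ι ι F) p := inferInstance
  haveI : Nontrivial C := ⟨⟨0, 1, fun h => zero_ne_one (congrArg Subtype.val h)⟩⟩
  letI instRing : CommRing C := { (inferInstance : Ring C) with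
    mul_comm := fun a b => Subtype.ext (hC.comm _ a.2 _ b.2) }
  have hfield : IsField C :=
    { exists_pair_ne := exists_pair_ne _
      mul_comm := fun a b => Subtype.ext (hC.comm _ a.2 _ b.2)
      mul_inv_cancel := fun {a} ha => by
        obtain ⟨y, hy, hxy⟩ := hC.inv a.1 a.2 fun h => ha (Subtype.ext h)
        exact ⟨⟨y, hy⟩, Subtype.ext hxy⟩ }
  letI : Field C := hfield.toField
  have hcard : Nat.card C = q ^ d := by
    rw [Module.natCard_eq_pow_finrank (K := F) (V := C), hC.finrank_eq, Nat.card_eq_fintype_card]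
  have hqr : q ^ r = p ^ ((e : ℕ) * r) := by rw [hq, he, ← pow_mul]
  haveI : CharP C p := CharP.subring (Matrix ι ι F) p C.toSubring
  let K : Subalgebra F (Matrix ι ι F) :=
    { carrier := {x | x ∈ C ∧ x ^ (q ^ r) = x}
      mul_mem' := fun {a b} ha hb =>
        ⟨mul_mem ha.1 hb.1, by rw [Commute.mul_pow (show Commute a b from hC.comm a ha.1 b hb.1), ha.2, hb.2]⟩
      one_mem' := ⟨one_mem C, one_pow _⟩
      add_mem' := fun {a b} ha hb => ⟨add_mem ha.1 hb.1, by
        have h := add_pow_char_pow_of_commute (p := p) (n := (e : ℕ) * r) (show Commute a b from hC.comm a ha.1 b hb.1)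
        rw [hqr, h, ← hqr, ha.2, hb.2]⟩
      zero_mem' := ⟨zero_mem C, zero_pow (pow_ne_zero _ Fintype.card_ne_zero)⟩
      algebraMap_mem' := fun c => ⟨C.algebraMap_mem c, by
        rw [← map_pow, FiniteField.pow_card_pow]⟩ }
  have hKC : K ≤ C := fun x hx => hx.1
  have hroots : Nat.card K = q ^ r := by
    have hq1 : 1 < q := Fintype.one_lt_card
    have hr1 : 1 < q ^ r := Nat.one_lt_pow hr.ne_zero hq1
    have hdvd : q ^ r - 1 ∣ Nat.card Cˣ := by
      rw [Nat.card_units, hcard]
      exact Nat.pow_sub_one_dvd_pow_sub_one q hrd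
    have hker : Nat.card (powMonoidHom (α := Cˣ) (q ^ r - 1)).ker = q ^ r - 1 := by
      rw [IsCyclic.card_powMonoidHom_ker, Nat.gcd_eq_right hdvd]
    let ϕ : Option (powMonoidHom (α := Cˣ) (q ^ r - 1)).ker → K := fun o => match o with
      | none => 0
      | some u => ⟨((u.1 : C) : Matrix ι ι F), (u.1 : C).2, by
          have h : ((u.1 : C) ^ (q ^ r - 1) : C) = 1 := by
            have h' := congrArg Units.val (MonoidHom.mem_ker.1 u.2)
            rwa [powMonoidHom_apply, Units.val_pow_eq_pow_val, Units.val_one] at h'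
          have h2 := congrArg Subtype.val h
          simp only [SubmonoidClass.coe_pow, OneMemClass.coe_one] at h2
          calc ((u.1 : C) : Matrix ι ι F) ^ (q ^ r)
              = ((u.1 : C) : Matrix ι ι F) ^ (q ^ r - 1 + 1) :=
                congrArg (fun k => ((u.1 : C) : Matrix ι ι F) ^ k) (by omega)
            _ = _ := by rw [pow_succ, h2, one_mul]⟩
    have hbij : Function.Bijective ϕ := by
      constructor
      · intro a b hab
        have h := congrArg Subtype.val hab
        rcases a with _ | a <;> rcases b with _ | b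
        · rfl
        · exact absurd (Subtype.ext (h.symm.trans rfl) : (b.1 : C) = 0) b.1.ne_zero
        · exact absurd (Subtype.ext (h.trans rfl) : (a.1 : C) = 0) a.1.ne_zero
        · exact congrArg some (Subtype.ext (Units.ext (Subtype.ext h)))
      · rintro ⟨x, hxC, hx⟩
        by_cases h0 : x = 0
        · exact ⟨none, Subtype.ext h0.symm⟩
        have hne : (⟨x, hxC⟩ : C) ≠ 0 := fun h => h0 (congrArg Subtype.val h)
        refine ⟨some ⟨Units.mk0 _ hne, ?_⟩, rfl⟩
        have h2 : (⟨x, hxC⟩ : C) ^ (q ^ r - 1) = 1 := by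
          refine mul_right_cancel₀ hne ?_
          rw [← pow_succ, show q ^ r - 1 + 1 = q ^ r by omega, one_mul]
          exact Subtype.ext (by simpa using hx)
        rw [MonoidHom.mem_ker]
        exact Units.ext (by simpa using h2)
    rw [← Nat.card_congr (Equiv.ofBijective ϕ hbij), Finite.card_option, hker]
    omega
  refine ⟨r, K, hr, hrd, hKC,
    ⟨fun x hx y hy => hC.comm x hx.1 y hy.1, fun x hx hx0 => ?_, ?_⟩, ?_, rfl⟩
  · obtain ⟨y, hy, hxy⟩ := hC.inv x hx.1 hx0
    refine ⟨y, ⟨hy, ?_⟩, hxy⟩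
    have h1 : x ^ (q ^ r) * y ^ (q ^ r) = 1 := by
      rw [← Commute.mul_pow (show Commute x y from hC.comm x hx.1 y hy), hxy, one_pow]
    rw [hx.2] at h1
    exact (left_inv_eq_right_inv (mul_eq_one_comm.1 hxy) h1).symm
  · refine Nat.pow_right_injective (Fintype.one_lt_card : 2 ≤ q) ?_
    show q ^ Module.finrank F K = q ^ r
    rw [← hroots, Module.natCard_eq_pow_finrank (K := F) (V := K), Nat.card_eq_fintype_card]
  · rintro g hg x ⟨hx, hxr⟩
    exact ⟨hn g hg x hx, by rw [← map_pow, hxr]⟩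

end Cfsg.Agent.Aschbacher
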