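import Cfsg.Agent.Lib.Aschbacher.LinMax

/-!
Line decompositions of four-space over five elements lie in symplectic-type normalisers.
-/

set_option autoImplicit false
set_option linter.style.haveILetI false

namespace Cfsg.Agent.Aschbacher

open scoped MatrixGroups Matrix
open Matrix

section CharAbelian

variable {G : Type*} [Group G] [Finite G]

/-- In a central product of a cyclic group of order four and commuting quaternion-like pieces a
characteristic abelian subgroup is central. -/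
lemma char_abelian_le_center (z : G) (hzc : ∀ x, z * x = x * z) (hz4 : z ^ 4 = 1)
    (hcom : ∀ x y : G, x * y = y * x ∨ x * y = z ^ 2 * (y * x))
    (hsq : ∀ x : G, x ^ 2 = 1 ∨ x ^ 2 = z ^ 2) (A : Subgroup G) (hA : A.Characteristic)
    (hab : ∀ a ∈ A, ∀ b ∈ A, a * b = b * a) : A ≤ Subgroup.center G := by
  classical
  intro x hx
  rw [Subgroup.mem_center_iff]
  intro y₀
  by_contra hne
  -- replace `y₀` by an involution
  obtain ⟨w, hw2, hxw⟩ : ∃ w : G, w ^ 2 = 1 ∧ w * x ≠ x * w := by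
    rcases hsq y₀ with h | h
    · exact ⟨y₀, h, hne⟩
    · refine ⟨z * y₀, ?_, fun he => hne ?_⟩
      · rw [(show Commute z y₀ from hzc y₀).mul_pow, h, ← pow_add, hz4]
      · rw [mul_assoc, ← mul_assoc x z, ← hzc x, mul_assoc] at he
        exact mul_left_cancel he
  set v := z * w with hv
  have hvw : v * w = w * v := by rw [hv, mul_assoc, ← mul_assoc w z, ← hzc w, mul_assoc]
  have hv2 : v * v = z ^ 2 := by
    rw [← sq, hv, (show Commute z w from hzc w).mul_pow, hw2, mul_one]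
  have hz2c : ∀ a : G, z ^ 2 * a = a * z ^ 2 := fun a =>
    ((show Commute z a from hzc a).pow_left 2).eq
  have hz22 : z ^ 2 * z ^ 2 = 1 := by rw [← pow_add, hz4]
  have hvy : ∀ a : G, a * w = w * a → a * v = v * a := fun a h => by
    rw [hv, ← mul_assoc, ← hzc a, mul_assoc, h, mul_assoc]
  have hvn : ∀ a : G, a * w ≠ w * a → v * a = z ^ 2 * (a * v) := fun a h => by
    have h' := (hcom w a).resolve_left fun h' => h h'.symm
    rw [hv, mul_assoc, h', ← mul_assoc, ← hz2c z, mul_assoc, ← mul_assoc z a, hzc a, mul_assoc]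
  let f : G → G := fun a => if a * w = w * a then a else a * v
  have hf : ∀ a b : G, f (a * b) = f a * f b := by
    intro a b
    by_cases ha : a * w = w * a <;> by_cases hb : b * w = w * b
    · have hab' : a * b * w = w * (a * b) := by rw [mul_assoc, hb, ← mul_assoc, ha, mul_assoc]
      simp [f, ha, hb, hab']
    · have hab' : ¬ a * b * w = w * (a * b) := fun h => hb (mul_left_cancel (a := a) (by
        rw [← mul_assoc, h, ← mul_assoc, ← ha, mul_assoc]))
      simp only [f, if_pos ha, if_neg hb, if_neg hab']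
      rw [mul_assoc]
    · have hab' : ¬ a * b * w = w * (a * b) := fun h => ha (mul_right_cancel (b := b) (by
        rw [mul_assoc, ← hb, ← mul_assoc, h, mul_assoc]))
      simp only [f, if_neg ha, if_pos hb, if_neg hab']
      rw [mul_assoc, mul_assoc, hvy b hb]
    · have hab' : a * b * w = w * (a * b) := by
        rw [mul_assoc, (hcom b w).resolve_left hb, ← mul_assoc, ← hz2c a, mul_assoc,
          ← mul_assoc a w, (hcom a w).resolve_left ha, mul_assoc, mul_assoc, ← mul_assoc,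
          hz22, one_mul]
      simp only [f, if_neg ha, if_neg hb, if_pos hab']
      rw [mul_assoc a v, ← mul_assoc v b, hvn b hb, mul_assoc (z ^ 2), mul_assoc b v, hv2, ← hz2c,
        ← mul_assoc (z ^ 2), hz22, one_mul]
  let φ₀ : G →* G := MonoidHom.mk' f hf
  have hinj : Function.Injective φ₀ := by
    rw [injective_iff_map_eq_one]
    intro a ha
    by_contra ha1
    by_cases h : a * w = w * a
    · exact ha1 (by simpa [φ₀, f, h] using ha)
    · have ha' : a * v = 1 := by simpa [φ₀, f, h] using ha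
      refine h ?_
      rw [eq_inv_of_mul_eq_one_left ha']
      exact (Commute.inv_left (show Commute v w from hvw)).eq
  let φ : G ≃* G := MulEquiv.ofBijective φ₀ (Finite.injective_iff_bijective.1 hinj)
  have hx' : f x ∈ A := by
    have h := Subgroup.characteristic_iff_map_eq.1 hA φ
    rw [← h]
    exact ⟨x, hx, rfl⟩
  have hxw' : ¬ x * w = w * x := fun h => hxw h.symm
  simp only [f, if_neg hxw'] at hx'
  have h := hab x hx _ hx'
  rw [mul_assoc x v x] at h
  have h2 := hvn x hxw'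
  rw [← mul_left_cancel h] at h2
  refine hxw' ?_
  have hz2 : z ^ 2 = 1 := by simpa using h2.symm
  rcases hcom x w with h' | h'
  · exact h'
  · rw [h', hz2, one_mul]

end CharAbelian

variable {F : Type*} [Field F]

/-- A matrix acting monomially in a basis. -/
def MonAct (B : Module.Basis (Fin 4) F (Fin 4 → F)) (g : GL (Fin 4) F) (σ : Equiv.Perm (Fin 4))
    (c : Fin 4 → F) : Prop :=
  ∀ x i, B.repr ((g : Matrix (Fin 4) (Fin 4) F) *ᵥ x) (σ i) = c i * B.repr x i

variable {B : Module.Basis (Fin 4) F (Fin 4 → F)} {g h : GL (Fin 4) F}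
  {σ τ : Equiv.Perm (Fin 4)} {c d : Fin 4 → F}

lemma MonAct.mul (hg : MonAct B g σ c) (hh : MonAct B h τ d) :
    MonAct B (g * h) (σ * τ) (fun i => c (τ i) * d i) := fun x i => by
  rw [Units.val_mul, ← Matrix.mulVec_mulVec, Equiv.Perm.mul_apply, hg, hh, mul_assoc]

lemma MonAct.one (B : Module.Basis (Fin 4) F (Fin 4 → F)) : MonAct B 1 1 fun _ => 1 := fun x i => by
  simp

lemma MonAct.smul_eq (hg : MonAct B g σ c) (hh : MonAct B h σ d) {r : F}
    (hr : ∀ i, c i = r * d i) :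
    (g : Matrix (Fin 4) (Fin 4) F) = r • (h : Matrix (Fin 4) (Fin 4) F) := by
  refine Matrix.toLin'.injective (LinearMap.ext fun x => B.repr.injective (Finsupp.ext fun l => ?_))
  obtain ⟨i, rfl⟩ := σ.surjective l
  simp only [LinearMap.smul_apply, map_smul, Matrix.toLin'_apply, Finsupp.smul_apply, hg x i,
    hh x i, hr, smul_eq_mul, mul_assoc]

lemma MonAct.ext (hg : MonAct B g σ c) (hh : MonAct B h σ c) : g = h :=
  Units.ext (by simpa using hg.smul_eq hh (r := 1) fun i => by simp)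

lemma MonAct.ne_zero (hg : MonAct B g σ c) (i : Fin 4) : c i ≠ 0 := fun h => by
  have h1 := hg (((g⁻¹ : GL (Fin 4) F) : Matrix (Fin 4) (Fin 4) F) *ᵥ B (σ i)) i
  rw [Matrix.mulVec_mulVec, Units.mul_inv, Matrix.one_mulVec, h] at h1
  simp at h1

lemma MonAct.unique (hg : MonAct B g σ c) (hg' : MonAct B g τ d) : σ = τ ∧ c = d := by
  have h : ∀ j, σ j = τ j ∧ c j = d j := fun j => by
    by_cases hj : σ j = τ j
    · refine ⟨hj, ?_⟩
      have h1 := hg (B j) j
      rw [hj, hg' (B j) j] at h1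
      simpa using h1.symm
    · exfalso
      have h1 := hg (B j) j
      have hne : τ.symm (σ j) ≠ j := fun h => hj (by
        have := congrArg τ h; simpa using this)
      have h2 := hg' (B j) (τ.symm (σ j))
      rw [Equiv.apply_symm_apply, h1] at h2
      simp [hne.symm, hg.ne_zero j] at h2
  exact ⟨Equiv.ext fun j => (h j).1, funext fun j => (h j).2⟩

lemma MonAct.inv (hg : MonAct B g σ c) :
    MonAct B g⁻¹ σ⁻¹ (fun i => (c (σ⁻¹ i))⁻¹) := fun x i => by
  have h := hg (((g⁻¹ : GL (Fin 4) F) : Matrix (Fin 4) (Fin 4) F) *ᵥ x) (σ⁻¹ i)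
  rw [Matrix.mulVec_mulVec, Units.mul_inv, Matrix.one_mulVec,
    show σ (σ⁻¹ i) = i from σ.apply_symm_apply i] at h
  dsimp only
  rw [h, ← mul_assoc, inv_mul_cancel₀ (hg.ne_zero _), one_mul]

lemma exists_monAct (B : Module.Basis (Fin 4) F (Fin 4 → F)) (σ : Equiv.Perm (Fin 4))
    (hc : ∀ i, c i ≠ 0) : ∃ g, MonAct B g σ c := by
  let L : (Fin 4 → F) →ₗ[F] (Fin 4 → F) := B.constr F fun j => c j • B (σ j)
  have hL : ∀ x i, B.repr (L x) (σ i) = c i * B.repr x i := fun x i => by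
    rw [Module.Basis.constr_apply_fintype, map_sum, Finsupp.finsetSum_apply, Finset.sum_eq_single i]
    · simp [mul_comm, Module.Basis.equivFun_apply]
    · intro j _ hj; simp [hj]
    · simp
  have hdet : IsUnit (LinearMap.toMatrix' L).det := by
    rw [← Matrix.isUnit_iff_isUnit_det, ← Matrix.mulVec_injective_iff_isUnit]
    intro x y hxy
    refine B.repr.injective (Finsupp.ext fun i => ?_)
    have h := congrArg (fun v => B.repr v (σ i)) hxy
    simp only [LinearMap.toMatrix'_mulVec, hL] at h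
    exact mul_left_cancel₀ (hc i) h
  refine ⟨((Matrix.isUnit_iff_isUnit_det _).2 hdet).unit, fun x i => ?_⟩
  rw [IsUnit.unit_spec, LinearMap.toMatrix'_mulVec, hL]

lemma MonAct.scalar {s : GL (Fin 4) F} {a : F}
    (hs : (s : Matrix (Fin 4) (Fin 4) F) = a • (1 : Matrix (Fin 4) (Fin 4) F)) :
    MonAct B s 1 fun _ => a := fun x i => by
  simp [hs, Matrix.smul_mulVec]

/-- The fours group in the symmetric group of degree four. -/
def IsFour (σ : Equiv.Perm (Fin 4)) : Prop := σ * σ = 1 ∧ Equiv.Perm.sign σ = 1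

set_option maxRecDepth 100000 in
lemma isFour_mul : ∀ σ τ : Equiv.Perm (Fin 4),
    (σ * σ = 1 ∧ Equiv.Perm.sign σ = 1) → (τ * τ = 1 ∧ Equiv.Perm.sign τ = 1) →
      ((σ * τ) * (σ * τ) = 1 ∧ Equiv.Perm.sign (σ * τ) = 1) ∧ σ * τ = τ * σ := by
  decide

set_option maxRecDepth 100000 in
lemma isFour_cases : ∀ σ : Equiv.Perm (Fin 4), (σ * σ = 1 ∧ Equiv.Perm.sign σ = 1) →
    σ = 1 ∨ σ = Equiv.swap 0 1 * Equiv.swap 2 3 ∨ σ = Equiv.swap 0 2 * Equiv.swap 1 3 ∨
      σ = Equiv.swap 0 3 * Equiv.swap 1 2 := by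
  decide

set_option maxRecDepth 100000 in
lemma isFour_transitive : ∀ i j : Fin 4, ∃ σ : Equiv.Perm (Fin 4),
    (σ * σ = 1 ∧ Equiv.Perm.sign σ = 1) ∧ σ i = j := by
  decide

set_option maxRecDepth 100000 in
lemma isFour_card :
    Fintype.card {σ : Equiv.Perm (Fin 4) // σ * σ = 1 ∧ Equiv.Perm.sign σ = 1} = 4 := by
  decide

/-- The coefficient condition. -/
structure IsEven (c : Fin 4 → F) : Prop where
  sq : ∀ i, c i ^ 2 = c 0 ^ 2
  prod : ∏ i, c i = 1
  four : (c 0 ^ 2) ^ 2 = 1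

lemma IsEven.pair (hc : IsEven c) (hσ : IsFour σ) (i : Fin 4) :
    c (σ i) * c i = c (σ 0) * c 0 := by
  have key : ∀ a b p q : F, a * b * (p * q) = 1 → a * b * (a * b) = 1 → p * q = a * b :=
    fun a b p q h1 h2 => by linear_combination (-(p * q)) * h2 + (a * b) * h1
  have hp := hc.prod
  rw [Fin.prod_univ_four] at hp
  have h4 := hc.four
  have hs1 := hc.sq 1
  have hs2 := hc.sq 2
  have hs3 := hc.sq 3
  rcases isFour_cases σ hσ with rfl | rfl | rfl | rfl
  · simp only [Equiv.Perm.one_apply, ← pow_two]; exact hc.sq i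
  all_goals fin_cases i <;> simp [Equiv.swap_apply_def] <;>
    first
      | ring1
      | (refine key _ _ _ _ ?_ ?_
         · linear_combination hp
         · first
            | linear_combination h4 + c 0 ^ 2 * hs1
            | linear_combination h4 + c 0 ^ 2 * hs2
            | linear_combination h4 + c 0 ^ 2 * hs3)

lemma IsEven.comp_mul (hc : IsEven c) (hd : IsEven d) (hσ : IsFour σ) :
    IsEven fun i => c (σ i) * d i where
  sq i := by rw [mul_pow, mul_pow, hc.sq, hd.sq i, hc.sq (σ 0)]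
  prod := by rw [Finset.prod_mul_distrib, Equiv.prod_comp σ c, hc.prod, hd.prod, one_mul]
  four := by rw [mul_pow, mul_pow, hc.sq (σ 0), hc.four, hd.four, one_mul]

/-- The symplectic-type group attached to a basis. -/
def fourGroup (B : Module.Basis (Fin 4) F (Fin 4 → F)) : Subgroup (GL (Fin 4) F) where
  carrier := {g | ∃ σ c, MonAct B g σ c ∧ IsFour σ ∧ IsEven c}
  mul_mem' := by
    rintro g h ⟨σ, c, hg, hσ, hc⟩ ⟨τ, d, hh, hτ, hd⟩
    exact ⟨_, _, hg.mul hh, (isFour_mul σ τ hσ hτ).1, hc.comp_mul hd hτ⟩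
  one_mem' := ⟨1, _, MonAct.one B, ⟨one_mul 1, map_one _⟩, ⟨fun _ => rfl, by simp, by simp⟩⟩
  inv_mem' := by
    rintro g ⟨σ, c, hg, hσ, hc⟩
    have hinv : σ⁻¹ = σ := inv_eq_of_mul_eq_one_right hσ.1
    refine ⟨_, _, hg.inv, by rwa [hinv], ⟨fun i => ?_, ?_, ?_⟩⟩
    · rw [inv_pow, inv_pow, hc.sq, hc.sq (σ⁻¹ 0)]
    · rw [Finset.prod_inv_distrib, Equiv.prod_comp σ⁻¹ c, hc.prod, inv_one]
    · rw [inv_pow, inv_pow, hc.sq, hc.four, inv_one]

lemma mem_fourGroup : g ∈ fourGroup B ↔ ∃ σ c, MonAct B g σ c ∧ IsFour σ ∧ IsEven c := Iff.rfl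

lemma fourGroup_comm (hg : g ∈ fourGroup B) (hh : h ∈ fourGroup B) :
    ∃ r : F, r ^ 2 = 1 ∧
      (g : Matrix (Fin 4) (Fin 4) F) * h = r • ((h : Matrix (Fin 4) (Fin 4) F) * g) := by
  obtain ⟨σ, c, hg, hσ, hc⟩ := hg
  obtain ⟨τ, d, hh, hτ, hd⟩ := hh
  have hgh := hg.mul hh
  rw [(isFour_mul σ τ hσ hτ).2] at hgh
  refine ⟨c (τ 0) * c 0 * d 0 ^ 2 * ((d (σ 0) * d 0) * c 0 ^ 2)⁻¹, ?_, ?_⟩
  · rw [mul_pow, mul_pow, mul_pow, inv_pow, mul_pow, mul_pow, hc.sq (τ 0), hd.sq (σ 0),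
      ← sq (c 0 ^ 2), ← sq (d 0 ^ 2), hc.four, hd.four]
    simp
  · rw [← Units.val_mul, ← Units.val_mul]
    refine hgh.smul_eq (hh.mul hg) fun i => ?_
    have hden : d (σ 0) * d 0 * c 0 ^ 2 ≠ 0 :=
      mul_ne_zero (mul_ne_zero (hh.ne_zero _) (hh.ne_zero 0)) (pow_ne_zero _ (hg.ne_zero 0))
    have h1 := hc.pair hτ i
    have h2 := hd.pair hσ i
    have h3 := hc.sq i
    have h4 := hd.sq i
    have key : c (τ i) * d i * (d (σ 0) * d 0 * c 0 ^ 2) =
        c (τ 0) * c 0 * d 0 ^ 2 * (d (σ i) * c i) := by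
      refine mul_left_cancel₀ (mul_ne_zero (hg.ne_zero i) (hh.ne_zero i)) ?_
      linear_combination (d i ^ 2 * d (σ 0) * d 0 * c 0 ^ 2) * h1
        - (c (τ 0) * c 0 * d 0 ^ 2 * c i ^ 2) * h2
        + (c (τ 0) * c 0 * d (σ 0) * d 0 * c 0 ^ 2) * h4
        - (c (τ 0) * c 0 * d (σ 0) * d 0 * d 0 ^ 2) * h3
    rw [mul_comm _ (d (σ 0) * d 0 * c 0 ^ 2)⁻¹, mul_assoc, eq_inv_mul_iff_mul_eq₀ hden]
    linear_combination key

lemma fourGroup_sq (hg : g ∈ fourGroup B) :
    ∃ r : F, r ^ 2 = 1 ∧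
      (g : Matrix (Fin 4) (Fin 4) F) * g = r • (1 : Matrix (Fin 4) (Fin 4) F) := by
  obtain ⟨σ, c, hg, hσ, hc⟩ := hg
  refine ⟨c (σ 0) * c 0, by rw [mul_pow, hc.sq, ← sq, hc.four], ?_⟩
  have h := hg.mul hg
  rw [hσ.1] at h
  rw [← Units.val_mul, ← Units.val_one]
  exact h.smul_eq (MonAct.one B) fun i => by rw [mul_one, hc.pair hσ]

/-- The sign table. -/
def signTable : Fin 4 → Fin 4 → ℤ :=
  ![![1, 1, 1, 1], ![1, 1, -1, -1], ![1, -1, 1, -1], ![1, -1, -1, 1]]

lemma signTable_sq : ∀ a i, signTable a i * signTable a i = 1 := by decide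

lemma signTable_prod : ∀ a, ∏ i, signTable a i = 1 := by decide

lemma signTable_sum : ∀ i j, signTable 1 i * signTable 1 j + signTable 2 i * signTable 2 j +
    signTable 3 i * signTable 3 j + 1 = if i = j then 4 else 0 := by decide

lemma signTable_sep : ∀ i j, i ≠ j → ∃ a : Fin 4, a ≠ 0 ∧ signTable a i = -signTable a j := by
  decide

lemma fourGroup_absIrred (B : Module.Basis (Fin 4) F (Fin 4 → F)) (h2 : (2 : F) ≠ 0) :
    Geo.ActsAbsolutelyIrreducibly (Geo.matrixSet (fourGroup B)) := by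
  classical
  have hne : (-1 : F) ≠ 1 := fun h => h2 (by linear_combination -h)
  let Z : Fin 4 → Fin 4 → F := fun a i => (signTable a i : F)
  have hZ1 : ∀ a i, Z a i * Z a i = 1 := fun a i => by
    simp only [Z]; rw [← Int.cast_mul, signTable_sq, Int.cast_one]
  have hZ : ∀ a, a ≠ 0 → ∃ g ∈ fourGroup B, MonAct B g 1 (Z a) := fun a ha => by
    obtain ⟨g, hg⟩ := exists_monAct B (c := Z a) 1 fun i => left_ne_zero_of_mul_eq_one (hZ1 a i)
    refine ⟨g, ⟨1, Z a, hg, ⟨one_mul 1, map_one _⟩, ⟨fun i => ?_, ?_, ?_⟩⟩, hg⟩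
    · rw [sq, sq, hZ1, hZ1]
    · simp only [Z]; rw [← Int.cast_prod, signTable_prod, Int.cast_one]
    · rw [sq (Z a 0), hZ1, one_pow]
  have hX : ∀ i j, ∃ g ∈ fourGroup B, ∃ σ, MonAct B g σ (fun _ => 1) ∧ σ i = j := fun i j => by
    obtain ⟨σ, hσ, hij⟩ := isFour_transitive i j
    obtain ⟨g, hg⟩ := exists_monAct B (c := fun _ => 1) σ fun _ => one_ne_zero
    exact ⟨g, ⟨σ, _, hg, hσ, ⟨fun _ => rfl, by simp, by simp⟩⟩, σ, hg, hij⟩
  have hsum : ∀ (x : Fin 4 → F) (i j : Fin 4),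
      Z 1 i * Z 1 j + Z 2 i * Z 2 j + Z 3 i * Z 3 j + 1 = if i = j then 4 else 0 := fun x i j => by
    simp only [Z]
    exact_mod_cast congrArg (fun n : ℤ => (n : F)) (signTable_sum i j)
  have h4 : (4 : F) ≠ 0 := by
    rw [show (4 : F) = 2 * 2 by norm_num]; exact mul_ne_zero h2 h2
  refine ⟨fun W hW => ?_, fun M hM => ?_⟩
  · have hW' : ∀ g ∈ fourGroup B, ∀ v ∈ W, (g : Matrix (Fin 4) (Fin 4) F) *ᵥ v ∈ W :=
      fun g hg v hv => hW _ ⟨g, hg, rfl⟩ ⟨v, hv, Matrix.toLin'_apply _ _⟩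
    refine or_iff_not_imp_left.2 fun h0 => ?_
    obtain ⟨w, hw, hw0⟩ := Submodule.exists_mem_ne_zero_of_ne_bot h0
    obtain ⟨i, hi⟩ : ∃ i, B.repr w i ≠ 0 := by
      by_contra h
      push Not at h
      exact hw0 (B.repr.map_eq_zero_iff.1 (Finsupp.ext h))
    obtain ⟨g1, hg1, hm1⟩ := hZ 1 (by decide)
    obtain ⟨g2, hg2, hm2⟩ := hZ 2 (by decide)
    obtain ⟨g3, hg3, hm3⟩ := hZ 3 (by decide)
    have hmem : Z 1 i • ((g1 : Matrix (Fin 4) (Fin 4) F) *ᵥ w) +
        Z 2 i • ((g2 : Matrix (Fin 4) (Fin 4) F) *ᵥ w) +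
        Z 3 i • ((g3 : Matrix (Fin 4) (Fin 4) F) *ᵥ w) + w ∈ W :=
      add_mem (add_mem (add_mem (W.smul_mem _ (hW' _ hg1 _ hw)) (W.smul_mem _ (hW' _ hg2 _ hw)))
        (W.smul_mem _ (hW' _ hg3 _ hw))) hw
    have hval : Z 1 i • ((g1 : Matrix (Fin 4) (Fin 4) F) *ᵥ w) +
        Z 2 i • ((g2 : Matrix (Fin 4) (Fin 4) F) *ᵥ w) +
        Z 3 i • ((g3 : Matrix (Fin 4) (Fin 4) F) *ᵥ w) + w = (4 * B.repr w i) • B i := by
      refine B.repr.injective (Finsupp.ext fun j => ?_)
      have e1 := hm1 w j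
      have e2 := hm2 w j
      have e3 := hm3 w j
      simp only [Equiv.Perm.one_apply] at e1 e2 e3
      simp only [map_add, map_smul, Finsupp.add_apply, Finsupp.smul_apply, smul_eq_mul,
        e1, e2, e3, Module.Basis.repr_self, Finsupp.single_apply]
      have h := hsum w i j
      by_cases hij : i = j
      · subst hij
        simp only [if_true] at h ⊢
        linear_combination (B.repr w i) * h
      · simp only [if_neg hij] at h ⊢
        linear_combination (B.repr w j) * h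
    have hBi : B i ∈ W := by
      have h := W.smul_mem ((4 * B.repr w i)⁻¹) (hval ▸ hmem)
      rwa [inv_smul_smul₀ (mul_ne_zero h4 hi)] at h
    refine eq_top_iff.2 ?_
    rw [← B.span_eq, Submodule.span_le]
    rintro _ ⟨j, rfl⟩
    obtain ⟨g, hg, σ, hm, hij⟩ := hX i j
    have hgB : (g : Matrix (Fin 4) (Fin 4) F) *ᵥ B i = B j := by
      refine B.repr.injective (Finsupp.ext fun l => ?_)
      obtain ⟨l, rfl⟩ := σ.surjective l
      rw [hm, ← hij, one_mul]
      simp [Finsupp.single_apply]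
    exact hgB ▸ hW' g hg _ hBi
  · have hcomm : ∀ g ∈ fourGroup B, ∀ x, M *ᵥ ((g : Matrix (Fin 4) (Fin 4) F) *ᵥ x) =
        (g : Matrix (Fin 4) (Fin 4) F) *ᵥ (M *ᵥ x) := fun g hg x => by
      rw [Matrix.mulVec_mulVec, Matrix.mulVec_mulVec, hM _ ⟨g, hg, rfl⟩]
    have hoff : ∀ i j, i ≠ j → B.repr (M *ᵥ B i) j = 0 := by
      intro i j hij
      obtain ⟨a, ha, hZij⟩ : ∃ a : Fin 4, a ≠ 0 ∧ Z a i ≠ Z a j := by
        obtain ⟨a, ha, h⟩ := signTable_sep i j hij
        refine ⟨a, ha, fun he => hne ?_⟩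
        have h' : Z a i = -Z a j := by simp only [Z]; rw [h, Int.cast_neg]
        linear_combination (Z a j) * he - (Z a j) * h' + 2 * hZ1 a j
      obtain ⟨g, hg, hm⟩ := hZ a ha
      have hgB : (g : Matrix (Fin 4) (Fin 4) F) *ᵥ B i = Z a i • B i := by
        refine B.repr.injective (Finsupp.ext fun l => ?_)
        have h := hm (B i) l
        rw [Equiv.Perm.one_apply] at h
        rw [h]
        by_cases hl : i = l
        · subst hl; simp
        · simp [hl]
      have h := congrArg (fun v => B.repr v j) (hcomm g hg (B i))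
      rw [hgB] at h
      have h' := hm (M *ᵥ B i) j
      rw [Equiv.Perm.one_apply] at h'
      simp only [Matrix.mulVec_smul, map_smul, Finsupp.smul_apply, smul_eq_mul, h'] at h
      by_contra h0
      exact hZij (mul_right_cancel₀ h0 h)
    refine ⟨B.repr (M *ᵥ B 0) 0,
      Matrix.toLin'.injective (B.ext fun i => B.repr.injective (Finsupp.ext fun j => ?_))⟩
    simp only [Matrix.toLin'_apply, Matrix.smul_mulVec, Matrix.one_mulVec, map_smul,
      Finsupp.smul_apply, smul_eq_mul]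
    by_cases hij : i = j
    · subst hij
      obtain ⟨g, hg, σ, hm, h0i⟩ := hX 0 i
      have hgB : (g : Matrix (Fin 4) (Fin 4) F) *ᵥ B 0 = B i := by
        refine B.repr.injective (Finsupp.ext fun l => ?_)
        obtain ⟨l, rfl⟩ := σ.surjective l
        rw [hm, ← h0i, one_mul]
        simp [Finsupp.single_apply]
      rw [← hgB, hcomm g hg, hgB, ← h0i, hm, one_mul, h0i]
      simp
    · rw [hoff i j hij]
      simp [hij]

variable [Fintype F]

set_option maxRecDepth 100000 in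
lemma card_evenCoeffs : Fintype.card {c : Fin 4 → Multiplicative (ZMod 4) //
    (∀ i, c i ^ 2 = c 0 ^ 2) ∧ ∏ i, c i = 1} = 16 := by
  decide

lemma fourGroup_card (B : Module.Basis (Fin 4) F (Fin 4 → F)) (hq : Fintype.card F = 5) :
    Nat.card (fourGroup B) = 64 := by
  classical
  let V := {σ : Equiv.Perm (Fin 4) // σ * σ = 1 ∧ Equiv.Perm.sign σ = 1}
  let C := {c : Fin 4 → Fˣ // (∀ i, c i ^ 2 = c 0 ^ 2) ∧ ∏ i, c i = 1}
  have e : Multiplicative (ZMod 4) ≃* Fˣ := mulEquivOfCyclicCardEq (by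
    rw [Nat.card_units, Nat.card_eq_fintype_card, Nat.card_eq_fintype_card, hq]
    simp)
  have hC : Nat.card C = 16 := by
    have e' : {c : Fin 4 → Multiplicative (ZMod 4) //
        (∀ i, c i ^ 2 = c 0 ^ 2) ∧ ∏ i, c i = 1} ≃ C :=
      Equiv.subtypeEquiv (Equiv.arrowCongr (Equiv.refl _) e.toEquiv) fun c => by
        simp only [Equiv.arrowCongr_apply, Equiv.refl_symm, Equiv.coe_refl, Function.comp_id,
          MulEquiv.toEquiv_eq_coe, EquivLike.coe_coe, Function.comp_apply]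
        refine and_congr (forall_congr' fun i => ?_) ?_
        · rw [← map_pow, ← map_pow, e.injective.eq_iff]
        · rw [← map_prod, map_eq_one_iff _ e.injective]
    rw [← Nat.card_congr e', Nat.card_eq_fintype_card, card_evenCoeffs]
  have hpow : ∀ a : Fˣ, a ^ 4 = 1 := fun a => by
    have h := pow_card_eq_one (G := Fˣ) (x := a)
    rwa [Fintype.card_units, hq] at h
  let f : V × C → fourGroup B := fun p =>
    ⟨(exists_monAct B p.1.1 (c := fun i => ((p.2.1 i : Fˣ) : F)) fun i => (p.2.1 i).ne_zero).choose,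
      p.1.1, _, (exists_monAct B p.1.1 (c := fun i => ((p.2.1 i : Fˣ) : F))
        fun i => (p.2.1 i).ne_zero).choose_spec, p.1.2,
      ⟨fun i => by rw [← Units.val_pow_eq_pow_val, ← Units.val_pow_eq_pow_val, p.2.2.1 i],
        by rw [← Units.coe_prod, p.2.2.2, Units.val_one],
        by rw [← pow_mul, ← Units.val_pow_eq_pow_val, hpow, Units.val_one]⟩⟩
  have hf : Function.Bijective f := by
    constructor
    · intro p q hpq
      have hp := (exists_monAct B p.1.1 (c := fun i => ((p.2.1 i : Fˣ) : F))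
        fun i => (p.2.1 i).ne_zero).choose_spec
      have hq' := (exists_monAct B q.1.1 (c := fun i => ((q.2.1 i : Fˣ) : F))
        fun i => (q.2.1 i).ne_zero).choose_spec
      have hval : (f p).1 = (f q).1 := congrArg Subtype.val hpq
      have hp' : MonAct B (f p).1 p.1.1 fun i => ((p.2.1 i : Fˣ) : F) := hp
      rw [hval] at hp'
      obtain ⟨h1, h2⟩ := hp'.unique hq'
      exact Prod.ext (Subtype.ext h1) (Subtype.ext (funext fun i => Units.ext (congrFun h2 i)))
    · rintro ⟨g, σ, c, hg, hσ, hc⟩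
      refine ⟨(⟨σ, hσ⟩, ⟨fun i => Units.mk0 (c i) (hg.ne_zero i),
        fun i => Units.ext (by simpa using hc.sq i), Units.ext (by
          rw [Units.coe_prod]; simpa using hc.prod)⟩), Subtype.ext ?_⟩
      exact (exists_monAct B σ (c := c) hg.ne_zero).choose_spec.ext hg
  rw [← Nat.card_congr (Equiv.ofBijective f hf), Nat.card_prod, hC,
    Nat.card_eq_fintype_card, isFour_card]

lemma monomial_det_sq {k : GL (Fin 4) F} {π : Equiv.Perm (Fin 4)} {e : Fin 4 → F}
    (hk : MonAct B k π e) : (k : Matrix (Fin 4) (Fin 4) F).det ^ 2 = (∏ i, e i) ^ 2 := by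
  set M := LinearMap.toMatrix B B (Matrix.toLin' (k : Matrix (Fin 4) (Fin 4) F)) with hM
  have hMdet : M.det = (k : Matrix (Fin 4) (Fin 4) F).det := by
    rw [hM, LinearMap.det_toMatrix, LinearMap.det_toLin']
  have hsub : M.submatrix π id = Matrix.diagonal e := by
    ext i l
    rw [Matrix.submatrix_apply, hM, LinearMap.toMatrix_apply, Matrix.toLin'_apply]
    show B.repr _ (π i) = _
    rw [hk]
    by_cases h : i = l
    · subst h; simp
    · simp [h]
  have h := Matrix.det_permute π M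
  rw [hsub, Matrix.det_diagonal] at h
  rw [h, hMdet, mul_pow]
  rcases Int.units_eq_one_or (Equiv.Perm.sign π) with hs | hs <;> simp [hs]

lemma fourGroup_conj (hq : Fintype.card F = 5) {k : GL (Fin 4) F} {π : Equiv.Perm (Fin 4)}
    {e : Fin 4 → F} (hk : MonAct B k π e) (hdet : (k : Matrix (Fin 4) (Fin 4) F).det = 1)
    (hg : g ∈ fourGroup B) : k * g * k⁻¹ ∈ fourGroup B := by
  obtain ⟨σ, c, hg, hσ, hc⟩ := hg
  have h4 : ∀ i, (e i ^ 2) ^ 2 = 1 := fun i => by
    rw [← pow_mul]; simpa [hq] using FiniteField.pow_card_sub_one_eq_one (e i) (hk.ne_zero i)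
  have hprod : (∏ i, e i) ^ 2 = 1 := by rw [← monomial_det_sq hk, hdet, one_pow]
  have hE : IsEven fun i => (e i ^ 2) * (e 0 ^ 2) := by
    refine ⟨fun i => ?_, ?_, ?_⟩
    · rw [mul_pow, mul_pow, h4, h4 0]
    · rw [Finset.prod_mul_distrib, Finset.prod_pow, hprod, Finset.prod_const, Finset.card_univ,
        Fintype.card_fin, one_mul]
      linear_combination ((e 0 ^ 2) ^ 2 + 1) * h4 0
    · simp [mul_pow, h4]
  have hs : ∀ j, e (σ j) ^ 2 * e j ^ 2 = e (σ 0) ^ 2 * e 0 ^ 2 := fun j => by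
    have h := hE.pair hσ j
    linear_combination h - (e (σ j) ^ 2 * e j ^ 2 - e (σ 0) ^ 2 * e 0 ^ 2) * h4 0
  refine ⟨π * σ * π⁻¹, _, (hk.mul hg).mul hk.inv, ⟨?_, ?_⟩, ⟨fun i => ?_, ?_, ?_⟩⟩
  · rw [show π * σ * π⁻¹ * (π * σ * π⁻¹) = π * (σ * σ) * π⁻¹ by group, hσ.1, mul_one, mul_inv_cancel]
  · simp [hσ.2]
  · rw [mul_pow, mul_pow, mul_pow, mul_pow, hc.sq, hc.sq (π⁻¹ 0), inv_pow, inv_pow]
    have hi : ∀ j, (e j ^ 2)⁻¹ = e j ^ 2 := fun j => inv_eq_of_mul_eq_one_left (by
      rw [← sq, h4])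
    rw [hi, hi]
    linear_combination (c 0 ^ 2) * hs (π⁻¹ i) - (c 0 ^ 2) * hs (π⁻¹ 0)
  · rw [Finset.prod_mul_distrib, Finset.prod_inv_distrib,
      Equiv.prod_comp π⁻¹ (fun i => e (σ i) * c i), Equiv.prod_comp π⁻¹ e, Finset.prod_mul_distrib,
      Equiv.prod_comp σ e, hc.prod, mul_one]
    exact mul_inv_cancel₀ (Finset.prod_ne_zero_iff.2 fun i _ => hk.ne_zero i)
  · rw [mul_pow, mul_pow, mul_pow, mul_pow, hc.sq, inv_pow, inv_pow, h4, h4, hc.four]
    simp

theorem lines_five {D : Fin 4 → Submodule F (Fin 4 → F)} (hq : Fintype.card F = 5)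
    (hD : Geo.IsMDecomposition 1 D) :
    ∃ R : Subgroup (GL (Fin 4) F), Geo.IsLinearSymplecticTypeData 2 R ∧
      Geo.decompositionStabilizer D ⊓ Geo.specialLinear (Fin 4) F ≤ Geo.subgroupNormalizer R := by
  classical
  obtain ⟨B, hB⟩ := monomial hD
  haveI : Fact (Nat.Prime 5) := ⟨by norm_num⟩
  haveI hch : CharP F 5 := charP_of_card_eq_prime hq
  have h5 : (5 : F) = 0 := by
    have := CharP.cast_eq_zero F 5; simpa using this
  have h2 : (2 : F) ≠ 0 := fun h => one_ne_zero (by linear_combination h5 - 2 * h : (1 : F) = 0)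
  set R := fourGroup B with hR
  have habs := fourGroup_absIrred B h2
  have hscal : ∀ a : Fˣ, ∃ s ∈ R, (s : Matrix (Fin 4) (Fin 4) F) = (a : F) • 1 := fun a => by
    let s : GL (Fin 4) F := Units.map (Matrix.scalar (Fin 4) : F →+* _).toMonoidHom a
    have hs : (s : Matrix (Fin 4) (Fin 4) F) = (a : F) • 1 := by
      simp [s, Matrix.smul_one_eq_diagonal]
    have ha : (a : F) ^ 4 = 1 := by
      simpa [hq] using FiniteField.pow_card_sub_one_eq_one (a : F) a.ne_zero
    refine ⟨s, ⟨1, _, MonAct.scalar hs, ⟨one_mul 1, map_one _⟩, ⟨fun _ => rfl, by simp [ha], ?_⟩⟩, hs⟩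
    rw [← pow_mul, ha]
  choose sc hscR hscv using hscal
  let two : Fˣ := Units.mk0 2 h2
  let z : R := ⟨sc two, hscR two⟩
  have hzv : ((z : GL (Fin 4) F) : Matrix (Fin 4) (Fin 4) F) = (2 : F) • 1 := hscv two
  have hzc : ∀ x : R, z * x = x * z := fun x => Subtype.ext (Units.ext (by
    simp [hzv]))
  have hz2 : (((z ^ 2 : R) : GL (Fin 4) F) : Matrix (Fin 4) (Fin 4) F) = (-1 : F) • 1 := by
    rw [SubgroupClass.coe_pow, Units.val_pow_eq_pow_val, hzv, _root_.smul_pow, one_pow]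
    congr 1
    linear_combination h5
  have hz4 : z ^ 4 = 1 := Subtype.ext (Units.ext (by
    rw [show z ^ 4 = z ^ 2 * z ^ 2 from pow_add z 2 2, Subgroup.coe_mul, Units.val_mul, hz2]
    simp))
  have hsign : ∀ r : F, r ^ 2 = 1 → r = 1 ∨ r = -1 := fun r h => sq_eq_one_iff.1 h
  have hcom : ∀ x y : R, x * y = y * x ∨ x * y = z ^ 2 * (y * x) := fun x y => by
    obtain ⟨r, hr, h⟩ := fourGroup_comm x.2 y.2
    rcases hsign r hr with rfl | rfl
    · exact Or.inl (Subtype.ext (Units.ext (by simpa using h)))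
    · refine Or.inr (Subtype.ext (Units.ext ?_))
      rw [Subgroup.coe_mul, Subgroup.coe_mul (H := R) (z ^ 2), Units.val_mul, Units.val_mul, hz2,
        Subgroup.coe_mul, Units.val_mul, smul_one_mul, h]
  have hsq : ∀ x : R, x ^ 2 = 1 ∨ x ^ 2 = z ^ 2 := fun x => by
    obtain ⟨r, hr, h⟩ := fourGroup_sq x.2
    rcases hsign r hr with rfl | rfl
    · exact Or.inl (Subtype.ext (Units.ext (by simpa [sq] using h)))
    · exact Or.inr (Subtype.ext (Units.ext (by rw [hz2]; simpa [sq] using h)))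
  have hcard : Nat.card R = 64 := fourGroup_card B hq
  let fc : Fˣ → Subgroup.center R := fun a => ⟨⟨sc a, hscR a⟩, Subgroup.mem_center_iff.2 fun x =>
    Subtype.ext (Units.ext (by simp [hscv a]))⟩
  have hfc : Function.Bijective fc := by
    constructor
    · intro a b hab
      have h := congrArg (fun x : Subgroup.center R =>
        (((x : R) : GL (Fin 4) F) : Matrix (Fin 4) (Fin 4) F) 0 0) hab
      simp [fc, hscv] at h
      exact Units.ext h
    · intro x
      obtain ⟨a, ha⟩ := habs.2 (((x : R) : GL (Fin 4) F) : Matrix (Fin 4) (Fin 4) F) (by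
        rintro _ ⟨y, hy, rfl⟩
        have h := congrArg (fun w : R => ((w : GL (Fin 4) F) : Matrix (Fin 4) (Fin 4) F))
          (Subgroup.mem_center_iff.1 x.2 ⟨y, hy⟩)
        exact h.symm)
      have ha0 : a ≠ 0 := fun h => ((x : R) : GL (Fin 4) F).ne_zero (by rw [ha, h, zero_smul])
      exact ⟨Units.mk0 a ha0, Subtype.ext (Subtype.ext (Units.ext (by
        rw [ha]; exact hscv _)))⟩
  have hcen : Nat.card (Subgroup.center R) = 4 := by
    rw [← Nat.card_congr (Equiv.ofBijective fc hfc), Nat.card_units, Nat.card_eq_fintype_card, hq]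
  have hordz : orderOf z = 4 := by
    refine orderOf_eq_prime_pow (p := 2) (n := 1) ?_ hz4
    intro h
    rw [pow_one] at h
    have h' := congrArg (fun w : R => ((w : GL (Fin 4) F) : Matrix (Fin 4) (Fin 4) F) 0 0) h
    simp only [hz2] at h'
    simp at h'
    exact h2 (by linear_combination -h')
  have hcyc : IsCyclic (Subgroup.center R) := by
    refine isCyclic_of_orderOf_eq_card ⟨z, Subgroup.mem_center_iff.2 fun x => (hzc x).symm⟩ ?_
    rw [hcen, Subgroup.orderOf_mk, hordz]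
  refine ⟨R, ⟨⟨Nat.prime_two, IsPGroup.of_card (n := 6) (by rw [hcard]; norm_num), ?_, ?_⟩, habs,
    ⟨5, 1, by norm_num, ⟨by norm_num, hch, by rw [hq]; norm_num, by rw [hcen]; norm_num,
      fun d hd hd' => by omega⟩, Or.inr (Or.inl ⟨rfl, rfl, hcen, by simp, 2, by rw [hcard]; norm_num⟩)⟩⟩,
    ?_⟩
  · intro A hA hab
    have hle := char_abelian_le_center z hzc hz4 hcom hsq A hA fun a ha b hb =>
      congrArg Subtype.val (hab.is_comm.comm ⟨a, ha⟩ ⟨b, hb⟩)
    exact isCyclic_of_injective (Subgroup.inclusion hle) (Subgroup.inclusion_injective hle)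
  · refine Nat.dvd_antisymm (Monoid.exponent_dvd_of_forall_pow_eq_one fun x => ?_) ?_
    · show x ^ (2 * Nat.gcd 2 2) = 1
      rw [Nat.gcd_self, pow_mul]
      rcases hsq x with h | h <;> rw [h]
      · simp
      · rw [← pow_mul, hz4]
    · rw [Nat.gcd_self, show 2 * 2 = orderOf z from hordz.symm]
      exact Monoid.order_dvd_exponent z
  · rintro k ⟨hkD, hk1⟩
    have key : ∀ k ∈ Geo.decompositionStabilizer D ⊓ Geo.specialLinear (Fin 4) F, ∀ g ∈ R,
        k * g * k⁻¹ ∈ R := by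
      rintro k ⟨hkD, hk1⟩ g hg
      obtain ⟨π, e, -, he⟩ := hB k hkD
      exact fourGroup_conj hq (e := e) (π := π) he (congrArg Units.val (MonoidHom.mem_ker.1 hk1)) hg
    refine Subgroup.mem_normalizer_iff.2 fun g => ⟨key k ⟨hkD, hk1⟩ g, fun hg => ?_⟩
    have h := key k⁻¹ (inv_mem (show k ∈ Geo.decompositionStabilizer D ⊓ _ from ⟨hkD, hk1⟩)) _ hg
    simpa [mul_assoc] using h

end Cfsg.Agent.Aschbacher
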