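import Cfsg.Agent.Lib.Aschbacher.LinRefine

/-!
Maximal subgroups of the special linear group, sorted into classes.
-/

set_option autoImplicit false
set_option linter.style.haveILetI false

namespace Cfsg.Agent.Aschbacher

open scoped MatrixGroups Matrix
open Matrix

variable {F : Type*} [Field F] [Fintype F]

/-- The possible shapes of a maximal subgroup of `SL_n(F)`. -/
inductive MaxCase (n : ℕ) (H : Subgroup (GL (Fin n) F)) : Prop
  | subspace (h : ∃ W : Submodule F (Fin n → F), W ≠ ⊥ ∧ W ≠ ⊤ ∧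
      H = Geo.subspaceStabilizer W ⊓ Geo.specialLinear (Fin n) F)
  | decomp {t m : ℕ} {D : Fin t → Submodule F (Fin n → F)} (hD : Geo.IsMDecomposition m D)
      (htm : t * m = n) (h1 : m = 1 → 5 ≤ Fintype.card F) (h2 : m = 2 → 3 ≤ Fintype.card F)
      (h4 : m = 2 → n = 4 → 4 ≤ Fintype.card F)
      (h : H = Geo.decompositionStabilizer D ⊓ Geo.specialLinear (Fin n) F)
  | field {r : ℕ} {K : Subalgebra F (Matrix (Fin n) (Fin n) F)} (hr : r.Prime) (hdvd : r ∣ n)
      (hK : Geo.IsFieldSubalgebra r K)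
      (h : H = Geo.subalgebraNormalizer K ⊓ Geo.specialLinear (Fin n) F)
  | tensor {n₁ n₂ : ℕ} {e : Fin n ≃ Fin n₁ × Fin n₂} {P : GL (Fin n) F} (h1 : 2 ≤ n₁)
      (h2 : n₁ < n₂) (hn : n₁ * n₂ = n) (hq : n₁ = 2 → 3 ≤ Fintype.card F)
      (h : H = Geo.tensorProductSubgroup n₁ n₂ e P ⊓ Geo.specialLinear (Fin n) F)
  | subfield (h : ∃ (F₀ : Subfield F) (r : ℕ) (P : GL (Fin n) F), r.Prime ∧
      Fintype.card F = Nat.card F₀ ^ r ∧
      H = Geo.subfieldSubgroup F₀ P ⊓ Geo.specialLinear (Fin n) F)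
  | symplType {r k : ℕ} {R : Subgroup (GL (Fin n) F)} (hd : Geo.IsLinearSymplecticTypeData r R)
      (hn : n = r ^ k) (h : H = Geo.subgroupNormalizer R ⊓ Geo.specialLinear (Fin n) F)
  | wreath {m t : ℕ} {e : Fin n ≃ (Fin t → Fin m)} {P : GL (Fin n) F} (hm : 3 ≤ m) (ht : 2 ≤ t)
      (hn : m ^ t = n) (h : H = Geo.tensorWreathSubgroup m t e P ⊓ Geo.specialLinear (Fin n) F)
  | symplectic (he : Even n) (h : ∃ f, Geo.IsSymplecticForm f ∧
      H = Geo.similarityGroup f ⊓ Geo.specialLinear (Fin n) F)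
  | unitary (h : ∃ (σ : F ≃+* F) (f : (Fin n → F) → (Fin n → F) → F), Geo.IsUnitaryForm σ f ∧
      H = Geo.similarityGroup f ⊓ Geo.specialLinear (Fin n) F)
  | quad (h : Odd (Fintype.card F) ∧ ∃ Q : (Fin n → F) → F, Geo.IsNondegenerateQuadraticForm Q ∧
      H = Geo.quadSimilarityGroup Q ⊓ Geo.specialLinear (Fin n) F)
  | residual (h : Geo.InLinearResidualClass H)

variable {n : ℕ} {H : Subgroup (GL (Fin n) F)}

lemma maximal_eq_inf (hn : 3 ≤ n) (hH : Geo.IsMaximalIn (Geo.specialLinear (Fin n) F) H)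
    {M : Subgroup (GL (Fin n) F)} (hM : LinGeom n M) (hle : H ≤ M) :
    H = M ⊓ Geo.specialLinear (Fin n) F := by
  rcases hH.2 _ (le_inf hle hH.1.le) inf_le_right with h | h
  · exact h.symm
  · exact absurd (inf_eq_right.1 h) (hM.not_sl_le hn)

lemma MaxCase.of_safe (hn : 3 ≤ n) (hH : Geo.IsMaximalIn (Geo.specialLinear (Fin n) F) H)
    {M : Subgroup (GL (Fin n) F)} (hM : SafeGeom n M) (hle : H ≤ M) : MaxCase n H := by
  have he := maximal_eq_inf hn hH hM.linGeom hle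
  cases hM with
  | subspace h0 h1 h => exact .subspace ⟨_, h0, h1, h ▸ he⟩
  | field hr hd hK h => exact .field hr hd hK (h ▸ he)
  | symplectic hf hev _ h => exact .symplectic hev ⟨_, hf, h ▸ he⟩
  | unitary hf _ h => exact .unitary ⟨_, _, hf, h ▸ he⟩
  | quad hQ hq _ h => exact .quad ⟨hq, _, hQ, h ▸ he⟩

theorem maximal_sorted (hn : 3 ≤ n) (hH : Geo.IsMaximalIn (Geo.specialLinear (Fin n) F) H) :
    MaxCase n H := by
  rcases maximal_cases hn hH with ⟨M, hM, hle, he⟩ | h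
  swap
  · exact .residual h
  cases hM with
  | subspace h0 h1 h => exact .subspace ⟨_, h0, h1, h ▸ he⟩
  | @decomp t m D hD h =>
    subst h
    have htm : t * m = n := by simpa using mdecomp_mul hD
    by_cases h1 : m = 1 ∧ Fintype.card F < 5
    · obtain ⟨rfl, hq⟩ := h1
      obtain ⟨M', hM', hle'⟩ := lines_small hn hq hD
      exact .of_safe hn hH hM' (hle.trans hle')
    by_cases h2 : m = 2 ∧ Fintype.card F < 3
    · obtain ⟨rfl, hq⟩ := h2
      have hq2 : Fintype.card F = 2 := by have := Fintype.one_lt_card (α := F); omega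
      have hn4 : 4 ≤ n := by have := hD.two_le; omega
      obtain ⟨M', hM', hle'⟩ := planes_two hn4 hq2 hD
      exact .of_safe hn hH hM' (hle.trans hle')
    by_cases h4 : m = 2 ∧ n = 4 ∧ Fintype.card F = 3
    · obtain ⟨rfl, rfl, hq⟩ := h4
      obtain rfl : t = 2 := by omega
      obtain ⟨M', hM', hle'⟩ := planes_three hq hD
      exact .of_safe hn hH hM' (he.le.trans hle')
    exact .decomp hD htm (fun hm => not_lt.1 fun hq => h1 ⟨hm, hq⟩)
      (fun hm => not_lt.1 fun hq => h2 ⟨hm, hq⟩)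
      (fun hm hn' => by
        by_contra hq
        have h3 : 3 ≤ Fintype.card F := not_lt.1 fun hq => h2 ⟨hm, hq⟩
        exact h4 ⟨hm, hn', by omega⟩) he
  | field hr hd hK h => exact .field hr hd hK (h ▸ he)
  | @tensor n₁ n₂ e P h1 h2 h =>
    subst h
    have hmul : n₁ * n₂ = n := by simpa using (Fintype.card_congr e).symm
    by_cases hq : n₁ = 2 ∧ Fintype.card F < 3
    · obtain ⟨rfl, hq⟩ := hq
      have hq2 : Fintype.card F = 2 := by have := Fintype.one_lt_card (α := F); omega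
      obtain ⟨K, hK, hle'⟩ := tensor_two (by omega) hq2 e P
      exact .of_safe hn hH (.field Nat.prime_two ⟨n₂, hmul.symm⟩ hK rfl) (hle.trans hle')
    exact .tensor h1 h2 hmul (fun hn' => not_lt.1 fun hq' => hq ⟨hn', hq'⟩) he
  | subfield hr hc h => exact .subfield ⟨_, _, _, hr, hc, h ▸ he⟩
  | symplType hd hn' h => exact .symplType hd hn' (h ▸ he)
  | @wreath m t e P hm ht h =>
    exact .wreath hm ht (by simpa using (Fintype.card_congr e).symm) (h ▸ he)
  | symplectic hf hev _ h => exact .symplectic hev ⟨_, hf, h ▸ he⟩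
  | unitary hf _ h => exact .unitary ⟨_, _, hf, h ▸ he⟩
  | quad hQ hq _ h => exact .quad ⟨hq, _, hQ, h ▸ he⟩

/-- The field of a class-six group for odd `r`. -/
lemma sympl_field_odd {r : ℕ} {R : Subgroup (GL (Fin n) F)}
    (hd : Geo.IsLinearSymplecticTypeData r R) (hr : r ≠ 2) :
    ∃ p e : ℕ, p.Prime ∧ CharP F p ∧ Fintype.card F = p ^ e ∧ Odd e ∧ e ∣ r - 1 ∧
      r ∣ p ^ e - 1 := by
  have hrp' := hd.symplecticType.prime
  obtain ⟨p, e, hrp, ⟨hp, hch, hcard, hz, hmin⟩, hcase⟩ := hd.field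
  rcases hcase with ⟨-, he, hC, -⟩ | ⟨h2, -⟩ | ⟨h2, -⟩
  · rw [hC] at hz hmin
    refine ⟨p, e, hp, hch, hcard, he, ?_, hz⟩
    have hfl : r ∣ p ^ (r - 1) - 1 := by
      haveI := Fact.mk hrp'
      have hp0 : (p : ZMod r) ≠ 0 := fun h => hrp
        ((Nat.prime_dvd_prime_iff_eq hrp' hp).1 ((ZMod.natCast_eq_zero_iff _ _).1 h))
      have h := ZMod.pow_card_sub_one_eq_one hp0
      rw [← ZMod.natCast_eq_zero_iff, Nat.cast_sub (Nat.one_le_pow _ _ hp.pos)]
      push_cast
      rw [h, sub_self]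
    have hg : r ∣ p ^ Nat.gcd e (r - 1) - 1 := by
      rw [← Nat.pow_sub_one_gcd_pow_sub_one]; exact Nat.dvd_gcd hz hfl
    by_contra hne
    have hg0 : 0 < Nat.gcd e (r - 1) := Nat.gcd_pos_of_pos_left _ he.pos
    have hglt : Nat.gcd e (r - 1) < e := lt_of_le_of_ne (Nat.gcd_le_left _ he.pos)
      fun h => hne (h ▸ Nat.gcd_dvd_right e (r - 1))
    exact hmin _ hg0 hglt hg
  · exact absurd h2 hr
  · exact absurd h2 hr

/-- The field of a class-six group for `r = 2`. -/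
lemma sympl_field_two (hn : 3 ≤ n) {R : Subgroup (GL (Fin n) F)}
    (hd : Geo.IsLinearSymplecticTypeData 2 R) :
    ∃ p : ℕ, p.Prime ∧ Fintype.card F = p ∧ p % 4 = 1 := by
  obtain ⟨p, e, -, ⟨hp, -, hcard, hz, -⟩, hcase⟩ := hd.field
  rcases hcase with ⟨h, -⟩ | ⟨-, he, hC, -⟩ | ⟨-, -, h, -⟩
  · exact absurd h (by decide)
  · rw [hC, he, pow_one] at hz
    refine ⟨p, hp, by rw [hcard, he, pow_one], ?_⟩
    have := hp.two_le
    omega
  · simp at h; omega

/-- When `r - 1` has no odd prime-power part, the field is prime and `p ≡ 1 mod r`. -/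
lemma sympl_field_three {r : ℕ} {R : Subgroup (GL (Fin n) F)}
    (hd : Geo.IsLinearSymplecticTypeData r R) (hr : r = 3 ∨ r = 5) :
    ∃ p : ℕ, p.Prime ∧ Fintype.card F = p ∧ p % r = 1 := by
  obtain ⟨p, e, hp, -, hcard, he, hdvd, hz⟩ := sympl_field_odd hd (by omega)
  have he1 : e = 1 := by
    have hle : e ≤ r - 1 := Nat.le_of_dvd (by omega) hdvd
    obtain ⟨j, rfl⟩ := he
    rcases hr with rfl | rfl
    · omega
    · have hj : j ≤ 1 := by omega
      interval_cases j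
      · rfl
      · norm_num at hdvd
  refine ⟨p, hp, by rw [hcard, he1, pow_one], ?_⟩
  rw [he1, pow_one] at hz
  obtain ⟨c, hc⟩ := hz
  have := hp.two_le
  rw [show p = 1 + r * c by omega, Nat.add_mul_mod_self_left]
  rcases hr with rfl | rfl <;> rfl

end Cfsg.Agent.Aschbacher
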