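import Cfsg.Agent.Lib.Aschbacher.Proper

/-!
Members that are contained in other members over very small fields.
-/

set_option autoImplicit false
set_option linter.style.haveILetI false

namespace Cfsg.Agent.Aschbacher

open scoped MatrixGroups Matrix
open Matrix

variable {ι : Type} [Fintype ι] [DecidableEq ι] {F : Type*} [Field F]

omit [DecidableEq ι] in
/-- The number of parts times their dimension is the dimension. -/
lemma mdecomp_mul {t m : ℕ} {D : Fin t → Submodule F (ι → F)} (hD : Geo.IsMDecomposition m D) :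
    t * m = Fintype.card ι := by
  have hint := DirectSum.isInternal_submodule_of_iSupIndep_of_iSup_eq_top hD.indep hD.iSup_eq_top
  let B := hint.collectedBasis fun i => Module.finBasis F (D i)
  rw [← Module.finrank_fintype_fun_eq_card F (η := ι), Module.finrank_eq_card_basis B,
    Fintype.card_sigma]
  simp [hD.finrank_eq]

/-- A basis adapted to a decomposition, with the action of the stabiliser. -/
lemma exists_adapted_basis {t m : ℕ} {D : Fin t → Submodule F (ι → F)}
    (hD : Geo.IsMDecomposition m D) :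
    ∃ B : Module.Basis (Fin t × Fin m) F (ι → F), ∀ g ∈ Geo.decompositionStabilizer D,
      ∃ (σ : Equiv.Perm (Fin t)) (A : Fin t → Matrix (Fin m) (Fin m) F),
        ∀ x i j, B.repr ((g : Matrix ι ι F) *ᵥ x) (σ i, j) = ∑ k, A i j k * B.repr x (i, k) := by
  classical
  have hint := DirectSum.isInternal_submodule_of_iSupIndep_of_iSup_eq_top hD.indep hD.iSup_eq_top
  let bs : (i : Fin t) → Module.Basis (Fin m) F (D i) := fun i =>
    Module.finBasisOfFinrankEq F (D i) (hD.finrank_eq i)
  let B₀ := hint.collectedBasis bs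
  let B := B₀.reindex (Equiv.sigmaEquivProd (Fin t) (Fin m))
  have hBv : ∀ i k, B (i, k) = (bs i k : ι → F) := fun i k => by
    simp only [B, B₀, Module.Basis.reindex_apply, DirectSum.IsInternal.collectedBasis_coe]
    rfl
  have hB : ∀ i k, B (i, k) ∈ D i := fun i k => by
    rw [hBv]
    exact (bs i k).2
  have hzero : ∀ i, ∀ x ∈ D i, ∀ l j, l ≠ i → B.repr x (l, j) = 0 := by
    intro i x hx l j hl
    have hspan : x ∈ Submodule.span F (Set.range fun k => B (i, k)) := by
      obtain ⟨c, hc⟩ : ∃ c : Fin m → F, ∑ k, c k • bs i k = ⟨x, hx⟩ :=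
        ⟨_, (bs i).sum_repr ⟨x, hx⟩⟩
      refine (Submodule.mem_span_range_iff_exists_fun F).2 ⟨c, ?_⟩
      have h := congrArg (fun y : D i => (y : ι → F)) hc
      simp only [Submodule.coe_sum, Submodule.coe_smul] at h
      simpa [hBv] using h
    obtain ⟨c, rfl⟩ := (Submodule.mem_span_range_iff_exists_fun F).1 hspan
    simp [map_sum, Ne.symm hl]
  refine ⟨B, fun g hg => ?_⟩
  obtain ⟨σ, hσ⟩ := hg
  refine ⟨σ, fun i => Matrix.of fun j k => B.repr ((g : Matrix ι ι F) *ᵥ B (i, k)) (σ i, j),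
    fun x i j => ?_⟩
  conv_lhs => rw [← B.sum_repr x]
  rw [Matrix.mulVec_sum, map_sum]
  simp only [Matrix.mulVec_smul, map_smul, Finsupp.coe_finsetSum, Finset.sum_apply,
    Finsupp.smul_apply, smul_eq_mul]
  rw [Fintype.sum_prod_type, Finset.sum_eq_single i]
  · refine Finset.sum_congr rfl fun k _ => ?_
    rw [Matrix.of_apply, mul_comm]
  · intro l _ hl
    refine Finset.sum_eq_zero fun k _ => ?_
    have hmem : (g : Matrix ι ι F) *ᵥ B (l, k) ∈ D (σ l) := by
      rw [← hσ l]; exact ⟨_, hB l k, Matrix.toLin'_apply _ _⟩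
    rw [hzero (σ l) _ hmem (σ i) j (fun h => hl (σ.injective h).symm), mul_zero]
  · simp

/-- In the line case every stabiliser element is monomial. -/
lemma monomial {t : ℕ} {D : Fin t → Submodule F (ι → F)} (hD : Geo.IsMDecomposition 1 D) :
    ∃ B : Module.Basis (Fin t) F (ι → F), ∀ g ∈ Geo.decompositionStabilizer D,
      ∃ (σ : Equiv.Perm (Fin t)) (c : Fin t → F), (∀ i, c i ≠ 0) ∧
        ∀ x i, B.repr ((g : Matrix ι ι F) *ᵥ x) (σ i) = c i * B.repr x i := by
  obtain ⟨B, hB⟩ := exists_adapted_basis hD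
  refine ⟨B.reindex (Equiv.prodUnique (Fin t) (Fin 1)), fun g hg => ?_⟩
  obtain ⟨σ, A, hA⟩ := hB g hg
  refine ⟨σ, fun i => A i 0 0, fun i hi => ?_, fun x i => ?_⟩
  swap
  · have h := hA x i 0
    rw [Fin.sum_univ_one] at h
    rw [Module.Basis.repr_reindex_apply, Module.Basis.repr_reindex_apply]
    exact h
  dsimp only at hi
  have h := hA (((g⁻¹ : GL ι F) : Matrix ι ι F) *ᵥ B (σ i, 0)) i 0
  rw [Matrix.mulVec_mulVec, Units.mul_inv, Matrix.one_mulVec] at h
  simp [hi] at h

section Forms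

omit [Fintype ι] [DecidableEq ι]

variable {κ : Type*} [Fintype κ] [DecidableEq κ]

/-- The standard hermitian form in a given basis. -/
lemma coordForm_unitary (B : Module.Basis κ F (ι → F)) {σ : F ≃+* F} (hσ1 : σ ≠ RingEquiv.refl F)
    (hσ2 : ∀ a, σ (σ a) = a) :
    Geo.IsUnitaryForm σ (fun x y => ∑ i, B.repr x i * σ (B.repr y i)) where
  ne_refl := hσ1
  involutive := hσ2
  add_left x y v := by simp [add_mul, Finset.sum_add_distrib]
  smul_left c x v := by simp [Finset.mul_sum, mul_assoc]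
  herm v w := by simp [map_sum, map_mul, hσ2, mul_comm]
  nondegenerate v hv := by
    obtain ⟨i, hi⟩ : ∃ i, B.repr v i ≠ 0 := by
      by_contra h
      push Not at h
      exact hv (B.repr.map_eq_zero_iff.1 (Finsupp.ext h))
    exact ⟨⟨B i, by simpa [Finsupp.single_apply] using hi⟩,
      ⟨B i, by simpa [Finsupp.single_apply] using hi⟩⟩

/-- The standard quadratic form in a given basis. -/
lemma coordQuad_nondegenerate (B : Module.Basis κ F (ι → F)) (h2 : (2 : F) ≠ 0) :
    Geo.IsNondegenerateQuadraticForm (fun x => ∑ i, B.repr x i ^ 2) := by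
  have hp : QuadraticMap.polar (fun x => ∑ i, B.repr x i ^ 2) =
      fun x y => ∑ i, 2 * (B.repr x i * B.repr y i) := by
    funext x y
    simp only [QuadraticMap.polar, ← Finset.sum_sub_distrib]
    refine Finset.sum_congr rfl fun i _ => ?_
    simp only [map_add, Finsupp.add_apply]; ring
  refine ⟨fun c x => ?_, ?_, ?_⟩
  · simp [mul_pow, Finset.mul_sum]
  · rw [hp]
    exact ⟨fun x y v => by simp [add_mul, mul_add, Finset.sum_add_distrib],
      fun c x v => by
        simp only [map_smul, Finsupp.smul_apply, smul_eq_mul, Finset.mul_sum]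
        exact Finset.sum_congr rfl fun i _ => by ring,
      fun v x y => by simp [mul_add, Finset.sum_add_distrib],
      fun c v x => by
        simp only [map_smul, Finsupp.smul_apply, smul_eq_mul, Finset.mul_sum]
        exact Finset.sum_congr rfl fun i _ => by ring⟩
  · rw [hp]
    intro v hv
    obtain ⟨i, hi⟩ : ∃ i, B.repr v i ≠ 0 := by
      by_contra h
      push Not at h
      exact hv (B.repr.map_eq_zero_iff.1 (Finsupp.ext h))
    exact ⟨⟨B i, by simpa [Finsupp.single_apply] using mul_ne_zero h2 hi⟩,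
      ⟨B i, by simpa [Finsupp.single_apply] using mul_ne_zero h2 hi⟩⟩

end Forms

omit [Fintype ι] [DecidableEq ι] in
/-- The standard alternating form on pairs of coordinates. -/
lemma pairForm_symplectic {t : ℕ} (B : Module.Basis (Fin t × Fin 2) F (ι → F)) :
    Geo.IsSymplecticForm (fun x y => ∑ i,
      (B.repr x (i, 0) * B.repr y (i, 1) - B.repr x (i, 1) * B.repr y (i, 0))) where
  bilinear :=
    { add_left := fun x y v => by
        simp only [map_add, Finsupp.add_apply, ← Finset.sum_add_distrib]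
        exact Finset.sum_congr rfl fun i _ => by ring
      smul_left := fun c x v => by
        simp only [map_smul, Finsupp.smul_apply, smul_eq_mul, Finset.mul_sum]
        exact Finset.sum_congr rfl fun i _ => by ring
      add_right := fun v x y => by
        simp only [map_add, Finsupp.add_apply, ← Finset.sum_add_distrib]
        exact Finset.sum_congr rfl fun i _ => by ring
      smul_right := fun c v x => by
        simp only [map_smul, Finsupp.smul_apply, smul_eq_mul, Finset.mul_sum]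
        exact Finset.sum_congr rfl fun i _ => by ring }
  skew v w := by
    simp only [← Finset.sum_neg_distrib]
    exact Finset.sum_congr rfl fun i _ => by ring
  alternating v := Finset.sum_eq_zero fun i _ => by ring
  nondegenerate v hv := by
    obtain ⟨⟨i, j⟩, hi⟩ : ∃ i, B.repr v i ≠ 0 := by
      by_contra h
      push Not at h
      exact hv (B.repr.map_eq_zero_iff.1 (Finsupp.ext h))
    fin_cases j
    · exact ⟨⟨B (i, 1), by simpa [Finsupp.single_apply] using hi⟩,
        ⟨B (i, 1), by simpa [Finsupp.single_apply] using hi⟩⟩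
    · exact ⟨⟨B (i, 0), by simpa [Finsupp.single_apply] using hi⟩,
        ⟨B (i, 0), by simpa [Finsupp.single_apply] using hi⟩⟩

/-- The block determinants of an element of a plane-decomposition stabiliser multiply to its
determinant. -/
lemma det_of_blocks {t : ℕ} (B : Module.Basis (Fin t × Fin 2) F (ι → F)) (g : Matrix ι ι F)
    (σ : Equiv.Perm (Fin t)) (A : Fin t → Matrix (Fin 2) (Fin 2) F)
    (hA : ∀ x i j, B.repr (g *ᵥ x) (σ i, j) = ∑ k, A i j k * B.repr x (i, k)) :
    g.det = ∏ i, (A i).det := by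
  classical
  set M := LinearMap.toMatrix B B (Matrix.toLin' g) with hM
  have hMdet : M.det = g.det := by
    rw [hM, LinearMap.det_toMatrix, LinearMap.det_toLin']
  set π : Equiv.Perm (Fin t × Fin 2) := σ.prodCongr (Equiv.refl _) with hπ
  have hsub : M.submatrix π id = (Matrix.blockDiagonal A).submatrix Prod.swap Prod.swap := by
    ext ⟨i, j⟩ ⟨l, k⟩
    rw [Matrix.submatrix_apply, Matrix.submatrix_apply, hM, LinearMap.toMatrix_apply,
      Matrix.toLin'_apply]
    show B.repr (g *ᵥ B (l, k)) (σ i, j) = _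
    rw [hA]
    by_cases h : i = l
    · subst h
      simp [Matrix.blockDiagonal_apply, Finsupp.single_apply]
    · simp [Matrix.blockDiagonal_apply, h]
  have hsign : Equiv.Perm.sign π = 1 := by
    rw [hπ]
    show Equiv.Perm.sign (Equiv.prodCongr σ (Equiv.refl (Fin 2))) = 1
    have hcomp : (Equiv.prodCongr σ (Equiv.refl (Fin 2)) : Equiv.Perm (Fin t × Fin 2)) =
        (Equiv.prodComm (Fin 2) (Fin t)).permCongr (Equiv.Perm.prodExtendRight (0 : Fin 2) σ *
          Equiv.Perm.prodExtendRight (1 : Fin 2) σ) := by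
      ext ⟨i, j⟩ : 1
      fin_cases j <;> simp [Equiv.permCongr_apply, Equiv.Perm.prodExtendRight]
    rw [hcomp, Equiv.Perm.sign_permCongr, map_mul, Equiv.Perm.sign_prodExtendRight,
      Equiv.Perm.sign_prodExtendRight, Int.units_mul_self]
  have h1 : (M.submatrix π id).det = M.det := by
    rw [Matrix.det_permute, hsign]; simp
  rw [← hMdet, ← h1, hsub]
  rw [show (Prod.swap : Fin t × Fin 2 → Fin 2 × Fin t) = Equiv.prodComm (Fin t) (Fin 2) from rfl,
    Matrix.det_submatrix_equiv_self, Matrix.det_blockDiagonal]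

variable [Fintype F]

lemma eq_one_of_card_two (h : Fintype.card F = 2) {c : F} (hc : c ≠ 0) : c = 1 := by
  have h' := FiniteField.pow_card_sub_one_eq_one c hc
  rw [h] at h'
  simpa using h'

/-- Members that never need refining. -/
inductive SafeGeom (n : ℕ) (M : Subgroup (GL (Fin n) F)) : Prop
  | subspace {W : Submodule F (Fin n → F)} (h0 : W ≠ ⊥) (h1 : W ≠ ⊤)
      (h : M = Geo.subspaceStabilizer W)
  | field {r : ℕ} {K : Subalgebra F (Matrix (Fin n) (Fin n) F)} (hr : r.Prime) (hdvd : r ∣ n)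
      (hK : Geo.IsFieldSubalgebra r K) (h : M = Geo.subalgebraNormalizer K)
  | symplectic {f : (Fin n → F) → (Fin n → F) → F} (hf : Geo.IsSymplecticForm f) (he : Even n)
      (h4 : 4 ≤ n) (h : M = Geo.similarityGroup f)
  | unitary {σ : F ≃+* F} {f : (Fin n → F) → (Fin n → F) → F} (hf : Geo.IsUnitaryForm σ f)
      (h3 : 3 ≤ n) (h : M = Geo.similarityGroup f)
  | quad {Q : (Fin n → F) → F} (hQ : Geo.IsNondegenerateQuadraticForm Q)
      (hq : Odd (Fintype.card F)) (h3 : 3 ≤ n) (h : M = Geo.quadSimilarityGroup Q)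

lemma SafeGeom.linGeom {n : ℕ} {M : Subgroup (GL (Fin n) F)} (h : SafeGeom n M) : LinGeom n M := by
  cases h with
  | subspace h0 h1 h => exact .subspace h0 h1 h
  | field hr hd hK h => exact .field hr hd hK h
  | symplectic hf he h4 h => exact .symplectic hf he h4 h
  | unitary hf h3 h => exact .unitary hf h3 h
  | quad hQ hq h3 h => exact .quad hQ hq h3 h

lemma lines_two {n : ℕ} (hn : 2 ≤ n) (hq : Fintype.card F = 2) {t : ℕ}
    {D : Fin t → Submodule F (Fin n → F)} (hD : Geo.IsMDecomposition 1 D) :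
    ∃ M, SafeGeom n M ∧ Geo.decompositionStabilizer D ≤ M := by
  obtain ⟨B, hB⟩ := monomial hD
  have ht : t = n := by simpa using mdecomp_mul hD
  set w : Fin n → F := ∑ i, B i with hw
  have hrepr : ∀ i, B.repr w i = 1 := fun i => by
    simp [hw, map_sum, Finsupp.single_apply]
  have hw0 : w ≠ 0 := fun h => by
    have := hrepr ⟨0, by omega⟩
    rw [h] at this
    simp at this
  refine ⟨_, .subspace (W := Submodule.span F {w}) ?_ ?_ rfl, fun g hg => ?_⟩
  · simpa using hw0
  · intro h
    have := finrank_span_singleton (K := F) hw0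
    rw [h, finrank_top, Module.finrank_fintype_fun_eq_card, Fintype.card_fin] at this
    omega
  · obtain ⟨σ, c, hc, hcx⟩ := hB g hg
    refine subspaceStabilizer_mem fun v hv => ?_
    obtain ⟨a, rfl⟩ := Submodule.mem_span_singleton.1 hv
    have hgw : (g : Matrix (Fin n) (Fin n) F) *ᵥ w = w := by
      refine B.repr.injective (Finsupp.ext fun l => ?_)
      have h := hcx w (σ.symm l)
      rw [Equiv.apply_symm_apply] at h
      rw [h, hrepr, hrepr, eq_one_of_card_two hq (hc _), one_mul]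
    rw [Matrix.mulVec_smul, hgw]
    exact Submodule.smul_mem _ _ (Submodule.mem_span_singleton_self w)

lemma lines_three {n : ℕ} (hn : 3 ≤ n) (hq : Fintype.card F = 3) {t : ℕ}
    {D : Fin t → Submodule F (Fin n → F)} (hD : Geo.IsMDecomposition 1 D) :
    ∃ M, SafeGeom n M ∧ Geo.decompositionStabilizer D ≤ M := by
  obtain ⟨B, hB⟩ := monomial hD
  have h2 : (2 : F) ≠ 0 := by
    intro h
    have := FiniteField.cast_card_eq_zero F
    rw [hq] at this
    push_cast at this
    exact one_ne_zero (by linear_combination this - h : (1 : F) = 0)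
  refine ⟨_, .quad (coordQuad_nondegenerate B h2) (by rw [hq]; decide) hn rfl, fun g hg => ?_⟩
  obtain ⟨σ, c, hc, hcx⟩ := hB g hg
  refine ⟨1, fun v => ?_⟩
  rw [Units.val_one, one_mul]
  show ∑ i, B.repr _ i ^ 2 = ∑ i, B.repr v i ^ 2
  rw [← Equiv.sum_comp σ fun i => B.repr ((g : Matrix (Fin n) (Fin n) F) *ᵥ v) i ^ 2]
  refine Finset.sum_congr rfl fun i _ => ?_
  have hc2 : c i ^ 2 = 1 := by simpa [hq] using FiniteField.pow_card_sub_one_eq_one (c i) (hc i)
  rw [hcx, mul_pow, hc2, one_mul]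

/-- The involution of a field with four elements. -/
lemma exists_involution_four (hq : Fintype.card F = 4) :
    ∃ σ : F ≃+* F, σ ≠ RingEquiv.refl F ∧ (∀ a, σ (σ a) = a) ∧ ∀ a, σ a = a ^ 2 := by
  haveI : Fact (Nat.Prime 2) := ⟨Nat.prime_two⟩
  obtain ⟨p, hp⟩ := CharP.exists F
  obtain ⟨e, hpp, he⟩ := FiniteField.card F p
  have hp2 : p = 2 := by
    have h : p ∣ 2 ^ 2 := by
      rw [show (2 : ℕ) ^ 2 = p ^ (e : ℕ) by rw [← he, hq]; rfl]
      exact dvd_pow_self p e.pos.ne'
    exact (Nat.prime_dvd_prime_iff_eq hpp Nat.prime_two).1 (hpp.dvd_of_dvd_pow h)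
  subst hp2
  have hbij : Function.Bijective (frobenius F 2) :=
    Finite.injective_iff_bijective.1 (RingHom.injective _)
  refine ⟨RingEquiv.ofBijective _ hbij, ?_, fun a => ?_, fun a => rfl⟩
  · intro h
    obtain ⟨g, hg⟩ := IsCyclic.exists_generator (α := Fˣ)
    have h1 : orderOf g = 3 := by
      rw [orderOf_eq_card_of_forall_mem_zpowers hg, Nat.card_units, Nat.card_eq_fintype_card, hq]
    have h2 : g ^ 2 = g := Units.ext (by
      rw [Units.val_pow_eq_pow_val]; exact RingEquiv.congr_fun h (g : F))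
    have h3 : g = 1 := by rwa [sq, mul_eq_right] at h2
    rw [h3, orderOf_one] at h1
    omega
  · show (a ^ 2) ^ 2 = a
    rw [← pow_mul, show 2 * 2 = Fintype.card F by rw [hq], FiniteField.pow_card]

lemma lines_four {n : ℕ} (hn : 3 ≤ n) (hq : Fintype.card F = 4) {t : ℕ}
    {D : Fin t → Submodule F (Fin n → F)} (hD : Geo.IsMDecomposition 1 D) :
    ∃ M, SafeGeom n M ∧ Geo.decompositionStabilizer D ≤ M := by
  obtain ⟨B, hB⟩ := monomial hD
  obtain ⟨τ, hτ1, hτ2, hτ⟩ := exists_involution_four hq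
  refine ⟨_, .unitary (coordForm_unitary B hτ1 hτ2) hn rfl, fun g hg => ?_⟩
  obtain ⟨σ, c, hc, hcx⟩ := hB g hg
  refine ⟨1, fun u v => ?_⟩
  rw [Units.val_one, one_mul]
  show ∑ i, B.repr _ i * τ (B.repr _ i) = ∑ i, B.repr u i * τ (B.repr v i)
  rw [← Equiv.sum_comp σ fun i => B.repr ((g : Matrix (Fin n) (Fin n) F) *ᵥ u) i *
    τ (B.repr ((g : Matrix (Fin n) (Fin n) F) *ᵥ v) i)]
  refine Finset.sum_congr rfl fun i _ => ?_
  have hc3 : c i ^ 3 = 1 := by simpa [hq] using FiniteField.pow_card_sub_one_eq_one (c i) (hc i)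
  rw [hcx, hcx, map_mul, hτ (c i)]
  linear_combination (B.repr u i * τ (B.repr v i)) * hc3

/-- Line decompositions are never needed below five elements. -/
lemma lines_small {n : ℕ} (hn : 3 ≤ n) (hq : Fintype.card F < 5) {t : ℕ}
    {D : Fin t → Submodule F (Fin n → F)} (hD : Geo.IsMDecomposition 1 D) :
    ∃ M, SafeGeom n M ∧ Geo.decompositionStabilizer D ≤ M := by
  have h1 : 1 < Fintype.card F := Fintype.one_lt_card
  rcases (show Fintype.card F = 2 ∨ Fintype.card F = 3 ∨ Fintype.card F = 4 by omega) with h | h | h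
  · exact lines_two (by omega) h hD
  · exact lines_three hn h hD
  · exact lines_four hn h hD

omit [Fintype F] in
lemma planes_similarity {n t : ℕ} {D : Fin t → Submodule F (Fin n → F)}
    (hD : Geo.IsMDecomposition 2 D) :
    ∃ f, Geo.IsSymplecticForm f ∧ ∀ g ∈ Geo.decompositionStabilizer D,
      ∃ (d : Fin t → F), (g : Matrix (Fin n) (Fin n) F).det = ∏ i, d i ∧
        ((∀ i j, d i = d j) → g ∈ Geo.similarityGroup f) := by
  obtain ⟨B, hB⟩ := exists_adapted_basis hD
  refine ⟨_, pairForm_symplectic B, fun g hg => ?_⟩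
  obtain ⟨σ, A, hA⟩ := hB g hg
  have hdet := det_of_blocks B _ σ A hA
  refine ⟨fun i => (A i).det, hdet, fun heq => ?_⟩
  have hne : ∀ i, (A i).det ≠ 0 := fun i h => by
    have h' := ((Matrix.isUnit_iff_isUnit_det _).1 g.isUnit).ne_zero
    rw [hdet] at h'
    exact h' (Finset.prod_eq_zero (Finset.mem_univ i) h)
  let i₀ : Fin t := ⟨0, by have := hD.two_le; omega⟩
  refine ⟨Units.mk0 _ (hne i₀), fun u v => ?_⟩
  rw [Units.val_mk0, Finset.mul_sum]
  dsimp only
  rw [← Equiv.sum_comp σ fun i => B.repr ((g : Matrix (Fin n) (Fin n) F) *ᵥ u) (i, 0) *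
      B.repr ((g : Matrix (Fin n) (Fin n) F) *ᵥ v) (i, 1) -
    B.repr ((g : Matrix (Fin n) (Fin n) F) *ᵥ u) (i, 1) *
      B.repr ((g : Matrix (Fin n) (Fin n) F) *ᵥ v) (i, 0)]
  refine Finset.sum_congr rfl fun i _ => ?_
  rw [hA, hA, hA, hA, show (A i₀).det = (A i).det from heq i₀ i, Matrix.det_fin_two]
  simp only [Fin.sum_univ_two]
  ring

lemma planes_two {n t : ℕ} (hn : 4 ≤ n) (hq : Fintype.card F = 2)
    {D : Fin t → Submodule F (Fin n → F)} (hD : Geo.IsMDecomposition 2 D) :
    ∃ M, SafeGeom n M ∧ Geo.decompositionStabilizer D ≤ M := by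
  obtain ⟨f, hf, h⟩ := planes_similarity hD
  refine ⟨_, .symplectic hf (by simpa using even_card_of_symplectic hf) hn rfl, fun g hg => ?_⟩
  obtain ⟨d, hdet, hsim⟩ := h g hg
  have h1 : ∀ i, d i = 1 := fun i => eq_one_of_card_two hq fun h0 => by
    have h' := ((Matrix.isUnit_iff_isUnit_det _).1 g.isUnit).ne_zero
    rw [hdet] at h'
    exact h' (Finset.prod_eq_zero (Finset.mem_univ i) h0)
  exact hsim fun i j => by rw [h1, h1]

lemma planes_three {D : Fin 2 → Submodule F (Fin 4 → F)} (hq : Fintype.card F = 3)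
    (hD : Geo.IsMDecomposition 2 D) :
    ∃ M, SafeGeom 4 M ∧
      Geo.decompositionStabilizer D ⊓ Geo.specialLinear (Fin 4) F ≤ M := by
  obtain ⟨f, hf, h⟩ := planes_similarity hD
  refine ⟨_, .symplectic hf ⟨2, rfl⟩ le_rfl rfl, fun g hg => ?_⟩
  obtain ⟨d, hdet, hsim⟩ := h g hg.1
  have hg1 : (g : Matrix (Fin 4) (Fin 4) F).det = 1 :=
    congrArg Units.val (MonoidHom.mem_ker.1 hg.2)
  rw [hdet, Fin.prod_univ_two] at hg1
  have hd : d 0 = d 1 := by
    have hne : d 0 ≠ 0 := left_ne_zero_of_mul (hg1 ▸ one_ne_zero : d 0 * d 1 ≠ 0)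
    have hsq : d 0 ^ 2 = 1 := by simpa [hq] using FiniteField.pow_card_sub_one_eq_one (d 0) hne
    linear_combination (d 1) * hsq - (d 0) * hg1
  exact hsim fun i j => by fin_cases i <;> fin_cases j <;> simp [hd]

/-- With two elements, a tensor factor of dimension two is a quadratic extension field. -/
lemma tensor_two {n n₂ : ℕ} (hn₂ : 1 ≤ n₂) (hq : Fintype.card F = 2)
    (e : Fin n ≃ Fin 2 × Fin n₂) (P : GL (Fin n) F) :
    ∃ K : Subalgebra F (Matrix (Fin n) (Fin n) F), Geo.IsFieldSubalgebra 2 K ∧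
      Geo.tensorProductSubgroup 2 n₂ e P ≤ Geo.subalgebraNormalizer K := by
  haveI : NeZero n₂ := ⟨by omega⟩
  have h01 : ∀ x : F, x = 0 ∨ x = 1 := fun x =>
    (em (x = 0)).imp_right fun h => eq_one_of_card_two hq h
  have htwo : (2 : F) = 0 := by
    have := FiniteField.cast_card_eq_zero F
    rw [hq] at this
    exact_mod_cast this
  let w : Matrix (Fin 2) (Fin 2) F := !![0, 1; 1, 1]
  let S : Submodule F (Matrix (Fin 2) (Fin 2) F) := Submodule.span F {1, w}
  have hS : ∀ x, x ∈ S ↔ ∃ a b : F, x = a • 1 + b • w := fun x => by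
    simp only [S, Submodule.mem_span_pair, eq_comm]
  have hww : w * w = 1 + w := by
    ext i j; fin_cases i <;> fin_cases j <;>
      simp [w, Matrix.mul_apply, Fin.sum_univ_two]
  let K₀ : Subalgebra F (Matrix (Fin 2) (Fin 2) F) := S.toSubalgebra
    ((hS 1).2 ⟨1, 0, by simp⟩) (fun x y hx hy => by
      obtain ⟨a, b, rfl⟩ := (hS x).1 hx
      obtain ⟨c, d, rfl⟩ := (hS y).1 hy
      refine (hS _).2 ⟨a * c + b * d, a * d + b * c + b * d, ?_⟩
      simp [add_mul, mul_add, smul_smul, hww, smul_add, add_smul]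
      module)
  have hmem : ∀ x, x ∈ K₀ ↔ ∃ a b : F, x = a • 1 + b • w := hS
  let κ := kemb e P
  refine ⟨K₀.map κ, ⟨?_, ?_, ?_⟩, ?_⟩
  · rintro _ ⟨x, hx, rfl⟩ _ ⟨y, hy, rfl⟩
    show κ x * κ y = κ y * κ x
    rw [← map_mul, ← map_mul]
    congr 1
    obtain ⟨a, b, rfl⟩ := (hmem x).1 hx
    obtain ⟨c, d, rfl⟩ := (hmem y).1 hy
    simp [add_mul, mul_add, smul_smul, mul_comm]
    abel
  · rintro _ ⟨x, hx, rfl⟩ hx0
    obtain ⟨a, b, rfl⟩ := (hmem x).1 hx
    rcases h01 a with rfl | rfl <;> rcases h01 b with rfl | rfl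
    · simp at hx0
    · refine ⟨κ (1 + w), ⟨1 + w, (hmem _).2 ⟨1, 1, by simp⟩, rfl⟩, ?_⟩
      show κ _ * κ _ = 1
      rw [← map_mul, ← map_one κ]
      congr 1
      simp [mul_add, hww]
      rw [← add_assoc, add_comm w 1, add_assoc, ← two_smul F w, htwo, zero_smul, add_zero]
    · exact ⟨1, one_mem _, by simp⟩
    · refine ⟨κ w, ⟨w, (hmem _).2 ⟨0, 1, by simp⟩, rfl⟩, ?_⟩
      show κ _ * κ _ = 1
      rw [← map_mul, ← map_one κ]
      congr 1
      simp [add_mul, hww]
      rw [← add_assoc, add_comm w 1, add_assoc, ← two_smul F w, htwo, zero_smul, add_zero]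
  · rw [← (Subalgebra.equivMapOfInjective K₀ κ (kemb_injective e P)).toLinearEquiv.finrank_eq]
    show Module.finrank F S = 2
    have hli : LinearIndependent F ![(1 : Matrix (Fin 2) (Fin 2) F), w] := by
      rw [LinearIndependent.pair_iff]
      intro a b h
      have h00 := congrFun (congrFun h 0) 0
      have h01' := congrFun (congrFun h 0) 1
      simp [w] at h00 h01'
      exact ⟨h00, h01'⟩
    have hfr := finrank_span_eq_card hli
    rwa [Matrix.range_cons_cons_empty, Fintype.card_fin] at hfr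
  · intro g hg
    have key : ∀ a : GL (Fin 2) F, ∀ x ∈ K₀, cj a x ∈ K₀ := by
      intro a x hx
      obtain ⟨c, d, rfl⟩ := (hmem x).1 hx
      rw [map_add, map_smul, map_smul, map_one]
      refine add_mem (Subalgebra.smul_mem _ (one_mem _) _) (Subalgebra.smul_mem _ ?_ _)
      have hd : (a : Matrix (Fin 2) (Fin 2) F).det ≠ 0 :=
        ((Matrix.isUnit_iff_isUnit_det _).1 a.isUnit).ne_zero
      have hcase : (a : Matrix (Fin 2) (Fin 2) F) * w = w * (a : Matrix (Fin 2) (Fin 2) F) ∨
          (a : Matrix (Fin 2) (Fin 2) F) * w = (1 + w) * (a : Matrix (Fin 2) (Fin 2) F) := by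
        generalize (a : Matrix (Fin 2) (Fin 2) F) = m at hd ⊢
        obtain ⟨p, q, r, s, rfl⟩ : ∃ p q r s, m = !![p, q; r, s] :=
          ⟨_, _, _, _, Matrix.eta_fin_two m⟩
        haveI : CharP F 2 := CharTwo.of_one_ne_zero_of_two_eq_zero one_ne_zero htwo
        rcases h01 p with rfl | rfl <;> rcases h01 q with rfl | rfl <;>
          rcases h01 r with rfl | rfl <;> rcases h01 s with rfl | rfl <;>
          simp [w, Matrix.det_fin_two, ← Matrix.ext_iff, Fin.forall_fin_two, Matrix.mul_apply,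
            Fin.sum_univ_two, Matrix.one_apply, CharTwo.add_self_eq_zero, funext_iff] at hd ⊢
      rw [cj_apply]
      rcases hcase with h | h
      · rw [h, mul_assoc, Units.mul_inv, mul_one]
        exact (hmem _).2 ⟨0, 1, by simp⟩
      · rw [h, mul_assoc, Units.mul_inv, mul_one]
        exact (hmem _).2 ⟨1, 1, by simp⟩
    obtain ⟨_, ⟨k, ⟨a, b, hk⟩, rfl⟩, hg'⟩ := hg
    have hgv : (g : Matrix (Fin n) (Fin n) F) =
        κ (a : Matrix (Fin 2) (Fin 2) F) * kembR e P (b : Matrix (Fin n₂) (Fin n₂) F) := by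
      rw [kemb_mul_kembR, ← hk, ← hg']
      simp [cj_apply, Geo.glReindex]
    have hconj : ∀ X, cj g (κ X) = κ (cj a X) := fun X => by
      rw [cj_apply g, Units.mul_inv_eq_iff_eq_mul, hgv, ← mul_assoc, ← map_mul, cj_apply,
        mul_assoc _ _ (a : Matrix (Fin 2) (Fin 2) F), Units.inv_mul, mul_one, mul_assoc,
        (kembR_mul_kemb e P X _).trans (kemb_mul_kembR e P X _).symm, ← mul_assoc, ← map_mul]
    intro x
    show x ∈ K₀.map κ ↔ cj g x ∈ K₀.map κ
    constructor
    · rintro ⟨X, hX, rfl⟩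
      exact ⟨cj a X, key a X hX, (hconj X).symm⟩
    · rintro ⟨Y, hY, h⟩
      refine ⟨cj a⁻¹ Y, key a⁻¹ Y hY, (cj g).injective ?_⟩
      show cj g (κ (cj a⁻¹ Y)) = cj g x
      rw [hconj, cj_cj_inv]
      exact h

end Cfsg.Agent.Aschbacher
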