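import Cfsg.Agent.Lib.Aschbacher.LinMax

/-!
The cubic field normaliser over four elements lies in a subfield group.
-/

set_option autoImplicit false
set_option linter.style.haveILetI false

namespace Cfsg.Agent.Aschbacher

open scoped MatrixGroups Matrix
open Matrix

variable {ι : Type} [Fintype ι] [DecidableEq ι] {F : Type*} [Field F]

/-- A multiple of a change of basis of a group element with entries in a subfield. -/
lemma mem_subfieldSubgroup_of_smul (F₁ : Subfield F) (P : GL ι F) {g : GL ι F} {a : F}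
    (ha : a ≠ 0) (M : Matrix ι ι F₁)
    (hM : (g : Matrix ι ι F) * (P : Matrix ι ι F) = (P : Matrix ι ι F) * (a • F₁.subtype.mapMatrix M)) :
    g ∈ Geo.subfieldSubgroup F₁ P := by
  classical
  set h : GL ι F := P⁻¹ * g * P with hh
  have hval : (h : Matrix ι ι F) = a • F₁.subtype.mapMatrix M := by
    rw [hh, Units.val_mul, Units.val_mul, mul_assoc, hM, ← mul_assoc, Units.inv_mul, one_mul]
  have hMdet : IsUnit M := by
    rw [Matrix.isUnit_iff_isUnit_det, isUnit_iff_ne_zero]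
    intro h0
    have h7 := congrArg Matrix.det hval
    rw [Matrix.det_smul, ← RingHom.map_det, h0, map_zero, mul_zero] at h7
    exact ((Matrix.isUnit_iff_isUnit_det _).1 h.isUnit).ne_zero h7
  let s : GL ι F := Units.map (Matrix.scalar ι : F →+* Matrix ι ι F).toMonoidHom (Units.mk0 a ha)
  have he : h = Matrix.GeneralLinearGroup.map F₁.subtype hMdet.unit * s := by
    refine Units.ext ?_
    show (h : Matrix ι ι F) = F₁.subtype.mapMatrix M * Matrix.scalar ι a
    rw [hval, Matrix.scalar_apply, ← Matrix.smul_one_eq_diagonal, Matrix.mul_smul, mul_one]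
  refine ⟨h, he ▸ Subgroup.mul_mem_sup ⟨_, rfl⟩ ⟨_, rfl⟩, ?_⟩
  simp only [MulEquiv.coe_toMonoidHom, MulAut.conj_apply, hh]
  group

variable [Fintype F]

theorem field_three_four {K : Subalgebra F (Matrix (Fin 3) (Fin 3) F)} (hq : Fintype.card F = 4)
    (hK : Geo.IsFieldSubalgebra 3 K) :
    ∃ (F₀ : Subfield F) (P : GL (Fin 3) F), Fintype.card F = Nat.card F₀ ^ 2 ∧
      Geo.subalgebraNormalizer K ⊓ Geo.specialLinear (Fin 3) F ≤ Geo.subfieldSubgroup F₀ P := by
  classical
  haveI : Nontrivial K := ⟨⟨0, 1, fun h => zero_ne_one (congrArg Subtype.val h)⟩⟩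
  have hfield : IsField K :=
    { exists_pair_ne := exists_pair_ne _
      mul_comm := fun a b => Subtype.ext (hK.comm _ a.2 _ b.2)
      mul_inv_cancel := fun {a} ha => by
        obtain ⟨y, hy, hxy⟩ := hK.inv a.1 a.2 fun h => ha (Subtype.ext h)
        exact ⟨⟨y, hy⟩, Subtype.ext hxy⟩ }
  letI : Field K := hfield.toField
  haveI : Fact (Nat.Prime 2) := ⟨Nat.prime_two⟩
  have hch : CharP F 2 := by
    obtain ⟨p, hp⟩ := CharP.exists F
    obtain ⟨e, hpp, he⟩ := FiniteField.card F p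
    have h : p ∣ 2 ^ 2 := by
      rw [show (2 : ℕ) ^ 2 = p ^ (e : ℕ) by rw [← he, hq]; rfl]
      exact dvd_pow_self p e.pos.ne'
    obtain rfl := (Nat.prime_dvd_prime_iff_eq hpp Nat.prime_two).1 (hpp.dvd_of_dvd_pow h)
    exact hp
  haveI : CharP K 2 := charP_of_injective_algebraMap (algebraMap F K).injective 2
  haveI : Fintype K := Fintype.ofFinite _
  have hKcard : Fintype.card K = 64 := by
    rw [Module.card_eq_pow_finrank (K := F) (V := K), hK.finrank_eq, hq]; rfl
  -- the evaluation map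
  let v₀ : Fin 3 → F := Pi.single 0 1
  have hv₀ : v₀ ≠ 0 := by simp [v₀]
  let φ₀ : K →ₗ[F] (Fin 3 → F) :=
    { toFun := fun k => (k : Matrix (Fin 3) (Fin 3) F) *ᵥ v₀
      map_add' := fun a b => by simp [Matrix.add_mulVec]
      map_smul' := fun c a => by simp [Matrix.smul_mulVec] }
  have hinj : Function.Injective φ₀ := by
    rw [← LinearMap.ker_eq_bot, LinearMap.ker_eq_bot']
    intro k hk
    by_contra h0
    obtain ⟨y, hy, hky⟩ := hK.inv k.1 k.2 fun h => h0 (Subtype.ext h)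
    refine hv₀ ?_
    have h2 : (k : Matrix (Fin 3) (Fin 3) F) *ᵥ v₀ = 0 := hk
    have h := congrArg (fun w => y *ᵥ w) h2
    simpa [Matrix.mulVec_mulVec, hK.comm y hy k.1 k.2, hky] using h
  let φ : K ≃ₗ[F] (Fin 3 → F) := LinearEquiv.ofInjectiveOfFinrankEq φ₀ hinj (by
    rw [hK.finrank_eq, Module.finrank_fintype_fun_eq_card, Fintype.card_fin])
  have hφ : ∀ k : K, φ k = (k : Matrix (Fin 3) (Fin 3) F) *ᵥ v₀ := fun k => rfl
  -- an element of order seven
  obtain ⟨z, hz⟩ := IsCyclic.exists_generator (α := Kˣ)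
  have hzord : orderOf z = 63 := by
    rw [orderOf_eq_card_of_forall_mem_zpowers hz, Nat.card_units, Nat.card_eq_fintype_card, hKcard]
  set s : K := (z : K) ^ 9 with hs
  have hz63 : (z : K) ^ 63 = 1 := by
    rw [← Units.val_pow_eq_pow_val, ← hzord, pow_orderOf_eq_one, Units.val_one]
  have hs8 : s ^ 8 = s := by
    rw [hs, ← pow_mul, show 9 * 8 = 63 + 9 by rfl, pow_add, hz63, one_mul]
  have hsF : s ∉ (algebraMap F K).range := by
    rintro ⟨c, hc⟩
    have h1 : s ^ 4 = s := by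
      rw [← hc, ← map_pow, show 4 = Fintype.card F from hq.symm, FiniteField.pow_card]
    have h2 : z ^ (36 : ℕ) = z ^ 9 := Units.ext (by
      rw [Units.val_pow_eq_pow_val, Units.val_pow_eq_pow_val, ← hs, ← h1, hs, ← pow_mul])
    rw [pow_eq_pow_iff_modEq, hzord] at h2
    exact absurd h2 (by decide)
  have hdeg : (minpoly F s).natDegree = 3 := by
    have hint : IsIntegral F s := IsIntegral.of_finite F s
    have hdvd : (minpoly F s).natDegree ∣ 3 := by
      have h := minpoly.degree_dvd hint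
      rwa [hK.finrank_eq] at h
    rcases (Nat.dvd_prime Nat.prime_three).1 hdvd with h | h
    · exact absurd (minpoly.natDegree_eq_one_iff.1 h) hsF
    · exact h
  have hli : LinearIndependent F fun i : Fin 3 => s ^ (i : ℕ) := by
    have h := linearIndependent_pow (K := F) s
    exact h.comp (finCongr hdeg.symm) (finCongr hdeg.symm).injective
  let bK : Module.Basis (Fin 3) F K := basisOfLinearIndependentOfCardEqFinrank hli (by
    rw [Fintype.card_fin, hK.finrank_eq])
  have hbK : ∀ i, bK i = s ^ (i : ℕ) := fun i => by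
    simp [bK, coe_basisOfLinearIndependentOfCardEqFinrank]
  obtain ⟨F₁, hF₁, hF₁m⟩ := exists_subfield_card (p := 2) (e := 2) (d := 1) hq one_pos (one_dvd 2)
  simp only [pow_one] at hF₁ hF₁m
  -- coordinates of fixed points of the eighth power map
  have hcoord : ∀ x : K, x ^ 8 = x → ∀ i, bK.repr x i ∈ F₁ := by
    intro x hx i
    have h8 : x ^ 8 = ∑ i, (bK.repr x i) ^ 8 • bK i := by
      conv_lhs => rw [← bK.sum_repr x]
      rw [show (8 : ℕ) = 2 ^ 3 from rfl, sum_pow_char_pow]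
      refine Finset.sum_congr rfl fun j _ => ?_
      rw [_root_.smul_pow, hbK, ← pow_mul, mul_comm, pow_mul, show (2 : ℕ) ^ 3 = 8 from rfl, hs8]
    rw [hx] at h8
    have h := congrArg (fun y => bK.repr y i) h8
    simp only [Module.Basis.repr_sum_self] at h
    have h4 : (bK.repr x i) ^ 4 = bK.repr x i := by
      rw [show 4 = Fintype.card F from hq.symm, FiniteField.pow_card]
    rw [hF₁m]
    rw [show (bK.repr x i) ^ 8 = ((bK.repr x i) ^ 4) ^ 2 by ring, h4] at h
    exact h.symm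
  let b : Module.Basis (Fin 3) F (Fin 3 → F) := bK.map φ
  let P : GL (Fin 3) F := ⟨(Pi.basisFun F (Fin 3)).toMatrix b, b.toMatrix (Pi.basisFun F (Fin 3)),
    Module.Basis.toMatrix_mul_toMatrix_flip _ _, Module.Basis.toMatrix_mul_toMatrix_flip _ _⟩
  have hP : ∀ i j, (P : Matrix (Fin 3) (Fin 3) F) i j = b j i := fun i j => rfl
  refine ⟨F₁, P, by rw [hF₁, hq]; rfl, fun g hg => ?_⟩
  obtain ⟨hgK, hg1⟩ := hg
  have hgdet : (g : Matrix (Fin 3) (Fin 3) F).det = 1 := congrArg Units.val (MonoidHom.mem_ker.1 hg1)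
  let θ : K →* K :=
    { toFun := fun k => ⟨_, (hgK k.1).1 k.2⟩
      map_one' := Subtype.ext (by simp)
      map_mul' := fun a c => Subtype.ext (by simp [mul_assoc]) }
  have hθ : ∀ k : K, (g : Matrix (Fin 3) (Fin 3) F) * (k : Matrix (Fin 3) (Fin 3) F) =
      (θ k : Matrix (Fin 3) (Fin 3) F) * (g : Matrix (Fin 3) (Fin 3) F) := fun k => by
    simp [θ, mul_assoc]
  have hθs : θ s ^ 8 = θ s := by rw [← map_pow, hs8]
  set c₀ : K := φ.symm ((g : Matrix (Fin 3) (Fin 3) F) *ᵥ v₀) with hc₀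
  have hgb : ∀ i, (g : Matrix (Fin 3) (Fin 3) F) *ᵥ b i = φ (c₀ * θ s ^ (i : ℕ)) := fun i => by
    rw [show b i = φ (bK i) from Module.Basis.map_apply _ _ _, hbK, hφ, hφ, Matrix.mulVec_mulVec,
      hθ, map_pow, mul_comm c₀, Subalgebra.coe_mul, ← Matrix.mulVec_mulVec, ← Matrix.mulVec_mulVec,
      ← hφ c₀, hc₀, LinearEquiv.apply_symm_apply]
  -- the semilinear part has determinant one
  let T : Matrix (Fin 3) (Fin 3) F₁ := Matrix.of fun i j =>
    ⟨bK.repr (θ s ^ (j : ℕ)) i, hcoord _ (by rw [← pow_mul, mul_comm, pow_mul, hθs]) i⟩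
  have hgP : (g : Matrix (Fin 3) (Fin 3) F) * P =
      (c₀ : Matrix (Fin 3) (Fin 3) F) * (P * F₁.subtype.mapMatrix T) := by
    refine Matrix.ext fun i j => ?_
    have h1 : ((g : Matrix (Fin 3) (Fin 3) F) * P) i j =
        ((g : Matrix (Fin 3) (Fin 3) F) *ᵥ b j) i := rfl
    have h2 : ∀ l, ((P : Matrix (Fin 3) (Fin 3) F) * F₁.subtype.mapMatrix T) l j =
        φ (θ s ^ (j : ℕ)) l := fun l => by
      conv_rhs => rw [← bK.sum_repr (θ s ^ (j : ℕ)), map_sum, Finset.sum_apply]
      rw [Matrix.mul_apply]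
      refine Finset.sum_congr rfl fun k _ => ?_
      rw [map_smul, Pi.smul_apply, smul_eq_mul, mul_comm]
      rfl
    rw [h1, hgb, hφ, Subalgebra.coe_mul, ← Matrix.mulVec_mulVec, ← hφ]
    exact congrArg (fun f => (c₀ : Matrix (Fin 3) (Fin 3) F) i ⬝ᵥ f) (funext h2).symm
  have hPdet : (P : Matrix (Fin 3) (Fin 3) F).det ≠ 0 :=
    ((Matrix.isUnit_iff_isUnit_det _).1 P.isUnit).ne_zero
  have hdet := congrArg Matrix.det hgP
  rw [Matrix.det_mul, Matrix.det_mul, Matrix.det_mul, hgdet, one_mul, ← RingHom.map_det] at hdet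
  have hT : (T.det : F) = 1 := by
    have hne : (T.det : F) ≠ 0 := fun h => hPdet (by
      rw [hdet]; simp [h])
    have h2 := (hF₁m _).1 T.det.2
    rwa [sq, mul_eq_left₀ hne] at h2
  have hc₀det : (c₀ : Matrix (Fin 3) (Fin 3) F).det = 1 := by
    rw [show F₁.subtype T.det = 1 from hT, mul_one] at hdet
    exact (mul_eq_right₀ hPdet).1 hdet.symm
  have hnorm : Algebra.norm F c₀ = 1 := by
    rw [← hc₀det, Algebra.norm_apply, ← LinearMap.det_toLin', ← LinearMap.det_conj _ φ]
    congr 1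
    refine LinearMap.ext fun v => ?_
    obtain ⟨k, rfl⟩ := φ.surjective v
    simp [hφ, Matrix.mulVec_mulVec]
    rw [← hφ k, φ.symm_apply_apply]
  have h21 : c₀ ^ 21 = 1 := by
    have h := FiniteField.algebraMap_norm_eq_pow (K := F) (K' := K) (x := c₀)
    rw [hnorm, map_one, Nat.card_eq_fintype_card, Nat.card_eq_fintype_card, hKcard, hq] at h
    exact h.symm
  have hc0 : c₀ ≠ 0 := fun h => by rw [h, zero_pow (by norm_num)] at h21; exact zero_ne_one h21
  have hc7 : c₀ ^ 7 ∈ (algebraMap F K).range := by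
    -- roots of `x ^ 4 = x` lie in the scalars
    have h3 : (c₀ ^ 7) ^ 4 = c₀ ^ 7 := by
      rw [← pow_mul, show 7 * 4 = 21 + 7 by rfl, pow_add, h21, one_mul]
    by_contra hnot
    let f : Option F → {x : K // x ^ 4 = x} := fun o => o.elim ⟨_, h3⟩ fun a => ⟨algebraMap F K a, by
      rw [← map_pow, show 4 = Fintype.card F from hq.symm, FiniteField.pow_card]⟩
    have hfinj : Function.Injective f := by
      rintro (_ | x) (_ | y) h
      · rfl
      · exact absurd ⟨y, (congrArg Subtype.val h).symm⟩ hnot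
      · exact absurd ⟨x, congrArg Subtype.val h⟩ hnot
      · exact congrArg some ((algebraMap F K).injective (congrArg Subtype.val h))
    have hle := Nat.card_le_card_of_injective f hfinj
    rw [card_pow_eq_self (by norm_num) (by rw [hKcard]; norm_num), Finite.card_option,
      Nat.card_eq_fintype_card, hq] at hle
    omega
  obtain ⟨a, ha⟩ := hc7
  have ha0 : a ≠ 0 := fun h => pow_ne_zero 7 hc0 (by rw [← ha, h, map_zero])
  have hs15 : (c₀ ^ 15) ^ 8 = c₀ ^ 15 := by
    rw [← pow_mul, show 15 * 8 = 21 * 5 + 15 by rfl, pow_add, pow_mul, h21, one_pow, one_mul]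
  let M : Matrix (Fin 3) (Fin 3) F₁ := Matrix.of fun i j =>
    ⟨bK.repr (c₀ ^ 15 * θ s ^ (j : ℕ)) i, hcoord _ (by
      rw [mul_pow, hs15, ← pow_mul, mul_comm (j : ℕ), pow_mul, hθs]) i⟩
  refine mem_subfieldSubgroup_of_smul F₁ P ha0 M (Matrix.ext fun i j => ?_)
  have h1 : ((g : Matrix (Fin 3) (Fin 3) F) * P) i j =
      ((g : Matrix (Fin 3) (Fin 3) F) *ᵥ b j) i := rfl
  have hc : c₀ * θ s ^ (j : ℕ) = a • (c₀ ^ 15 * θ s ^ (j : ℕ)) := by
    rw [Algebra.smul_def, ha, ← mul_assoc, ← pow_add, show 7 + 15 = 21 + 1 by rfl, pow_add, h21,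
      one_mul, pow_one]
  rw [h1, hgb, hc, map_smul, Pi.smul_apply, smul_eq_mul, Matrix.mul_smul, Matrix.smul_apply,
    smul_eq_mul]
  congr 1
  conv_lhs => rw [← bK.sum_repr (c₀ ^ 15 * θ s ^ (j : ℕ)), map_sum, Finset.sum_apply]
  rw [Matrix.mul_apply]
  refine Finset.sum_congr rfl fun k _ => ?_
  rw [map_smul, Pi.smul_apply, smul_eq_mul, mul_comm]
  rfl

end Cfsg.Agent.Aschbacher
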