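import Cfsg.Agent.Lib.Aschbacher.Master

/-!
The linear case: every subgroup lies in a geometric member or is residual.
-/

set_option autoImplicit false
set_option linter.style.haveILetI false

namespace Cfsg.Agent.Aschbacher

open scoped MatrixGroups Matrix commutatorElement
open Matrix

variable {F : Type*} [Field F] [Fintype F]

/-- The geometric members needed in the linear case, with the dimension recorded for class six. -/
inductive LinGeom (n : ℕ) (M : Subgroup (GL (Fin n) F)) : Prop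
  | subspace {W : Submodule F (Fin n → F)} (h0 : W ≠ ⊥) (h1 : W ≠ ⊤)
      (h : M = Geo.subspaceStabilizer W)
  | decomp {t m : ℕ} {D : Fin t → Submodule F (Fin n → F)} (hD : Geo.IsMDecomposition m D)
      (h : M = Geo.decompositionStabilizer D)
  | field {r : ℕ} {K : Subalgebra F (Matrix (Fin n) (Fin n) F)} (hr : r.Prime) (hdvd : r ∣ n)
      (hK : Geo.IsFieldSubalgebra r K) (h : M = Geo.subalgebraNormalizer K)
  | tensor {n₁ n₂ : ℕ} {e : Fin n ≃ Fin n₁ × Fin n₂} {P : GL (Fin n) F} (h1 : 2 ≤ n₁)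
      (h2 : n₁ < n₂) (h : M = Geo.tensorProductSubgroup n₁ n₂ e P)
  | subfield {F₀ : Subfield F} {r : ℕ} {P : GL (Fin n) F} (hr : r.Prime)
      (hcard : Fintype.card F = Nat.card F₀ ^ r) (h : M = Geo.subfieldSubgroup F₀ P)
  | symplType {r k : ℕ} {R : Subgroup (GL (Fin n) F)} (hd : Geo.IsLinearSymplecticTypeData r R)
      (hn : n = r ^ k) (h : M = Geo.subgroupNormalizer R)
  | wreath {m t : ℕ} {e : Fin n ≃ (Fin t → Fin m)} {P : GL (Fin n) F} (hm : 3 ≤ m) (ht : 2 ≤ t)
      (h : M = Geo.tensorWreathSubgroup m t e P)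
  | symplectic {f : (Fin n → F) → (Fin n → F) → F} (hf : Geo.IsSymplecticForm f) (he : Even n)
      (h4 : 4 ≤ n) (h : M = Geo.similarityGroup f)
  | unitary {σ : F ≃+* F} {f : (Fin n → F) → (Fin n → F) → F} (hf : Geo.IsUnitaryForm σ f)
      (h3 : 3 ≤ n) (h : M = Geo.similarityGroup f)
  | quad {Q : (Fin n → F) → F} (hQ : Geo.IsNondegenerateQuadraticForm Q)
      (hq : Odd (Fintype.card F)) (h3 : 3 ≤ n) (h : M = Geo.quadSimilarityGroup Q)

lemma LinGeom.inLinearClass {n : ℕ} {M : Subgroup (GL (Fin n) F)} (h : LinGeom n M) :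
    Geo.InLinearClass n F M := by
  unfold Geo.InLinearClass
  cases h with
  | @subspace W h0 h1 h => exact Or.inl ⟨W, h0, h1, h⟩
  | @decomp t m D hD h => exact Or.inr <| Or.inr <| Or.inr <| Or.inl ⟨t, m, D, hD, h⟩
  | @field r K hr _ hK h => exact Or.inr <| Or.inr <| Or.inr <| Or.inr <| Or.inl ⟨r, K, hr, hK, h⟩
  | @tensor n₁ n₂ e P h1 h2 h =>
    exact Or.inr <| Or.inr <| Or.inr <| Or.inr <| Or.inr <| Or.inl ⟨n₁, n₂, e, P, h1, h2, h⟩
  | @subfield F₀ r P hr hc h =>
    exact Or.inr <| Or.inr <| Or.inr <| Or.inr <| Or.inr <| Or.inr <| Or.inl ⟨F₀, r, P, hr, hc, h⟩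
  | @symplType r k R hd _ h =>
    exact Or.inr <| Or.inr <| Or.inr <| Or.inr <| Or.inr <| Or.inr <| Or.inr <| Or.inl ⟨r, R, hd, h⟩
  | @wreath m t e P hm ht h =>
    exact Or.inr <| Or.inr <| Or.inr <| Or.inr <| Or.inr <| Or.inr <| Or.inr <| Or.inr <| Or.inl
      ⟨m, t, e, P, hm, ht, h⟩
  | @symplectic f hf he h4 h =>
    exact Or.inr <| Or.inr <| Or.inr <| Or.inr <| Or.inr <| Or.inr <| Or.inr <| Or.inr <| Or.inr <|
      Or.inl ⟨f, hf, he, h4, h⟩
  | @unitary σ f hf h3 h =>
    exact Or.inr <| Or.inr <| Or.inr <| Or.inr <| Or.inr <| Or.inr <| Or.inr <| Or.inr <| Or.inr <|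
      Or.inr <| Or.inl ⟨σ, f, hf, h3, h⟩
  | @quad Q hQ hq h3 h =>
    exact Or.inr <| Or.inr <| Or.inr <| Or.inr <| Or.inr <| Or.inr <| Or.inr <| Or.inr <| Or.inr <|
      Or.inr <| Or.inr ⟨Q, hQ, hq, h3, h⟩

lemma odd_card_of_two_ne_zero₂ (h2 : (2 : F) ≠ 0) : Odd (Fintype.card F) := by
  rw [Nat.odd_iff]
  exact FiniteField.odd_card_of_char_ne_two fun h => h2 (by
    haveI : CharP F 2 := h ▸ ringChar.charP F
    exact_mod_cast CharP.cast_eq_zero F 2)

lemma subfieldSubgroup_mono {ι : Type} [Fintype ι] [DecidableEq ι] {F₀ F₁ : Subfield F}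
    (h : F₀ ≤ F₁) (P : GL ι F) : Geo.subfieldSubgroup F₀ P ≤ Geo.subfieldSubgroup F₁ P := by
  refine Subgroup.map_mono (sup_le_sup_right ?_ _)
  rintro _ ⟨g, rfl⟩
  refine ⟨Matrix.GeneralLinearGroup.map (Subfield.inclusion h) g, ?_⟩
  exact Units.ext (Matrix.ext fun _ _ => rfl)

lemma exists_subfield_member {n : ℕ} {H : Subgroup (GL (Fin n) F)} {F₁ : Subfield F}
    {B : GL (Fin n) F} (hne : F₁ ≠ ⊤) (h : H ≤ Geo.subfieldSubgroup F₁ B) :
    ∃ M, LinGeom n M ∧ H ≤ M := by
  obtain ⟨F₂, r, hle, hr, hcard⟩ := exists_prime_index hne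
  exact ⟨_, .subfield (P := B) hr hcard rfl, h.trans (subfieldSubgroup_mono hle B)⟩

lemma exists_quad_member {n : ℕ} (hn : 3 ≤ n) {H : Subgroup (GL (Fin n) F)}
    {G : Matrix (Fin n) (Fin n) F} (hu : IsUnit G) (hsymm : Gᵀ = G)
    (hsymp : (2 : F) = 0 → Geo.IsSymplecticForm (formOf G))
    (hsim : H ≤ Geo.similarityGroup (formOf G))
    (hquad : H ≤ Geo.quadSimilarityGroup (fun v => formOf G v v)) :
    ∃ M, LinGeom n M ∧ H ≤ M := by
  by_cases h2 : (2 : F) = 0
  · have he : Even n := by simpa using even_card_of_symplectic (hsymp h2)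
    exact ⟨_, .symplectic (hsymp h2) he (by obtain ⟨j, rfl⟩ := he; omega) rfl, hsim⟩
  · exact ⟨_, .quad (formOf_quadratic hu hsymm h2) (odd_card_of_two_ne_zero₂ h2) hn rfl, hquad⟩

lemma exists_symp_member {n : ℕ} (hn : 3 ≤ n) {H : Subgroup (GL (Fin n) F)}
    {f : (Fin n → F) → (Fin n → F) → F} (hf : Geo.IsSymplecticForm f)
    (h : H ≤ Geo.similarityGroup f) : ∃ M, LinGeom n M ∧ H ≤ M := by
  have he : Even n := by simpa using even_card_of_symplectic hf
  exact ⟨_, .symplectic hf he (by obtain ⟨j, rfl⟩ := he; omega) rfl, h⟩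

/-- Every subgroup lies in a geometric member or is in the residual class. -/
theorem linear_aschbacher {n : ℕ} (hn : 3 ≤ n) (H : Subgroup (GL (Fin n) F)) :
    (∃ M, LinGeom n M ∧ H ≤ M) ∨ Geo.InLinearResidualClass H := by
  classical
  haveI : Nonempty (Fin n) := ⟨⟨0, by omega⟩⟩
  set H' := H ⊔ Geo.scalars (Fin n) F with hH'
  have hHH' : H ≤ H' := le_sup_left
  suffices hmain : (∃ M, LinGeom n M ∧ H' ≤ M) ∨ Geo.InLinearResidualClass H from
    hmain.imp (fun ⟨M, hM, hle⟩ => ⟨M, hM, hHH'.trans hle⟩) id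
  cases aschbacher (H := H') le_sup_right (by simp; omega) with
  | reducible h0 h1 h => exact Or.inl ⟨_, .subspace h0 h1 rfl, h⟩
  | decomp hD h => exact Or.inl ⟨_, .decomp hD rfl, h⟩
  | field hr hdvd hK h => exact Or.inl ⟨_, .field hr (by simpa using hdvd) hK rfl, h⟩
  | @tensor a b eq P ha hb h =>
    refine Or.inl ?_
    haveI : NeZero a := ⟨by omega⟩
    haveI : NeZero b := ⟨by omega⟩
    rcases lt_trichotomy a b with hab | rfl | hab
    · exact ⟨_, .tensor ha hab rfl, le_tensorProduct eq P h⟩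
    · rcases Nat.lt_or_ge a 3 with h3 | h3
      · obtain rfl : a = 2 := by omega
        obtain ⟨hu, hs, hsp⟩ := jjGram_props eq P
        exact exists_quad_member hn hu hs hsp (le_jj_similarity eq P h).1
          (le_jj_similarity eq P h).2
      · exact ⟨_, .wreath h3 le_rfl rfl, le_tensorWreath_two eq P h⟩
    · exact ⟨_, .tensor hb hab rfl, le_tensorProduct_swap eq P h⟩
  | sympl h =>
    refine Or.inl ?_
    cases h with
    | @data r k R hcard hd h =>
      exact ⟨_, .symplType (hd (by simpa using hn)) (by simpa using hcard) rfl, h⟩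
    | subfield hne h => exact exists_subfield_member hne h
    | unitary hf h => exact ⟨_, .unitary hf hn rfl, h⟩
    | quad hQ h2 h => exact ⟨_, .quad hQ (odd_card_of_two_ne_zero₂ h2) hn rfl, h⟩
    | symplectic hf h => exact exists_symp_member hn hf h
  | nonab h =>
    cases h with
    | @wreath k a eq P _φ hk ha _ _ _ _ h =>
      refine Or.inl ?_
      rcases Nat.lt_or_ge a 3 with h3 | h3
      · obtain rfl : a = 2 := by omega
        obtain ⟨hu, hs, hsp⟩ := jPow_props eq P
        have hsim : H' ≤ Geo.similarityGroup (formOf (jPow eq P)) := fun g hg => by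
          obtain ⟨σ, gs, hg'⟩ := h g hg; exact (mem_jPow_similarity eq P σ gs hg').1
        have hquad : H' ≤ Geo.quadSimilarityGroup (fun v => formOf (jPow eq P) v v) := fun g hg => by
          obtain ⟨σ, gs, hg'⟩ := h g hg; exact (mem_jPow_similarity eq P σ gs hg').2
        rcases Nat.even_or_odd k with hke | hko
        · exact exists_quad_member hn hu (hs hke) (fun h2 => hsp (Or.inr ⟨h2, by omega⟩)) hsim hquad
        · exact exists_symp_member hn (hsp (Or.inl hko)) hsim
      · refine ⟨_, .wreath (e := eq) (P := P) h3 hk rfl, fun g hg => ?_⟩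
        obtain ⟨σ, gs, hg'⟩ := h g hg
        rw [eq_conj_glReindex eq P (permGL (factorPerm σ) * pureGL gs) hg']
        exact Subgroup.mem_map_of_mem _ (Subgroup.mem_map_of_mem _ (mul_mem
          (Subgroup.subset_closure (Or.inr (isFactorPermutation_permGL σ)))
          (Subgroup.subset_closure (Or.inl (isPureTensor_pureGL gs)))))
    | @core L le normal perfect simple nonabelian centralizer top =>
      have hLH : L ≤ H := by
        have h1 : ⁅L, L⁆ ≤ ⁅H', H'⁆ := Subgroup.commutator_mono le le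
        rw [perfect] at h1
        refine h1.trans ((commutator_sup_scalars H).trans ?_)
        rw [Subgroup.commutator_le]
        exact fun a ha b hb => H.mul_mem (H.mul_mem (H.mul_mem ha hb) (inv_mem ha)) (inv_mem hb)
      have habs := absIrred_of_spanAlg_eq_top top
      by_cases hsub : ∃ F₀ : Subfield F, F₀ ≠ ⊤ ∧ Geo.RealisableOver F₀ (Geo.matrixSet L)
      · obtain ⟨F₀, hne, B, hB⟩ := hsub
        exact Or.inl (exists_subfield_member hne (le_subfieldSubgroup top normal F₀ hB))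
      by_cases hQ : ∃ Q, Geo.IsNondegenerateQuadraticForm Q ∧
          Geo.FixesQuadForm (Geo.matrixSet L) Q
      · obtain ⟨Q, hQ, hfix⟩ := hQ
        refine Or.inl ?_
        by_cases h2 : (2 : F) = 0
        · exact exists_symp_member hn (polar_symplectic hQ h2) (similar_of_fixes_bilinear habs
            normal hQ.polar_bilinear hQ.nondegenerate (fixes_polar hfix))
        · exact ⟨_, .quad hQ (odd_card_of_two_ne_zero₂ h2) hn rfl,
            similar_of_fixes_quad habs normal hQ h2 hfix⟩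
      by_cases hS : ∃ f, Geo.IsSymplecticForm f ∧ Geo.FixesForm (Geo.matrixSet L) f
      · obtain ⟨f, hf, hfix⟩ := hS
        exact Or.inl (exists_symp_member hn hf
          (similar_of_fixes_bilinear habs normal hf.bilinear hf.nondegenerate hfix))
      by_cases hU : ∃ (σ : F ≃+* F) (f : (Fin n → F) → (Fin n → F) → F),
          Geo.IsUnitaryForm σ f ∧ Geo.FixesForm (Geo.matrixSet L) f
      · obtain ⟨σ, f, hf, hfix⟩ := hU
        exact Or.inl ⟨_, .unitary hf hn rfl, similar_of_fixes_unitary habs normal hf hfix⟩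
      refine Or.inr ⟨L, ⟨hLH, fun h hh => normal h (hHH' hh), perfect, simple, nonabelian,
        fun h hh => centralizer h (hHH' hh), habs, fun F₀ hne hr => hsub ⟨F₀, hne, hr⟩⟩, hQ, hS, hU⟩

end Cfsg.Agent.Aschbacher
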