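import Cfsg.Agent.Lib.Aschbacher.FormFrames
import Cfsg.Agent.Lib.Transvec.OrthStab

/-!
The subgroup theorem for the orthogonal groups in odd dimension.
-/

set_option autoImplicit false
set_option linter.style.haveILetI false

namespace Cfsg.Agent.Aschbacher

open scoped MatrixGroups Matrix Kronecker commutatorElement
open Matrix

variable {ι : Type} [Fintype ι] [DecidableEq ι] {F : Type*} [Field F]
variable {ε : F} {f : (ι → F) → (ι → F) → F}

/-- The determinant is trivial on `Ω`. -/
lemma omegaGL_le_specialLinear (Q : (ι → F) → F) : Geo.omegaGL Q ≤ Geo.specialLinear ι F := by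
  rw [Geo.omegaGL, Subgroup.map_le_iff_le_comap]
  refine Subgroup.commutator_le.2 fun a _ b _ => ?_
  simp only [Subgroup.mem_comap, Geo.specialLinear, MonoidHom.mem_ker, map_commutatorElement]
  exact commutatorElement_eq_one_iff_commute.2 (Commute.all _ _)

/-- In odd dimension a scaled rational Gram matrix rescales to the form itself. -/
lemma RatGram.normalise_orth [Fintype F] (hf : IsHermLike (RingEquiv.refl F) ε f)
    {F₁ : Subfield F} {P : GL ι F} {ζ : F} {G : Matrix ι ι F}
    (h : RatGram (RingEquiv.refl F) f F₁ P ζ G) (hodd : Odd (Fintype.card ι))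
    (hgram : ∀ i j, f (Pi.single i 1) (Pi.single j 1) ∈ F₁) :
    ∃ z ∈ Geo.scalars ι F, ∃ G₂, RatGram (RingEquiv.refl F) f F₁ (P * z) 1 G₂ := by
  classical
  have hG : G = ζ • ((P : Matrix ι ι F)ᵀ * (hf.gram : Matrix ι ι F) * (P : Matrix ι ι F)) := by
    refine gram_ext (σ := RingEquiv.refl F) fun u v => ?_
    rw [← h.eq u v, congrFun (congrFun hf.eq_sesqOf _) _, sesqOf_mulVec]
    simp [sesqOf, Matrix.smul_mulVec, dotProduct_smul]
  set d := (hf.gram : Matrix ι ι F).det with hd
  have hd0 : d ≠ 0 := ((Matrix.isUnit_iff_isUnit_det _).1 hf.gram.isUnit).ne_zero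
  have hdet_mem : ∀ {M : Matrix ι ι F}, (∀ i j, M i j ∈ F₁) → M.det ∈ F₁ := fun {M} hM => by
    rw [Matrix.det_apply]
    exact sum_mem fun π _ => zsmul_mem (prod_mem fun i _ => hM _ _) _
  have hdF : d ∈ F₁ := hdet_mem fun i j => by
    have e : f (Pi.single i 1) (Pi.single j 1) = (hf.gram : Matrix ι ι F) i j := by
      conv_lhs => rw [congrFun (congrFun hf.eq_sesqOf _) _, sesqOf_single]
    exact e ▸ hgram i j
  set dP := (P : Matrix ι ι F).det with hdP
  have hdP0 : dP ≠ 0 := ((Matrix.isUnit_iff_isUnit_det _).1 P.isUnit).ne_zero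
  have hdet : G.det = ζ ^ Fintype.card ι * (dP * d * dP) := by
    rw [hG, Matrix.det_smul, Matrix.det_mul, Matrix.det_mul, Matrix.det_transpose]
  obtain ⟨j, hj⟩ := hodd
  set s := (ζ ^ j * dP)⁻¹ with hs
  have hs0 : s ≠ 0 := inv_ne_zero (mul_ne_zero (pow_ne_zero _ h.ne_zero) hdP0)
  set e := G.det / d with he
  have he0 : e ≠ 0 := div_ne_zero ((Matrix.isUnit_iff_isUnit_det _).1 h.isUnit).ne_zero hd0
  have hζ : e⁻¹ * ζ = s * (RingEquiv.refl F) s := by
    show e⁻¹ * ζ = s * s
    rw [he, hdet, hj, hs]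
    have hne := h.ne_zero
    field_simp
    ring
  have h2 := (h.smul (inv_mem (div_mem (hdet_mem h.entries) hdF)) (inv_ne_zero he0)).scale hf hs0
  refine ⟨_, ⟨Units.mk0 s hs0, rfl⟩, e⁻¹ • G, ?_⟩
  rwa [hζ, div_self (mul_ne_zero hs0 hs0 : s * (RingEquiv.refl F) s ≠ 0)] at h2

variable [Fintype F]

/-- The subgroup theorem for a group of special isometries in odd dimension. -/
theorem orthStructure (hodd : Odd (Fintype.card F)) (m : ℕ) (hm : 1 ≤ m)
    (H : Subgroup (GL (Unit ⊕ (Fin m ⊕ Fin m)) F)) (hiso : H ≤ isometryGroup F (quadFormOdd m F))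
    (hdet : H ≤ Geo.specialLinear (Unit ⊕ (Fin m ⊕ Fin m)) F) :
    (∃ M : Subgroup (GL (Unit ⊕ (Fin m ⊕ Fin m)) F), Geo.InOrthogonalOddClass m F M ∧ H ≤ M) ∨
      Geo.InOrthogonalResidualClass H := by
  classical
  set Q := quadFormOdd m F with hQdef
  set f := QuadraticMap.polar Q with hfdef
  have h2 : (2 : F) ≠ 0 := two_ne_zero_of_odd_card hodd
  have hQ := Transvec.Orth.quadFormOdd_nondegenerate (F := F) m h2
  have hf : IsHermLike (RingEquiv.refl F) 1 f := IsHermLike.of_symmetric
    ⟨hQ.polar_bilinear, QuadraticMap.polar_comm _, hQ.nondegenerate⟩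
  have hself : ∀ v, f v v = 2 * Q v := polar_self hQ
  have hcard : Fintype.card (Unit ⊕ (Fin m ⊕ Fin m)) = 2 * m + 1 := by
    simp [Fintype.card_sum]; omega
  have hnodd : Odd (Fintype.card (Unit ⊕ (Fin m ⊕ Fin m))) := ⟨m, hcard⟩
  set H' := H ⊔ Geo.scalars (Unit ⊕ (Fin m ⊕ Fin m)) F with hH'
  have hHf : H ≤ isoGroup f := fun g hg u v => by
    simp only [glToMat, Units.coeHom_apply, hfdef, QuadraticMap.polar, ← Matrix.mulVec_add]
    have h := hiso hg
    rw [show Q ((g : Matrix _ _ F) *ᵥ (u + v)) = Q (u + v) from h (u + v) v,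
      show Q ((g : Matrix _ _ F) *ᵥ u) = Q u from h u v,
      show Q ((g : Matrix _ _ F) *ᵥ v) = Q v from h v v]
  have hsim : H' ≤ Geo.similarityGroup f := sup_scalars_le_sim hf (hHf.trans (isoGroup_le f))
  have hle : H ≤ H' := le_sup_left
  have mk : ∀ {S : Subgroup (GL (Unit ⊕ (Fin m ⊕ Fin m)) F)}, H' ≤ S → H ≤ S ⊓ isometryGroup F Q :=
    fun h => le_inf (hle.trans h) hiso
  have fin : ∀ {M : Subgroup (GL (Unit ⊕ (Fin m ⊕ Fin m)) F)}, Geo.InOrthogonalOddClass m F M →
      H ≤ M → (∃ M, Geo.InOrthogonalOddClass m F M ∧ H ≤ M) ∨ Geo.InOrthogonalResidualClass H :=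
    fun h h' => .inl ⟨_, h, h'⟩
  have hgram : ∀ (F₁ : Subfield F) i j, f (Pi.single i 1) (Pi.single j 1) ∈ F₁ := by
    intro F₁ i j
    have hs : ∀ (a : Unit ⊕ (Fin m ⊕ Fin m)) b, (Pi.single a (1 : F) : _ → F) b ∈ F₁ := fun a b => by
      rw [Pi.single_apply]
      split_ifs
      · exact one_mem _
      · exact zero_mem _
    rw [hfdef, Transvec.Orth.polar_quadFormOdd]
    refine add_mem (mul_mem (mul_mem ?_ (hs _ _)) (hs _ _)) (sum_mem fun l _ => ?_)
    · rw [← one_add_one_eq_two]; exact add_mem (one_mem _) (one_mem _)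
    · exact add_mem (mul_mem (hs _ _) (hs _ _)) (mul_mem (hs _ _) (hs _ _))
  have sub : ∀ {F₁ : Subfield F} {r : ℕ} {P : GL (Unit ⊕ (Fin m ⊕ Fin m)) F} {ζ : F}
      {G : Matrix _ _ F}, r.Prime → Fintype.card F = Nat.card F₁ ^ r →
      RatGram (RingEquiv.refl F) f F₁ P ζ G → H' ≤ Geo.subfieldSubgroup F₁ P →
      (∃ M, Geo.InOrthogonalOddClass m F M ∧ H ≤ M) ∨ Geo.InOrthogonalResidualClass H := by
    intro F₁ r P ζ G hr hc hG hh
    obtain ⟨z, hz, G₂, hG₂⟩ := hG.normalise_orth hf hnodd (hgram F₁)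
    rw [← subfieldSubgroup_mul_sc F₁ P hz] at hh
    refine fin (Or.inr <| Or.inr <| Or.inr <| Or.inr <| Or.inr <| Or.inr <| Or.inl
      ⟨F₁, r, _, hr, hc, fun u hu => ?_, rfl⟩) (mk hh)
    have h := hG₂.isFormRationalStructure u u hu hu
    rw [one_mul, hself] at h
    have h2' : (2 : F) ∈ F₁ := by rw [← one_add_one_eq_two]; exact add_mem (one_mem _) (one_mem _)
    have h' := mul_mem (inv_mem h2') h
    rwa [← mul_assoc, inv_mul_cancel₀ h2, one_mul] at h'
  have comm : Geo.ActsIrreducibly (Geo.matrixSet H') → CommCase f H' →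
      (∃ M, Geo.InOrthogonalOddClass m F M ∧ H ≤ M) ∨ Geo.InOrthogonalResidualClass H := by
    rintro hirr (⟨hD, h, htr⟩ | ⟨hk, -, -, -⟩ | ⟨hr, hdvd, hK, hadj, h⟩)
    · rename_i t k D
      -- members are isometric
      have hiso' : ∀ i j, ∃ g ∈ H, (D i).map (Matrix.toLin' (g : Matrix _ _ F)) = D j := by
        intro i j
        obtain ⟨g, hg, hgi⟩ := htr i j
        obtain ⟨x, hx, z, hz, rfl⟩ := Subgroup.mem_sup_of_normal_right.1 hg
        refine ⟨x, hx, ?_⟩
        obtain ⟨c, hc⟩ := (Geo.mem_scalars_iff z).1 hz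
        rw [← hgi, Units.val_mul, hc, Matrix.mul_smul, mul_one, map_smul,
          Submodule.map_smul _ _ _ c.ne_zero]
      have hD' : Geo.IsOrthogonalMDecomposition Q k D :=
        ⟨hD, fun i j => by
          obtain ⟨g, hg, hgi⟩ := hiso' i j
          exact areIsometric_map (hiso hg) hgi⟩
      rcases Nat.lt_or_ge 1 k with hk | hk
      · exact fin (Or.inr <| Or.inr <| Or.inl ⟨t, k, D, hk, hD', rfl⟩) (mk h)
      obtain rfl : k = 1 := by have := hD.decomp.pos; omega
      by_cases hp : (Fintype.card F).Prime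
      · exact fin (Or.inr <| Or.inr <| Or.inr <| Or.inl ⟨t, D, hp, hD', rfl⟩) (mk h)
      -- lines over a field that is not prime
      obtain ⟨p, hchar⟩ := CharP.exists F
      haveI := Fact.mk (CharP.char_is_prime F p)
      obtain ⟨n, hn, hcF⟩ := FiniteField.card F p
      have hn1 : 1 < (n : ℕ) := by
        rcases Nat.lt_or_ge 1 (n : ℕ) with h' | h'
        · exact h'
        · have := n.pos
          exact absurd (by rw [hcF, show (n : ℕ) = 1 by omega, pow_one]; exact hn) hp
      obtain ⟨F₀, hF₀, -⟩ := exists_subfield_card (p := p) hcF one_pos (one_dvd _)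
      have hF₀ne : F₀ ≠ ⊤ := fun h' => by
        have e : Nat.card F₀ = Nat.card F := by
          rw [h']; exact Nat.card_congr Subfield.topEquiv.toEquiv
        rw [hF₀, Nat.card_eq_fintype_card, hcF] at e
        have := Nat.pow_right_injective hn.two_le e
        omega
      obtain ⟨F₁, r, -, hr, hc1⟩ := exists_prime_index hF₀ne
      have h0 : 0 < t := by have := hD.decomp.two_le; omega
      obtain ⟨i₀⟩ : Nonempty (Fin t) := ⟨⟨0, h0⟩⟩
      obtain ⟨w₀, hw₀, hw₀0⟩ : ∃ w ∈ D i₀, w ≠ 0 := by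
        refine (Submodule.ne_bot_iff _).1 fun hb => ?_
        have := hD.decomp.finrank_eq i₀
        rw [hb, finrank_bot] at this
        exact zero_ne_one this
      set c := f w₀ w₀ with hc
      have hc0 : c ≠ 0 := by
        obtain ⟨⟨x, hx, hxw⟩, -⟩ := hD.nondegenerate i₀ w₀ hw₀ hw₀0
        rw [eq_span_of_finrank_one (hD.decomp.finrank_eq i₀) hw₀ hw₀0] at hx
        obtain ⟨a, rfl⟩ := Submodule.mem_span_singleton.1 hx
        rw [hf.smul_left] at hxw
        exact right_ne_zero_of_mul hxw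
      choose γ hγ hγD using fun j => hiso' i₀ j
      let w : Fin t → (Unit ⊕ (Fin m ⊕ Fin m) → F) := fun j => (γ j : Matrix _ _ F) *ᵥ w₀
      have hwD : ∀ j, w j ∈ D j := fun j => by
        rw [← hγD j]; exact ⟨w₀, hw₀, Matrix.toLin'_apply _ _⟩
      have hwc : ∀ j, f (w j) (w j) = c := fun j => hHf (hγ j) w₀ w₀
      have hwij : ∀ i j, f (w i) (w j) = if i = j then c else 0 := fun i j => by
        split_ifs with hij
        · rw [hij, hwc]
        · exact hD.orthogonal i j hij _ (hwD i) _ (hwD j)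
      have hwspan : ∀ j, D j = Submodule.span F {w j} := fun j =>
        eq_span_of_finrank_one (hD.decomp.finrank_eq j) (hwD j) fun h0' => hc0 (by
          rw [← hwc j, h0', hf.zero_left])
      have ht : t = Fintype.card (Unit ⊕ (Fin m ⊕ Fin m)) := by
        rw [← mdecomp_card hD.decomp, mul_one]
      obtain ⟨e⟩ : Nonempty ((Unit ⊕ (Fin m ⊕ Fin m)) ≃ Fin t) :=
        ⟨(Fintype.equivFin _).trans (finCongr ht.symm)⟩
      let M : Matrix (Unit ⊕ (Fin m ⊕ Fin m)) (Unit ⊕ (Fin m ⊕ Fin m)) F :=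
        Matrix.of fun r i => w (e i) r
      have hMv : ∀ i, M *ᵥ Pi.single i 1 = w (e i) := fun i => by
        rw [Matrix.mulVec_single_one]; rfl
      have hMgram : Mᵀ * (hf.gram : Matrix _ _ F) * M = c • 1 := by
        refine Matrix.ext fun i j => ?_
        have h := congrFun (congrFun hf.eq_sesqOf (M *ᵥ Pi.single i 1)) (M *ᵥ Pi.single j 1)
        rw [sesqOf_mulVec, sesqOf_single, hMv, hMv, hwij] at h
        refine h.symm.trans ?_
        simp [Matrix.one_apply, e.injective.eq_iff]
      have hMu : IsUnit M := by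
        rw [Matrix.isUnit_iff_isUnit_det, isUnit_iff_ne_zero]
        intro h0'
        have h := congrArg Matrix.det hMgram
        rw [Matrix.det_mul, h0', mul_zero, Matrix.det_smul, Matrix.det_one, mul_one] at h
        exact pow_ne_zero _ hc0 h.symm
      set P := hMu.unit with hP
      have hPM : (P : Matrix _ _ F) = M := hMu.unit_spec
      refine sub (F₁ := F₁) (P := P) (ζ := c⁻¹) (G := 1) hr hc1
        ⟨inv_ne_zero hc0, isUnit_one, fun i j => ?_, fun u v => ?_⟩ ?_
      · rw [Matrix.one_apply]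
        split_ifs
        · exact one_mem _
        · exact zero_mem _
      · rw [congrFun (congrFun hf.eq_sesqOf _) _, sesqOf_mulVec, hPM,
          show (RingEquiv.refl F).toRingHom.mapMatrix M = M from rfl, hMgram]
        simp [sesqOf, Matrix.smul_mulVec, dotProduct_smul, hc0]
      · refine sup_le (fun g hg => ?_) ?_
        swap
        · rintro _ ⟨z, rfl⟩
          refine mem_subfieldSubgroup_of_entries P (M := (z : F) • 1) (x := (z : F)⁻¹)
            (inv_ne_zero z.ne_zero) (fun i j => ?_) ?_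
          · rw [Matrix.smul_apply, smul_eq_mul, ← mul_assoc, inv_mul_cancel₀ z.ne_zero, one_mul,
              Matrix.one_apply]
            split_ifs
            · exact one_mem _
            · exact zero_mem _
          · rw [map_smul, map_one]
            simp [Matrix.smul_one_eq_diagonal]
        obtain ⟨τ, hτ⟩ := h (hle hg)
        have hgw : ∀ i, ∃ a ∈ F₁, (g : Matrix _ _ F) *ᵥ w i = a • w (τ i) := by
          intro i
          have hm' : (g : Matrix _ _ F) *ᵥ w i ∈ D (τ i) := by
            rw [← hτ i]; exact ⟨w i, hwD i, Matrix.toLin'_apply _ _⟩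
          rw [hwspan] at hm'
          obtain ⟨a, ha⟩ := Submodule.mem_span_singleton.1 hm'
          have hv : a * a * c = c := by
            have h := hHf hg (w i) (w i)
            simp only [glToMat, Units.coeHom_apply, ← ha, hf.smul_left, hf.smul_right, hwc,
              RingEquiv.refl_apply] at h
            linear_combination h
          refine ⟨a, ?_, ha.symm⟩
          rcases mul_self_eq_one_iff.1 (mul_right_cancel₀ hc0 (hv.trans (one_mul c).symm)) with h1 | h1
          · rw [h1]; exact one_mem _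
          · rw [h1]; exact neg_mem (one_mem _)
        choose a haF hga using hgw
        refine mem_subfieldSubgroup_of_entries P
          (M := Matrix.of fun r i => if r = e.symm (τ (e i)) then a (e i) else 0) one_ne_zero
          (fun i j => ?_) ?_
        · rw [one_mul, Matrix.of_apply]
          split_ifs
          · exact haF _
          · exact zero_mem _
        · set X := Matrix.of fun r i => if r = e.symm (τ (e i)) then a (e i) else 0 with hX
          have hgM : (g : Matrix _ _ F) * M = M * X := by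
            refine Matrix.ext_of_mulVec_single fun i => ?_
            have hXi : X *ᵥ Pi.single i 1 = a (e i) • Pi.single (e.symm (τ (e i))) 1 := by
              funext r
              rw [Matrix.mulVec_single_one]
              simp [hX, Pi.single_apply]
            rw [← Matrix.mulVec_mulVec, ← Matrix.mulVec_mulVec, hMv, hga, hXi, Matrix.mulVec_smul,
              hMv, Equiv.apply_symm_apply]
          rw [cj_apply, hPM, ← hgM, ← hPM, Units.mul_inv_cancel_right]
    · omega
    · rename_i r K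
      have hrodd : Odd r := hnodd.of_dvd_nat hdvd
      by_cases hrn : 2 * m + 1 = r
      · exfalso
        subst hrn
        rw [← hcard] at hK
        refine false_of_full_field hf hnodd (by omega) hK hadj hHf hdet ?_ (hle.trans h)
        intro W hW
        refine hirr W ?_
        rintro _ ⟨g, hg, rfl⟩
        obtain ⟨x, hx, z, hz, rfl⟩ := Subgroup.mem_sup_of_normal_right.1 hg
        obtain ⟨c, hc⟩ := (Geo.mem_scalars_iff z).1 hz
        beta_reduce
        rw [Units.val_mul, hc, Matrix.mul_smul, mul_one, map_smul, Submodule.map_smul _ _ _ c.ne_zero]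
        exact hW _ ⟨x, hx, rfl⟩
      · exact fin (Or.inr <| Or.inr <| Or.inr <| Or.inr <| Or.inl ⟨r, K, hr, hrn, hK,
          hf.selfAdjoint_of_adj fun x hx => adj_eq_self_of_odd hf hK hadj hrodd hx, rfl⟩) (mk h)
  cases formAsch hf le_sup_right hsim (by omega) with
  | red h =>
    cases h with
    | singular h0 hW h =>
      refine fin (Or.inl ⟨_, h0, fun w hw => ?_, rfl⟩) (mk h)
      have h' := hW w hw w hw
      rw [hself] at h'
      exact (mul_eq_zero.1 h').resolve_left h2
    | nondeg h0 hW hd h =>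
      refine fin (Or.inr <| Or.inl ⟨_, h0, fun ht => ?_, hW, rfl⟩) (mk h)
      rw [ht, finrank_top, Module.finrank_fintype_fun_eq_card] at hd
      omega
    | half hk hD h => omega
  | comm hirr h => exact comm hirr h
  | tensor hirr ha hb hs hN =>
    rename_i a b eq P A B
    haveI : NeZero a := ⟨by omega⟩
    haveI : NeZero b := ⟨by omega⟩
    have hab : a * b = 2 * m + 1 := by
      have h := Fintype.card_congr eq
      rw [Fintype.card_prod, Fintype.card_fin, Fintype.card_fin, hcard] at h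
      exact h.symm
    have hao : Odd a := (Nat.odd_mul.1 (hab ▸ ⟨m, rfl⟩ : Odd (a * b))).1
    have hbo : Odd b := (Nat.odd_mul.1 (hab ▸ ⟨m, rfl⟩ : Odd (a * b))).2
    obtain ⟨c, d, hcd, hc, hd, hA, hB⟩ := hs.symm
    have hone : ∀ {n : ℕ} {M : GL (Fin n) F} {x : F}, Odd n → x * x = 1 →
        (M : Matrix (Fin n) (Fin n) F)ᵀ = x • (M : Matrix (Fin n) (Fin n) F) → x = 1 := by
      intro n M x hn hx hM
      rcases mul_self_eq_one_iff.1 hx with h1 | h1
      · exact h1
      · exfalso
        have h := congrArg Matrix.det hM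
        rw [Matrix.det_transpose, Matrix.det_smul, h1, Fintype.card_fin, hn.neg_one_pow] at h
        refine h2 (mul_right_cancel₀ ((Matrix.isUnit_iff_isUnit_det _).1 M.isUnit).ne_zero ?_)
        rw [zero_mul]
        linear_combination h
    obtain rfl : c = 1 := hone (M := A) hao hc hA
    obtain rfl : d = 1 := hone (M := B) hbo hd hB
    rw [one_smul, show (RingEquiv.refl F).toRingHom.mapMatrix (A : Matrix (Fin a) (Fin a) F) = A
      from rfl] at hA
    rw [one_smul, show (RingEquiv.refl F).toRingHom.mapMatrix (B : Matrix (Fin b) (Fin b) F) = B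
      from rfl] at hB
    have ha3 : 3 ≤ a := by obtain ⟨j, hj⟩ := hao; omega
    have hb3 : 3 ≤ b := by obtain ⟨j, hj⟩ := hbo; omega
    rcases lt_trichotomy a b with hlt | rfl | hlt
    · have hstr := hs.isTensorFormStructure (e := 1) one_ne_zero
      rw [one_smul, sesqOf_refl, sesqOf_refl] at hstr
      exact fin (Or.inr <| Or.inr <| Or.inr <| Or.inr <| Or.inr <| Or.inl ⟨a, b, eq, P, _, _, ha3,
        hlt, formOf_symmetric hA, formOf_symmetric hB, hstr, rfl⟩) (mk (le_tensorProduct eq P hN))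
    · -- a tensor square
      obtain ⟨u, p, hp0, hu⟩ := symm_congr_scalar h2 hao A.isUnit hA
      obtain ⟨v, q, hq0, hv⟩ := symm_congr_scalar h2 hbo B.isUnit hB
      have side : ∀ {M : Matrix (Fin a) (Fin a) F} {w : GL (Fin a) F} {x : F},
          (w : Matrix (Fin a) (Fin a) F)ᵀ * M * (w : Matrix (Fin a) (Fin a) F) = x • 1 →
          M = x • (((w⁻¹ : GL (Fin a) F) : Matrix (Fin a) (Fin a) F)ᵀ *
            ((1 : GL (Fin a) F) : Matrix (Fin a) (Fin a) F) *
            (RingEquiv.refl F).toRingHom.mapMatrix ((w⁻¹ : GL (Fin a) F) : Matrix (Fin a) (Fin a) F)) := by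
        intro M w x h
        rw [Units.val_one, mul_one, show (RingEquiv.refl F).toRingHom.mapMatrix
          ((w⁻¹ : GL (Fin a) F) : Matrix (Fin a) (Fin a) F) = (w⁻¹ : GL (Fin a) F) from rfl]
        have h1 : ((w⁻¹ : GL (Fin a) F) : Matrix (Fin a) (Fin a) F)ᵀ *
            ((w : Matrix (Fin a) (Fin a) F)ᵀ * M * (w : Matrix (Fin a) (Fin a) F)) *
            ((w⁻¹ : GL (Fin a) F) : Matrix (Fin a) (Fin a) F) =
            ((w : Matrix (Fin a) (Fin a) F) * ((w⁻¹ : GL (Fin a) F) : Matrix (Fin a) (Fin a) F))ᵀ * M *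
              ((w : Matrix (Fin a) (Fin a) F) * ((w⁻¹ : GL (Fin a) F) : Matrix (Fin a) (Fin a) F)) := by
          rw [Matrix.transpose_mul]; simp only [mul_assoc]
        rw [h, Units.mul_inv, Matrix.transpose_one, one_mul, mul_one, Matrix.mul_smul, mul_one,
          Matrix.smul_mul] at h1
        exact h1.symm
      obtain ⟨hc', hform, -, -, -, hcond, hrep⟩ := wreathSplit_two hf hs hsim hN 1
        (e := 1) (by simp) (side hu) (side hv)
      rename_i eq' P' A' c' d'
      rw [hcond, Units.val_one] at hform hrep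
      by_cases hex : Fintype.card F = 3 ∧ a = 3
      · obtain ⟨hq3, rfl⟩ := hex
        obtain ⟨D, hD, hlines, hstab⟩ := exists_frame hf eq' P' hc' (fun x y => by
          rw [hform, pureMat_one]) (by simp)
        refine fin (Or.inr <| Or.inr <| Or.inr <| Or.inl ⟨_, D, by rw [hq3]; norm_num,
          ⟨hD, fun i j => ?_⟩, rfl⟩) (mk fun g hg => ?_)
        · obtain ⟨w, hw, hw0, hwc⟩ := hlines i
          obtain ⟨w', hw', hw0', hwc'⟩ := hlines j
          rw [hw, hw']
          refine areIsometric_span hQ.smul hw0 hw0' (mul_left_cancel₀ h2 ?_)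
          rw [← hself, ← hself, hwc, hwc']
        · obtain ⟨τ, gs, hg', he⟩ := hrep g hg
          refine hstab g _ hg' (monomial_perm_pure τ gs fun i s => ?_)
          obtain ⟨e, he0, he'⟩ := he i
          rw [mul_one] at he'
          exact monomial_of_orth_three hq3 (gs i) he0 he' s
      · have hstr := isTensorPowerFormStructure_of (A := (1 : GL (Fin a) F)) hc'
          (fun x y => by rw [hform]; rfl) (e := (1 : F)) one_ne_zero
        rw [one_smul, sesqOf_refl, Units.val_one] at hstr
        refine fin (Or.inr <| Or.inr <| Or.inr <| Or.inr <| Or.inr <| Or.inr <| Or.inr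
          ⟨a, 2, eq', P', _, ha3, le_rfl, hex, formOf_symmetric (G := (1 : GL (Fin a) F))
            (by simp), ?_, rfl⟩) (mk (le_tensorWreath_of_reps eq' P' fun g hg => ?_))
        · rwa [Units.val_one]
        · obtain ⟨τ, gs, hg', -⟩ := hrep g hg
          exact ⟨τ, gs, hg'⟩
    · have hstr := hs.swap.isTensorFormStructure (e := 1) one_ne_zero
      rw [one_smul, sesqOf_refl, sesqOf_refl] at hstr
      exact fin (Or.inr <| Or.inr <| Or.inr <| Or.inr <| Or.inr <| Or.inl ⟨b, a, _, P, _, _, hb3,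
        hlt, formOf_symmetric hB, formOf_symmetric hA, hstr, rfl⟩)
        (mk (le_tensorProduct_swap eq P hN))
  | abelian hirr S =>
    obtain ⟨r, hr, hexp⟩ := S.exists_prime_exponent
    obtain ⟨rfl, -⟩ := S.two_of_bilinear hf hsim hr hexp
    obtain ⟨k, hk, hk'⟩ := S.dim_prime_pow hr hexp
    exact absurd (hk' ▸ hnodd) (Nat.not_odd_iff_even.2 (Nat.even_pow.2 ⟨even_two, by omega⟩))
  | wreath hirr hk ha hw =>
    obtain ⟨hc, hform, hd, hsymm, hε, hcond, hrep⟩ := hw
    rename_i k a eq P A c d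
    have hapow : a ^ k = 2 * m + 1 := by
      have h := Fintype.card_congr eq
      rw [Fintype.card_fun, Fintype.card_fin, Fintype.card_fin, hcard] at h
      exact h.symm
    have hao : Odd a := (Nat.odd_pow_iff (by omega : k ≠ 0)).1 ⟨m, hapow⟩
    haveI : NeZero a := ⟨by omega⟩
    rw [show (RingEquiv.refl F).toRingHom.mapMatrix (A : Matrix (Fin a) (Fin a) F) = A from rfl]
      at hsymm
    have hd1 : d = 1 := by
      rcases mul_self_eq_one_iff.1 (hd : d * d = 1) with h1 | h1
      · exact h1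
      · exfalso
        have h := congrArg Matrix.det hsymm
        rw [Matrix.det_transpose, Matrix.det_smul, h1, Fintype.card_fin, hao.neg_one_pow] at h
        refine h2 (mul_right_cancel₀ ((Matrix.isUnit_iff_isUnit_det _).1 A.isUnit).ne_zero ?_)
        rw [zero_mul]
        linear_combination h
    rw [hd1, one_smul] at hsymm
    have ha3 : 3 ≤ a := by obtain ⟨j, hj⟩ := hao; omega
    have hex : ¬ (Fintype.card F = 3 ∧ a = 3) := by
      rintro ⟨hq3, rfl⟩
      obtain ⟨E, hEp, hEtop, hEA⟩ := hcond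
      obtain ⟨v, p, hp0, hv⟩ := symm_congr_scalar h2 hao A.isUnit hsymm
      have hE' : ⁅E.map (MulAut.conj v⁻¹).toMonoidHom, E.map (MulAut.conj v⁻¹).toMonoidHom⁆ =
          E.map (MulAut.conj v⁻¹).toMonoidHom := by rw [← Subgroup.map_commutator, hEp]
      refine ne_bot_of_spanAlg_top ha hEtop ?_
      have hbot := eq_bot_of_perfect_orth hq3 hE' (by
        rintro _ ⟨g, hg, rfl⟩
        have hgA : (g : Matrix (Fin 3) (Fin 3) F)ᵀ * (A : Matrix (Fin 3) (Fin 3) F) *
          (g : Matrix (Fin 3) (Fin 3) F) = A := hEA g hg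
        show ((v⁻¹ * g * v⁻¹⁻¹ : GL (Fin 3) F) : Matrix (Fin 3) (Fin 3) F)ᵀ *
          ((v⁻¹ * g * v⁻¹⁻¹ : GL (Fin 3) F) : Matrix (Fin 3) (Fin 3) F) = 1
        set x : GL (Fin 3) F := v⁻¹ * g * v⁻¹⁻¹ with hx
        have hvx : (v : Matrix (Fin 3) (Fin 3) F) * (x : Matrix (Fin 3) (Fin 3) F) =
            (g : Matrix (Fin 3) (Fin 3) F) * (v : Matrix (Fin 3) (Fin 3) F) := by
          rw [← Units.val_mul, ← Units.val_mul, hx, inv_inv, mul_assoc v⁻¹, mul_inv_cancel_left]
        have e : p • ((x : Matrix (Fin 3) (Fin 3) F)ᵀ * (x : Matrix (Fin 3) (Fin 3) F)) =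
            p • (1 : Matrix (Fin 3) (Fin 3) F) := by
          calc _ = (x : Matrix (Fin 3) (Fin 3) F)ᵀ * (p • 1) * (x : Matrix (Fin 3) (Fin 3) F) := by
                rw [Matrix.mul_smul, mul_one, Matrix.smul_mul]
            _ = ((v : Matrix (Fin 3) (Fin 3) F) * (x : Matrix (Fin 3) (Fin 3) F))ᵀ *
                (A : Matrix (Fin 3) (Fin 3) F) *
                ((v : Matrix (Fin 3) (Fin 3) F) * (x : Matrix (Fin 3) (Fin 3) F)) := by
                rw [← hv, Matrix.transpose_mul]; simp only [mul_assoc]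
            _ = (v : Matrix (Fin 3) (Fin 3) F)ᵀ * ((g : Matrix (Fin 3) (Fin 3) F)ᵀ *
                (A : Matrix (Fin 3) (Fin 3) F) * (g : Matrix (Fin 3) (Fin 3) F)) *
                (v : Matrix (Fin 3) (Fin 3) F) := by
                rw [hvx, Matrix.transpose_mul]; simp only [mul_assoc]
            _ = p • 1 := by rw [hgA, hv]
        exact smul_right_injective _ hp0 e)
      exact (Subgroup.map_eq_bot_iff_of_injective _ (MulAut.conj v⁻¹).injective).1 hbot
    refine fin (Or.inr <| Or.inr <| Or.inr <| Or.inr <| Or.inr <| Or.inr <| Or.inr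
      ⟨a, k, eq, P, _, ha3, hk, hex, formOf_symmetric hsymm, ?_, rfl⟩)
      (mk (le_tensorWreath_of_reps eq P fun g hg => ?_))
    · have h := isTensorPowerFormStructure_of (σ := RingEquiv.refl F) hc hform (e := 1) one_ne_zero
      rwa [one_smul, sesqOf_refl] at h
    · obtain ⟨τ, gs, hg', -⟩ := hrep g hg
      exact ⟨τ, gs, hg'⟩
  | core le normal perfect simple nonab centralizer top fix =>
    rename_i L
    by_cases hreal : ∃ F₀ : Subfield F, F₀ ≠ ⊤ ∧ Geo.RealisableOver F₀ (Geo.matrixSet L)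
    · obtain ⟨F₀, hne, hreal⟩ := hreal
      obtain ⟨F₁, r, P, ζ, G, hr, hc, hG, hh, -⟩ :=
        (subfieldCase_of_core (by omega) hf normal top fix hne hreal).exists_prime
      exact sub hr hc hG hh
    push Not at hreal
    refine .inr ⟨L, residualCore_of le normal perfect simple nonab centralizer top hreal, ?_⟩
    rintro ⟨τ, g, hg, hfix⟩
    obtain ⟨h1, h3⟩ := realisable_of_two_forms top hf (IsHermLike.of_unitary hg) hg.ne_refl
      (fixesForm_of_le_iso fix) hfix
    exact hreal _ h3 h1

end Cfsg.Agent.Aschbacher
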