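import Cfsg.Agent.Lib.Aschbacher.Linear
import Cfsg.Agent.Lib.Transvec.Basic
import Cfsg.Agent.Lib.Classical.SL

/-!
No geometric member contains the special linear group.
-/

set_option autoImplicit false
set_option linter.style.haveILetI false

namespace Cfsg.Agent.Aschbacher

open scoped MatrixGroups Matrix commutatorElement
open Matrix

variable {ι : Type} [Fintype ι] [DecidableEq ι] {F : Type*} [Field F]

/-- The elementary transvection `1 + c e_{ij}`. -/
def etv {i j : ι} (hij : i ≠ j) (c : F) : GL ι F :=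
  Matrix.SpecialLinearGroup.toGL (Matrix.SpecialLinearGroup.transvection hij c)

lemma etv_val {i j : ι} (hij : i ≠ j) (c : F) :
    (etv hij c : Matrix ι ι F) = 1 + Matrix.single i j c := rfl

lemma toGL_mem_specialLinear (s : Matrix.SpecialLinearGroup ι F) :
    Matrix.SpecialLinearGroup.toGL s ∈ Geo.specialLinear ι F := by
  show _ ∈ (Matrix.GeneralLinearGroup.det : GL ι F →* Fˣ).ker
  rw [ClassicalSL.ker_det_eq_range_toGL]
  exact ⟨s, rfl⟩

lemma exists_toGL {g : GL ι F} (hg : g ∈ Geo.specialLinear ι F) :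
    ∃ s : Matrix.SpecialLinearGroup ι F, Matrix.SpecialLinearGroup.toGL s = g := by
  rw [Geo.specialLinear, ClassicalSL.ker_det_eq_range_toGL] at hg
  exact hg

lemma etv_mem {i j : ι} (hij : i ≠ j) (c : F) : etv hij c ∈ Geo.specialLinear ι F :=
  toGL_mem_specialLinear _

lemma etv_not_scalar {i j : ι} (hij : i ≠ j) {c : F} (hc : c ≠ 0) :
    etv hij c ∉ Geo.scalars ι F := by
  intro h
  obtain ⟨d, hd⟩ := (Geo.mem_scalars_iff _).1 h
  have h' := congrFun (congrFun hd i) j
  rw [etv_val] at h'
  simp [hij] at h'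
  exact hc h'

/-- A matrix commuting with the special linear group is scalar. -/
lemma scalar_of_commute_sl {x : Matrix ι ι F}
    (h : ∀ g ∈ Geo.specialLinear ι F, (g : Matrix ι ι F) * x = x * (g : Matrix ι ι F)) :
    ∃ c : F, x = c • (1 : Matrix ι ι F) := by
  obtain ⟨c, hc⟩ := Matrix.mem_range_scalar_of_commute_single (M := x) fun i j hij => by
    have h' := h _ (etv_mem hij (1 : F))
    rw [etv_val, add_mul, mul_add, one_mul, mul_one] at h'
    exact add_left_cancel h'
  exact ⟨c, by rw [← hc, Matrix.scalar_apply, Matrix.smul_one_eq_diagonal]⟩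

lemma spanAlg_specialLinear [Nontrivial ι] :
    spanAlg (Geo.specialLinear ι F) = ⊤ := by
  refine Algebra.eq_top_iff.2 fun x => ?_
  have hoff : ∀ i j : ι, i ≠ j → ∀ c : F,
      Matrix.single i j c ∈ spanAlg (Geo.specialLinear ι F) := fun i j hij c => by
    have h := sub_mem (coe_mem_spanAlg (etv_mem hij c)) (one_mem (spanAlg (Geo.specialLinear ι F)))
    rwa [etv_val, add_sub_cancel_left] at h
  rw [Matrix.matrix_eq_sum_single x]
  refine sum_mem fun i _ => sum_mem fun j _ => ?_
  by_cases hij : i = j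
  · subst hij
    obtain ⟨k, hk⟩ := exists_ne i
    have h : Matrix.single i i (x i i) = Matrix.single i k (x i i) * Matrix.single k i (1 : F) := by
      rw [Matrix.single_mul_single_same, mul_one]
    rw [h]
    exact mul_mem (hoff i k hk.symm _) (hoff k i hk _)
  · exact hoff i j hij _

/-- A subgroup normalised by the special linear group is scalar or contains it. -/
lemma sl_le_of_normal (h3 : 3 ≤ Fintype.card ι) {R : Subgroup (GL ι F)}
    (hn : ∀ g ∈ Geo.specialLinear ι F, ∀ x ∈ R, g * x * g⁻¹ ∈ R)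
    (hR : ¬ R ≤ Geo.scalars ι F) : Geo.specialLinear ι F ≤ R := by
  classical
  haveI : Nonempty ι := Fintype.card_pos_iff.1 (by omega)
  haveI := ClassicalSL.isSimpleGroup_psl (F := F) h3
  let tg : Matrix.SpecialLinearGroup ι F →* GL ι F := Matrix.SpecialLinearGroup.toGL
  set K : Subgroup (Matrix.SpecialLinearGroup ι F) := R.comap tg
  haveI hKn : K.Normal := ⟨fun x hx g => by
    show tg (g * x * g⁻¹) ∈ R
    rw [map_mul, map_mul, map_inv]
    exact hn _ (toGL_mem_specialLinear g) _ hx⟩
  let π := QuotientGroup.mk' (Subgroup.center (Matrix.SpecialLinearGroup ι F))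
  have hπn : (K.map π).Normal := hKn.map π (QuotientGroup.mk'_surjective _)
  rcases IsSimpleGroup.eq_bot_or_eq_top_of_normal (G := Matrix.ProjectiveSpecialLinearGroup ι F)
      (K.map π) hπn with h | h
  · exfalso
    apply hR
    intro r hr
    have hcen : ∀ s : Matrix.SpecialLinearGroup ι F,
        ∃ z ∈ Subgroup.center (Matrix.SpecialLinearGroup ι F),
          tg z = r * tg s * r⁻¹ * (tg s)⁻¹ := by
      intro s
      have hmem : r * tg s * r⁻¹ * (tg s)⁻¹ ∈ R := by
        rw [mul_assoc r, mul_assoc r]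
        exact mul_mem hr (hn _ (toGL_mem_specialLinear s) _ (inv_mem hr))
      obtain ⟨z, hz⟩ := exists_toGL (g := r * tg s * r⁻¹ * (tg s)⁻¹) (by
        show _ ∈ (Matrix.GeneralLinearGroup.det : GL ι F →* Fˣ).ker
        rw [MonoidHom.mem_ker, map_mul, map_mul, map_mul, map_inv, map_inv,
          mul_comm (Matrix.GeneralLinearGroup.det r), mul_assoc (Matrix.GeneralLinearGroup.det (tg s)),
          mul_inv_cancel, mul_one, mul_inv_cancel])
      refine ⟨z, ?_, hz⟩
      have hzK : π z ∈ K.map π := ⟨z, by show tg z ∈ R; rw [show tg z = _ from hz]; exact hmem, rfl⟩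
      rw [h, Subgroup.mem_bot] at hzK
      exact (QuotientGroup.eq_one_iff z).1 hzK
    choose z hzc hzv using hcen
    have hzcomm : ∀ s u, tg (z s) * tg u = tg u * tg (z s) := fun s u => by
      rw [← map_mul, ← map_mul, Subgroup.mem_center_iff.1 (hzc s) u]
    have htinj : Function.Injective tg := fun a b hab =>
      Subtype.ext (congrArg (fun g : GL ι F => (g : Matrix ι ι F)) hab)
    have hconj : ∀ s, r * tg s * r⁻¹ = tg (z s) * tg s := fun s => by
      rw [hzv]; group
    let ψ : Matrix.SpecialLinearGroup ι F →* Subgroup.center (Matrix.SpecialLinearGroup ι F) :=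
      { toFun := fun s => ⟨z s, hzc s⟩
        map_one' := Subtype.ext (htinj (by rw [hzv]; simp))
        map_mul' := fun s u => Subtype.ext (htinj (by
          refine mul_right_cancel (b := tg (s * u)) ?_
          rw [← hconj, Subgroup.coe_mul, map_mul, map_mul]
          calc r * (tg s * tg u) * r⁻¹ = (r * tg s * r⁻¹) * (r * tg u * r⁻¹) := by group
            _ = tg (z s) * (tg s * tg (z u)) * tg u := by rw [hconj, hconj]; simp only [mul_assoc]
            _ = _ := by rw [← hzcomm]; simp only [mul_assoc])) }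
    have hker : ψ.ker = ⊤ := by
      refine top_le_iff.1 ?_
      rw [← ClassicalSL.isPerfect_sl (F := F) h3, commutator, Subgroup.commutator_le]
      intro a _ b _
      rw [MonoidHom.mem_ker, map_commutatorElement, commutatorElement_eq_one_iff_mul_comm]
      exact Subtype.ext (Subgroup.mem_center_iff.1 (ψ b).2 _)
    obtain ⟨c, hc⟩ := scalar_of_commute_sl (x := (r : Matrix ι ι F)) fun g hg => by
      obtain ⟨s, rfl⟩ := exists_toGL hg
      have h1 : z s = 1 := congrArg Subtype.val (MonoidHom.mem_ker.1 (hker.ge (Subgroup.mem_top s)))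
      have h2 := hconj s
      rw [h1, map_one, one_mul, mul_inv_eq_iff_eq_mul] at h2
      have h4 := congrArg Units.val h2
      rw [Units.val_mul, Units.val_mul] at h4
      exact h4.symm
    refine (mem_scalars_iff_mem_bot r).2 ?_
    rw [hc]
    exact Subalgebra.smul_mem _ (one_mem _) c
  · intro g hg
    obtain ⟨s, rfl⟩ := exists_toGL hg
    suffices hK : K = ⊤ from hK.ge (Subgroup.mem_top s)
    refine top_le_iff.1 ?_
    rw [← ClassicalSL.isPerfect_sl (F := F) h3, commutator, Subgroup.commutator_le]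
    intro a _ b _
    obtain ⟨a', ha', ha⟩ := h.ge (Subgroup.mem_top (π a))
    obtain ⟨b', hb', hb⟩ := h.ge (Subgroup.mem_top (π b))
    obtain ⟨za, hza, rfl⟩ : ∃ za ∈ Subgroup.center (Matrix.SpecialLinearGroup ι F), a' * za = a :=
      ⟨a'⁻¹ * a, QuotientGroup.eq.1 ha, by group⟩
    obtain ⟨zb, hzb, rfl⟩ : ∃ zb ∈ Subgroup.center (Matrix.SpecialLinearGroup ι F), b' * zb = b :=
      ⟨b'⁻¹ * b, QuotientGroup.eq.1 hb, by group⟩
    have e : ⁅a' * za, b' * zb⁆ = ⁅a', b'⁆ := by
      have hza' := Subgroup.mem_center_iff.1 hza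
      have hzb' := Subgroup.mem_center_iff.1 hzb
      simp only [commutatorElement_def, _root_.mul_inv_rev]
      calc a' * za * (b' * zb) * (za⁻¹ * a'⁻¹) * (zb⁻¹ * b'⁻¹)
          = a' * (za * (b' * zb)) * za⁻¹ * a'⁻¹ * (zb⁻¹ * b'⁻¹) := by group
        _ = a' * b' * (zb * a'⁻¹) * zb⁻¹ * b'⁻¹ := by rw [← hza']; group
        _ = a' * b' * a'⁻¹ * b'⁻¹ := by rw [← hzb']; group
    rw [e, commutatorElement_def]
    exact mul_mem (mul_mem (mul_mem ha' hb') (inv_mem ha')) (inv_mem hb')

/-- The units of an algebra. -/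
def algUnits (A : Subalgebra F (Matrix ι ι F)) : Subgroup (GL ι F) where
  carrier := {g | (g : Matrix ι ι F) ∈ A ∧ ((g⁻¹ : GL ι F) : Matrix ι ι F) ∈ A}
  mul_mem' {a b} ha hb := ⟨by rw [Units.val_mul]; exact mul_mem ha.1 hb.1,
    by rw [_root_.mul_inv_rev, Units.val_mul]; exact mul_mem hb.2 ha.2⟩
  one_mem' := ⟨by simp [one_mem], by simp [one_mem]⟩
  inv_mem' {a} ha := ⟨ha.2, by rw [inv_inv]; exact ha.1⟩

/-- The special linear group normalises no proper algebra having a non-scalar unit. -/
lemma not_sl_normalises (h3 : 3 ≤ Fintype.card ι) {A : Subalgebra F (Matrix ι ι F)} (hA : A ≠ ⊤)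
    {u : GL ι F} (hu : u ∈ algUnits A) (hus : u ∉ Geo.scalars ι F) :
    ¬ Normalises (Geo.specialLinear ι F) (A : Set (Matrix ι ι F)) := by
  intro hn
  haveI : Nontrivial ι := Fintype.one_lt_card_iff_nontrivial.1 (by omega)
  have hle : Geo.specialLinear ι F ≤ algUnits A := by
    refine sl_le_of_normal h3 (fun g hg x hx => ⟨?_, ?_⟩) fun h => hus (h hu)
    · rw [← cj_coe]; exact hn g hg _ hx.1
    · rw [show (g * x * g⁻¹)⁻¹ = g * x⁻¹ * g⁻¹ by group, ← cj_coe]; exact hn g hg _ hx.2
  refine hA (top_le_iff.1 ?_)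
  rw [← spanAlg_specialLinear (ι := ι) (F := F)]
  exact Algebra.adjoin_le fun _ ⟨g, hg, hx⟩ => hx ▸ (hle hg).1

/-- A similarity group of a non-degenerate form does not contain the special linear group. -/
lemma not_sl_le_similarity (h3 : 3 ≤ Fintype.card ι) {f : (ι → F) → (ι → F) → F}
    (hal : ∀ x y v, f (x + y) v = f x v + f y v) (hsl : ∀ (c : F) x v, f (c • x) v = c * f x v)
    (hnd : Geo.IsNondegenerateForm f) : ¬ Geo.specialLinear ι F ≤ Geo.similarityGroup f := by
  classical
  intro hle
  haveI : Nonempty ι := Fintype.card_pos_iff.1 (by omega)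
  have hsub : ∀ x y v, f (x - y) v = f x v - f y v := fun x y v => by
    have h := hal (x - y) y v
    rw [sub_add_cancel] at h
    rw [h]; ring
  have hdim : Module.finrank F (ι → F) = Fintype.card ι := Module.finrank_fintype_fun_eq_card F
  have hout : ∀ W : Submodule F (ι → F), Module.finrank F W < 3 → ∃ x, x ∉ W := by
    intro W hW
    by_contra h
    push Not at h
    rw [Submodule.eq_top_iff'.2 h, finrank_top, hdim] at hW
    omega
  obtain ⟨u, hu⟩ := hout ⊥ (by simp)
  have hu0 : u ≠ 0 := fun h => hu (by simp [h])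
  have hspan1 : Module.finrank F (Submodule.span F {u}) = 1 := finrank_span_singleton hu0
  obtain ⟨v1, hv1⟩ := hout (Submodule.span F {u}) (by omega)
  obtain ⟨v2, hv2⟩ := hout (Submodule.span F {u} ⊔ Submodule.span F {v1}) (by
    rw [Submodule.finrank_sup_span_singleton hv1]; omega)
  obtain ⟨v, hv, hfv⟩ : ∃ v, v ∉ Submodule.span F {u} ∧ f v u = 0 := by
    by_cases h1 : f v1 u = 0
    · exact ⟨v1, hv1, h1⟩
    · refine ⟨f v1 u • v2 - f v2 u • v1, fun h => hv2 ?_, ?_⟩
      · have hm : f v1 u • v2 ∈ Submodule.span F {u} ⊔ Submodule.span F {v1} := by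
          rw [← sub_add_cancel (f v1 u • v2) (f v2 u • v1)]
          exact add_mem (Submodule.mem_sup_left h)
            (Submodule.mem_sup_right (Submodule.smul_mem _ _ (Submodule.mem_span_singleton_self v1)))
        simpa [smul_smul, inv_mul_cancel₀ h1] using
          Submodule.smul_mem _ (f v1 u)⁻¹ hm
      · rw [hsub, hsl, hsl, mul_comm, sub_self]
  set W := Submodule.span F {u} ⊔ Submodule.span F {v} with hW
  have hWdim : Module.finrank F W = 2 := by
    rw [hW, Submodule.finrank_sup_span_singleton hv, hspan1]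
  have hzero : ∀ w, w ∉ W → f w u = 0 := by
    intro w hw
    have hind : v ∉ Submodule.span F {u} ⊔ Submodule.span F {w - v} := by
      intro hm
      obtain ⟨a, ha, b, hb, hab⟩ := Submodule.mem_sup.1 hm
      obtain ⟨β, rfl⟩ := Submodule.mem_span_singleton.1 hb
      by_cases hβ : β = 0
      · subst hβ
        rw [zero_smul, add_zero] at hab
        exact hv (hab ▸ ha)
      · apply hw
        have h2 : β • (w - v) ∈ W := by
          rw [eq_sub_of_add_eq' hab]
          exact sub_mem (Submodule.mem_sup_right (Submodule.mem_span_singleton_self v))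
            (Submodule.mem_sup_left ha)
        have h4 : w - v ∈ W := by
          simpa [smul_smul, inv_mul_cancel₀ hβ] using Submodule.smul_mem W β⁻¹ h2
        simpa using add_mem h4
          (Submodule.mem_sup_right (Submodule.mem_span_singleton_self v) : v ∈ W)
    obtain ⟨φ, hφW, hφz, hφv⟩ := Transvec.exists_dual₂ hind
    obtain ⟨c, hc⟩ := hle (Transvec.tv_mem_specialLinear hφz)
    have h := hc v u
    have e1 : ((Transvec.tv (w - v) φ hφz : GL ι F) : Matrix ι ι F) *ᵥ v = w := by
      rw [show ((Transvec.tv (w - v) φ hφz : GL ι F) : Matrix ι ι F) *ᵥ v = _ from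
        Transvec.mv_tv hφz v, hφv, one_smul, add_sub_cancel]
    have e2 : ((Transvec.tv (w - v) φ hφz : GL ι F) : Matrix ι ι F) *ᵥ u = u :=
      Transvec.tv_fix hφz (hφW u (Submodule.mem_span_singleton_self u))
    rw [e1, e2, hfv, mul_zero] at h
    exact h
  obtain ⟨z, hz⟩ := hout W (by omega)
  obtain ⟨⟨x, hx⟩, -⟩ := hnd u hu0
  refine hx ?_
  by_cases hxW : x ∈ W
  · have hxz : x + z ∉ W := fun h => hz (by simpa using sub_mem h hxW)
    rw [show x = x + z - z from (add_sub_cancel_right x z).symm, hsub, hzero _ hxz, hzero _ hz, sub_self]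
  · exact hzero x hxW

lemma quadSimilarity_le (Q : (ι → F) → F) :
    Geo.quadSimilarityGroup Q ≤ Geo.similarityGroup (QuadraticMap.polar Q) := by
  rintro g ⟨c, hc⟩
  refine ⟨c, fun u v => ?_⟩
  simp only [QuadraticMap.polar, ← Matrix.mulVec_add, hc]
  ring

lemma exists_order_char [Finite F] [Nontrivial ι] :
    ∃ (p : ℕ) (t : GL ι F), p.Prime ∧ CharP F p ∧ t ∈ Geo.specialLinear ι F ∧ orderOf t = p := by
  obtain ⟨p, hp⟩ := CharP.exists F
  haveI := Fact.mk (CharP.char_is_prime F p)
  obtain ⟨i, j, hij⟩ := exists_pair_ne ι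
  refine ⟨p, etv hij 1, Fact.out, hp, etv_mem hij 1, orderOf_eq_prime ?_ ?_⟩
  · refine Units.ext ?_
    have hpow : ∀ m : ℕ, ((etv hij (1 : F) : GL ι F) : Matrix ι ι F) ^ m =
        1 + Matrix.single i j (m : F) := by
      intro m
      induction m with
      | zero => simp
      | succ m ih =>
        rw [pow_succ, ih, etv_val, mul_add, add_mul, add_mul, one_mul, one_mul, mul_one,
          Matrix.single_mul_single_of_ne _ _ _ _ hij.symm, add_zero, Nat.cast_succ, Matrix.single_add]
        abel
    rw [Units.val_pow_eq_pow_val, hpow, CharP.cast_eq_zero]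
    simp
  · exact fun h => etv_not_scalar hij (one_ne_zero (α := F)) (h ▸ one_mem _)

variable [Fintype F]

/-- No member contains the special linear group. -/
theorem LinGeom.not_sl_le {n : ℕ} (hn : 3 ≤ n) {M : Subgroup (GL (Fin n) F)} (hM : LinGeom n M) :
    ¬ Geo.specialLinear (Fin n) F ≤ M := by
  classical
  have h3 : 3 ≤ Fintype.card (Fin n) := by simpa using hn
  haveI : Nontrivial (Fin n) := Fin.nontrivial_iff_two_le.2 (by omega)
  cases hM with
  | @subspace W h0 h1 h =>
    subst h
    intro hle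
    obtain ⟨w, hw, hw0⟩ := W.ne_bot_iff.1 h0
    obtain ⟨z, hz⟩ : ∃ z, z ∉ W := by
      by_contra h; push Not at h; exact h1 (Submodule.eq_top_iff'.2 h)
    have hind : w ∉ Submodule.span F {z} := by
      intro h
      obtain ⟨a, ha⟩ := Submodule.mem_span_singleton.1 h
      by_cases ha0 : a = 0
      · exact hw0 (by simp [← ha, ha0])
      · exact hz (by simpa [← ha, smul_smul, inv_mul_cancel₀ ha0] using W.smul_mem a⁻¹ hw)
    obtain ⟨φ, h2, h3'⟩ := Transvec.exists_dual hind
    have hφ : φ z = 0 := h2 z (Submodule.mem_span_singleton_self z)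
    have h' := Transvec.mv_mem_of_mem_stab (hle (Transvec.tv_mem_specialLinear hφ)) hw
    rw [Transvec.mv_tv, h3', one_smul] at h'
    exact hz (by simpa using W.sub_mem h' hw)
  | @decomp t m D hD h =>
    subst h
    intro hle
    have ht := hD.two_le
    let i₀ : Fin t := ⟨0, by omega⟩
    let i₁ : Fin t := ⟨1, by omega⟩
    have h01 : i₀ ≠ i₁ := by simp [i₀, i₁, Fin.ext_iff]
    have hnz : ∀ i, ∃ v, v ∈ D i ∧ v ≠ 0 := by
      intro i
      refine (D i).ne_bot_iff.1 fun h => ?_
      have := hD.finrank_eq i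
      rw [h, finrank_bot] at this
      have := hD.pos
      omega
    obtain ⟨v, hv, hv0⟩ := hnz i₀
    obtain ⟨w, hw, hw0⟩ := hnz i₁
    have hvdis : v ∉ ⨆ j, ⨆ (_ : j ≠ i₀), D j := fun hm =>
      hv0 (Submodule.disjoint_def.1 (hD.indep i₀) v hv hm)
    have hind : v ∉ Submodule.span F {w} := fun hm => hvdis
      (Submodule.mem_iSup_of_mem i₁ (Submodule.mem_iSup_of_mem h01.symm
        ((Submodule.span_singleton_le_iff_mem _ _).2 hw hm)))
    obtain ⟨φ, h2, h3'⟩ := Transvec.exists_dual hind
    have hφ : φ w = 0 := h2 w (Submodule.mem_span_singleton_self w)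
    obtain ⟨σ, hσ⟩ := hle (Transvec.tv_mem_specialLinear hφ)
    have hmem : v + w ∈ D (σ i₀) := by
      rw [← hσ i₀]
      refine ⟨v, hv, ?_⟩
      rw [Matrix.toLin'_apply]
      refine (Transvec.mv_tv hφ v).trans ?_
      rw [h3', one_smul]
    by_cases hj : σ i₀ = i₀
    · rw [hj] at hmem
      have hw' : w ∈ D i₀ := by simpa using sub_mem hmem hv
      exact hw0 (Submodule.disjoint_def.1 (hD.indep i₁) w hw
        (Submodule.mem_iSup_of_mem i₀ (Submodule.mem_iSup_of_mem h01 hw')))
    · refine hvdis ?_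
      rw [show v = v + w - w by simp]
      exact sub_mem (Submodule.mem_iSup_of_mem _ (Submodule.mem_iSup_of_mem hj hmem))
        (Submodule.mem_iSup_of_mem i₁ (Submodule.mem_iSup_of_mem h01.symm hw))
  | @field r K hr _ hK h =>
    subst h
    intro hle
    haveI : Nonempty (Fin n) := ⟨⟨0, by omega⟩⟩
    have hne : K ≠ ⊥ := by
      intro h
      have := hK.finrank_eq
      rw [h, Subalgebra.finrank_bot] at this
      exact hr.one_lt.ne this
    obtain ⟨x, hx, hxb⟩ := SetLike.exists_of_lt (bot_lt_iff_ne_bot.2 hne)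
    have hx0 : x ≠ 0 := fun h => hxb (h ▸ zero_mem _)
    obtain ⟨y, hy, hxy⟩ := hK.inv x hx hx0
    let u : GL (Fin n) F := ⟨x, y, hxy, mul_eq_one_comm.1 hxy⟩
    have htop : K ≠ ⊤ := by
      intro h
      obtain ⟨i, j, hij⟩ := exists_pair_ne (Fin n)
      have h' := hK.comm (Matrix.single i j 1) (h ▸ Algebra.mem_top) (Matrix.single j i 1)
        (h ▸ Algebra.mem_top)
      have h'' := congrFun (congrFun h' i) i
      simp [hij] at h''
    exact not_sl_normalises h3 htop (u := u) ⟨hx, hy⟩
      (fun h => hxb ((mem_scalars_iff_mem_bot u).1 h))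
      (fun g hg k hk => (hle hg k).1 hk)
  | @tensor n₁ n₂ e P h1 h2 h =>
    subst h
    intro hle
    haveI : NeZero n₁ := ⟨by omega⟩
    haveI : NeZero n₂ := ⟨by omega⟩
    obtain ⟨i, j, hij⟩ : ∃ i j : Fin n₁, i ≠ j :=
      ⟨⟨0, by omega⟩, ⟨1, by omega⟩, by simp [Fin.ext_iff]⟩
    let u : GL (Fin n) F := Units.map (kemb e P).toRingHom.toMonoidHom (etv hij 1)
    have htop : (kemb e P).range ≠ ⊤ := by
      intro h
      obtain ⟨s, t, hst⟩ : ∃ s t : Fin n₂, s ≠ t :=
        ⟨⟨0, by omega⟩, ⟨1, by omega⟩, by simp [Fin.ext_iff]⟩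
      have hcomm : ∀ x : Matrix (Fin n) (Fin n) F,
          x * kembR e P (Matrix.single s t 1) = kembR e P (Matrix.single s t 1) * x := by
        intro x
        obtain ⟨X, rfl⟩ := h.ge (Algebra.mem_top : x ∈ _)
        exact (kemb_mul_kembR e P X _).trans (kembR_mul_kemb e P X _).symm
      obtain ⟨c, hc⟩ := scalar_of_commute_sl (x := kembR e P (Matrix.single s t (1 : F))) fun g _ => hcomm (g : Matrix (Fin n) (Fin n) F)
      have h' : Matrix.single s t (1 : F) = c • 1 := kembR_injective e P (by
        rw [hc, map_smul, map_one])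
      simpa [hst] using congrFun (congrFun h' s) t
    refine not_sl_normalises h3 htop (u := u)
      ⟨⟨_, rfl⟩, ⟨((etv hij (1 : F))⁻¹ : GL (Fin n₁) F), by simp [u]⟩⟩ ?_ ?_
    · intro hs
      obtain ⟨c, hc⟩ := (Geo.mem_scalars_iff u).1 hs
      have h' : ((etv hij (1 : F) : GL (Fin n₁) F) : Matrix (Fin n₁) (Fin n₁) F) = (c : F) • 1 :=
        kemb_injective e P (by rw [map_smul, map_one]; exact hc)
      simpa [etv_val, hij] using congrFun (congrFun h' i) j
    · rintro g hg _ ⟨X, rfl⟩
      obtain ⟨_, ⟨k, ⟨a, b, hk⟩, rfl⟩, hg'⟩ := hle hg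
      refine ⟨cj a X, ?_⟩
      have hgv : (g : Matrix (Fin n) (Fin n) F) =
          kemb e P (a : Matrix (Fin n₁) (Fin n₁) F) * kembR e P (b : Matrix (Fin n₂) (Fin n₂) F) := by
        rw [kemb_mul_kembR, ← hk, ← hg']
        simp [cj_apply, Geo.glReindex]
      show kemb e P (cj a X) = cj g (kemb e P X)
      rw [cj_apply g, Units.eq_mul_inv_iff_mul_eq, hgv, ← mul_assoc, ← map_mul, cj_apply,
        mul_assoc _ _ (a : Matrix (Fin n₁) (Fin n₁) F), Units.inv_mul, mul_one]
      rw [mul_assoc, (kembR_mul_kemb e P X _).trans (kemb_mul_kembR e P X _).symm, ← mul_assoc,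
        ← map_mul]
  | @subfield F₀ r P hr hcard h =>
    subst h
    intro hle
    obtain ⟨a, ha⟩ : ∃ a : F, a ∉ F₀ := by
      by_contra h
      push Not at h
      have hc : Nat.card F₀ = Fintype.card F := by
        rw [← Nat.card_eq_fintype_card]
        exact Nat.card_congr (Equiv.subtypeUnivEquiv h)
      rw [hc] at hcard
      exact hr.one_lt.ne (Nat.pow_right_injective Fintype.one_lt_card ((pow_one _).trans hcard))
    obtain ⟨i, j, hij⟩ := exists_pair_ne (Fin n)
    have hN : (Geo.specialLinear (Fin n) F).Normal :=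
      (Matrix.GeneralLinearGroup.det : GL (Fin n) F →* Fˣ).normal_ker
    obtain ⟨y, hy, hy'⟩ := hle (hN.conj_mem _ (etv_mem hij a) P)
    have hy2 : y = etv hij a := by
      have h' : P * y * P⁻¹ = P * etv hij a * P⁻¹ := hy'
      exact mul_left_cancel (mul_right_cancel h')
    subst hy2
    obtain ⟨g, ⟨g₀, rfl⟩, z, hz, hgz⟩ := Subgroup.mem_sup_of_normal_right.1 hy
    obtain ⟨c, hc⟩ := (Geo.mem_scalars_iff z).1 hz
    have hval : ∀ k l, ((g₀ : Matrix (Fin n) (Fin n) F₀) k l : F) * c =
        ((etv hij a : GL (Fin n) F) : Matrix (Fin n) (Fin n) F) k l := by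
      intro k l
      rw [← hgz, Units.val_mul, hc, mul_smul_comm, mul_one, Matrix.smul_apply, smul_eq_mul,
        mul_comm]
      rfl
    have hii := hval i i
    have hval' := hval i j
    rw [etv_val] at hii hval'
    simp [hij, Ne.symm hij] at hii hval'
    apply ha
    rw [← hval']
    refine mul_mem (SetLike.coe_mem _) ?_
    rw [show (c : F) = ((g₀ : Matrix (Fin n) (Fin n) F₀) i i : F)⁻¹ from
      eq_inv_of_mul_eq_one_right hii]
    exact inv_mem (SetLike.coe_mem _)
  | @symplType r k R hd _ h =>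
    subst h
    intro hle
    have hn' : ∀ g ∈ Geo.specialLinear (Fin n) F, ∀ x ∈ R, g * x * g⁻¹ ∈ R :=
      fun g hg x hx => (Subgroup.mem_normalizer_iff.1 (hle hg) x).1 hx
    by_cases hs : R ≤ Geo.scalars (Fin n) F
    · haveI : Nonempty (Fin n) := ⟨⟨0, by omega⟩⟩
      have h' := spanAlg_eq_top hd.absIrred
      rw [le_scalars_iff.1 hs] at h'
      obtain ⟨i, j, hij⟩ := exists_pair_ne (Fin n)
      exact etv_not_scalar hij (one_ne_zero (α := F))
        ((mem_scalars_iff_mem_bot _).2 (h' ▸ Algebra.mem_top))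
    obtain ⟨p, t, hp, hchar, ht, hot⟩ := exists_order_char (ι := Fin n) (F := F)
    obtain ⟨p', e, hrp, ⟨hp', hchar', -, -, -⟩, -⟩ := hd.field
    have hpp' : p' = p := CharP.eq F hchar' hchar
    obtain ⟨m, hm⟩ := hd.symplecticType.pGroup ⟨t, sl_le_of_normal h3 hn' hs ht⟩
    have h1 : orderOf t ∣ r ^ m := orderOf_dvd_of_pow_eq_one (congrArg Subtype.val hm)
    rw [hot] at h1
    exact hrp (hpp'.trans ((Nat.prime_dvd_prime_iff_eq hp hd.symplecticType.prime).1
      (hp.dvd_of_dvd_pow h1))).symm
  | @wreath m t e P hm ht h =>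
    subst h
    intro hle
    haveI : NeZero m := ⟨by omega⟩
    haveI : NeZero t := ⟨by omega⟩
    let T : (GL (Fin t → Fin m) F) →* GL (Fin n) F :=
      (MulAut.conj P).toMonoidHom.comp (Geo.glReindex e.symm).toMonoidHom
    have hmem : ∀ g ∈ Geo.specialLinear (Fin n) F,
        ∃ k ∈ Geo.tensorWreathStandard m t F, T k = g := by
      intro g hg
      obtain ⟨_, ⟨k, hk, rfl⟩, hg'⟩ := hle hg
      exact ⟨k, hk, hg'⟩
    let pi : (Fin t → GL (Fin m) F) →* GL (Fin t → Fin m) F :=
      MonoidHom.mk' pureGL fun a b => Units.ext (by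
        show pureMat _ = pureMat _ * pureMat _
        rw [pureMat_mul]; simp)
    have hBn : Geo.tensorWreathStandard m t F ≤ Subgroup.normalizer (pi.range : Set _) := by
      rw [Geo.tensorWreathStandard, Subgroup.closure_le]
      rintro g (⟨gs, hgs⟩ | ⟨σ, hσ⟩)
      · have : g = pi gs := Units.ext (Matrix.ext hgs)
        exact Subgroup.le_normalizer (this ▸ ⟨gs, rfl⟩)
      · have hgσ : g = permGL (factorPerm σ) := Units.ext (Matrix.ext fun x y => by
          rw [hσ x y]
          show _ = (1 : Matrix (Fin t → Fin m) (Fin t → Fin m) F).submatrix (factorPerm σ) id x y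
          simp [factorPerm, Matrix.one_apply, eq_comm])
        subst hgσ
        have key : ∀ gs : Fin t → GL (Fin m) F,
            permGL (factorPerm σ) * pi gs * (permGL (factorPerm σ))⁻¹ =
              pi (fun i => gs (σ.symm i)) := fun gs => Units.ext (by
          rw [← cj_coe, cj_permGL]
          exact pureMat_submatrix σ _)
        rw [SetLike.mem_coe, Subgroup.mem_normalizer_iff]
        intro x
        constructor
        · rintro ⟨gs, rfl⟩; exact ⟨_, (key gs).symm⟩
        · rintro ⟨gs, hgs⟩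
          refine ⟨fun i => gs (σ i), ?_⟩
          have h' := key fun i => gs (σ i)
          simp only [Equiv.apply_symm_apply] at h'
          rw [hgs] at h'
          exact mul_left_cancel (mul_right_cancel h')
    set B : Subgroup (GL (Fin n) F) := pi.range.map T
    obtain ⟨i, j, hij⟩ : ∃ i j : Fin m, i ≠ j :=
      ⟨⟨0, by omega⟩, ⟨1, by omega⟩, by simp [Fin.ext_iff]⟩
    let gs₀ : Fin t → GL (Fin m) F := Function.update (fun _ => 1) 0 (etv hij 1)
    let φ : Matrix (Fin m) (Fin m) F →ₐ[F] Matrix (Fin n) (Fin n) F :=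
      { toFun := fun X => cj P ((pureAt (0 : Fin t) X).submatrix e e)
        map_one' := by simp [pureAt, Function.update_eq_self, pureMat_one, Matrix.submatrix_one_equiv]
        map_mul' := fun X Y => by
          rw [← map_mul, Matrix.submatrix_mul_equiv, pureAt, pureAt, pureAt, pureMat_mul]
          congr 3
          funext k
          by_cases hk : k = 0 <;> simp [hk]
        map_zero' := by
          have : pureAt (0 : Fin t) (0 : Matrix (Fin m) (Fin m) F) = 0 := by
            ext x y
            exact Finset.prod_eq_zero (Finset.mem_univ (0 : Fin t)) (by simp)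
          simp [this, Matrix.submatrix_zero]
        map_add' := fun X Y => by
          rw [← map_add]
          congr 1
          ext r c
          simp only [Matrix.submatrix_apply, Matrix.add_apply, pureAt, pureMat, Matrix.of_apply]
          rw [← Finset.mul_prod_erase _ _ (Finset.mem_univ (0 : Fin t)),
            ← Finset.mul_prod_erase _ _ (Finset.mem_univ (0 : Fin t)),
            ← Finset.mul_prod_erase _ _ (Finset.mem_univ (0 : Fin t))]
          simp only [Function.update_self, Matrix.add_apply, add_mul]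
          congr 1 <;> congr 1 <;> refine Finset.prod_congr rfl fun k hk => ?_ <;>
            simp [Finset.ne_of_mem_erase hk]
        commutes' := fun c => by
          have : pureAt (0 : Fin t) (algebraMap F (Matrix (Fin m) (Fin m) F) c) = c • 1 := by
            rw [pureAt, Algebra.algebraMap_eq_smul_one]
            rw [show Function.update (fun _ => (1 : Matrix (Fin m) (Fin m) F)) (0 : Fin t) (c • 1) =
              fun k => (if k = 0 then c else 1) • (1 : Matrix (Fin m) (Fin m) F) by
                funext k; by_cases hk : k = 0 <;> simp [hk], pureMat_smul, pureMat_one]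
            simp
          rw [this, Algebra.algebraMap_eq_smul_one]
          simp [Matrix.submatrix_smul, Matrix.submatrix_one_equiv] }
    have hTpi : ∀ gs, ((T (pi gs) : GL (Fin n) F) : Matrix (Fin n) (Fin n) F) =
        cj P ((pureMat fun k => (gs k : Matrix (Fin m) (Fin m) F)).submatrix e e) := fun gs => by
      simp [T, pi, pureGL, cj_apply, Geo.glReindex]
    have hφu : φ (etv hij (1 : F) : GL (Fin m) F) = ((T (pi gs₀) : GL (Fin n) F) : Matrix _ _ F) := by
      rw [hTpi]
      show cj P _ = _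
      congr 2
      unfold pureAt
      congr 1
      funext k
      by_cases hk : k = 0 <;> simp [gs₀, hk]
    have hφinj : Function.Injective φ := RingHom.injective φ.toRingHom
    have hus : T (pi gs₀) ∉ Geo.scalars (Fin n) F := by
      intro hs
      obtain ⟨c, hc⟩ := (Geo.mem_scalars_iff _).1 hs
      have h' : ((etv hij (1 : F) : GL (Fin m) F) : Matrix (Fin m) (Fin m) F) = (c : F) • 1 :=
        hφinj (by rw [hφu, hc, map_smul, map_one])
      simpa [etv_val, hij] using congrFun (congrFun h' i) j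
    have hB : Geo.specialLinear (Fin n) F ≤ B := by
      refine sl_le_of_normal h3 (fun g hg x hx => ?_)
        fun h' => hus (h' ⟨pi gs₀, ⟨gs₀, rfl⟩, rfl⟩)
      obtain ⟨k, hk, rfl⟩ := hmem g hg
      obtain ⟨y, hy, rfl⟩ := hx
      exact ⟨k * y * k⁻¹, (Subgroup.mem_normalizer_iff.1 (hBn hk) y).1 hy, by simp⟩
    have htop : φ.range ≠ ⊤ := by
      intro h'
      have h1 := LinearMap.finrank_range_of_inj (f := φ.toLinearMap) hφinj
      have h2 : LinearMap.range φ.toLinearMap = ⊤ :=
        LinearMap.range_eq_top.2 fun x => (h'.ge (Algebra.mem_top : x ∈ _) : x ∈ φ.range)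
      rw [h2, finrank_top, Module.finrank_matrix, Module.finrank_matrix, Module.finrank_self,
        mul_one, mul_one, Fintype.card_congr e, Fintype.card_fun, Fintype.card_fin,
        Fintype.card_fin] at h1
      have hlt : m ^ 1 < m ^ t := Nat.pow_lt_pow_right (by omega) (by omega)
      rw [pow_one] at hlt
      exact absurd h1 (Nat.mul_lt_mul'' hlt hlt).ne'
    refine not_sl_normalises h3 htop (u := T (pi gs₀)) ⟨⟨_, hφu⟩, ⟨((etv hij (1 : F))⁻¹ : GL (Fin m) F), ?_⟩⟩ hus ?_
    · rw [← map_inv, ← map_inv, hTpi]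
      show cj P _ = _
      congr 2
      unfold pureAt
      congr 1
      funext k
      by_cases hk : k = 0 <;> simp [gs₀, hk]
    · rintro g hg _ ⟨X, rfl⟩
      obtain ⟨_, ⟨gs, rfl⟩, rfl⟩ := hB hg
      refine ⟨cj (gs 0) X, ?_⟩
      show cj P _ = cj (T (pi gs)) (cj P _)
      rw [← cj_pureGL]
      rw [show T (pi gs) = P * Geo.glReindex e.symm (pureGL gs) * P⁻¹ from rfl, cj_mul, cj_inv_cj,
        cj_mul]
      congr 1
      have h1 : ((Geo.glReindex e.symm (pureGL gs) : GL (Fin n) F) : Matrix (Fin n) (Fin n) F) =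
          (pureGL gs : Matrix (Fin t → Fin m) (Fin t → Fin m) F).submatrix e e := by
        simp [Geo.glReindex]
      have h2 : (((Geo.glReindex e.symm (pureGL gs))⁻¹ : GL (Fin n) F) : Matrix (Fin n) (Fin n) F) =
          (((pureGL gs)⁻¹ : GL (Fin t → Fin m) F) :
            Matrix (Fin t → Fin m) (Fin t → Fin m) F).submatrix e e := by
        rw [← map_inv]; simp [Geo.glReindex]
      rw [cj_apply, cj_apply, h1, h2, Matrix.submatrix_mul_equiv, Matrix.submatrix_mul_equiv]
  | @symplectic f hf _ _ h =>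
    subst h
    exact not_sl_le_similarity h3 hf.bilinear.add_left hf.bilinear.smul_left hf.nondegenerate
  | @unitary σ f hf _ h =>
    subst h
    exact not_sl_le_similarity h3 hf.add_left hf.smul_left hf.nondegenerate
  | @quad Q hQ _ _ h =>
    subst h
    exact fun hle => not_sl_le_similarity h3 hQ.polar_bilinear.add_left hQ.polar_bilinear.smul_left
      hQ.nondegenerate (hle.trans (quadSimilarity_le Q))

/-- A maximal subgroup of the special linear group is a member cut down, or residual. -/
theorem maximal_cases {n : ℕ} (hn : 3 ≤ n) {H : Subgroup (GL (Fin n) F)}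
    (hH : Geo.IsMaximalIn (Geo.specialLinear (Fin n) F) H) :
    (∃ M, LinGeom n M ∧ H ≤ M ∧ H = M ⊓ Geo.specialLinear (Fin n) F) ∨
      Geo.InLinearResidualClass H := by
  refine (linear_aschbacher hn H).imp_left ?_
  rintro ⟨M, hM, hle⟩
  refine ⟨M, hM, hle, ?_⟩
  rcases hH.2 _ (le_inf hle hH.1.le) inf_le_right with h | h
  · exact h.symm
  · exact absurd (inf_eq_right.1 h) (hM.not_sl_le hn)

end Cfsg.Agent.Aschbacher
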