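import Cfsg.Agent.Lib.Aschbacher.SympTensorCube

/-!
The symplectic group in dimension four over three elements: the stabiliser of a totally isotropic
pair of planes stabilises an orthogonal decomposition into planes.
-/

set_option autoImplicit false
set_option linter.style.haveILetI false

namespace Cfsg.Agent.Aschbacher

open scoped MatrixGroups Matrix Kronecker
open Matrix

variable {F : Type*} [Field F] [Fintype F]

section Pair

variable {ι : Type} [Fintype ι] [DecidableEq ι] {f : (ι → F) → (ι → F) → F}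

/-- Over three elements the stabiliser of a totally isotropic pair of planes stabilises two
orthogonal non-degenerate planes. -/
lemma planes_of_pair_three (hf : Geo.IsSymplecticForm f) (hq : Fintype.card F = 3)
    (hn : Fintype.card ι = 4) {D : Fin 2 → Submodule F (ι → F)} (hD : Geo.IsMDecomposition 2 D)
    (hts : ∀ i, Geo.IsTotallySingularFor f (D i)) :
    ∃ E : Fin 2 → Submodule F (ι → F), Geo.IsNondegenerateMDecomposition f 2 E ∧
      ∀ g ∈ Geo.decompositionStabilizer D,
        (∀ u v, f (g.val *ᵥ u) (g.val *ᵥ v) = f u v) → g ∈ Geo.decompositionStabilizer E := by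
  classical
  have h3 := three_eq_zero hq
  have h2 : (2 : F) ≠ 0 := fun h => one_ne_zero (α := F) (by linear_combination h3 - h)
  let b : Module.Basis (Fin 2) F (D 0) := Module.finBasisOfFinrankEq F _ (hD.finrank_eq 0)
  let ω : (Fin 2 → F) → (Fin 2 → F) → F := fun a c => a 0 * c 1 - a 1 * c 0
  let U : (Fin 2 → F) →ₗ[F] (ι → F) := (D 0).subtype.comp b.equivFun.symm.toLinearMap
  have hU : ∀ a, U a ∈ D 0 := fun a => (b.equivFun.symm a).2
  have hUsurj : ∀ x ∈ D 0, ∃ a, U a = x := fun x hx =>
    ⟨b.equivFun ⟨x, hx⟩, by simp [U]⟩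
  have hUinj : Function.Injective U := fun x y h => b.equivFun.symm.injective (Subtype.ext h)
  have hdec : ∀ v : ι → F, ∃ x ∈ D 0, ∃ y ∈ D 1, v = x + y := by
    intro v
    have htop : D 0 ⊔ D 1 = ⊤ := by
      rw [← hD.iSup_eq_top]
      refine le_antisymm (sup_le (le_iSup D 0) (le_iSup D 1)) (iSup_le fun i => ?_)
      fin_cases i
      · exact le_sup_left
      · exact le_sup_right
    obtain ⟨x, hx, y, hy, h⟩ := Submodule.mem_sup.1 (htop.ge (Submodule.mem_top : v ∈ ⊤))
    exact ⟨x, hx, y, hy, h.symm⟩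
  have hdisj : ∀ x ∈ D 0, x ∈ D 1 → x = 0 := fun x h0 h1 =>
    Submodule.disjoint_def.1 (hD.indep 0) x h0
      (Submodule.mem_iSup_of_mem 1 (Submodule.mem_iSup_of_mem (by decide) h1))
  -- the pairing
  let Ψ : (D 1) →ₗ[F] Module.Dual F (Fin 2 → F) :=
    { toFun := fun y =>
        { toFun := fun a => f (U a) y.1
          map_add' := fun a c => by rw [map_add, hf.bilinear.add_left]
          map_smul' := fun t a => by rw [map_smul, hf.bilinear.smul_left]; rfl }
      map_add' := fun y z => LinearMap.ext fun a => hf.bilinear.add_right _ _ _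
      map_smul' := fun t y => LinearMap.ext fun a => hf.bilinear.smul_right _ _ _ }
  have hΨ : Function.Injective Ψ := (injective_iff_map_eq_zero Ψ).2 fun y hy => by
    by_contra hy0
    obtain ⟨⟨x, hx⟩, -⟩ := hf.nondegenerate y.1 fun h => hy0 (Subtype.ext h)
    obtain ⟨x0, hx0, x1, hx1, rfl⟩ := hdec x
    rw [hf.bilinear.add_left, hts 1 x1 hx1 y.1 y.2, add_zero] at hx
    obtain ⟨a, rfl⟩ := hUsurj x0 hx0
    exact hx (LinearMap.congr_fun hy a)
  have hΨs : Function.Surjective Ψ :=
    (LinearMap.injective_iff_surjective_of_finrank_eq_finrank (by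
      rw [Subspace.dual_finrank_eq, hD.finrank_eq 1, Module.finrank_fin_fun])).1 hΨ
  let ωL : (Fin 2 → F) →ₗ[F] Module.Dual F (Fin 2 → F) :=
    LinearMap.mk₂ F (fun c a => ω a c) (fun c c' a => by simp [ω]; ring)
      (fun t c a => by simp [ω]; ring) (fun c a a' => by simp [ω]; ring)
      (fun t c a => by simp [ω]; ring)
  let θ : (Fin 2 → F) →ₗ[F] (ι → F) :=
    (D 1).subtype.comp ((LinearEquiv.ofBijective Ψ ⟨hΨ, hΨs⟩).symm.toLinearMap.comp ωL)
  have hθ1 : ∀ c, θ c ∈ D 1 := fun c => ((LinearEquiv.ofBijective Ψ ⟨hΨ, hΨs⟩).symm (ωL c)).2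
  have hθ : ∀ a c, f (U a) (θ c) = ω a c := fun a c =>
    LinearMap.congr_fun ((LinearEquiv.ofBijective Ψ ⟨hΨ, hΨs⟩).apply_symm_apply (ωL c)) a
  have hωswap : ∀ a c, ω a c = -ω c a := fun a c => by simp only [ω]; ring
  have hωnd : ∀ c, (∀ a, ω a c = 0) → c = 0 := fun c h => by
    have h0 := h (Pi.single 0 1)
    have h1 := h (Pi.single 1 1)
    simp [ω] at h0 h1
    funext i; fin_cases i <;> simp [h0, h1]
  have hθinj : Function.Injective θ := (injective_iff_map_eq_zero θ).2 fun c hc => hωnd c fun a => by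
    rw [← hθ, hc]; exact Transvec.f_zero_right hf _
  have hθsurj : ∀ y ∈ D 1, ∃ c, θ c = y := by
    intro y hy
    have hr : LinearMap.range θ = D 1 := by
      refine Submodule.eq_of_le_of_finrank_le (fun x ⟨c, hc⟩ => hc ▸ hθ1 c) ?_
      rw [hD.finrank_eq, LinearMap.finrank_range_of_inj hθinj, Module.finrank_fin_fun]
    exact hr.ge hy
  have huniq : ∀ y ∈ D 1, ∀ y' ∈ D 1, (∀ a, f (U a) y = f (U a) y') → y = y' := fun y hy y' hy' h =>
    congrArg Subtype.val (hΨ (a₁ := ⟨y, hy⟩) (a₂ := ⟨y', hy'⟩) (LinearMap.ext h))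
  have huniq' : ∀ a a', (∀ c, f (θ c) (U a) = f (θ c) (U a')) → a = a' := fun a a' h => by
    refine sub_eq_zero.1 (hωnd _ fun c => ?_)
    have h' := h c
    rw [hf.skew, hθ, hf.skew (θ c), hθ, neg_inj] at h'
    simp only [ω, Pi.sub_apply] at h' ⊢
    linear_combination -h'
  -- the two planes
  let L : Fin 2 → (Fin 2 → F) →ₗ[F] (ι → F) := fun i => U + (if i = 0 then (1 : F) else -1) • θ
  have hL : ∀ i c, L i c = U c + (if i = 0 then (1 : F) else -1) • θ c := fun i c => rfl
  have hLf : ∀ i j a c, f (L i a) (L j c) = if i = j then (if i = 0 then 2 * ω a c else -(2 * ω a c)) else 0 := by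
    intro i j a c
    rw [hL, hL, hf.bilinear.add_left, hf.bilinear.add_right, hf.bilinear.add_right,
      hf.bilinear.smul_left, hf.bilinear.smul_left, hf.bilinear.smul_right, hf.bilinear.smul_right,
      hts 0 _ (hU a) _ (hU c), hts 1 _ (hθ1 a) _ (hθ1 c), hθ, hf.skew (θ a), hθ, hωswap c a]
    fin_cases i <;> fin_cases j <;> simp <;> ring
  have hLinj : ∀ i, Function.Injective (L i) := fun i => (injective_iff_map_eq_zero _).2 fun c hc =>
    hωnd c fun a => by
      have h := hLf i i a c
      rw [hc, Transvec.f_zero_right hf, if_pos rfl] at h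
      split_ifs at h
      · exact (mul_eq_zero.1 h.symm).resolve_left h2
      · exact (mul_eq_zero.1 (neg_eq_zero.1 h.symm)).resolve_left h2
  let E : Fin 2 → Submodule F (ι → F) := fun i => LinearMap.range (L i)
  have horth : ∀ i j, i ≠ j → ∀ u ∈ E i, ∀ v ∈ E j, f u v = 0 := by
    rintro i j hij _ ⟨a, rfl⟩ _ ⟨c, rfl⟩
    rw [hLf, if_neg hij]
  have hnd : ∀ i, Geo.IsNondegenerateOn f (E i) := by
    rintro i _ ⟨c, rfl⟩ hne
    obtain ⟨a, ha⟩ : ∃ a, ω a c ≠ 0 := by
      by_contra h
      push Not at h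
      exact hne (by rw [hωnd c h, map_zero])
    refine ⟨⟨L i a, ⟨a, rfl⟩, ?_⟩, ⟨L i a, ⟨a, rfl⟩, ?_⟩⟩
    · rw [hLf, if_pos rfl]
      split_ifs
      · exact mul_ne_zero h2 ha
      · exact neg_ne_zero.2 (mul_ne_zero h2 ha)
    · rw [hLf, if_pos rfl, hωswap c a]
      split_ifs
      · exact mul_ne_zero h2 (neg_ne_zero.2 ha)
      · exact neg_ne_zero.2 (mul_ne_zero h2 (neg_ne_zero.2 ha))
  have hindep : iSupIndep E := fun i => by
    rw [Submodule.disjoint_def]
    intro x hx hx'
    by_contra hx0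
    obtain ⟨⟨y, hy, hyx⟩, -⟩ := hnd i x hx hx0
    have hle : (⨆ j, ⨆ (_ : j ≠ i), E j) ≤ Transvec.orth hf (E i) :=
      iSup₂_le fun j hj u hu v hv => horth i j hj.symm v hv u hu
    exact hyx (hle hx' y hy)
  have hfr : ∀ i, Module.finrank F (E i) = 2 := fun i => by
    rw [LinearMap.finrank_range_of_inj (hLinj i), Module.finrank_fin_fun]
  have hspan : iSup E = ⊤ := by
    have hint := DirectSum.coeLinearMap E
    have hle : E 0 ⊔ E 1 ≤ iSup E := sup_le (le_iSup E 0) (le_iSup E 1)
    refine top_le_iff.1 (le_trans (le_of_eq ?_) hle)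
    refine (Submodule.eq_top_of_finrank_eq ?_).symm
    have h := Submodule.finrank_sup_add_finrank_inf_eq (E 0) (E 1)
    have hinf : E 0 ⊓ E 1 = ⊥ := (Submodule.eq_bot_iff _).2 fun x hx =>
      Submodule.disjoint_def.1 (hindep 0) x hx.1
        (Submodule.mem_iSup_of_mem 1 (Submodule.mem_iSup_of_mem (by decide) hx.2))
    rw [hinf, finrank_bot, hfr, hfr, add_zero] at h
    rw [h, Module.finrank_fintype_fun_eq_card, hn]
  refine ⟨E, ⟨⟨le_rfl, two_pos, hfr, hindep, hspan⟩, hnd, fun i j hij => horth i j hij⟩, ?_⟩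
  rintro g ⟨τ, hτ⟩ hg
  have hmem : ∀ i x, x ∈ D i → g.val *ᵥ x ∈ D (τ i) := fun i x hx =>
    hτ i ▸ ⟨x, hx, Matrix.toLin'_apply _ _⟩
  have hpm : ∀ d : F, d ≠ 0 → d = 1 ∨ d = -1 := fun d hd => by
    have h := FiniteField.pow_card_sub_one_eq_one d hd
    rw [hq] at h
    exact mul_self_eq_one_iff.1 (by rw [← sq]; exact h)
  -- the linear map induced on the coordinates
  obtain ⟨A, d, hd, hcase⟩ : ∃ (A : (Fin 2 → F) →ₗ[F] (Fin 2 → F)) (d : F), (d = 1 ∨ d = -1) ∧
      ((∀ c, g.val *ᵥ U c = U (A c) ∧ g.val *ᵥ θ c = d • θ (A c)) ∨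
        (∀ c, g.val *ᵥ U c = θ (A c) ∧ g.val *ᵥ θ c = d • U (A c))) := by
    by_cases h0 : τ 0 = 0
    · have h1 : τ 1 = 1 := by
        have h : τ 1 ≠ 0 := fun h => absurd (τ.injective (h.trans h0.symm)) (by decide)
        omega
      let Ue : (Fin 2 → F) ≃ₗ[F] D 0 := LinearEquiv.ofBijective (U.codRestrict (D 0) hU)
        ⟨fun x y h => hUinj (congrArg Subtype.val h),
          fun x => (hUsurj x.1 x.2).imp fun a ha => Subtype.ext ha⟩
      let A : (Fin 2 → F) →ₗ[F] (Fin 2 → F) := Ue.symm.toLinearMap.comp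
        (LinearMap.codRestrict (D 0) ((Matrix.toLin' g.val).comp U) fun c => by
          have h := hmem 0 _ (hU c)
          rw [h0] at h
          exact h)
      have hA : ∀ c, U (A c) = g.val *ᵥ U c := fun c => congrArg Subtype.val (Ue.apply_symm_apply _)
      have hAω : ∀ a c, ω (A a) (A c) = (LinearMap.toMatrix' A).det * ω a c := fun a c => by
        rw [← LinearMap.toMatrix'_mulVec A a, ← LinearMap.toMatrix'_mulVec A c]
        simp only [ω, Matrix.mulVec, dotProduct, Fin.sum_univ_two, Matrix.det_fin_two]; ring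
      have hAinj : Function.Injective A := fun x y h =>
        hUinj (Transvec.mv_inj g ((hA x).symm.trans ((congrArg U h).trans (hA y))))
      have hdet : (LinearMap.toMatrix' A).det ≠ 0 := fun h => by
        have := hAω (Pi.single 0 1) (Pi.single 1 1)
        rw [h, zero_mul] at this
        have hsurjA : Function.Surjective A := LinearMap.injective_iff_surjective.1 hAinj
        obtain ⟨a, ha⟩ := hsurjA (Pi.single 0 1)
        obtain ⟨c, hc⟩ := hsurjA (Pi.single 1 1)
        have := hAω a c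
        rw [h, zero_mul, ha, hc] at this
        simp [ω] at this
      refine ⟨A, (LinearMap.toMatrix' A).det, hpm _ hdet, Or.inl fun c => ⟨(hA c).symm, ?_⟩⟩
      have h1' : g.val *ᵥ θ c ∈ D 1 := by
        have h := hmem 1 _ (hθ1 c)
        rwa [h1] at h
      refine huniq _ h1' _ ((D 1).smul_mem _ (hθ1 _)) fun a => ?_
      obtain ⟨a', rfl⟩ := LinearMap.injective_iff_surjective.1 hAinj a
      rw [hf.bilinear.smul_right, hθ, hA, hg, hθ, hAω, ← mul_assoc]
      rcases hpm _ hdet with h | h <;> rw [h] <;> ring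
    · have h0' : τ 0 = 1 := by omega
      have h1 : τ 1 = 0 := by
        have h : τ 1 ≠ 1 := fun h => absurd (τ.injective (h.trans h0'.symm)) (by decide)
        omega
      let θe : (Fin 2 → F) ≃ₗ[F] D 1 := LinearEquiv.ofBijective (θ.codRestrict (D 1) hθ1)
        ⟨fun x y h => hθinj (congrArg Subtype.val h),
          fun x => (hθsurj x.1 x.2).imp fun a ha => Subtype.ext ha⟩
      let A : (Fin 2 → F) →ₗ[F] (Fin 2 → F) := θe.symm.toLinearMap.comp
        (LinearMap.codRestrict (D 1) ((Matrix.toLin' g.val).comp U) fun c => by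
          have h := hmem 0 _ (hU c)
          rw [h0'] at h
          exact h)
      have hA : ∀ c, θ (A c) = g.val *ᵥ U c := fun c => congrArg Subtype.val (θe.apply_symm_apply _)
      have hAω : ∀ a c, ω (A a) (A c) = (LinearMap.toMatrix' A).det * ω a c := fun a c => by
        rw [← LinearMap.toMatrix'_mulVec A a, ← LinearMap.toMatrix'_mulVec A c]
        simp only [ω, Matrix.mulVec, dotProduct, Fin.sum_univ_two, Matrix.det_fin_two]; ring
      have hAinj : Function.Injective A := fun x y h =>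
        hUinj (Transvec.mv_inj g ((hA x).symm.trans ((congrArg θ h).trans (hA y))))
      have hdet : (LinearMap.toMatrix' A).det ≠ 0 := fun h => by
        have hsurjA : Function.Surjective A := LinearMap.injective_iff_surjective.1 hAinj
        obtain ⟨a, ha⟩ := hsurjA (Pi.single 0 1)
        obtain ⟨c, hc⟩ := hsurjA (Pi.single 1 1)
        have := hAω a c
        rw [h, zero_mul, ha, hc] at this
        simp [ω] at this
      refine ⟨A, (LinearMap.toMatrix' A).det, hpm _ hdet, Or.inr fun c => ⟨(hA c).symm, ?_⟩⟩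
      have h1' : g.val *ᵥ θ c ∈ D 0 := by
        have h := hmem 1 _ (hθ1 c)
        rwa [h1] at h
      obtain ⟨z, hz⟩ := hUsurj _ h1'
      rw [← hz, ← map_smul]
      congr 1
      refine huniq' _ _ fun a => ?_
      obtain ⟨a', rfl⟩ := LinearMap.injective_iff_surjective.1 hAinj a
      rw [hz, hA, hg, hθ, ← hA, hf.skew (θ (A a')), hθ]
      have hs : ω (((LinearMap.toMatrix' A).det) • A c) (A a') =
          (LinearMap.toMatrix' A).det * ω (A c) (A a') := by
        simp [ω]; ring
      rw [hs, hAω, hωswap a' c]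
      rcases hpm _ hdet with h | h <;> rw [h] <;> ring
  have hmapE : ∀ i, ∃ j, (E i).map (Matrix.toLin' g.val) = E j := by
    intro i
    have key : ∀ c, ∃ (j : Fin 2) (s : F), g.val *ᵥ L i c = s • L j (A c) ∧
        (∀ c', ∃ s' : F, g.val *ᵥ L i c' = s' • L j (A c')) := by
      intro c
      rcases hcase with h | h
      · refine ⟨if (if i = 0 then (1 : F) else -1) * d = 1 then 0 else 1, 1, ?_⟩
        have hgen : ∀ c, g.val *ᵥ L i c =
            L (if (if i = 0 then (1 : F) else -1) * d = 1 then 0 else 1) (A c) := fun c => by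
          rw [hL, Matrix.mulVec_add, Matrix.mulVec_smul, (h c).1, (h c).2, smul_smul, hL]
          congr 2
          have hne : (-1 : F) ≠ 1 := fun hh => h2 (by linear_combination -hh)
          fin_cases i <;> rcases hd with rfl | rfl <;> simp [hne]
        exact ⟨by rw [one_smul, hgen], fun c' => ⟨1, by rw [one_smul, hgen]⟩⟩
      · refine ⟨if (if i = 0 then (1 : F) else -1) * d = 1 then 0 else 1,
          (if i = 0 then (1 : F) else -1) * d, ?_⟩
        have hgen : ∀ c, g.val *ᵥ L i c = ((if i = 0 then (1 : F) else -1) * d) •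
            L (if (if i = 0 then (1 : F) else -1) * d = 1 then 0 else 1) (A c) := fun c => by
          rw [hL, Matrix.mulVec_add, Matrix.mulVec_smul, (h c).1, (h c).2, smul_smul, hL,
            smul_add, smul_smul, add_comm]
          congr 1
          have hne : (-1 : F) ≠ 1 := fun hh => h2 (by linear_combination -hh)
          fin_cases i <;> rcases hd with rfl | rfl <;> simp [hne]
        exact ⟨hgen c, fun c' => ⟨_, hgen c'⟩⟩
    obtain ⟨j, -, -, hj⟩ := key 0
    refine ⟨j, Submodule.eq_of_le_of_finrank_le ?_ ?_⟩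
    · rintro _ ⟨_, ⟨c, rfl⟩, rfl⟩
      obtain ⟨s, hs⟩ := hj c
      rw [Matrix.toLin'_apply, hs]
      exact (E j).smul_mem _ ⟨A c, rfl⟩
    · rw [hfr]
      refine le_of_eq ?_
      rw [← hfr i]
      exact LinearEquiv.finrank_eq (Submodule.equivMapOfInjective _
        (fun x y h => Transvec.mv_inj g (by simpa [Transvec.mv] using h)) _)
  choose r hr using hmapE
  have hrinj : Function.Injective r := fun i j hij => by
    by_contra hne
    have h : E i = E j := by
      refine Submodule.map_injective_of_injective (f := Matrix.toLin' g.val)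
        (fun x y h => Transvec.mv_inj g (by simpa [Transvec.mv] using h)) ?_
      rw [hr, hr, hij]
    obtain ⟨z, hz⟩ := exists_ne (0 : Fin 2 → F)
    obtain ⟨⟨x, hx, hxz⟩, -⟩ := hnd i (L i z) ⟨z, rfl⟩ fun h0 => hz (hLinj i (by rw [h0, map_zero]))
    exact hxz (horth i j hne x hx _ (h ▸ ⟨z, rfl⟩))
  exact ⟨Equiv.ofBijective r (Finite.injective_iff_bijective.1 hrinj), hr⟩

end Pair

end Cfsg.Agent.Aschbacher
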