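import Cfsg.Agent.Lib.Aschbacher.SympTensorCube
import Cfsg.Agent.Lib.Transvec.Quad

/-!
The symplectic group in dimension four over three elements: a hermitian structure lies
in the normaliser of an extraspecial group.
-/

set_option autoImplicit false
set_option linter.style.haveILetI false

namespace Cfsg.Agent.Aschbacher

open scoped MatrixGroups Matrix Kronecker
open Matrix

variable {F : Type*} [Field F] [Fintype F]

/-- The rotation. -/
def R0 (F : Type*) [Field F] : Matrix (Fin 2) (Fin 2) F := !![0, -1; 1, 0]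

/-- The diagonal reflection. -/
def D0 (F : Type*) [Field F] : Matrix (Fin 2) (Fin 2) F := !![1, 0; 0, -1]

/-- The exchange reflection. -/
def S0 (F : Type*) [Field F] : Matrix (Fin 2) (Fin 2) F := !![0, 1; 1, 0]

omit [Fintype F] in
lemma dih_table : R0 F * R0 F = -1 ∧ D0 F * D0 F = 1 ∧ S0 F * S0 F = 1 ∧
    R0 F * D0 F = S0 F ∧ D0 F * R0 F = -S0 F ∧ R0 F * S0 F = -D0 F ∧ S0 F * R0 F = D0 F ∧
    D0 F * S0 F = -R0 F ∧ S0 F * D0 F = R0 F := by
  simp [R0, D0, S0, Matrix.one_fin_two]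

/-- The dihedral group of order eight. -/
def InD8 (X : Matrix (Fin 2) (Fin 2) F) : Prop :=
  ∃ s : F, s ≠ 0 ∧ (X = s • 1 ∨ X = s • R0 F ∨ X = s • D0 F ∨ X = s • S0 F)

omit [Fintype F] in
lemma InD8.mul {X Y : Matrix (Fin 2) (Fin 2) F} (hX : InD8 X) (hY : InD8 Y) : InD8 (X * Y) := by
  obtain ⟨t1, t2, t3, t4, t5, t6, t7, t8, t9⟩ := dih_table (F := F)
  obtain ⟨s, hs, hX⟩ := hX
  obtain ⟨t, ht, hY⟩ := hY
  rcases hX with rfl | rfl | rfl | rfl <;> rcases hY with rfl | rfl | rfl | rfl <;>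
    simp only [Matrix.smul_mul, Matrix.mul_smul, smul_smul, one_mul, mul_one, t1, t2, t3, t4, t5,
      t6, t7, t8, t9, smul_neg, ← neg_smul] <;>
    first
      | exact ⟨_, by simp [hs, ht], Or.inl rfl⟩
      | exact ⟨_, by simp [hs, ht], Or.inr (Or.inl rfl)⟩
      | exact ⟨_, by simp [hs, ht], Or.inr (Or.inr (Or.inl rfl))⟩
      | exact ⟨_, by simp [hs, ht], Or.inr (Or.inr (Or.inr rfl))⟩

omit [Fintype F] in
lemma InD8.signs {X Y : Matrix (Fin 2) (Fin 2) F} (hX : InD8 X) (hY : InD8 Y) :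
    Y * X = X * Y ∨ Y * X = -(X * Y) := by
  obtain ⟨t1, t2, t3, t4, t5, t6, t7, t8, t9⟩ := dih_table (F := F)
  obtain ⟨s, -, hX⟩ := hX
  obtain ⟨t, -, hY⟩ := hY
  rcases hX with rfl | rfl | rfl | rfl <;> rcases hY with rfl | rfl | rfl | rfl <;>
    simp [Matrix.smul_mul, Matrix.mul_smul, smul_smul, mul_comm, t1, t2, t3, t4, t5, t6, t7, t8, t9]

/-- The dihedral group as a subgroup. -/
def d8 (F : Type*) [Field F] [Fintype F] : Subgroup (GL (Fin 2) F) :=
  Subgroup.closure {g | InD8 g.val}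

lemma mem_d8 {g : GL (Fin 2) F} : g ∈ d8 F ↔ InD8 g.val := by
  classical
  let S : Submonoid (GL (Fin 2) F) :=
    { carrier := {g | InD8 g.val}
      mul_mem' := fun {a b} ha hb => by
        show InD8 (a * b).val
        rw [Units.val_mul]; exact ha.mul hb
      one_mem' := ⟨1, one_ne_zero, Or.inl (by simp)⟩ }
  refine ⟨fun h => ?_, fun h => Subgroup.subset_closure h⟩
  induction h using Subgroup.closure_induction with
  | mem x hx => exact hx
  | one => exact S.one_mem
  | mul x y _ _ hx hy => exact S.mul_mem hx hy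
  | inv x _ hx =>
    show x⁻¹ ∈ S
    rw [show x⁻¹ = x ^ (orderOf x - 1) from inv_eq_of_mul_eq_one_right (by
      rw [← pow_succ', Nat.sub_add_cancel (orderOf_pos x), pow_orderOf_eq_one])]
    exact S.pow_mem hx _

lemma mem_normalizer_of_conj {G : Type*} [Group G] [Finite G] {N : Subgroup G} {g : G}
    (h : ∀ x ∈ N, g * x * g⁻¹ ∈ N) : g ∈ Subgroup.normalizer (N : Set G) := by
  have hle : N.map (MulAut.conj g).toMonoidHom ≤ N := by
    rintro _ ⟨x, hx, rfl⟩; exact h x hx
  have heq : N.map (MulAut.conj g).toMonoidHom = N :=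
    Subgroup.eq_of_le_of_card_ge hle (le_of_eq
      (Nat.card_congr (N.equivMapOfInjective _ (MulAut.conj g).injective).toEquiv))
  rw [Subgroup.mem_normalizer_iff]
  refine fun x => ⟨h x, fun hx => ?_⟩
  obtain ⟨y, hy, hyx⟩ := heq.ge hx
  rwa [← (MulAut.conj g).injective hyx]

/-- The hermitian structure over three elements. -/
theorem symplType_of_unitary_three {f : (Fin 2 ⊕ Fin 2 → F) → (Fin 2 ⊕ Fin 2 → F) → F}
    (hf : Geo.IsSymplecticForm f) (hq : Fintype.card F = 3)
    {K : Subalgebra F (Matrix (Fin 2 ⊕ Fin 2) (Fin 2 ⊕ Fin 2) F)}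
    (hK : Geo.IsFieldSubalgebra 2 K) (hadj : Geo.IsAdjointClosedFor f K)
    (hns : ¬ Geo.IsSelfAdjointFor f K) :
    ∃ R : Subgroup (GL (Fin 2 ⊕ Fin 2) F), Geo.IsSymplecticTypeGroup 2 R ∧
      Geo.ActsAbsolutelyIrreducibly (Geo.matrixSet R) ∧ R ≤ Geo.similarityGroup f ∧
      Nat.card R = 2 ^ (1 + 2 * 2) ∧ Nat.card (Subgroup.center R) = 2 ∧ Geo.IsOfMinusType 2 R ∧
      ∀ g ∈ Geo.subalgebraNormalizer K, (∀ u v, f (g.val *ᵥ u) (g.val *ᵥ v) = f u v) →
        g ∈ Geo.subgroupNormalizer R := by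
  classical
  have h3 := three_eq_zero hq
  have h2 : (2 : F) ≠ 0 := fun h => one_ne_zero (α := F) (by linear_combination h3 - h)
  have hpm : ∀ d : F, d ≠ 0 → d = 1 ∨ d = -1 := fun d hd => by
    have h := FiniteField.pow_card_sub_one_eq_one d hd
    rw [hq] at h
    exact mul_self_eq_one_iff.1 (by rw [← sq]; exact h)
  have hf' := IsHermLike.of_symplectic hf
  -- the square root of minus one
  obtain ⟨i, hi, hadji, hii⟩ : ∃ i ∈ K, hf'.adj i = -i ∧ i * i = -1 := by
    obtain ⟨k, hk, hkne⟩ : ∃ k ∈ K, hf'.adj k ≠ k := by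
      by_contra hc
      push Not at hc
      exact hns (hf'.selfAdjoint_of_adj hc)
    set θ := k - hf'.adj k with hθ
    have hθK : θ ∈ K := sub_mem hk (hf'.adj_mem_of_closed hadj hk)
    have hθ0 : θ ≠ 0 := sub_ne_zero.2 (Ne.symm hkne)
    have hadjθ : hf'.adj θ = -θ := by
      rw [hθ, sub_eq_add_neg, hf'.adj_add, hf'.adj_neg, hf'.adj_adj, neg_add, neg_neg, add_comm]
    -- the fixed elements are the scalars
    let S : Submodule F K :=
      { carrier := {x | hf'.adj x.1 = x.1}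
        add_mem' := fun {a b} ha hb => by
          show hf'.adj (a.1 + b.1) = a.1 + b.1
          rw [hf'.adj_add, ha, hb]
        zero_mem' := hf'.adj_zero
        smul_mem' := fun c a ha => by
          show hf'.adj (c • a.1) = c • a.1
          rw [hf'.adj_smul, ha]; rfl }
    obtain ⟨c, hc⟩ : ∃ c : F, θ * θ = c • 1 := by
      have hne : S ≠ ⊤ := fun h => by
        have hm : (⟨k, hk⟩ : K) ∈ S := by rw [h]; exact Submodule.mem_top
        exact hkne hm
      have hlt := Submodule.finrank_lt hne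
      rw [hK.finrank_eq] at hlt
      have hle : Submodule.span F {(1 : K)} ≤ S :=
        (Submodule.span_singleton_le_iff_mem _ _).2 hf'.adj_one
      have h1ne : (1 : K) ≠ 0 := fun e => one_ne_zero (congrArg Subtype.val e)
      have heq : Submodule.span F {(1 : K)} = S := Submodule.eq_of_le_of_finrank_le hle (by
        rw [finrank_span_singleton h1ne]; omega)
      have hmem : (⟨θ * θ, mul_mem hθK hθK⟩ : K) ∈ S := by
        show hf'.adj (θ * θ) = θ * θ
        rw [hf'.adj_mul, hadjθ, neg_mul_neg]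
      obtain ⟨c, hc⟩ := Submodule.mem_span_singleton.1 (heq.ge hmem)
      exact ⟨c, (congrArg Subtype.val hc).symm⟩
    obtain ⟨y, -, hy⟩ := hK.inv θ hθK hθ0
    have hc0 : c ≠ 0 := fun h => hθ0 (by
      calc θ = θ * (θ * y) := by rw [hy, mul_one]
        _ = (θ * θ) * y := (mul_assoc _ _ _).symm
        _ = 0 := by rw [hc, h, zero_smul, zero_mul])
    rcases hpm c hc0 with rfl | rfl
    · exfalso
      rw [one_smul] at hc
      have key : θ = hf'.adj θ := by
        rcases sq_eq_one_cases hK hθK hc with h | h <;> rw [h]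
        · rw [hf'.adj_one]
        · rw [hf'.adj_neg, hf'.adj_one]
      rw [hadjθ, eq_neg_iff_add_eq_zero, ← two_smul F θ] at key
      exact hθ0 ((smul_eq_zero.1 key).resolve_left h2)
    · exact ⟨θ, hθK, hadjθ, by rw [hc]; simp⟩
  have hadj' : ∀ u v, f (i *ᵥ u) v = -f u (i *ᵥ v) := fun u v => by
    rw [hf'.adj_spec, hadji, Matrix.neg_mulVec, Transvec.f_neg_right hf]
  have hiv : ∀ v, i *ᵥ (i *ᵥ v) = -v := fun v => by
    rw [Matrix.mulVec_mulVec, hii, Matrix.neg_mulVec, Matrix.one_mulVec]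
  have hiso : ∀ u v, f (i *ᵥ u) (i *ᵥ v) = f u v := fun u v => by
    rw [hadj', hiv, Transvec.f_neg_right hf, neg_neg]
  -- an isotropic vector
  let Q : (Fin 2 ⊕ Fin 2 → F) → F := fun v => f (i *ᵥ v) v
  have hpol : ∀ u v, QuadraticMap.polar Q u v = 2 * f (i *ᵥ u) v := fun u v => by
    simp only [QuadraticMap.polar, Q, Matrix.mulVec_add, hf.bilinear.add_left, hf.bilinear.add_right]
    rw [hadj' v u, hf.skew v]; ring
  have hpol' : QuadraticMap.polar Q = fun u v => 2 * f (i *ᵥ u) v :=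
    funext fun u => funext fun v => hpol u v
  have hQ : Geo.IsNondegenerateQuadraticForm Q := by
    refine ⟨fun c v => ?_, ?_, fun v hv => ?_⟩
    · simp only [Q, Matrix.mulVec_smul, hf.bilinear.smul_left, hf.bilinear.smul_right]; ring
    · rw [hpol']
      exact ⟨fun x y v => by rw [Matrix.mulVec_add, hf.bilinear.add_left]; ring,
        fun c x v => by rw [Matrix.mulVec_smul, hf.bilinear.smul_left]; ring,
        fun v x y => by rw [hf.bilinear.add_right]; ring,
        fun c v x => by rw [hf.bilinear.smul_right]; ring⟩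
    · have hiv0 : i *ᵥ v ≠ 0 := fun h => hv (by
        have := hiv v
        rw [h, Matrix.mulVec_zero] at this
        exact neg_eq_zero.1 this.symm)
      obtain ⟨-, y, hy⟩ := hf.nondegenerate _ hiv0
      refine ⟨⟨y, ?_⟩, ⟨y, by rw [hpol]; exact mul_ne_zero h2 hy⟩⟩
      rw [QuadraticMap.polar_comm, hpol]; exact mul_ne_zero h2 hy
  obtain ⟨e₁, -, he₁, hQe₁⟩ := Transvec.Orth.exists_singular hQ (X := ⊤)
    (by rw [finrank_top, Module.finrank_fintype_fun_eq_card]; simp)
  have g11 : f (i *ᵥ e₁) e₁ = 0 := hQe₁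
  obtain ⟨y, hy1, hy2⟩ : ∃ y, f e₁ y = 1 ∧ f (i *ᵥ e₁) y = 0 := by
    have hind : e₁ ∉ Submodule.span F {i *ᵥ e₁} := fun h => by
      obtain ⟨a, ha⟩ := Submodule.mem_span_singleton.1 h
      have h1 := congrArg (fun v => i *ᵥ v) ha
      simp only [Matrix.mulVec_smul, hiv] at h1
      rw [← h1, smul_neg, smul_neg, smul_smul] at ha
      have hz : (1 + a * a) • e₁ = 0 := by
        rw [add_smul, one_smul]
        exact add_eq_zero_iff_eq_neg.2 ha.symm
      have ha2 : a * a = -1 := by linear_combination (smul_eq_zero.1 hz).resolve_right he₁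
      by_cases ha0 : a = 0
      · rw [ha0, zero_mul] at ha2; exact one_ne_zero (α := F) (by linear_combination ha2)
      · rcases hpm a ha0 with h | h <;> rw [h] at ha2 <;> exact h2 (by linear_combination ha2)
    obtain ⟨φ, hφ, hφ'⟩ := Transvec.exists_dual hind
    obtain ⟨z, hz⟩ := Transvec.exists_eq_f hf φ
    exact ⟨z, by rw [← hz, hφ'],
      by rw [← hz, hφ _ (Submodule.mem_span_singleton_self _)]⟩
  set e₂ := y + (-(f (i *ᵥ y) y)) • (i *ᵥ e₁) with he₂
  have g12 : f e₁ e₂ = 1 := by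
    rw [he₂, hf.bilinear.add_right, hf.bilinear.smul_right, hf.skew e₁ (i *ᵥ e₁), g11, hy1]; ring
  have g12' : f (i *ᵥ e₁) e₂ = 0 := by
    rw [he₂, hf.bilinear.add_right, hf.bilinear.smul_right, hf.alternating, hy2]; ring
  have g22 : f (i *ᵥ e₂) e₂ = 0 := by
    rw [he₂, Matrix.mulVec_add, Matrix.mulVec_smul, hiv, hf.bilinear.add_left, hf.bilinear.add_right,
      hf.bilinear.add_right, hf.bilinear.smul_left, hf.bilinear.smul_right, hf.bilinear.smul_left,
      hf.bilinear.smul_right, hiso y e₁, Transvec.f_neg_left hf, Transvec.f_neg_left hf, hf.skew y e₁,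
      hy1, hf.skew e₁ (i *ᵥ e₁), g11]
    linear_combination (f (i *ᵥ y) y) * h3
  -- the coordinates
  let eq : Fin 2 ⊕ Fin 2 ≃ Fin 2 × Fin 2 := Fintype.equivOfCardEq (by simp)
  let Φ : (Fin 2 × Fin 2 → F) →ₗ[F] (Fin 2 ⊕ Fin 2 → F) :=
    (LinearMap.proj (0, 0)).smulRight e₁ + (LinearMap.proj (1, 0)).smulRight e₂ +
      (LinearMap.proj (0, 1)).smulRight (i *ᵥ e₁) + (LinearMap.proj (1, 1)).smulRight (i *ᵥ e₂)
  have hΦx : ∀ x, Φ x = x (0, 0) • e₁ + x (1, 0) • e₂ + x (0, 1) • (i *ᵥ e₁) + x (1, 1) • (i *ᵥ e₂) :=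
    fun x => rfl
  have hΦf : ∀ x y, f (Φ x) (Φ y) = formOf (J2 F ⊗ₖ (1 : Matrix (Fin 2) (Fin 2) F)) x y := by
    intro x y
    have a1 : f e₂ e₁ = -1 := by rw [hf.skew, g12]
    have a2 : f e₁ (i *ᵥ e₁) = 0 := by rw [hf.skew, g11, neg_zero]
    have a3 : f e₁ (i *ᵥ e₂) = 0 := by
      have h := hadj' e₁ e₂
      rw [g12'] at h
      linear_combination h
    have a4 : f (i *ᵥ e₂) e₁ = 0 := by rw [hf.skew, a3, neg_zero]
    have a5 : f e₂ (i *ᵥ e₁) = 0 := by rw [hf.skew, g12', neg_zero]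
    have a6 : f e₂ (i *ᵥ e₂) = 0 := by rw [hf.skew, g22, neg_zero]
    simp only [hΦx, hf.bilinear.add_left, hf.bilinear.add_right, hf.bilinear.smul_left,
      hf.bilinear.smul_right, hf.alternating, hiso, g11, g12, g12', g22, a1, a2, a3, a4, a5, a6]
    simp [formOf, J2, dotProduct, Matrix.mulVec, Fintype.sum_prod_type, Fin.sum_univ_two]
    ring
  let L := Φ.comp (LinearMap.funLeft F F eq.symm)
  have hLinj : Function.Injective L := by
    refine (injective_iff_map_eq_zero L).2 fun z hz => funext fun j => ?_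
    have h0 : ∀ w, formOf (J2 F ⊗ₖ (1 : Matrix (Fin 2) (Fin 2) F)) (z ∘ eq.symm) w = 0 := fun w => by
      rw [← hΦf, show Φ (z ∘ eq.symm) = 0 from hz]; exact Transvec.f_zero_left hf _
    have h := fun p => h0 (Pi.single p 1)
    have h00 := h (1, 0)
    have h10 := h (0, 0)
    have h01 := h (1, 1)
    have h11 := h (0, 1)
    simp [formOf, J2, dotProduct, Matrix.mulVec, Fintype.sum_prod_type, Fin.sum_univ_two] at h00 h10 h01 h11
    obtain ⟨p, rfl⟩ := eq.symm.surjective j
    obtain ⟨a, b⟩ := p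
    fin_cases a <;> fin_cases b <;> simp_all
  let P : GL (Fin 2 ⊕ Fin 2) F := ((Matrix.mulVec_injective_iff_isUnit (A := LinearMap.toMatrix' L)).1
    (fun x y h => hLinj (by rwa [LinearMap.toMatrix'_mulVec, LinearMap.toMatrix'_mulVec] at h))).unit
  have hP : ∀ x, P.val *ᵥ (x ∘ eq) = Φ x := fun x => by
    show LinearMap.toMatrix' L *ᵥ (x ∘ eq) = _
    rw [LinearMap.toMatrix'_mulVec]
    show Φ ((x ∘ eq) ∘ eq.symm) = _
    rw [Function.comp_assoc, Equiv.self_comp_symm, Function.comp_id]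
  let Tm : Matrix (Fin 2 × Fin 2) (Fin 2 × Fin 2) F → Matrix (Fin 2 ⊕ Fin 2) (Fin 2 ⊕ Fin 2) F :=
    fun W => cj P (W.submatrix eq eq)
  have hTm_mul : ∀ W W', Tm (W * W') = Tm W * Tm W' := fun W W' => by
    simp only [Tm]; rw [← map_mul, Matrix.submatrix_mul_equiv]
  have hTm_add : ∀ W W', Tm (W + W') = Tm W + Tm W' := fun W W' => by
    simp only [Tm]; rw [← map_add]; rfl
  have hTm_one : Tm 1 = 1 := by simp [Tm, Matrix.submatrix_one_equiv]
  have hTm_smul : ∀ (c : F) W, Tm (c • W) = c • Tm W := fun c W => by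
    simp only [Tm]; rw [← map_smul]; rfl
  have hTm_neg : ∀ W, Tm (-W) = -Tm W := fun W => by
    rw [← neg_one_smul F W, hTm_smul, neg_one_smul]
  have hTm_act : ∀ W x, Tm W *ᵥ Φ x = Φ (W *ᵥ x) := fun W x => by
    rw [← hP, ← hP]
    simp only [Tm]
    rw [cj_apply, Matrix.mulVec_mulVec, Units.inv_mul_cancel_right, ← Matrix.mulVec_mulVec,
      Matrix.submatrix_mulVec_equiv, Function.comp_assoc, Equiv.self_comp_symm, Function.comp_id]
  have hcoords : ∀ u, ∃ x, Φ x = u := fun u => ⟨((P⁻¹).val *ᵥ u) ∘ eq.symm, by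
    rw [← hP, Function.comp_assoc, Equiv.symm_comp_self, Function.comp_id, Matrix.mulVec_mulVec,
      Units.mul_inv, Matrix.one_mulVec]⟩
  have hiT : i = Tm ((1 : Matrix (Fin 2) (Fin 2) F) ⊗ₖ R0 F) := mulVec_ext fun u => by
    obtain ⟨x, rfl⟩ := hcoords u
    rw [hTm_act, hΦx, hΦx]
    simp [R0, Matrix.mulVec, dotProduct, Fintype.sum_prod_type, Fin.sum_univ_two,
      Matrix.mulVec_add, Matrix.mulVec_smul]
    simp only [← Matrix.mulVec_mulVec, Matrix.mulVec_add, Matrix.mulVec_smul, hiv]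
    module
  have hsim_of : ∀ (g : GL (Fin 2 ⊕ Fin 2) F) (W : Matrix (Fin 2 × Fin 2) (Fin 2 × Fin 2) F) (μ : Fˣ),
      g.val = Tm W → Wᵀ * (J2 F ⊗ₖ (1 : Matrix (Fin 2) (Fin 2) F)) * W =
        (μ : F) • (J2 F ⊗ₖ (1 : Matrix (Fin 2) (Fin 2) F)) → g ∈ Geo.similarityGroup f := by
    intro g W μ hg hW
    refine ⟨μ, fun u v => ?_⟩
    obtain ⟨x, rfl⟩ := hcoords u
    obtain ⟨y, rfl⟩ := hcoords v
    rw [hg, hTm_act, hTm_act, hΦf, hΦf, formOf_mulVec, hW]
    simp [formOf, Matrix.smul_mulVec, dotProduct_smul]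
  let T : GL (Fin 2) F × GL (Fin 2) F →* GL (Fin 2 ⊕ Fin 2) F :=
    MonoidHom.mk' (fun p =>
      { val := Tm (p.1.val ⊗ₖ p.2.val)
        inv := Tm ((p.1⁻¹).val ⊗ₖ (p.2⁻¹).val)
        val_inv := by
          rw [← hTm_mul, ← Matrix.mul_kronecker_mul, Units.mul_inv, Units.mul_inv,
            Matrix.one_kronecker_one, hTm_one]
        inv_val := by
          rw [← hTm_mul, ← Matrix.mul_kronecker_mul, Units.inv_mul, Units.inv_mul,
            Matrix.one_kronecker_one, hTm_one] })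
      fun p p' => Units.ext (by
        show Tm ((p.1 * p'.1).val ⊗ₖ (p.2 * p'.2).val) = Tm (p.1.val ⊗ₖ p.2.val) * Tm (p'.1.val ⊗ₖ p'.2.val)
        rw [← hTm_mul, ← Matrix.mul_kronecker_mul]; rfl)
  have hTv : ∀ a b, (T (a, b)).val = Tm (a.val ⊗ₖ b.val) := fun a b => rfl
  set N := ((q8 hq).prod (d8 F)).map T with hN
  have memN : ∀ x ∈ N, ∃ a b, InQ8 a ∧ InD8 b.val ∧ x = T (a, b) := by
    rintro _ ⟨⟨a, b⟩, ⟨ha, hb⟩, rfl⟩
    exact ⟨a, b, ha, mem_d8.1 hb, rfl⟩
  have inN : ∀ a b, InQ8 a → InD8 b.val → T (a, b) ∈ N := fun a b ha hb =>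
    ⟨(a, b), ⟨ha, mem_d8.2 hb⟩, rfl⟩
  set H' := Subgroup.normalizer (N : Set (GL (Fin 2 ⊕ Fin 2) F)) ⊓ Geo.similarityGroup f with hH'
  -- pure elements
  let cM : F → F → Matrix (Fin 2) (Fin 2) F := fun s t => s • 1 + t • R0 F
  have hTsim : ∀ a b (μ : F), μ ≠ 0 → b.valᵀ * b.val = μ • 1 → T (a, b) ∈ Geo.similarityGroup f := by
    intro a b μ hμ hb
    refine hsim_of _ _ (Matrix.GeneralLinearGroup.det a * Units.mk0 μ hμ) (hTv a b) ?_
    rw [← Matrix.kroneckerMap_transpose, ← Matrix.mul_kronecker_mul, ← Matrix.mul_kronecker_mul,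
      mul_one, J2_gram, hb, Matrix.smul_kronecker, Matrix.kronecker_smul, smul_smul]
    rfl
  have hd8gram : ∀ b : GL (Fin 2) F, InD8 b.val → ∃ μ : F, μ ≠ 0 ∧ b.valᵀ * b.val = μ • 1 := by
    rintro b ⟨s, hs, h⟩
    refine ⟨s * s, mul_ne_zero hs hs, ?_⟩
    rcases h with h | h | h | h <;> rw [h] <;> ext k l <;> fin_cases k <;> fin_cases l <;>
      simp [R0, D0, S0, Matrix.mul_apply, Fin.sum_univ_two]
  have hNsim : N ≤ Geo.similarityGroup f := fun x hx => by
    obtain ⟨a, b, ha, hb, rfl⟩ := memN x hx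
    obtain ⟨μ, hμ, hb'⟩ := hd8gram b hb
    exact hTsim a b μ hμ hb'
  have hq8n : ∀ (g a : GL (Fin 2) F), InQ8 a → InQ8 (g * a * g⁻¹) := by
    intro g a ha
    rw [InQ8, Units.val_mul, Units.val_mul]
    rcases ha with h | h | h
    · exact Or.inl (by rw [h, mul_one, Units.mul_inv])
    · exact Or.inr (Or.inl (by rw [h, mul_neg_one, neg_mul, Units.mul_inv]))
    · exact Or.inr (Or.inr (h.conj g))
  have hTnorm : ∀ a b, (∀ x : GL (Fin 2) F, InD8 x.val → InD8 (b * x * b⁻¹).val) →
      T (a, b) ∈ Subgroup.normalizer (N : Set (GL (Fin 2 ⊕ Fin 2) F)) := by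
    intro a b hb
    refine mem_normalizer_of_conj fun x hx => ?_
    obtain ⟨a', b', ha', hb', rfl⟩ := memN x hx
    rw [← map_inv, ← map_mul, ← map_mul]
    exact inN _ _ (hq8n a a' ha') (hb b' hb')
  obtain ⟨t1, t2, t3, t4, t5, t6, t7, t8, t9⟩ := dih_table (F := F)
  have hcnorm : ∀ (b : GL (Fin 2) F) s t, b.val = cM s t →
      ∀ x : GL (Fin 2) F, InD8 x.val → InD8 (b * x * b⁻¹).val := by
    intro b s t hb x ⟨r, hr, hx⟩
    have key : ∀ X : Matrix (Fin 2) (Fin 2) F, InD8 X → ∀ Y, InD8 Y → cM s t * X = Y * cM s t →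
        x.val = X → InD8 (b * x * b⁻¹).val := by
      intro X _ Y hY h he
      rw [Units.val_mul, Units.val_mul, he, hb, h, ← hb, mul_assoc, Units.mul_inv, mul_one]
      exact hY
    have hc : ∀ X, (X = 1 ∨ X = R0 F ∨ X = D0 F ∨ X = S0 F) →
        ∃ Y, InD8 Y ∧ cM s t * X = Y * cM s t := by
      intro X hX
      have hst : ¬ (s = 0 ∧ t = 0) := fun h => b.ne_zero (by rw [hb]; simp [cM, h.1, h.2])
      rcases hX with rfl | rfl | rfl | rfl
      · exact ⟨1, ⟨1, one_ne_zero, Or.inl (one_smul _ _).symm⟩, by rw [mul_one, one_mul]⟩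
      · refine ⟨R0 F, ⟨1, one_ne_zero, Or.inr (Or.inl (one_smul _ _).symm)⟩, ?_⟩
        simp [cM, add_mul, mul_add]
      · by_cases hs : s = 0
        · refine ⟨-D0 F, ⟨-1, by simp, Or.inr (Or.inr (Or.inl (by simp)))⟩, ?_⟩
          simp [cM, hs, t4, t5]
        by_cases ht : t = 0
        · refine ⟨D0 F, ⟨1, one_ne_zero, Or.inr (Or.inr (Or.inl (one_smul _ _).symm))⟩, ?_⟩
          simp [cM, ht]
        refine ⟨(s * t) • S0 F, ⟨_, mul_ne_zero hs ht, Or.inr (Or.inr (Or.inr rfl))⟩, ?_⟩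
        rcases hpm s hs with rfl | rfl <;> rcases hpm t ht with rfl | rfl <;>
          simp [cM, add_mul, mul_add, t4, t5, t6, t7] <;> abel
      · by_cases hs : s = 0
        · refine ⟨-S0 F, ⟨-1, by simp, Or.inr (Or.inr (Or.inr (by simp)))⟩, ?_⟩
          simp [cM, hs, t6, t7]
        by_cases ht : t = 0
        · refine ⟨S0 F, ⟨1, one_ne_zero, Or.inr (Or.inr (Or.inr (one_smul _ _).symm))⟩, ?_⟩
          simp [cM, ht]
        refine ⟨(-(s * t)) • D0 F, ⟨_, neg_ne_zero.2 (mul_ne_zero hs ht),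
          Or.inr (Or.inr (Or.inl rfl))⟩, ?_⟩
        rcases hpm s hs with rfl | rfl <;> rcases hpm t ht with rfl | rfl <;>
          simp [cM, add_mul, mul_add, t4, t5, t6, t7] <;> abel
    rcases hx with h | h | h | h
    · obtain ⟨Y, hY, hYc⟩ := hc 1 (Or.inl rfl)
      exact key _ ⟨r, hr, Or.inl rfl⟩ (r • Y) ((show InD8 (r • (1 : Matrix (Fin 2) (Fin 2) F)) from
        ⟨r, hr, Or.inl rfl⟩).mul hY |> fun h => by simpa using h)
        (by rw [Matrix.mul_smul, Matrix.smul_mul, hYc]) h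
    · obtain ⟨Y, hY, hYc⟩ := hc (R0 F) (Or.inr (Or.inl rfl))
      exact key _ ⟨r, hr, Or.inr (Or.inl rfl)⟩ (r • Y) ((show InD8 (r • (1 : Matrix (Fin 2) (Fin 2) F)) from
        ⟨r, hr, Or.inl rfl⟩).mul hY |> fun h => by simpa using h)
        (by rw [Matrix.mul_smul, Matrix.smul_mul, hYc]) h
    · obtain ⟨Y, hY, hYc⟩ := hc (D0 F) (Or.inr (Or.inr (Or.inl rfl)))
      exact key _ ⟨r, hr, Or.inr (Or.inr (Or.inl rfl))⟩ (r • Y) ((show InD8 (r • (1 : Matrix (Fin 2) (Fin 2) F)) from
        ⟨r, hr, Or.inl rfl⟩).mul hY |> fun h => by simpa using h)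
        (by rw [Matrix.mul_smul, Matrix.smul_mul, hYc]) h
    · obtain ⟨Y, hY, hYc⟩ := hc (S0 F) (Or.inr (Or.inr (Or.inr rfl)))
      exact key _ ⟨r, hr, Or.inr (Or.inr (Or.inr rfl))⟩ (r • Y) ((show InD8 (r • (1 : Matrix (Fin 2) (Fin 2) F)) from
        ⟨r, hr, Or.inl rfl⟩).mul hY |> fun h => by simpa using h)
        (by rw [Matrix.mul_smul, Matrix.smul_mul, hYc]) h
  have hcgram : ∀ (b : GL (Fin 2) F) s t, b.val = cM s t →
      ∃ μ : F, μ ≠ 0 ∧ b.valᵀ * b.val = μ • 1 := by
    intro b s t hb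
    refine ⟨s * s + t * t, fun h0 => ?_, ?_⟩
    · have hd : b.val.det = 0 := by
        rw [hb]; simp [cM, R0, Matrix.det_fin_two]; linear_combination h0
      exact (((Matrix.isUnit_iff_isUnit_det _).1 b.isUnit).ne_zero) hd
    · rw [hb]; ext k l
      fin_cases k <;> fin_cases l <;> simp [cM, R0, Matrix.mul_apply, Fin.sum_univ_two] <;> ring
  have hTc : ∀ a (b : GL (Fin 2) F) s t, b.val = cM s t → T (a, b) ∈ H' := fun a b s t hb => by
    obtain ⟨μ, hμ, hb'⟩ := hcgram b s t hb
    exact ⟨hTnorm a b (hcnorm b s t hb), hTsim a b μ hμ hb'⟩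
  have mk8 : ∀ X : Matrix (Fin 2) (Fin 2) F, X * X = 1 ∨ X * X = -1 → InD8 X →
      ∃ b : GL (Fin 2) F, b.val = X := by
    intro X h _
    rcases h with h | h
    · exact ⟨⟨X, X, h, h⟩, rfl⟩
    · exact ⟨⟨X, -X, by rw [mul_neg, h, neg_neg], by rw [neg_mul, h, neg_neg]⟩, rfl⟩
  have hR0 : InD8 (R0 F) := ⟨1, one_ne_zero, Or.inr (Or.inl (one_smul _ _).symm)⟩
  have hD0 : InD8 (D0 F) := ⟨1, one_ne_zero, Or.inr (Or.inr (Or.inl (one_smul _ _).symm))⟩
  have hS0 : InD8 (S0 F) := ⟨1, one_ne_zero, Or.inr (Or.inr (Or.inr (one_smul _ _).symm))⟩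
  obtain ⟨rot, hrot⟩ := mk8 _ (Or.inr t1) hR0
  obtain ⟨dia, hdia⟩ := mk8 _ (Or.inl t2) hD0
  obtain ⟨swp, hswp⟩ := mk8 _ (Or.inl t3) hS0
  have hIq : IsTZOne (R0 F) := ⟨by simp [R0], by simp [R0, Matrix.det_fin_two]⟩
  -- the exchanging element
  set uM := Tm ((1 : Matrix (Fin 2) (Fin 2) F) ⊗ₖ R0 F) with huM
  set vM := Tm (R0 F ⊗ₖ D0 F) with hvM
  have huu : uM * uM = -1 := by
    rw [huM, ← hTm_mul, ← Matrix.mul_kronecker_mul, one_mul, t1, show (-1 : Matrix (Fin 2) (Fin 2) F) =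
      (-1 : F) • 1 by simp, Matrix.kronecker_smul, hTm_smul, Matrix.one_kronecker_one, hTm_one]
    simp
  have hvv : vM * vM = -1 := by
    rw [hvM, ← hTm_mul, ← Matrix.mul_kronecker_mul, t1, t2, show (-1 : Matrix (Fin 2) (Fin 2) F) =
      (-1 : F) • 1 by simp, Matrix.smul_kronecker, hTm_smul, Matrix.one_kronecker_one, hTm_one]
    simp
  have huv : vM * uM = -(uM * vM) := by
    rw [huM, hvM, ← hTm_mul, ← hTm_mul, ← Matrix.mul_kronecker_mul, ← Matrix.mul_kronecker_mul,
      one_mul, mul_one, t4, t5, show (-S0 F) = (-1 : F) • S0 F by simp, Matrix.kronecker_smul,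
      hTm_smul, neg_one_smul]
  have hww : (uM + vM) * (uM + vM) = 1 := by
    rw [add_mul, mul_add, mul_add, huu, hvv, huv]
    ext a b
    simp only [Matrix.add_apply, Matrix.neg_apply]
    linear_combination -((1 : Matrix (Fin 2 ⊕ Fin 2) (Fin 2 ⊕ Fin 2) F) a b) * h3
  let w : GL (Fin 2 ⊕ Fin 2) F := ⟨uM + vM, uM + vM, hww, hww⟩
  have hneg : ∀ x ∈ N, ∃ y ∈ N, y.val = -x.val := by
    intro x hx
    obtain ⟨a, b, ha, ⟨s, hs, hb⟩, rfl⟩ := memN x hx
    refine ⟨T (a, -b), inN a (-b) ha ⟨-s, neg_ne_zero.2 hs, ?_⟩, ?_⟩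
    · rw [Units.val_neg]
      rcases hb with h | h | h | h <;> simp [h]
    · rw [hTv, hTv, Units.val_neg, show (-b.val) = (-1 : F) • b.val by simp, Matrix.kronecker_smul,
        hTm_smul, neg_one_smul]
  have huN : ∃ x ∈ N, x.val = uM := ⟨T (1, rot), inN 1 rot (Or.inl rfl) (hrot ▸ hR0), by rw [hTv, hrot]; rfl⟩
  have hvI : ∃ a : GL (Fin 2) F, a.val = R0 F := ⟨rot, hrot⟩
  have hvN : ∃ x ∈ N, x.val = vM := ⟨T (rot, dia), inN rot dia (Or.inr (Or.inr (hrot ▸ hIq))) (hdia ▸ hD0),
    by rw [hTv, hrot, hdia]⟩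
  have hsigns : ∀ x ∈ N, ∀ y ∈ N, y.val * x.val = x.val * y.val ∨ y.val * x.val = -(x.val * y.val) := by
    intro x hx y hy
    obtain ⟨a, b, ha, hb, rfl⟩ := memN x hx
    obtain ⟨a', b', ha', hb', rfl⟩ := memN y hy
    have hA : a'.val * a.val = a.val * a'.val ∨ a'.val * a.val = -(a.val * a'.val) := by
      rcases ha with h | h | hA
      · left; simp [h]
      · left; simp [h]
      rcases ha' with h | h | hA'
      · left; simp [h]
      · left; simp [h]
      rcases tzOne_cases hq hA hA' with h | h | h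
      · left; rw [h]
      · left; rw [h]; simp
      · right; exact (hA.commutes hA' h).2
    rw [hTv, hTv, ← hTm_mul, ← hTm_mul, ← Matrix.mul_kronecker_mul, ← Matrix.mul_kronecker_mul]
    have e1 : ∀ X Y : Matrix (Fin 2) (Fin 2) F, (-X) ⊗ₖ Y = -(X ⊗ₖ Y) := fun X Y => by
      ext; simp
    have e2 : ∀ X Y : Matrix (Fin 2) (Fin 2) F, X ⊗ₖ (-Y) = -(X ⊗ₖ Y) := fun X Y => by
      ext; simp
    rcases hA with h | h <;> rcases hb.signs hb' with h' | h' <;>
      rw [h, h'] <;> simp [e1, e2, hTm_neg]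
  have hwconj : ∀ x ∈ N, ∃ y ∈ N, y.val = (uM + vM) * x.val * (uM + vM) ∧
      (x.val * uM = uM * x.val → x.val * vM = -(vM * x.val) → ∀ z : GL (Fin 2 ⊕ Fin 2) F,
        z.val = -(x.val * (uM * vM)) → y = z) ∧
      (x.val * uM = -(uM * x.val) → x.val * vM = vM * x.val → ∀ z : GL (Fin 2 ⊕ Fin 2) F,
        z.val = x.val * (uM * vM) → y = z) := by
    intro x hx
    obtain ⟨u, hu, hue⟩ := huN
    obtain ⟨v, hv, hve⟩ := hvN
    set X := x.val with hX
    set W := (uM + vM) * X * (uM + vM) with hW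
    have eq3 : X * (uM * vM) + X * (uM * vM) = -(X * (uM * vM)) := by
      rw [eq_neg_iff_add_eq_zero]
      ext a b
      simp only [Matrix.add_apply, Matrix.zero_apply]
      linear_combination ((X * (uM * vM)) a b) * h3
    have casePM : X * uM = uM * X → X * vM = -(vM * X) → W = -(X * (uM * vM)) := by
      intro hxu hxv
      calc W = X * ((uM - vM) * (uM + vM)) := by
            rw [hW, add_mul, ← hxu, show vM * X = -(X * vM) by rw [hxv, neg_neg]]; noncomm_ring
        _ = X * (uM * vM) + X * (uM * vM) := by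
            rw [sub_mul, mul_add, mul_add, huu, hvv, huv]; noncomm_ring
        _ = _ := eq3
    have caseMP : X * uM = -(uM * X) → X * vM = vM * X → W = X * (uM * vM) := by
      intro hxu hxv
      calc W = X * ((vM - uM) * (uM + vM)) := by
            rw [hW, add_mul, ← hxv, show uM * X = -(X * uM) by rw [hxu, neg_neg]]; noncomm_ring
        _ = -(X * (uM * vM) + X * (uM * vM)) := by
            rw [sub_mul, mul_add, mul_add, huu, hvv, huv]; noncomm_ring
        _ = _ := by rw [eq3, neg_neg]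
    obtain ⟨y, hy, hyW⟩ : ∃ y ∈ N, y.val = W := by
      have hxu := hsigns u hu x hx
      have hxv := hsigns v hv x hx
      rw [hue] at hxu
      rw [hve] at hxv
      have huvN : ∃ y ∈ N, y.val = X * (uM * vM) :=
        ⟨x * (u * v), mul_mem hx (mul_mem hu hv), by rw [Units.val_mul, Units.val_mul, hue, hve]⟩
      rcases hxu with hxu | hxu <;> rcases hxv with hxv | hxv
      · refine ⟨x, hx, ?_⟩
        rw [hW, add_mul, ← hxu, ← hxv, ← mul_add, mul_assoc, hww, mul_one]
      · obtain ⟨y, hy, hye⟩ := huvN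
        obtain ⟨z, hz, hze⟩ := hneg y hy
        exact ⟨z, hz, by rw [hze, hye, casePM hxu hxv]⟩
      · obtain ⟨y, hy, hye⟩ := huvN
        exact ⟨y, hy, by rw [hye, caseMP hxu hxv]⟩
      · obtain ⟨z, hz, hze⟩ := hneg x hx
        refine ⟨z, hz, ?_⟩
        rw [hze, hW, add_mul, show uM * X = -(X * uM) by rw [hxu, neg_neg],
          show vM * X = -(X * vM) by rw [hxv, neg_neg], ← neg_add, ← mul_add, neg_mul, mul_assoc, hww,
          mul_one]
    exact ⟨y, hy, hyW, fun h h' z hz => Units.ext (by rw [hyW, casePM h h', hz]),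
      fun h h' z hz => Units.ext (by rw [hyW, caseMP h h', hz])⟩
  have hwH : w ∈ H' := by
    refine ⟨mem_normalizer_of_conj fun x hx => ?_, ?_⟩
    · obtain ⟨y, hy, hye, -, -⟩ := hwconj x hx
      rwa [show w * x * w⁻¹ = y from Units.ext hye.symm]
    · refine hsim_of w ((1 : Matrix (Fin 2) (Fin 2) F) ⊗ₖ R0 F + R0 F ⊗ₖ D0 F) (-1) ?_ ?_
      · rw [hTm_add]
      · ext ⟨a, b⟩ ⟨c, d⟩
        fin_cases a <;> fin_cases b <;> fin_cases c <;> fin_cases d <;>
          simp [R0, D0, J2, Matrix.mul_apply, Fintype.sum_prod_type, Fin.sum_univ_two] <;>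
          grobner
  -- minimality
  have hscal : Geo.scalars (Fin 2 ⊕ Fin 2) F ≤ N := by
    intro z hz
    obtain ⟨c, hc⟩ := (Geo.mem_scalars_iff z).1 hz
    have e1 : z = T (1, sc (Fin 2) c) := Units.ext (by
      rw [hTv, hc, sc_val, Units.val_one, Matrix.kronecker_smul, hTm_smul, Matrix.one_kronecker_one,
        hTm_one])
    rw [e1]
    exact inN 1 _ (Or.inl rfl) ⟨c, c.ne_zero, Or.inl (sc_val c)⟩
  have hmin : ∀ M : Subgroup (GL (Fin 2 ⊕ Fin 2) F), Geo.scalars (Fin 2 ⊕ Fin 2) F ≤ M → M ≤ N →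
      (∀ g ∈ H', ∀ x ∈ M, g * x * g⁻¹ ∈ M) → M = Geo.scalars (Fin 2 ⊕ Fin 2) F ∨ M = N := by
    intro M hsM hMN hM
    by_cases hns : M ≤ Geo.scalars (Fin 2 ⊕ Fin 2) F
    · exact Or.inl (le_antisymm hns hsM)
    refine Or.inr (le_antisymm hMN ?_)
    obtain ⟨x, hxM, hxs⟩ := SetLike.not_le_iff_exists.1 hns
    -- scaling
    have hscale : ∀ (a b b' : GL (Fin 2) F) (s : F), s ≠ 0 → b.val = s • b'.val →
        T (a, b) ∈ M → T (a, b') ∈ M := by
      intro a b b' s hs hb h
      have e1 : T (a, b') = sc _ (Units.mk0 s hs)⁻¹ * T (a, b) := Units.ext (by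
        rw [sc_mul_val, hTv, hTv, hb, Matrix.kronecker_smul, hTm_smul, smul_smul]
        simp [hs])
      rw [e1]
      exact mul_mem (hsM (sc_mem _)) h
    -- conjugation by one plus rotation
    obtain ⟨one_rot, hone_rot⟩ : ∃ b : GL (Fin 2) F, b.val = cM 1 1 :=
      ⟨Matrix.GeneralLinearGroup.mkOfDetNeZero (cM 1 1) (by
        simp [cM, R0, Matrix.det_fin_two]; exact fun h => h2 (by linear_combination h)), rfl⟩
    have hSD : T ((1 : GL (Fin 2) F), swp) ∈ M → T ((1 : GL (Fin 2) F), dia) ∈ M := by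
      intro h
      have h' := hM _ (hTc 1 one_rot 1 1 hone_rot) _ h
      rw [← map_inv, ← map_mul, ← map_mul] at h'
      refine hscale 1 (one_rot * swp * one_rot⁻¹) dia (-1) (by simp) ?_ (by simpa using h')
      rw [Units.val_mul, Units.val_mul, Units.mul_inv_eq_iff_eq_mul, hone_rot, hswp, hdia]
      simp [cM, add_mul, mul_add, t4, t5, t6, t7]
      abel
    -- the first factor
    have case1 : ∀ a b, InQ8 a → InD8 b.val → IsTZOne a.val → T (a, b) ∈ M → N ≤ M := by
      intro a b _ _ hA hab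
      obtain ⟨Y, hY, hAY⟩ := exists_orth_tzOne hq hA
      obtain ⟨g, hg⟩ := exists_conj_tzOne hq hA hY
      set z := g * a * g⁻¹ * a⁻¹ with hzdef
      have hz : IsTZOne z.val := by
        have hinv : (a⁻¹).val = -a.val :=
          Units.inv_eq_of_mul_eq_one_right (by rw [mul_neg, hA.sq, neg_neg])
        rw [hzdef, Units.val_mul, Units.val_mul, Units.val_mul, hg, hinv, mul_neg,
          (hA.commutes hY hAY).2, neg_neg]
        exact (hA.commutes hY hAY).1
      have hzM : T (z, 1) ∈ M := by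
        have h := mul_mem (hM _ (hTc g 1 1 0 (by simp [cM])) _ hab) (inv_mem hab)
        rw [← map_inv, ← map_inv, ← map_mul, ← map_mul, ← map_mul] at h
        simpa [hzdef] using h
      have hleft : ∀ q : GL (Fin 2) F, InQ8 q → T (q, (1 : GL (Fin 2) F)) ∈ M := by
        have hone : ∀ q : GL (Fin 2) F, IsTZOne q.val → T (q, (1 : GL (Fin 2) F)) ∈ M := by
          intro q hq'
          obtain ⟨g, hg⟩ := exists_conj_tzOne hq hz hq'
          have hgz : g * z * g⁻¹ = q := Units.ext (by rw [Units.val_mul, Units.val_mul, hg])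
          have h := hM _ (hTc g 1 1 0 (by simp [cM])) _ hzM
          rw [← map_inv, ← map_mul, ← map_mul] at h
          simpa [hgz] using h
        intro q hq'
        rcases hq' with h | h | h
        · rw [show q = 1 from Units.ext h, show ((1 : GL (Fin 2) F), (1 : GL (Fin 2) F)) = 1 from rfl,
            map_one]
          exact one_mem M
        · have hq2 : q = z * z := Units.ext (by rw [h, Units.val_mul, hz.sq])
          have h' := mul_mem hzM hzM
          rw [← map_mul] at h'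
          rw [hq2]
          simpa using h'
        · exact hone q h
      -- the second factor
      obtain ⟨Z, hZ, hIZ⟩ := exists_orth_tzOne hq hIq
      obtain ⟨zu, hzu⟩ : ∃ u : GL (Fin 2) F, u.val = Z :=
        ⟨⟨Z, -Z, by rw [mul_neg, hZ.sq, neg_neg], by rw [neg_mul, hZ.sq, neg_neg]⟩, rfl⟩
      have hzuQ : InQ8 zu := Or.inr (Or.inr (hzu ▸ hZ))
      have hZR := (hIq.commutes hZ hIZ)
      obtain ⟨y, -, hye, hy1, -⟩ := hwconj _ (inN zu 1 hzuQ ⟨1, one_ne_zero, Or.inl (by simp)⟩)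
      have hwy : w * T (zu, 1) * w⁻¹ = y := Units.ext hye.symm
      have hyM : y ∈ M := hwy ▸ hM w hwH _ (hleft zu hzuQ)
      have hyT : y = T (-(zu * rot), swp) := by
        refine hy1 ?_ ?_ _ ?_
        · rw [hTv, huM, ← hTm_mul, ← hTm_mul, ← Matrix.mul_kronecker_mul, ← Matrix.mul_kronecker_mul]
          simp
        · rw [hTv, hvM, ← hTm_mul, ← hTm_mul, ← Matrix.mul_kronecker_mul, ← Matrix.mul_kronecker_mul,
            hzu, Units.val_one, one_mul, mul_one, ← hTm_neg]
          congr 1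
          rw [hZR.2]
          ext; simp
        · rw [hTv, hTv, huM, hvM, ← hTm_mul, ← hTm_mul, ← hTm_neg, ← Matrix.mul_kronecker_mul,
            ← Matrix.mul_kronecker_mul, Units.val_neg, Units.val_mul, hrot, hswp, Units.val_one, one_mul,
            one_mul, t4]
          congr 1
          ext; simp
      have hsw : T ((1 : GL (Fin 2) F), swp) ∈ M := by
        have hq' : InQ8 (-(zu * rot)) := by
          refine Or.inr (Or.inr ?_)
          rw [Units.val_neg, Units.val_mul, hzu, hrot, hZR.2, neg_neg]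
          exact hZR.1
        have h := mul_mem (inv_mem (hleft _ hq')) (hyT ▸ hyM)
        rw [← map_inv, ← map_mul] at h
        simpa using h
      have hdi := hSD hsw
      have hro : T ((1 : GL (Fin 2) F), rot) ∈ M := by
        have h := mul_mem hsw hdi
        rw [← map_mul] at h
        have e1 : swp * dia = rot := Units.ext (by rw [Units.val_mul, hswp, hdia, hrot, t9])
        simpa [e1] using h
      intro n hn
      obtain ⟨a', b', ha', ⟨s, hs, hb'⟩, rfl⟩ := memN n hn
      have hb1 : ∃ b₀ : GL (Fin 2) F, T ((1 : GL (Fin 2) F), b₀) ∈ M ∧ b'.val = s • b₀.val := by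
        rcases hb' with h | h | h | h
        · exact ⟨1, by
            rw [show ((1 : GL (Fin 2) F), (1 : GL (Fin 2) F)) = 1 from rfl, map_one]; exact one_mem M,
            by rw [h, Units.val_one]⟩
        · exact ⟨rot, hro, by rw [h, hrot]⟩
        · exact ⟨dia, hdi, by rw [h, hdia]⟩
        · exact ⟨swp, hsw, by rw [h, hswp]⟩
      obtain ⟨b₀, hb₀, hb₀'⟩ := hb1
      have e1 : T (a', b') = sc _ (Units.mk0 s hs) * (T (a', 1) * T (1, b₀)) := Units.ext (by
        rw [sc_mul_val, ← map_mul, Prod.mk_mul_mk, mul_one, one_mul, hTv, hTv, hb₀',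
          Matrix.kronecker_smul, hTm_smul]
        rfl)
      rw [e1]
      exact mul_mem (hsM (sc_mem _)) (mul_mem (hleft a' ha') hb₀)
    obtain ⟨a, b, ha, hb, rfl⟩ := memN x (hMN hxM)
    rcases ha with ha' | ha' | ha'
    rotate_left 2
    · exact case1 a b (Or.inr (Or.inr ha')) hb ha' hxM
    all_goals
      obtain ⟨s, hs, hbs⟩ := hb
      obtain ⟨e, he, hae⟩ : ∃ e : F, e ≠ 0 ∧ a.val = e • 1 := by
        first
          | (refine ⟨1, one_ne_zero, ?_⟩; rw [ha', one_smul]; done)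
          | (refine ⟨-1, neg_ne_zero.2 one_ne_zero, ?_⟩; rw [ha', neg_smul, one_smul]; done)
      have hT1 : ∀ (b₀ : GL (Fin 2) F), b.val = s • b₀.val → T ((1 : GL (Fin 2) F), b₀) ∈ M := by
        intro b₀ h
        have e1 : T ((1 : GL (Fin 2) F), b₀) = sc _ (Units.mk0 (e * s) (mul_ne_zero he hs))⁻¹ * T (a, b) :=
          Units.ext (by
            rw [sc_mul_val, hTv, hTv, hae, h, Matrix.smul_kronecker, Matrix.kronecker_smul, hTm_smul,
              hTm_smul, smul_smul, smul_smul, Units.val_one]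
            simp [he, hs])
        rw [e1]
        exact mul_mem (hsM (sc_mem _)) hxM
      have hdcase : T ((1 : GL (Fin 2) F), dia) ∈ M → N ≤ M := by
        intro hd
        obtain ⟨y, -, hye, -, hy2⟩ := hwconj _ (inN 1 dia (Or.inl rfl) (hdia ▸ hD0))
        have hwy : w * T (1, dia) * w⁻¹ = y := Units.ext hye.symm
        have hyT : y = T (rot, dia * (rot * dia)) := by
          refine hy2 ?_ ?_ _ ?_
          · rw [hTv, huM, ← hTm_mul, ← hTm_mul, ← Matrix.mul_kronecker_mul, ← Matrix.mul_kronecker_mul,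
              hdia, t4, t5, ← hTm_neg]
            congr 1
            ext; simp
          · rw [hTv, hvM, ← hTm_mul, ← hTm_mul, ← Matrix.mul_kronecker_mul, ← Matrix.mul_kronecker_mul,
              hdia, Units.val_one, one_mul, mul_one]
          · rw [hTv, hTv, huM, hvM, ← hTm_mul, ← hTm_mul, ← Matrix.mul_kronecker_mul,
              ← Matrix.mul_kronecker_mul, Units.val_mul, Units.val_mul, hrot, hdia, Units.val_one,
              one_mul, one_mul]
        refine case1 rot (dia * (rot * dia)) (Or.inr (Or.inr (hrot ▸ hIq))) ?_ (hrot ▸ hIq)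
          (hyT ▸ hwy ▸ hM w hwH _ hd)
        rw [Units.val_mul, Units.val_mul, hdia, hrot]
        exact hD0.mul (hR0.mul hD0)
      rcases hbs with h | h | h | h
      · exfalso
        refine hxs ((Geo.mem_scalars_iff _).2 ⟨Units.mk0 (e * s) (mul_ne_zero he hs), ?_⟩)
        rw [hTv, hae, h, Matrix.smul_kronecker, Matrix.kronecker_smul, hTm_smul, hTm_smul,
          Matrix.one_kronecker_one, hTm_one, smul_smul]
        rfl
      · have hr := hT1 rot (by rw [h, hrot])
        have hwr : w * T (1, rot) * w⁻¹ = T (rot, dia) := Units.ext (by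
          show (uM + vM) * Tm ((1 : GL (Fin 2) F).val ⊗ₖ rot.val) * (uM + vM) = Tm (rot.val ⊗ₖ dia.val)
          rw [hrot, hdia, Units.val_one, ← huM, ← hvM]
          have h1 : vM * uM * uM = -vM := by rw [mul_assoc, huu, mul_neg, mul_one]
          have h2' : vM * uM * vM = uM := by
            rw [huv, neg_mul, mul_assoc, hvv, mul_neg, mul_one, neg_neg]
          calc (uM + vM) * uM * (uM + vM)
              = uM * uM * uM + uM * uM * vM + vM * uM * uM + vM * uM * vM := by noncomm_ring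
            _ = -vM + -vM := by rw [huu, h1, h2', neg_mul, neg_mul, one_mul, one_mul]; abel
            _ = vM := by
              ext a b
              simp only [Matrix.add_apply, Matrix.neg_apply]
              linear_combination -(vM a b) * h3)
        exact case1 rot dia (Or.inr (Or.inr (hrot ▸ hIq))) (hdia ▸ hD0) (hrot ▸ hIq)
          (hwr ▸ hM w hwH _ hr)
      · exact hdcase (hT1 dia (by rw [h, hdia]))
      · exact hdcase (hSD (hT1 swp (by rw [h, hswp])))
  have hcomm : ∀ x ∈ N, ∀ y ∈ N, ∃ c : Fˣ, y * x = sc _ c * (x * y) := by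
    intro x hx y hy
    rcases hsigns x hx y hy with h | h
    · exact ⟨1, by rw [map_one, one_mul]; exact Units.ext (by simpa using h)⟩
    · refine ⟨-1, Units.ext ?_⟩
      rw [sc_mul_val, Units.val_mul, Units.val_mul, h]; simp
  have htop : spanAlg N = ⊤ := by
    have hmem : ∀ A B : Matrix (Fin 2) (Fin 2) F, Tm (A ⊗ₖ B) ∈ spanAlg N := by
      have hJ : IsTZOne (!![1, 1; 1, -1] : Matrix (Fin 2) (Fin 2) F) :=
        ⟨by simp, by simp [Matrix.det_fin_two]; linear_combination -h3⟩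
      have hK' : IsTZOne (!![-1, 1; 1, 1] : Matrix (Fin 2) (Fin 2) F) :=
        ⟨by simp, by simp [Matrix.det_fin_two]; linear_combination -h3⟩
      have base : ∀ a b : GL (Fin 2) F, InQ8 a → InD8 b.val → Tm (a.val ⊗ₖ b.val) ∈ spanAlg N :=
        fun a b ha hb => hTv a b ▸ coe_mem_spanAlg (inN a b ha hb)
      have mkq : ∀ Y : Matrix (Fin 2) (Fin 2) F, IsTZOne Y → ∃ a : GL (Fin 2) F, InQ8 a ∧ a.val = Y :=
        fun Y hY => ⟨⟨Y, -Y, by rw [mul_neg, hY.sq, neg_neg], by rw [neg_mul, hY.sq, neg_neg]⟩,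
          Or.inr (Or.inr hY), rfl⟩
      have hone8 : InD8 ((1 : GL (Fin 2) F).val) := ⟨1, one_ne_zero, Or.inl (by simp)⟩
      have hl : ∀ (A : Matrix (Fin 2) (Fin 2) F) (b : GL (Fin 2) F), InD8 b.val →
          Tm (A ⊗ₖ b.val) ∈ spanAlg N := by
        intro A b hb
        have e1 : A = (-(A 0 0 + A 1 1)) • (1 : Matrix (Fin 2) (Fin 2) F) +
            ((-(A 1 0 - A 0 1)) • R0 F +
            ((A 0 0 - A 1 1 + A 0 1 + A 1 0) • (!![1, 1; 1, -1] : Matrix (Fin 2) (Fin 2) F) +
              (-(A 0 0 - A 1 1) + A 0 1 + A 1 0) • (!![-1, 1; 1, 1] : Matrix (Fin 2) (Fin 2) F))) := by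
          ext k l
          fin_cases k <;> fin_cases l <;> simp [R0] <;> grobner
        rw [e1]
        simp only [Matrix.add_kronecker, Matrix.smul_kronecker, hTm_add, hTm_smul]
        obtain ⟨a1, ha1, he1⟩ := mkq _ hIq
        obtain ⟨a2, ha2, he2⟩ := mkq _ hJ
        obtain ⟨a3, ha3, he3⟩ := mkq _ hK'
        refine add_mem (Subalgebra.smul_mem _ (base 1 b (Or.inl rfl) hb) _) (add_mem
          (Subalgebra.smul_mem _ (he1 ▸ base a1 b ha1 hb) _) (add_mem
          (Subalgebra.smul_mem _ (he2 ▸ base a2 b ha2 hb) _)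
          (Subalgebra.smul_mem _ (he3 ▸ base a3 b ha3 hb) _)))
      intro A B
      have e1 : B = (-(B 0 0 + B 1 1)) • ((1 : GL (Fin 2) F).val) + ((-(B 1 0 - B 0 1)) • rot.val +
          ((-(B 0 0 - B 1 1)) • dia.val + (-(B 0 1 + B 1 0)) • swp.val)) := by
        rw [hrot, hdia, hswp, Units.val_one]
        ext k l
        fin_cases k <;> fin_cases l <;> simp [R0, D0, S0] <;> grobner
      rw [e1]
      simp only [Matrix.kronecker_add, Matrix.kronecker_smul, hTm_add, hTm_smul]
      exact add_mem (Subalgebra.smul_mem _ (hl A 1 hone8) _) (add_mem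
        (Subalgebra.smul_mem _ (hl A rot (hrot ▸ hR0)) _) (add_mem
        (Subalgebra.smul_mem _ (hl A dia (hdia ▸ hD0)) _)
        (Subalgebra.smul_mem _ (hl A swp (hswp ▸ hS0)) _)))
    refine Algebra.eq_top_iff.2 fun x => ?_
    set X := (cj P⁻¹ x).submatrix eq.symm eq.symm with hX
    have hx : x = ∑ a, ∑ c, Tm (Matrix.single a c (1 : F) ⊗ₖ
        Matrix.of fun b d => X (a, b) (c, d)) := by
      apply (cj P⁻¹).injective
      simp only [map_sum, Tm, cj_inv_cj]
      ext u v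
      obtain ⟨⟨a, b⟩, rfl⟩ := eq.symm.surjective u
      obtain ⟨⟨c, d⟩, rfl⟩ := eq.symm.surjective v
      simp [hX, Matrix.sum_apply, Matrix.single_apply, ite_and]
      fin_cases a <;> fin_cases c <;> simp
    rw [hx]
    exact sum_mem fun a _ => sum_mem fun c _ => hmem _ _
  have hle : N ≤ H' := le_inf Subgroup.le_normalizer hNsim
  have Sab : AbSetup H' N := ⟨hscal, hle,
    fun g hg x hx => (Subgroup.mem_normalizer_iff.1 hg.1 x).1 hx, hmin, hcomm, htop, by simp⟩
  cases sympAbCase Sab hf inf_le_right with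
  | subfield h =>
    exfalso
    obtain ⟨F₁, r, -, -, -, hr, hc, -⟩ := h.exists_prime
    rw [hq] at hc
    rcases Nat.lt_or_ge (Nat.card F₁) 2 with h | h
    · have : Nat.card F₁ ^ r ≤ 1 := pow_le_one₀ (Nat.zero_le _) (by omega)
      omega
    · have : 2 ^ 2 ≤ Nat.card F₁ ^ r :=
        (Nat.pow_le_pow_left h 2).trans (Nat.pow_le_pow_right (by omega) hr.two_le)
      omega
  | symplType hk htype habs hRsim hp hodd hqp hR hC hminus h =>
    rename_i R p k
    obtain rfl : k = 2 := by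
      simp at hk
      exact (Nat.pow_right_injective le_rfl (show 2 ^ 2 = 2 ^ k by omega)).symm
    refine ⟨R, htype, habs, hRsim, hR, hC, hminus, fun g hgK hgf => h ?_⟩
    -- an element of the normaliser of the field is pure
    have comm_case : ∀ g : GL (Fin 2 ⊕ Fin 2) F, g.val * i = i * g.val →
        (∀ u v, f (g.val *ᵥ u) (g.val *ᵥ v) = f u v) → g ∈ H' := by
      intro g hgi hgf
      set W := (cj P⁻¹ g.val).submatrix eq.symm eq.symm with hW
      have hgW : g.val = Tm W := by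
        simp only [Tm, hW, Matrix.submatrix_submatrix, Equiv.symm_comp_self, Matrix.submatrix_id_id]
        rw [cj_cj_inv]
      have hWR : W * ((1 : Matrix (Fin 2) (Fin 2) F) ⊗ₖ R0 F) =
          ((1 : Matrix (Fin 2) (Fin 2) F) ⊗ₖ R0 F) * W := by
        have h' : Tm (W * ((1 : Matrix (Fin 2) (Fin 2) F) ⊗ₖ R0 F)) =
            Tm (((1 : Matrix (Fin 2) (Fin 2) F) ⊗ₖ R0 F) * W) := by
          rw [hTm_mul, hTm_mul, ← hgW, ← huM, ← hiT, hgi]
        have h'' := congrArg (fun M => (cj P⁻¹ M).submatrix eq.symm eq.symm) h'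
        simpa [Tm, cj_inv_cj, Matrix.submatrix_submatrix] using h''
      let A : Matrix (Fin 2) (Fin 2) F := Matrix.of fun a c => W (a, 0) (c, 0)
      let B : Matrix (Fin 2) (Fin 2) F := Matrix.of fun a c => W (a, 1) (c, 0)
      have hWAB : W = A ⊗ₖ (1 : Matrix (Fin 2) (Fin 2) F) + B ⊗ₖ R0 F := by
        ext ⟨a, b⟩ ⟨c, d⟩
        have e1 := congrFun (congrFun hWR (a, 1)) (c, 0)
        have e2 := congrFun (congrFun hWR (a, 0)) (c, 0)
        simp [R0, Matrix.mul_apply, Fintype.sum_prod_type, Matrix.one_apply, Fin.sum_univ_two] at e1 e2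
        fin_cases a <;> fin_cases b <;> fin_cases c <;> fin_cases d <;>
          simp [A, B, R0] at e1 e2 ⊢ <;> simp [e1, e2]
      have hgram : Wᵀ * (J2 F ⊗ₖ (1 : Matrix (Fin 2) (Fin 2) F)) * W =
          J2 F ⊗ₖ (1 : Matrix (Fin 2) (Fin 2) F) := by
        refine gram_ext (σ := RingEquiv.refl F) fun x y => ?_
        show formOf _ x y = formOf _ x y
        rw [← formOf_mulVec, ← hΦf, ← hΦf, ← hTm_act, ← hTm_act, ← hgW, hgf]
      rw [hWAB] at hgram
      have c00 := congrFun (congrFun hgram (0, 1)) (0, 0)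
      have c11 := congrFun (congrFun hgram (1, 1)) (1, 0)
      have c01 := congrFun (congrFun hgram (0, 1)) (1, 0)
      simp [R0, J2, Matrix.mul_apply, Fintype.sum_prod_type, Fin.sum_univ_two,
        Matrix.one_apply] at c00 c11 c01
      have hAB : ∃ l : F, A.adjugate * B = l • 1 ∧ B.adjugate * A = l • 1 := by
        refine ⟨A 1 1 * B 0 0 - A 0 1 * B 1 0, ?_, ?_⟩ <;>
          (rw [Matrix.adjugate_fin_two]; ext k l
           fin_cases k <;> fin_cases l <;> simp [Matrix.mul_apply, Fin.sum_univ_two] <;> grobner)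
      obtain ⟨l, hl1, hl2⟩ := hAB
      have hdets : A.det ≠ 0 ∨ B.det ≠ 0 := by
        by_contra hno
        push Not at hno
        have c00' := congrFun (congrFun hgram (0, 0)) (1, 0)
        simp [R0, J2, Matrix.mul_apply, Fintype.sum_prod_type, Fin.sum_univ_two,
          Matrix.one_apply] at c00'
        rw [Matrix.det_fin_two, Matrix.det_fin_two] at hno
        exact one_ne_zero (α := F) (by linear_combination -c00' + hno.1 + hno.2)
      obtain ⟨a, c, s, t, hc, hgac⟩ : ∃ (a c : GL (Fin 2) F) (s t : F), c.val = cM s t ∧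
          W = a.val ⊗ₖ c.val := by
        have mkc : ∀ (a : GL (Fin 2) F) (s t : F), W = a.val ⊗ₖ cM s t →
            ∃ (a c : GL (Fin 2) F) (s t : F), c.val = cM s t ∧ W = a.val ⊗ₖ c.val := by
          intro a s t h
          have hu : IsUnit W := by
            have h' : W = (cj P⁻¹ g.val).submatrix eq.symm eq.symm := hW
            rw [h', Matrix.isUnit_submatrix_equiv]
            exact g.isUnit.map _
          have hd : (cM s t).det ≠ 0 := fun h0 => by
            have hd' := ((Matrix.isUnit_iff_isUnit_det _).1 hu).ne_zero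
            rw [h, Matrix.det_kronecker, h0, zero_pow (by simp), mul_zero] at hd'
            exact hd' rfl
          exact ⟨a, Matrix.GeneralLinearGroup.mkOfDetNeZero _ hd, s, t, rfl, h⟩
        rcases hdets with hA | hB
        · refine mkc (Matrix.GeneralLinearGroup.mkOfDetNeZero A hA) 1 (l / A.det) ?_
          have hB' : B = (l / A.det) • A := by
            have h' := congrArg (fun M => A * M) hl1
            simp only [← Matrix.mul_assoc, Matrix.mul_adjugate, Matrix.smul_mul, one_mul,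
              Matrix.mul_smul, mul_one] at h'
            rw [div_eq_inv_mul, ← smul_smul, ← h', smul_smul, inv_mul_cancel₀ hA, one_smul]
          rw [hWAB]
          show _ = A ⊗ₖ cM 1 (l / A.det)
          rw [hB']
          simp [cM, Matrix.kronecker_add, Matrix.kronecker_smul, Matrix.smul_kronecker]
        · refine mkc (Matrix.GeneralLinearGroup.mkOfDetNeZero B hB) (l / B.det) 1 ?_
          have hA' : A = (l / B.det) • B := by
            have h' := congrArg (fun M => B * M) hl2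
            simp only [← Matrix.mul_assoc, Matrix.mul_adjugate, Matrix.smul_mul, one_mul,
              Matrix.mul_smul, mul_one] at h'
            rw [div_eq_inv_mul, ← smul_smul, ← h', smul_smul, inv_mul_cancel₀ hB, one_smul]
          rw [hWAB]
          show _ = B ⊗ₖ cM (l / B.det) 1
          rw [hA']
          simp [cM, Matrix.kronecker_add, Matrix.kronecker_smul, Matrix.smul_kronecker]
      rw [show g = T (a, c) from Units.ext (by rw [hgW, hgac, hTv])]
      exact hTc a c s t hc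
    have hg2 : g.val * i * (g⁻¹).val = i ∨ g.val * i * (g⁻¹).val = -i := by
      set z := g.val * i * (g⁻¹).val with hz
      have hzK : z ∈ K := (hgK i).1 hi
      have hzz : z * z = -1 := by
        rw [hz]; simp only [mul_assoc]
        rw [← mul_assoc (g⁻¹).val g.val, Units.inv_mul, one_mul, ← mul_assoc i i, hii, neg_mul,
          one_mul, mul_neg, Units.mul_inv]
      have h1 : (z * i) * (z * i) = 1 := by
        calc (z * i) * (z * i) = z * (i * z) * i := by simp only [mul_assoc]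
          _ = (z * z) * (i * i) := by rw [hK.comm i hi z hzK]; simp only [mul_assoc]
          _ = 1 := by rw [hzz, hii, neg_mul_neg, one_mul]
      rcases sq_eq_one_cases hK (mul_mem hzK hi) h1 with h | h
      · right
        calc z = z * i * -i := by rw [mul_neg, mul_assoc, hii, mul_neg, mul_one, neg_neg]
          _ = -i := by rw [h, one_mul]
      · left
        calc z = z * i * -i := by rw [mul_neg, mul_assoc, hii, mul_neg, mul_one, neg_neg]
          _ = i := by rw [h, neg_mul, one_mul, neg_neg]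
    rcases hg2 with h | h
    · exact comm_case g (Units.mul_inv_eq_iff_eq_mul _ |>.1 h) hgf
    · -- compose with the conjugation of the field
      set δ := T ((1 : GL (Fin 2) F), dia) with hδ
      have hδi : δ.val * i = -(i * δ.val) := by
        rw [hTv, hiT, huM, ← hTm_mul, ← hTm_mul, ← Matrix.mul_kronecker_mul, ← Matrix.mul_kronecker_mul,
          hdia, t4, t5, ← hTm_neg]
        congr 1
        ext; simp
      have hδf : ∀ u v, f (δ.val *ᵥ u) (δ.val *ᵥ v) = f u v := by
        intro u v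
        obtain ⟨x, rfl⟩ := hcoords u
        obtain ⟨y, rfl⟩ := hcoords v
        have hdt : (D0 F)ᵀ * D0 F = 1 := by
          ext k l; fin_cases k <;> fin_cases l <;> simp [D0, Matrix.mul_apply, Fin.sum_univ_two]
        rw [hTv, hTm_act, hTm_act, hΦf, hΦf, formOf_mulVec, ← Matrix.kroneckerMap_transpose,
          ← Matrix.mul_kronecker_mul, ← Matrix.mul_kronecker_mul, Units.val_one, Matrix.transpose_one,
          one_mul, mul_one, mul_one, hdia, hdt]
      have hδH : δ ∈ H' := hle (inN 1 dia (Or.inl rfl) (hdia ▸ hD0))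
      have hgi : g.val * i = -(i * g.val) := by
        rw [(Units.mul_inv_eq_iff_eq_mul _).1 h, neg_mul]
      have hgd : g * δ ∈ H' := by
        refine comm_case _ ?_ fun u v => ?_
        · rw [Units.val_mul, mul_assoc, hδi, mul_neg, ← mul_assoc, hgi, neg_mul, neg_neg, mul_assoc]
        · rw [Units.val_mul, ← Matrix.mulVec_mulVec, ← Matrix.mulVec_mulVec, hgf, hδf]
      simpa using mul_mem hgd (inv_mem hδH)

end Cfsg.Agent.Aschbacher
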