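import Cfsg.Agent.Lib.Aschbacher.SympStructure
import Cfsg.Agent.Lib.Classical.Symplectic

/-!
No geometric member contains the symplectic group; maximal subgroups of the symplectic group.
-/

set_option autoImplicit false
set_option linter.style.haveILetI false

namespace Cfsg.Agent.Aschbacher

open scoped MatrixGroups Matrix Kronecker commutatorElement
open Matrix

variable {ι : Type} [Fintype ι] [DecidableEq ι] {F : Type*} [Field F]

/-- A subgroup normalised by a quasi-simple absolutely irreducible group and normalising it is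
scalar or contains it. -/
lemma range_le_of_normal {S : Type*} [Group S] (tg : S →* GL ι F) (hinj : Function.Injective tg)
    (hperf : commutator S = ⊤) [IsSimpleGroup (S ⧸ Subgroup.center S)]
    (habs : ∀ x : Matrix ι ι F, (∀ s, (tg s : Matrix ι ι F) * x = x * (tg s : Matrix ι ι F)) →
      ∃ c : F, x = c • (1 : Matrix ι ι F))
    {R : Subgroup (GL ι F)} (hn : ∀ s, ∀ x ∈ R, tg s * x * (tg s)⁻¹ ∈ R)
    (hnorm : ∀ r ∈ R, ∀ s, r * tg s * r⁻¹ ∈ tg.range)
    (hR : ¬ R ≤ Geo.scalars ι F) : tg.range ≤ R := by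
  classical
  set K : Subgroup S := R.comap tg with hK
  haveI hKn : K.Normal := ⟨fun x hx g => by
    show tg (g * x * g⁻¹) ∈ R
    rw [map_mul, map_mul, map_inv]
    exact hn g _ hx⟩
  let π := QuotientGroup.mk' (Subgroup.center S)
  have hπn : (K.map π).Normal := hKn.map π (QuotientGroup.mk'_surjective _)
  rcases IsSimpleGroup.eq_bot_or_eq_top_of_normal (G := S ⧸ Subgroup.center S) (K.map π) hπn
    with h | h
  · exfalso
    apply hR
    intro r hr
    have hcen : ∀ s : S, ∃ z ∈ Subgroup.center S, tg z = r * tg s * r⁻¹ * (tg s)⁻¹ := by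
      intro s
      have hmem : r * tg s * r⁻¹ * (tg s)⁻¹ ∈ R := by
        rw [mul_assoc r, mul_assoc r]
        exact mul_mem hr (hn _ _ (inv_mem hr))
      obtain ⟨z, hz⟩ := mul_mem (hnorm r hr s) (inv_mem (⟨s, rfl⟩ : tg s ∈ tg.range))
      refine ⟨z, ?_, hz⟩
      have hzK : π z ∈ K.map π := ⟨z, by show tg z ∈ R; rw [hz]; exact hmem, rfl⟩
      rw [h, Subgroup.mem_bot] at hzK
      exact (QuotientGroup.eq_one_iff z).1 hzK
    choose z hzc hzv using hcen
    have hzcomm : ∀ s u, tg (z s) * tg u = tg u * tg (z s) := fun s u => by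
      rw [← map_mul, ← map_mul, Subgroup.mem_center_iff.1 (hzc s) u]
    have hconj : ∀ s, r * tg s * r⁻¹ = tg (z s) * tg s := fun s => by
      rw [hzv]; group
    let ψ : S →* Subgroup.center S :=
      { toFun := fun s => ⟨z s, hzc s⟩
        map_one' := Subtype.ext (hinj (by rw [hzv]; simp))
        map_mul' := fun s u => Subtype.ext (hinj (by
          refine mul_right_cancel (b := tg (s * u)) ?_
          rw [← hconj, Subgroup.coe_mul, map_mul, map_mul]
          calc r * (tg s * tg u) * r⁻¹ = (r * tg s * r⁻¹) * (r * tg u * r⁻¹) := by group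
            _ = tg (z s) * (tg s * tg (z u)) * tg u := by rw [hconj, hconj]; simp only [mul_assoc]
            _ = _ := by rw [← hzcomm]; simp only [mul_assoc])) }
    have hker : ψ.ker = ⊤ := by
      refine top_le_iff.1 ?_
      rw [← hperf, commutator, Subgroup.commutator_le]
      intro a _ b _
      rw [MonoidHom.mem_ker, map_commutatorElement, commutatorElement_eq_one_iff_mul_comm]
      exact Subtype.ext (Subgroup.mem_center_iff.1 (ψ b).2 _)
    obtain ⟨c, hc⟩ := habs (r : Matrix ι ι F) fun s => by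
      have h1 : z s = 1 := congrArg Subtype.val (MonoidHom.mem_ker.1 (hker.ge (Subgroup.mem_top s)))
      have h2 := hconj s
      rw [h1, map_one, one_mul, mul_inv_eq_iff_eq_mul] at h2
      have h4 := congrArg Units.val h2
      rw [Units.val_mul, Units.val_mul] at h4
      exact h4.symm
    rcases isEmpty_or_nonempty ι with he | hne
    · have : r = 1 := Units.ext (Matrix.ext fun i => (IsEmpty.false i).elim)
      rw [this]; exact one_mem _
    refine (mem_scalars_iff_mem_bot r).2 ?_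
    rw [hc]
    exact Subalgebra.smul_mem _ (one_mem _) c
  · rintro _ ⟨s, rfl⟩
    suffices hK : K = ⊤ from hK.ge (Subgroup.mem_top s)
    refine top_le_iff.1 ?_
    rw [← hperf, commutator, Subgroup.commutator_le]
    intro a _ b _
    obtain ⟨a', ha', ha⟩ := h.ge (Subgroup.mem_top (π a))
    obtain ⟨b', hb', hb⟩ := h.ge (Subgroup.mem_top (π b))
    obtain ⟨za, hza, rfl⟩ : ∃ za ∈ Subgroup.center S, a' * za = a :=
      ⟨a'⁻¹ * a, QuotientGroup.eq.1 ha, by group⟩
    obtain ⟨zb, hzb, rfl⟩ : ∃ zb ∈ Subgroup.center S, b' * zb = b :=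
      ⟨b'⁻¹ * b, QuotientGroup.eq.1 hb, by group⟩
    have e : ⁅a' * za, b' * zb⁆ = ⁅a', b'⁆ := by
      have hza' := Subgroup.mem_center_iff.1 hza
      have hzb' := Subgroup.mem_center_iff.1 hzb
      simp only [commutatorElement_def, _root_.mul_inv_rev]
      calc a' * za * (b' * zb) * (za⁻¹ * a'⁻¹) * (zb⁻¹ * b'⁻¹)
          = a' * (za * (b' * zb)) * za⁻¹ * a'⁻¹ * (zb⁻¹ * b'⁻¹) := by group
        _ = a' * b' * (zb * a'⁻¹) * zb⁻¹ * b'⁻¹ := by rw [← hza']; group
        _ = a' * b' * a'⁻¹ * b'⁻¹ := by rw [← hzb']; group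
    rw [e, commutatorElement_def]
    exact mul_mem (mul_mem (mul_mem ha' hb') (inv_mem ha')) (inv_mem hb')

section Transvections

variable {f : (ι → F) → (ι → F) → F} (hf : Geo.IsSymplecticForm f)

include hf

lemma stv_mulVec (v : ι → F) (c : F) (x : ι → F) :
    (Transvec.stv hf v c : Matrix ι ι F) *ᵥ x = x + (c * f x v) • v :=
  Transvec.mv_stv hf v c x

/-- A matrix commuting with all transvections is scalar. -/
lemma scalar_of_commute_stv [Nonempty ι] {u : Matrix ι ι F}
    (h : ∀ v, (Transvec.stv hf v 1 : Matrix ι ι F) * u = u * (Transvec.stv hf v 1 : Matrix ι ι F)) :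
    ∃ c : F, u = c • (1 : Matrix ι ι F) := by
  classical
  have key : ∀ v : ι → F, v ≠ 0 → ∃ l : F, u *ᵥ v = l • v := by
    intro v hv
    obtain ⟨⟨x, hx⟩, -⟩ := hf.nondegenerate v hv
    have h' := congrArg (fun M => M *ᵥ x) (h v)
    simp only [← Matrix.mulVec_mulVec, stv_mulVec hf, one_mul, Matrix.mulVec_add,
      Matrix.mulVec_smul, add_right_inj] at h'
    exact ⟨(f x v)⁻¹ * f (u *ᵥ x) v, by rw [mul_smul, h', smul_smul, inv_mul_cancel₀ hx, one_smul]⟩
  have hs : ∀ j : ι, (Pi.single j 1 : ι → F) ≠ 0 := fun j hj => by simpa using congrFun hj j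
  choose l hl using fun j => key _ (hs j)
  have hu : ∀ i j, u i j = if i = j then l j else 0 := by
    intro i j
    have h' := congrFun (hl j) i
    simp only [Matrix.mulVec_single_one, Matrix.col_apply, Pi.smul_apply, smul_eq_mul] at h'
    rw [h']
    split_ifs with hij
    · subst hij; simp
    · simp [hij]
  obtain ⟨i₀⟩ := ‹Nonempty ι›
  refine ⟨l i₀, Matrix.ext fun i j => ?_⟩
  rw [hu, Matrix.smul_apply, Matrix.one_apply]
  by_cases hij : i = j
  · subst hij
    simp only [if_true, smul_eq_mul, mul_one]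
    by_cases hi : i = i₀
    · rw [hi]
    have hsum : (Pi.single i 1 + Pi.single i₀ 1 : ι → F) ≠ 0 := fun h => by
      simpa [Ne.symm hi] using congrFun h i
    obtain ⟨l', hl'⟩ := key _ hsum
    rw [Matrix.mulVec_add, hl, hl] at hl'
    have e1 := congrFun hl' i
    have e2 := congrFun hl' i₀
    simp [hi] at e1
    simp [Ne.symm hi] at e2
    rw [e1, e2]
  · simp [hij]

/-- The displacement of a matrix by a transvection vanishes on a subspace of codimension two. -/
lemma cj_stv_sub_mulVec (v : ι → F) (c : F) (u : Matrix ι ι F) {x : ι → F} (hx : f x v = 0)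
    (hux : f (u *ᵥ x) v = 0) : (cj (Transvec.stv hf v c) u - u) *ᵥ x = 0 := by
  have hinv : ((Transvec.stv hf v c)⁻¹ : GL ι F) = Transvec.stv hf v (-c) :=
    inv_eq_of_mul_eq_one_right (by rw [Transvec.stv_add, add_neg_cancel, Transvec.stv_zero])
  rw [Matrix.sub_mulVec, cj_apply, hinv, ← Matrix.mulVec_mulVec, ← Matrix.mulVec_mulVec,
    stv_mulVec hf v (-c) x, hx, mul_zero, zero_smul, add_zero, stv_mulVec hf v c, hux, mul_zero,
    zero_smul, add_zero, sub_self]

/-- A small map kills some combination. -/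
lemma exists_small {b : ℕ} (hb : 3 ≤ b) (L : (Fin b → F) →ₗ[F] ι → F) (v : ι → F)
    (u : Matrix ι ι F) : ∃ z : Fin b → F, z ≠ 0 ∧ f (L z) v = 0 ∧ f (u *ᵥ L z) v = 0 := by
  let φ : (Fin b → F) →ₗ[F] F × F :=
    LinearMap.prod ((Transvec.formR hf v).comp L)
      ((Transvec.formR hf v).comp ((Matrix.toLin' u).comp L))
  have hker : LinearMap.ker φ ≠ ⊥ := by
    intro h
    have h' := LinearMap.finrank_le_finrank_of_injective (LinearMap.ker_eq_bot.1 h)
    rw [Module.finrank_prod, Module.finrank_self, Module.finrank_fintype_fun_eq_card,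
      Fintype.card_fin] at h'
    omega
  obtain ⟨z, hz, hz0⟩ := (Submodule.ne_bot_iff _).1 hker
  have hz' : φ z = 0 := hz
  refine ⟨z, hz0, congrArg Prod.fst hz', ?_⟩
  have h2 := congrArg Prod.snd hz'
  simpa [φ, Transvec.formR_apply, Matrix.toLin'_apply] using h2

/-- The transvections normalise no extension field. -/
lemma not_stv_normalises_field (h3 : 3 ≤ Fintype.card ι) {r : ℕ} (hr : 2 ≤ r)
    {K : Subalgebra F (Matrix ι ι F)} (hK : Geo.IsFieldSubalgebra r K) :
    ¬ ∀ v c, Transvec.stv hf v c ∈ Geo.subalgebraNormalizer K := by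
  classical
  intro hle
  haveI : Nonempty ι := Fintype.card_pos_iff.1 (by omega)
  have hbot : ∀ u ∈ K, ∃ c : F, u = c • (1 : Matrix ι ι F) := by
    intro u hu
    refine scalar_of_commute_stv hf fun v => ?_
    have hD : cj (Transvec.stv hf v 1) u - u ∈ K := sub_mem ((hle v 1 u).1 hu) hu
    have h0 : cj (Transvec.stv hf v 1) u - u = 0 := by
      by_contra h
      obtain ⟨y, -, hy⟩ := hK.inv _ hD h
      let L : (Fin (Fintype.card ι) → F) →ₗ[F] ι → F :=
        LinearMap.funLeft F F (Fintype.equivFin ι)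
      obtain ⟨z, hz, h1, h2⟩ := exists_small hf h3 L v u
      have h' := congrArg (fun M => M *ᵥ L z) (mul_eq_one_comm.1 hy)
      simp only [← Matrix.mulVec_mulVec, cj_stv_sub_mulVec hf v 1 u h1 h2, Matrix.mulVec_zero,
        Matrix.one_mulVec] at h'
      refine hz (funext fun i => ?_)
      simpa [L, LinearMap.funLeft] using (congrFun h' ((Fintype.equivFin ι).symm i)).symm
    rw [sub_eq_zero, cj_apply, Units.mul_inv_eq_iff_eq_mul] at h0
    exact h0
  have : K = ⊥ := le_antisymm (fun u hu => by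
    obtain ⟨c, rfl⟩ := hbot u hu
    exact Subalgebra.smul_mem _ (one_mem _) c) bot_le
  have h := hK.finrank_eq
  rw [this, Subalgebra.finrank_bot] at h
  omega

/-- The transvections normalise no tensor decomposition with a factor of dimension at least 3. -/
lemma not_stv_le_tensor {n₁ n₂ : ℕ} (h1 : 2 ≤ n₁) (h2 : 3 ≤ n₂) (e : ι ≃ Fin n₁ × Fin n₂)
    (P : GL ι F) : ¬ ∀ v c, Transvec.stv hf v c ∈ Geo.tensorProductSubgroup n₁ n₂ e P := by
  classical
  intro hle
  haveI : NeZero n₁ := ⟨by omega⟩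
  haveI : NeZero n₂ := ⟨by omega⟩
  haveI : Nonempty ι := ⟨e.symm (0, 0)⟩
  have hbot : ∀ X, ∃ c : F, kemb e P X = c • (1 : Matrix ι ι F) := by
    intro X
    refine scalar_of_commute_stv hf fun v => ?_
    set t := Transvec.stv hf v (1 : F)
    obtain ⟨_, ⟨k, ⟨a, b, hk⟩, rfl⟩, hg'⟩ := hle v 1
    have hgv : (t : Matrix ι ι F) =
        kemb e P (a : Matrix (Fin n₁) (Fin n₁) F) * kembR e P (b : Matrix (Fin n₂) (Fin n₂) F) := by
      rw [kemb_mul_kembR, ← hk]
      refine (congrArg Units.val hg'.symm).trans ?_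
      simp [cj_apply, Geo.glReindex]
    have hX : cj t (kemb e P X) = kemb e P (cj a X) := by
      rw [cj_apply t, Units.mul_inv_eq_iff_eq_mul, hgv, ← mul_assoc, ← map_mul, cj_apply,
        mul_assoc _ _ (a : Matrix (Fin n₁) (Fin n₁) F), Units.inv_mul, mul_one]
      rw [mul_assoc, (kembR_mul_kemb e P X _).trans (kemb_mul_kembR e P X _).symm, ← mul_assoc,
        ← map_mul]
    have h0 : cj t (kemb e P X) - kemb e P X = 0 := by
      by_contra hne
      rw [hX, ← map_sub] at hne
      set Y := cj a X - X with hY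
      obtain ⟨i, j, hij⟩ : ∃ i j, Y i j ≠ 0 := by
        by_contra h
        push Not at h
        exact hne (by rw [show Y = 0 from Matrix.ext h, map_zero])
      let L : (Fin n₂ → F) →ₗ[F] ι → F := (Matrix.toLin' (P : Matrix ι ι F)).comp
        (LinearMap.pi fun p => if (e p).1 = j then LinearMap.proj (e p).2 else 0)
      obtain ⟨z, hz, h1', h2'⟩ := exists_small hf h2 L v (kemb e P X)
      have h' := cj_stv_sub_mulVec hf v 1 (kemb e P X) h1' h2'
      rw [hX, ← map_sub, ← hY, kemb_apply, cj_apply, LinearMap.comp_apply, Matrix.toLin'_apply,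
        Matrix.mulVec_mulVec, Units.inv_mul_cancel_right, ← Matrix.mulVec_mulVec] at h'
      obtain ⟨s, hs⟩ := Function.ne_iff.1 hz
      have h'' := congrFun (congrArg (fun w => ((P⁻¹ : GL ι F) : Matrix ι ι F) *ᵥ w) h') (e.symm (i, s))
      simp only [Matrix.mulVec_mulVec, Matrix.mulVec_zero, Pi.zero_apply] at h''
      rw [← Matrix.mul_assoc, Units.inv_mul, Matrix.one_mul] at h''
      simp only [Matrix.mulVec, dotProduct, Matrix.submatrix_apply, Equiv.apply_symm_apply,
        LinearMap.pi_apply, Matrix.kroneckerMap_apply] at h''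
      rw [Finset.sum_eq_single (e.symm (j, s)), Equiv.apply_symm_apply] at h''
      · simp [hij] at h''
        exact hs h''
      · intro p _ hp
        have hne' : e p ≠ (j, s) := fun h => hp (by rw [← h, e.symm_apply_apply])
        by_cases hp1 : (e p).1 = j
        · have : s ≠ (e p).2 := fun h => hne' (Prod.ext hp1 h.symm)
          simp [this]
        · simp [hp1]
      · simp
    rw [sub_eq_zero, cj_apply, Units.mul_inv_eq_iff_eq_mul] at h0
    exact h0
  obtain ⟨c, hc⟩ := hbot (Matrix.single (0 : Fin n₁) (⟨1, by omega⟩ : Fin n₁) (1 : F))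
  have h' : Matrix.single (0 : Fin n₁) (⟨1, by omega⟩ : Fin n₁) (1 : F) = c • 1 :=
    kemb_injective e P (by rw [hc, map_smul, map_one])
  have hne : (0 : Fin n₁) ≠ ⟨1, by omega⟩ := by simp [Fin.ext_iff]
  simpa [hne] using congrFun (congrFun h' 0) ⟨1, by omega⟩

/-- The transvections stabilise no proper subspace. -/
lemma not_stv_le_subspace {W : Submodule F (ι → F)} (h0 : W ≠ ⊥) (h1 : W ≠ ⊤) :
    ¬ ∀ v c, Transvec.stv hf v c ∈ Geo.subspaceStabilizer W := by
  intro hle
  obtain ⟨w, hw, hw0⟩ := W.ne_bot_iff.1 h0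
  obtain ⟨y, hy⟩ : ∃ y, y ∉ W := by
    by_contra h; push Not at h; exact h1 (Submodule.eq_top_iff'.2 h)
  obtain ⟨v, hv, hfv⟩ : ∃ v, v ∉ W ∧ f w v ≠ 0 := by
    obtain ⟨-, z, hz⟩ := hf.nondegenerate w hw0
    by_cases hzW : z ∈ W
    · by_cases hwy : f w y = 0
      · exact ⟨z + y, fun h => hy (by simpa using sub_mem h hzW),
          by rw [hf.bilinear.add_right, hwy, add_zero]; exact hz⟩
      · exact ⟨y, hy, hwy⟩
    · exact ⟨z, hzW, hz⟩
  have h' : (Transvec.stv hf v (f w v)⁻¹ : Matrix ι ι F) *ᵥ w ∈ W :=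
    (hle v (f w v)⁻¹ w).1 hw
  rw [stv_mulVec hf, inv_mul_cancel₀ hfv, one_smul] at h'
  exact hv (by simpa using sub_mem h' hw)

/-- The transvections stabilise no decomposition. -/
lemma not_stv_le_decomposition {t k : ℕ} {D : Fin t → Submodule F (ι → F)}
    (hD : Geo.IsMDecomposition k D) :
    ¬ ∀ v c, Transvec.stv hf v c ∈ Geo.decompositionStabilizer D := by
  classical
  intro hle
  have ht := hD.two_le
  let i₀ : Fin t := ⟨0, by omega⟩
  let i₁ : Fin t := ⟨1, by omega⟩
  have h01 : i₀ ≠ i₁ := by simp [i₀, i₁, Fin.ext_iff]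
  have hnz : ∀ i, ∃ v, v ∈ D i ∧ v ≠ 0 := by
    intro i
    refine (D i).ne_bot_iff.1 fun h => ?_
    have := hD.finrank_eq i
    rw [h, finrank_bot] at this
    have := hD.pos
    omega
  have two : ∀ {i j l : Fin t} {a b : ι → F}, i ≠ j → a ∈ D i → b ∈ D j → a ≠ 0 → b ≠ 0 →
      a + b ∉ D l := by
    intro i j l a b hij ha hb ha0 hb0 h
    by_cases hl : l = i
    · subst hl
      refine hb0 (Submodule.disjoint_def.1 (hD.indep j) b hb
        (Submodule.mem_iSup_of_mem l (Submodule.mem_iSup_of_mem hij ?_)))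
      simpa using sub_mem h ha
    · refine ha0 (Submodule.disjoint_def.1 (hD.indep i) a ha ?_)
      rw [show a = a + b - b by simp]
      exact sub_mem (Submodule.mem_iSup_of_mem l (Submodule.mem_iSup_of_mem hl h))
        (Submodule.mem_iSup_of_mem j (Submodule.mem_iSup_of_mem hij.symm hb))
  obtain ⟨x, hx, hx0⟩ := hnz i₀
  obtain ⟨z, hz, hz0⟩ := hnz i₁
  obtain ⟨v, hv, hxv⟩ : ∃ v, (∀ l, x + v ∉ D l) ∧ f x v ≠ 0 := by
    by_cases hex : ∃ y ∈ D i₁, f x y ≠ 0
    · obtain ⟨y, hy, hxy⟩ := hex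
      exact ⟨y, fun l => two h01 hx hy hx0
        (fun h => hxy (by rw [h]; exact Transvec.f_zero_right hf x)), hxy⟩
    push Not at hex
    obtain ⟨-, y, hy⟩ := hf.nondegenerate x hx0
    by_cases hu : ∀ l, x + y ∉ D l
    · exact ⟨y, hu, hy⟩
    push Not at hu
    obtain ⟨j, hj⟩ := hu
    have hfu : f x (x + y) = f x y := by rw [hf.bilinear.add_right, hf.alternating, zero_add]
    have hu0 : x + y ≠ 0 := fun h => hy (by rw [← hfu, h]; exact Transvec.f_zero_right hf x)
    by_cases hj1 : j = i₁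
    · subst hj1
      refine ⟨x + y, fun l => two h01 hx hj hx0 hu0, by rwa [hfu]⟩
    · refine ⟨y + z, fun l => ?_, by rw [hf.bilinear.add_right, hex z hz, add_zero]; exact hy⟩
      rw [← add_assoc]
      exact two hj1 hj hz hu0 hz0
  obtain ⟨σ, hσ⟩ := hle v (f x v)⁻¹
  refine hv (σ i₀) ?_
  rw [← hσ i₀]
  refine ⟨x, hx, ?_⟩
  rw [Matrix.toLin'_apply, stv_mulVec hf, inv_mul_cancel₀ hxv, one_smul]

/-- The transvections lie in no proper subfield group. -/
lemma not_stv_le_subfield [Nonempty ι] {F₀ : Subfield F} (hne : F₀ ≠ ⊤) (P : GL ι F) :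
    ¬ ∀ v c, Transvec.stv hf v c ∈ Geo.subfieldSubgroup F₀ P := by
  classical
  intro hle
  obtain ⟨i⟩ := ‹Nonempty ι›
  let w : ι → ι → F := fun j => (P : Matrix ι ι F) *ᵥ Pi.single j 1
  have hw : w i ≠ 0 := fun h => by
    have h' := congrArg (fun x => ((P⁻¹ : GL ι F) : Matrix ι ι F) *ᵥ x) h
    simp only [w, Matrix.mulVec_mulVec, Units.inv_mul, Matrix.one_mulVec, Matrix.mulVec_zero] at h'
    simpa using congrFun h' i
  obtain ⟨j, hj⟩ : ∃ j, f (w j) (w i) ≠ 0 := by
    by_contra h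
    push Not at h
    obtain ⟨⟨x, hx⟩, -⟩ := hf.nondegenerate _ hw
    refine hx ?_
    have hsum : x = ∑ j, (((P⁻¹ : GL ι F) : Matrix ι ι F) *ᵥ x) j • w j := by
      conv_lhs => rw [show x = (P : Matrix ι ι F) *ᵥ (((P⁻¹ : GL ι F) : Matrix ι ι F) *ᵥ x) by
        rw [Matrix.mulVec_mulVec, Units.mul_inv, Matrix.one_mulVec]]
      conv_lhs => rw [pi_eq_sum_univ' (((P⁻¹ : GL ι F) : Matrix ι ι F) *ᵥ x), Matrix.mulVec_sum]
      exact Finset.sum_congr rfl fun j _ => Matrix.mulVec_smul _ _ _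
    rw [hsum, Transvec.f_sum_left hf]
    exact Finset.sum_eq_zero fun j _ => by rw [hf.bilinear.smul_left, h, mul_zero]
  have hij : i ≠ j := fun h => hj (by rw [h]; exact hf.alternating _)
  refine hne (top_le_iff.1 fun a _ => ?_)
  obtain ⟨y, hy, hy'⟩ := hle (w i) (a / f (w j) (w i))
  obtain ⟨g, ⟨g₀, rfl⟩, z, hz, rfl⟩ := Subgroup.mem_sup_of_normal_right.1 hy
  obtain ⟨c, hc⟩ := (Geo.mem_scalars_iff z).1 hz
  have hval : ∀ l s, (g₀.val l s : F) * c =
      (Pi.single s 1 + (a / f (w j) (w i) * f (w s) (w i)) • Pi.single i 1 : ι → F) l := by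
    intro l s
    have h := congrArg (fun g : GL ι F => ((P⁻¹ * g * P : GL ι F) : Matrix ι ι F) *ᵥ Pi.single s 1) hy'
    rw [show P⁻¹ * (MulAut.conj P).toMonoidHom (Matrix.GeneralLinearGroup.map _ g₀ * z) * P =
      Matrix.GeneralLinearGroup.map (F₀.subtype : F₀ →+* F) g₀ * z from by simp [mul_assoc]] at h
    rw [Units.val_mul _ P, ← Matrix.mulVec_mulVec _ _ (P : Matrix ι ι F), Units.val_mul,
      Units.val_mul P⁻¹, ← Matrix.mulVec_mulVec, ← Matrix.mulVec_mulVec, stv_mulVec hf,
      Matrix.mulVec_add, Matrix.mulVec_smul, Matrix.mulVec_mulVec, Matrix.mulVec_mulVec,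
      hc, Matrix.mul_smul, mul_one, Matrix.smul_mulVec, Matrix.mulVec_single_one] at h
    rw [show ((P⁻¹ : GL ι F) : Matrix ι ι F) *ᵥ w i = Pi.single i 1 from by
      simp only [w, Matrix.mulVec_mulVec, Units.inv_mul, Matrix.one_mulVec],
      Units.inv_mul, Matrix.one_mulVec] at h
    rw [← congrFun h l]
    simp [mul_comm]
  have h1 := hval j j
  have h2 := hval i j
  simp only [Pi.add_apply, Pi.smul_apply, Pi.single_eq_same, ne_eq, hij, Ne.symm hij,
    not_false_eq_true, Pi.single_eq_of_ne, smul_eq_mul, mul_zero, add_zero, zero_add, mul_one,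
    div_mul_cancel₀ a hj] at h1 h2
  rw [← h2, show (c : F) = (g₀.val j j : F)⁻¹ from eq_inv_of_mul_eq_one_right h1]
  exact mul_mem (SetLike.coe_mem _) (inv_mem (SetLike.coe_mem _))

/-- The transvections are not all similarities of a quadratic form polarising to the form. -/
lemma not_stv_le_quad [Finite F] (h3 : 3 ≤ Fintype.card ι) {Q : (ι → F) → F}
    (hQ : Geo.IsNondegenerateQuadraticForm Q) (hp : ∀ u v, QuadraticMap.polar Q u v = f u v) :
    ¬ ∀ v c, Transvec.stv hf v c ∈ Geo.quadSimilarityGroup Q := by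
  classical
  intro hle
  haveI := Fintype.ofFinite F
  have hadd : ∀ x y, Q (x + y) = Q x + Q y + f x y := fun x y => by
    rw [← hp, QuadraticMap.polar]; ring
  have hkey : ∀ v c x, Q ((Transvec.stv hf v c : Matrix ι ι F) *ᵥ x) =
      Q x + c * f x v ^ 2 * (1 + c * Q v) := fun v c x => by
    rw [stv_mulVec hf, hadd, hQ.smul, hf.bilinear.smul_right]; ring
  have hQ0 : ∃ v, Q v ≠ 0 := by
    by_contra h
    push Not at h
    haveI : Nonempty ι := Fintype.card_pos_iff.1 (by omega)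
    obtain ⟨v, hv⟩ := exists_ne (0 : ι → F)
    obtain ⟨⟨x, hx⟩, -⟩ := hf.nondegenerate v hv
    exact hx (by simpa [h] using (hadd x v).symm)
  by_cases hq : ∀ a : F, a = 0 ∨ a = 1
  · have hone : ∀ a : F, a ≠ 0 → a = 1 := fun a ha => (hq a).resolve_left ha
    obtain ⟨v, hv0, hv⟩ : ∃ v, v ≠ 0 ∧ Q v = 0 := by
      by_contra h
      push Not at h
      have hQ1 : ∀ v, v ≠ 0 → Q v = 1 := fun v hv => hone _ (h v hv)
      have h11 : (1 : F) + 1 = 0 := (hq (1 + 1)).resolve_right fun h' => by simp at h'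
      have hf1 : ∀ u w, u ≠ 0 → w ≠ 0 → u + w ≠ 0 → f u w = 1 := fun u w hu hw hs => by
        have := hadd u w
        rw [hQ1 _ hs, hQ1 _ hu, hQ1 _ hw, h11, zero_add] at this
        exact this.symm
      haveI : Nonempty ι := Fintype.card_pos_iff.1 (by omega)
      obtain ⟨i, j, l, hij, hil, hjl⟩ := Fintype.two_lt_card_iff.1 (by omega : 2 < Fintype.card ι)
      let e : ι → ι → F := fun a => Pi.single a 1
      have he : ∀ a, e a ≠ 0 := fun a h => by simpa [e] using congrFun h a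
      have hee : ∀ {a b}, a ≠ b → e a + e b ≠ 0 := fun {a b} hab h => by
        simpa [e, hab] using congrFun h a
      have := hf1 (e i + e j) (e l) (hee hij) (he l) (fun h => by
        simpa [e, hil.symm, hjl.symm] using congrFun h l)
      rw [hf.bilinear.add_left, hf1 _ _ (he i) (he l) (hee hil), hf1 _ _ (he j) (he l) (hee hjl),
        h11] at this
      exact zero_ne_one this
    obtain ⟨⟨x, hx⟩, -⟩ := hf.nondegenerate v hv0
    obtain ⟨μ, hμ⟩ := hle v 1
    have h := hμ x
    rw [hkey, hv, mul_zero, add_zero, mul_one, one_mul, hone _ μ.ne_zero, one_mul] at h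
    exact hx (sq_eq_zero_iff.1 (add_eq_left.1 h))
  · push Not at hq
    obtain ⟨a, ha0, ha1⟩ := hq
    obtain ⟨v, hv⟩ := hQ0
    obtain ⟨⟨x, hx⟩, -⟩ := hf.nondegenerate v (fun h => hv (by
      have := hQ.smul 0 0
      rw [h]; simpa using this))
    -- a parameter c with c ≠ 0 and 1 + c Q(v) ≠ 0
    have hc0 : -a / Q v ≠ 0 := div_ne_zero (neg_ne_zero.2 ha0) hv
    obtain ⟨μ, hμ⟩ := hle v (-a / Q v)
    have h := hμ v
    rw [hkey, hf.alternating] at h
    have hμ1 : (μ : F) = 1 := mul_right_cancel₀ hv (by linear_combination -h)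
    have h' := hμ x
    rw [hkey, hμ1, one_mul, add_eq_left, div_mul_cancel₀ _ hv] at h'
    refine mul_ne_zero (mul_ne_zero hc0 (pow_ne_zero 2 hx)) ?_ h'
    intro h''
    exact ha1 (by linear_combination -h'')

end Transvections

section Symp

variable {m : ℕ}

/-- The symplectic group as matrices in the general linear group. -/
def spTo (m : ℕ) (F : Type*) [Field F] :
    Matrix.symplecticGroup (Fin m) F →* GL (Fin m ⊕ Fin m) F :=
  (Matrix.symplecticGroup (Fin m) F).subtype.toHomUnits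

lemma spTo_range : (spTo m F).range = spGL m F := by
  refine le_antisymm ?_ fun g hg =>
    ⟨⟨g, (ClassicalSp.mem_iff_preserves _).2 hg⟩, Units.ext rfl⟩
  rintro _ ⟨s, rfl⟩
  exact (ClassicalSp.mem_iff_preserves _).1 s.2

lemma stv_mem_spGL (v : Fin m ⊕ Fin m → F) (c : F) :
    Transvec.stv (Transvec.sympForm_isSymplectic m F) v c ∈ spGL m F :=
  Transvec.stv_mem _ v c

variable [Fintype F]

/-- A group of similarities normalised by the symplectic group is scalar or contains it. -/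
lemma sp_le_of_normal (hm : 2 ≤ m) (hq : m = 2 → 3 ≤ Fintype.card F)
    {R : Subgroup (GL (Fin m ⊕ Fin m) F)}
    (hn : ∀ g ∈ spGL m F, ∀ x ∈ R, g * x * g⁻¹ ∈ R)
    (hsim : R ≤ Geo.similarityGroup (sympForm m F))
    (hR : ¬ R ≤ Geo.scalars (Fin m ⊕ Fin m) F) : spGL m F ≤ R := by
  haveI : Nonempty (Fin m ⊕ Fin m) := ⟨.inl ⟨0, by omega⟩⟩
  have hq' : m = 2 → 3 ≤ Nat.card F := by rwa [Nat.card_eq_fintype_card]
  haveI : IsSimpleGroup (Matrix.symplecticGroup (Fin m) F ⧸
      Subgroup.center (Matrix.symplecticGroup (Fin m) F)) :=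
    ClassicalSp.isSimpleGroup_psp hm hq'
  rw [← spTo_range]
  refine range_le_of_normal (spTo m F) (fun a b h => Subtype.ext (congrArg Units.val h)) ?_ ?_
    (fun s x hx => hn _ ((spTo_range (m := m) (F := F)).le ⟨s, rfl⟩) x hx) (fun r hr s => ?_) hR
  · refine ClassicalSp.commutator_sp ?_
    rcases hm.lt_or_eq with h3 | h2
    · exact Or.inl h3
    · exact Or.inr (Or.inl ⟨h2.symm, hq' h2.symm⟩)
  · intro x hx
    refine scalar_of_commute_stv (Transvec.sympForm_isSymplectic m F) fun v => ?_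
    obtain ⟨s, hs⟩ := (spTo_range (m := m) (F := F)).ge (stv_mem_spGL v 1)
    rw [← hs]
    exact hx s
  · rw [spTo_range]
    obtain ⟨μ, hμ⟩ := hsim hr
    have hs : spTo m F s ∈ spGL m F := (spTo_range (m := m) (F := F)).le ⟨s, rfl⟩
    intro u v
    show sympForm m F ((r * spTo m F s * r⁻¹).val *ᵥ u)
      ((r * spTo m F s * r⁻¹).val *ᵥ v) = sympForm m F u v
    simp only [Units.val_mul, ← Matrix.mulVec_mulVec]
    rw [hμ]
    have hs' := hs (((r⁻¹ : GL _ F) : Matrix _ _ F) *ᵥ u) (((r⁻¹ : GL _ F) : Matrix _ _ F) *ᵥ v)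
    change sympForm m F ((spTo m F s).val *ᵥ _) ((spTo m F s).val *ᵥ _) = _ at hs'
    rw [hs', ← hμ]
    simp only [Matrix.mulVec_mulVec, Units.mul_inv, Matrix.one_mulVec]

/-- The symplectic group normalises no symplectic-type group. -/
lemma not_sp_le_symplType (hm : 2 ≤ m) {p : ℕ} (hp : p.Prime) (hodd : Odd p)
    (hqp : Fintype.card F = p) {R : Subgroup (GL (Fin m ⊕ Fin m) F)}
    (ht : Geo.IsSymplecticTypeGroup 2 R) (habs : Geo.ActsAbsolutelyIrreducibly (Geo.matrixSet R))
    (hsim : R ≤ Geo.similarityGroup (sympForm m F)) :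
    ¬ spGL m F ≤ Geo.subgroupNormalizer R := by
  intro hle
  set hf := Transvec.sympForm_isSymplectic m F
  haveI : Nonempty (Fin m ⊕ Fin m) := ⟨.inl ⟨0, by omega⟩⟩
  have hn : ∀ g ∈ spGL m F, ∀ x ∈ R, g * x * g⁻¹ ∈ R :=
    fun g hg x hx => (Subgroup.mem_normalizer_iff.1 (hle hg) x).1 hx
  have hp3 : 3 ≤ p := by
    rcases hp.two_le.lt_or_eq with h | h
    · omega
    · subst h; exact absurd hodd (by decide)
  have hR : ¬ R ≤ Geo.scalars (Fin m ⊕ Fin m) F := by
    intro hs
    obtain ⟨c, hc⟩ := habs.2 (Matrix.single (.inl ⟨0, by omega⟩) (.inr ⟨0, by omega⟩) (1 : F)) (by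
      rintro _ ⟨x, hx, rfl⟩
      obtain ⟨d, hd⟩ := (Geo.mem_scalars_iff x).1 (hs hx)
      show _ * x.val = x.val * _
      rw [hd, mul_smul_comm, smul_mul_assoc, mul_one, one_mul])
    simpa using congrFun (congrFun hc (.inl ⟨0, by omega⟩)) (.inr ⟨0, by omega⟩)
  have hRt := sp_le_of_normal hm (fun _ => hqp ▸ hp3) hn hsim hR
  let v : Fin m ⊕ Fin m → F := Pi.single (.inl ⟨0, by omega⟩) 1
  obtain ⟨k, hk⟩ := ht.pGroup ⟨_, hRt (stv_mem_spGL v 1)⟩
  have hk' : Transvec.stv hf v (1 : F) ^ 2 ^ k = 1 := congrArg Subtype.val hk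
  have hpow : ∀ N : ℕ, Transvec.stv hf v (1 : F) ^ N = Transvec.stv hf v (N : F) := by
    intro N
    induction N with
    | zero => rw [pow_zero, Nat.cast_zero, Transvec.stv_zero]
    | succ N ih => rw [pow_succ, ih, Transvec.stv_add, Nat.cast_succ]
  rw [hpow] at hk'
  obtain ⟨⟨x, hx⟩, -⟩ := hf.nondegenerate v fun h => by
    simpa [v] using congrFun h (.inl ⟨0, by omega⟩)
  have h0 : ((2 ^ k : ℕ) : F) = 0 := by
    have h := congrArg (fun g : GL (Fin m ⊕ Fin m) F => g.val *ᵥ x) hk'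
    simp only [stv_mulVec hf, Units.val_one, Matrix.one_mulVec, add_eq_left] at h
    have := congrFun h (.inl ⟨0, by omega⟩)
    simpa [v, hx] using this
  haveI := Fact.mk hp
  haveI : CharP F p := by
    haveI := ringChar.charP F
    have hd : ringChar F ∣ p := (CharP.cast_eq_zero_iff F (ringChar F) p).1
      (hqp ▸ FiniteField.cast_card_eq_zero F)
    rw [← (Nat.prime_dvd_prime_iff_eq (CharP.char_is_prime F (ringChar F)) hp).1 hd]
    infer_instance
  have hdvd := (CharP.cast_eq_zero_iff F p _).1 h0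
  have := (Nat.prime_dvd_prime_iff_eq hp Nat.prime_two).1 (hp.dvd_of_dvd_pow hdvd)
  omega

/-- The symplectic group lies in no tensor power stabiliser. -/
lemma not_sp_le_tensorWreath (hm : 2 ≤ m) (hodd : Odd (Fintype.card F)) {k t : ℕ}
    {e : (Fin m ⊕ Fin m) ≃ (Fin t → Fin k)} {P : GL (Fin m ⊕ Fin m) F}
    {f₁ : (Fin k → F) → (Fin k → F) → F} (ht : 3 ≤ t) (hf₁ : Geo.IsSymplecticForm f₁)
    (hstr : Geo.IsTensorPowerFormStructure id (sympForm m F) f₁ e P) :
    ¬ spGL m F ≤ Geo.tensorWreathSubgroup k t e P := by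
  classical
  intro hle
  set hf := Transvec.sympForm_isSymplectic m F
  haveI : Nonempty (Fin m ⊕ Fin m) := ⟨.inl ⟨0, by omega⟩⟩
  haveI : NeZero t := ⟨by omega⟩
  have hk2 : 2 ≤ k := by
    have hc := Fintype.card_congr e
    simp only [Fintype.card_sum, Fintype.card_fin, Fintype.card_fun] at hc
    by_contra h
    have : k = 0 ∨ k = 1 := by omega
    rcases this with rfl | rfl
    · rw [zero_pow (by omega)] at hc; omega
    · rw [one_pow] at hc; omega
  haveI : NeZero k := ⟨by omega⟩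
  have hq : m = 2 → 3 ≤ Fintype.card F := fun _ => by
    have := Fintype.one_lt_card (α := F)
    rcases hodd with ⟨j, hj⟩; omega
  let T : GL (Fin t → Fin k) F →* GL (Fin m ⊕ Fin m) F :=
    (MulAut.conj P).toMonoidHom.comp (Geo.glReindex e.symm).toMonoidHom
  let pi : (Fin t → GL (Fin k) F) →* GL (Fin t → Fin k) F :=
    MonoidHom.mk' pureGL fun a b => Units.ext (by
      show pureMat _ = pureMat _ * pureMat _
      rw [pureMat_mul]; simp)
  have hT : ∀ g, (T g).val = cj P (g.val.submatrix e e) := fun g => by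
    simp [T, cj_apply, Geo.glReindex]
  have hBn : Geo.tensorWreathStandard k t F ≤ Subgroup.normalizer (pi.range : Set _) := by
    rw [Geo.tensorWreathStandard, Subgroup.closure_le]
    rintro g (⟨gs, hgs⟩ | ⟨σ, hσ⟩)
    · have : g = pi gs := Units.ext (Matrix.ext hgs)
      exact Subgroup.le_normalizer (this ▸ ⟨gs, rfl⟩)
    · have hgσ : g = permGL (factorPerm σ) := Units.ext (Matrix.ext fun x y => by
        rw [hσ x y]
        show _ = (1 : Matrix (Fin t → Fin k) (Fin t → Fin k) F).submatrix (factorPerm σ) id x y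
        simp [factorPerm, Matrix.one_apply, eq_comm])
      subst hgσ
      have key : ∀ gs : Fin t → GL (Fin k) F,
          permGL (factorPerm σ) * pi gs * (permGL (factorPerm σ))⁻¹ =
            pi (fun i => gs (σ.symm i)) := fun gs => Units.ext (by
        rw [← cj_coe, cj_permGL]
        exact pureMat_submatrix σ _)
      rw [SetLike.mem_coe, Subgroup.mem_normalizer_iff]
      intro x
      constructor
      · rintro ⟨gs, rfl⟩; exact ⟨_, (key gs).symm⟩
      · rintro ⟨gs, hgs⟩
        refine ⟨fun i => gs (σ i), ?_⟩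
        have h' := key fun i => gs (σ i)
        simp only [Equiv.apply_symm_apply] at h'
        rw [hgs] at h'
        exact mul_left_cancel (mul_right_cancel h')
  -- an isometry of one factor
  obtain ⟨c, hc, hform⟩ := hstr
  set G := Geo.gramMatrix f₁ with hG
  have hfG : f₁ = formOf G := by
    exact exists_gram (σ := RingEquiv.refl F) hf₁.bilinear.add_left
      hf₁.bilinear.smul_left hf₁.bilinear.add_right hf₁.bilinear.smul_right
  have hform' : ∀ x y, sympForm m F (P.val *ᵥ (x ∘ e)) (P.val *ᵥ (y ∘ e)) =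
      c * formOf (pureMat fun _ : Fin t => G) x y := fun x y => by
    rw [hform]
    simp [formOf, dotProduct, Matrix.mulVec, Finset.mul_sum, pureMat, mul_assoc]
  let w : Fin k → F := Pi.single 0 1
  have hw : w ≠ 0 := fun h => by simpa [w] using congrFun h 0
  set τ : GL (Fin k) F := Transvec.stv hf₁ w 1
  have hτG : τ.valᵀ * G * τ.val = G := by
    refine gram_ext (σ := RingEquiv.refl F) fun u v => ?_
    show formOf _ u v = formOf G u v
    rw [← formOf_mulVec, ← hfG]
    exact Transvec.stv_mem hf₁ w 1 u v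
  have hτs : ¬ ∃ d : F, τ.val = d • (1 : Matrix (Fin k) (Fin k) F) := by
    rintro ⟨d, hd⟩
    obtain ⟨⟨x, hx⟩, -⟩ := hf₁.nondegenerate w hw
    have h := congrArg (fun M => M *ᵥ x) hd
    simp only [τ, stv_mulVec hf₁, one_mul, Matrix.smul_mulVec, Matrix.one_mulVec] at h
    have h' : f₁ (x + f₁ x w • w) w = f₁ (d • x) w := by rw [h]
    rw [hf₁.bilinear.add_left, hf₁.bilinear.smul_left, hf₁.alternating, mul_zero, add_zero,
      hf₁.bilinear.smul_left] at h'
    obtain rfl : d = 1 := mul_right_cancel₀ hx (by rw [one_mul]; exact h'.symm)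
    rw [one_smul, add_eq_left] at h
    exact hx ((smul_eq_zero.1 h).resolve_right hw)
  -- the algebra of one factor
  let gs₀ : Fin t → GL (Fin k) F := Function.update (fun _ => 1) 0 τ
  have hgs₀ : (fun i => (gs₀ i).val) =
      Function.update (fun _ => (1 : Matrix (Fin k) (Fin k) F)) 0 τ.val := by
    funext i
    by_cases hi : i = 0 <;> simp [gs₀, hi]
  have hsim₀ : T (pi gs₀) ∈ Geo.similarityGroup (sympForm m F) := by
    refine ⟨1, fun u v => ?_⟩
    obtain ⟨x, rfl⟩ : ∃ x, P.val *ᵥ (x ∘ e) = u :=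
      ⟨((P⁻¹).val *ᵥ u) ∘ e.symm, by
        rw [Function.comp_assoc, Equiv.symm_comp_self, Function.comp_id, Matrix.mulVec_mulVec,
          Units.mul_inv, Matrix.one_mulVec]⟩
    obtain ⟨y, rfl⟩ : ∃ y, P.val *ᵥ (y ∘ e) = v :=
      ⟨((P⁻¹).val *ᵥ v) ∘ e.symm, by
        rw [Function.comp_assoc, Equiv.symm_comp_self, Function.comp_id, Matrix.mulVec_mulVec,
          Units.mul_inv, Matrix.one_mulVec]⟩
    have hact : ∀ z : (Fin t → Fin k) → F, (T (pi gs₀)).val *ᵥ (P.val *ᵥ (z ∘ e)) =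
        P.val *ᵥ ((pureMat (fun i => (gs₀ i).val) *ᵥ z) ∘ e) := fun z => by
      rw [hT, cj_apply, Matrix.mulVec_mulVec, Units.inv_mul_cancel_right, ← Matrix.mulVec_mulVec,
        Matrix.submatrix_mulVec_equiv, Function.comp_assoc, Equiv.self_comp_symm, Function.comp_id]
      rfl
    rw [hact, hact, hform', hform', formOf_mulVec, pureMat_transpose, pureMat_mul, pureMat_mul,
      Units.val_one, one_mul]
    congr 3
    funext i
    by_cases hi : i = 0
    · subst hi; simpa [gs₀] using hτG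
    · simp [gs₀, hi]
  have hpow : ∀ X : Matrix (Fin k) (Fin k) F, pureAt (0 : Fin t) X =
      pureMat (Function.update (fun _ => (1 : Matrix (Fin k) (Fin k) F)) 0 X) := fun X => rfl
  have hus : T (pi gs₀) ∉ Geo.scalars (Fin m ⊕ Fin m) F := by
    intro hs
    obtain ⟨d, hd⟩ := (Geo.mem_scalars_iff _).1 hs
    have hd' : (pi gs₀).val = d.val • 1 := by
      have h := congrArg (fun M => (cj P⁻¹ M).submatrix e.symm e.symm) hd
      simpa [hT, cj_inv_cj, Matrix.submatrix_smul, Matrix.submatrix_one_equiv] using h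
    refine hτs ⟨d, Matrix.ext fun a b => ?_⟩
    have h := congrFun (congrFun hd' (Function.update (fun _ => 0) 0 a))
      (Function.update (fun _ => 0) 0 b)
    have hprod : (pi gs₀).val (Function.update (fun _ => 0) 0 a)
        (Function.update (fun _ => 0) 0 b) = τ.val a b := by
      show pureMat (fun i => (gs₀ i).val) _ _ = _
      rw [hgs₀]
      simp only [pureMat, Matrix.of_apply]
      rw [Finset.prod_eq_single (0 : Fin t)]
      · simp
      · intro i _ hi; simp [hi]
      · simp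
    rw [hprod] at h
    rw [h, Matrix.smul_apply, Matrix.smul_apply, Matrix.one_apply, Matrix.one_apply]
    by_cases hab : a = b
    · simp [hab]
    · rw [if_neg hab, if_neg fun hh => hab (by simpa using congrFun hh 0)]
  -- the symplectic group lies in the base group
  set B : Subgroup (GL (Fin m ⊕ Fin m) F) := pi.range.map T with hBdef
  have hmem : ∀ g ∈ spGL m F, ∃ s ∈ Geo.tensorWreathStandard k t F, T s = g := by
    intro g hg
    obtain ⟨_, ⟨s, hs, rfl⟩, hg'⟩ := hle hg
    exact ⟨s, hs, hg'⟩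
  have hsimI : ∀ g ∈ spGL m F, g ∈ Geo.similarityGroup (sympForm m F) :=
    fun g hg => ⟨1, fun u v => by rw [Units.val_one, one_mul]; exact hg u v⟩
  have hB : spGL m F ≤ B ⊓ Geo.similarityGroup (sympForm m F) := by
    refine sp_le_of_normal hm hq (fun g hg x hx => ⟨?_, Subgroup.mul_mem _
      (Subgroup.mul_mem _ (hsimI g hg) hx.2) (Subgroup.inv_mem _ (hsimI g hg))⟩) inf_le_right fun h => hus (h ⟨⟨_, ⟨gs₀, rfl⟩, rfl⟩, hsim₀⟩)
    obtain ⟨s, hs, rfl⟩ := hmem g hg
    obtain ⟨y, hy, rfl⟩ := hx.1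
    exact ⟨s * y * s⁻¹, (Subgroup.mem_normalizer_iff.1 (hBn hs) y).1 hy, by simp⟩
  -- the factor subgroup
  let B₀ : Subgroup (Fin t → GL (Fin k) F) :=
    { carrier := {gs | ∀ i, i ≠ 0 → gs i = 1}
      one_mem' := fun _ _ => rfl
      mul_mem' := fun ha hb i hi => by rw [Pi.mul_apply, ha i hi, hb i hi, one_mul]
      inv_mem' := fun ha i hi => by rw [Pi.inv_apply, ha i hi, inv_one] }
  set C : Subgroup (GL (Fin m ⊕ Fin m) F) := (B₀.map pi).map T with hCdef
  have hgs₀B : gs₀ ∈ B₀ := fun i hi => Function.update_of_ne hi _ _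
  have hC : spGL m F ≤ C ⊓ Geo.similarityGroup (sympForm m F) := by
    refine sp_le_of_normal hm hq (fun g hg x hx => ⟨?_, Subgroup.mul_mem _
      (Subgroup.mul_mem _ (hsimI g hg) hx.2) (Subgroup.inv_mem _ (hsimI g hg))⟩) inf_le_right
      fun h => hus (h ⟨⟨_, ⟨gs₀, hgs₀B, rfl⟩, rfl⟩, hsim₀⟩)
    obtain ⟨_, ⟨hs, rfl⟩, rfl⟩ := (hB hg).1
    obtain ⟨_, ⟨y, hy, rfl⟩, rfl⟩ := hx.1
    refine ⟨_, ⟨hs * y * hs⁻¹, fun i hi => ?_, rfl⟩, by simp⟩
    rw [Pi.mul_apply, Pi.mul_apply, Pi.inv_apply, hy i hi, mul_one, mul_inv_cancel]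
  -- so the symplectic group commutes with another factor
  have h10 : (⟨1, by omega⟩ : Fin t) ≠ 0 := by simp [Fin.ext_iff]
  let gs₁ : Fin t → GL (Fin k) F := Function.update (fun _ => 1) ⟨1, by omega⟩ τ
  obtain ⟨d, hd⟩ := scalar_of_commute_stv hf (u := (T (pi gs₁)).val) fun v => by
    obtain ⟨_, ⟨y, hy, rfl⟩, hy'⟩ := (hC (stv_mem_spGL v 1)).1
    rw [← hy', ← Units.val_mul, ← Units.val_mul, ← map_mul, ← map_mul, ← map_mul, ← map_mul]
    congr 3
    funext i
    by_cases hi : i = 0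
    · subst hi
      simp [gs₁, h10.symm]
    · rw [Pi.mul_apply, Pi.mul_apply, hy i hi, one_mul, mul_one]
  have hd' : (pi gs₁).val = d • 1 := by
    have h := congrArg (fun M => (cj P⁻¹ M).submatrix e.symm e.symm) hd
    simpa [hT, cj_inv_cj, Matrix.submatrix_smul, Matrix.submatrix_one_equiv] using h
  refine hτs ⟨d, Matrix.ext fun a b => ?_⟩
  set j : Fin t := ⟨1, by omega⟩
  have h := congrFun (congrFun hd' (Function.update (fun _ => 0) j a))
    (Function.update (fun _ => 0) j b)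
  have hprod : (pi gs₁).val (Function.update (fun _ => 0) j a)
      (Function.update (fun _ => 0) j b) = τ.val a b := by
    show pureMat (fun i => (gs₁ i).val) _ _ = _
    simp only [pureMat, Matrix.of_apply]
    rw [Finset.prod_eq_single j]
    · simp [gs₁, j]
    · intro i _ hi
      have hg : gs₁ i = 1 := Function.update_of_ne hi _ _
      simp [hg, Function.update_of_ne hi]
    · simp
  rw [hprod] at h
  rw [h, Matrix.smul_apply, Matrix.smul_apply, Matrix.one_apply, Matrix.one_apply]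
  by_cases hab : a = b
  · simp [hab]
  · rw [if_neg hab, if_neg fun hh => hab (by simpa using congrFun hh j)]

/-- No member of the classes contains the symplectic group. -/
theorem not_sp_le_class (hm : 2 ≤ m) {M : Subgroup (GL (Fin m ⊕ Fin m) F)}
    (hM : Geo.InSymplecticClass m F M) : ¬ spGL m F ≤ M := by
  set hf := Transvec.sympForm_isSymplectic m F
  haveI : Nonempty (Fin m ⊕ Fin m) := ⟨.inl ⟨0, by omega⟩⟩
  have h3 : 3 ≤ Fintype.card (Fin m ⊕ Fin m) := by simp; omega
  have red : ∀ {X : Subgroup (GL (Fin m ⊕ Fin m) F)},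
      (¬ ∀ v c, Transvec.stv hf v c ∈ X) → ¬ spGL m F ≤ X ⊓ spGL m F :=
    fun h h' => h fun v c => (h' (stv_mem_spGL v c)).1
  rcases hM with (⟨W, h0, hW, rfl⟩ | ⟨W, h0, hW, hlt, rfl⟩ | ⟨t, k, D, hD, rfl⟩ |
      ⟨D, -, hD, -, rfl⟩ | ⟨F₀, r, P, ζ, hr, hc, -, -, rfl⟩ |
      ⟨R, p, k, ht, habs, hsim, hp, hodd, hq, -, -, -, rfl⟩ | ⟨Q, -, hQ, hpol, rfl⟩) |
      ⟨r, K, hr, hK, -, -, rfl⟩ | ⟨K, -, hK, -, -, rfl⟩ |
      ⟨n₁, n₂, e, P, f₁, f₂, -, hn₂, hf₁, -, -, rfl⟩ |
      ⟨k, t, e, P, f₁, hodd, -, ht, -, hf₁, hstr, rfl⟩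
  · refine red (not_stv_le_subspace hf h0 fun h => ?_)
    obtain ⟨v, hv⟩ := exists_ne (0 : Fin m ⊕ Fin m → F)
    obtain ⟨⟨x, hx⟩, -⟩ := hf.nondegenerate v hv
    exact hx (hW x (h ▸ Submodule.mem_top) v (h ▸ Submodule.mem_top))
  · refine red (not_stv_le_subspace hf h0 fun h => ?_)
    rw [h, finrank_top, Module.finrank_fintype_fun_eq_card, Fintype.card_sum, Fintype.card_fin] at hlt
    omega
  · exact red (not_stv_le_decomposition hf hD.decomp)
  · exact red (not_stv_le_decomposition hf hD)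
  · refine red (not_stv_le_subfield hf (fun h => ?_) P)
    subst h
    rw [← Nat.card_eq_fintype_card] at hc
    rw [show Nat.card (⊤ : Subfield F) = Nat.card F from
      Nat.card_congr (Equiv.subtypeUnivEquiv fun _ => Subfield.mem_top _)] at hc
    exact hr.one_lt.ne (Nat.pow_right_injective Finite.one_lt_card ((pow_one _).trans hc))
  · exact fun h => not_sp_le_symplType hm hp hodd hq ht habs hsim (h.trans inf_le_left)
  · exact red (not_stv_le_quad hf h3 hQ hpol)
  · exact red (not_stv_normalises_field hf h3 hr.two_le hK)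
  · exact red (not_stv_normalises_field hf h3 le_rfl hK)
  · refine red (not_stv_le_tensor hf ?_ hn₂ e P)
    have hne : n₁ ≠ 0 := fun h => by
      subst h
      exact (e (.inl ⟨0, by omega⟩)).1.elim0
    by_contra h
    obtain rfl : n₁ = 1 := by omega
    obtain ⟨v, hv⟩ := exists_ne (0 : Fin 1 → F)
    obtain ⟨⟨x, hx⟩, -⟩ := hf₁.nondegenerate v hv
    have hxe : x = x 0 • (fun _ => 1) := funext fun i => by simp [Fin.fin_one_eq_zero i]
    have hve : v = v 0 • (fun _ => 1) := funext fun i => by simp [Fin.fin_one_eq_zero i]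
    rw [hxe, hve, hf₁.bilinear.smul_left, hf₁.bilinear.smul_right, hf₁.alternating, mul_zero,
      mul_zero] at hx
    exact hx rfl
  · exact fun h => not_sp_le_tensorWreath hm hodd ht hf₁ hstr (h.trans inf_le_left)

/-- A maximal subgroup of the symplectic group is a member of a class or residual. -/
theorem sympMaximal (hm : 2 ≤ m) {H : Subgroup (GL (Fin m ⊕ Fin m) F)}
    (hH : Geo.IsMaximalIn (spGL m F) H) :
    SympMember m F H ∨ Geo.InSymplecticResidualClass H := by
  rcases sympStructureRefined m (by omega) H hH.1.le with ⟨M, hM, hle⟩ | h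
  · have hMI : M ≤ spGL m F := by
      rcases hM with (⟨_, _, _, rfl⟩ | ⟨_, _, _, _, rfl⟩ | ⟨_, _, _, _, rfl⟩ |
        ⟨_, _, _, _, rfl⟩ | ⟨_, _, _, _, _, _, _, _, rfl⟩ |
        ⟨_, _, _, _, _, _, _, _, _, _, _, _, _, rfl⟩ | ⟨_, _, _, _, rfl⟩) |
        ⟨_, _, _, _, _, _, rfl⟩ | ⟨_, _, _, _, _, rfl⟩ |
        ⟨_, _, _, _, _, _, _, _, _, _, _, rfl⟩ |
        ⟨_, _, _, _, _, _, _, _, _, _, _, rfl⟩ <;> exact inf_le_right
    rcases hH.2 M hle hMI with rfl | rfl
    · exact .inl hM
    · exact absurd le_rfl (not_sp_le_class hm hM.inClass)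
  · exact .inr h

end Symp

end Cfsg.Agent.Aschbacher
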