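import Cfsg.Agent.Lib.Aschbacher.SympProper
import Cfsg.Agent.Lib.Aschbacher.FormFrames

/-!
Numerical refinements for the classes of the symplectic groups.
-/

set_option autoImplicit false
set_option linter.style.haveILetI false

namespace Cfsg.Agent.Aschbacher

open scoped MatrixGroups Matrix
open Matrix

variable {ι : Type} [Fintype ι] [DecidableEq ι] {F : Type*} [Field F]
variable {f : (ι → F) → (ι → F) → F}

omit [DecidableEq ι] in
/-- A non-degenerate subspace of an alternating form has even dimension. -/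
lemma even_finrank_of_nondegOn (hf : Geo.IsSymplecticForm f) {W : Submodule F (ι → F)}
    (hW : Geo.IsNondegenerateOn f W) : Even (Module.finrank F W) := by
  classical
  let B : LinearMap.BilinForm F W := LinearMap.mk₂ F (fun x y => f x.1 y.1)
    (fun _ _ _ => hf.bilinear.add_left _ _ _)
    (fun c x v => by
      show f (c • x.1) v.1 = c * f x.1 v.1
      exact hf.bilinear.smul_left _ _ _)
    (fun _ _ _ => hf.bilinear.add_right _ _ _)
    (fun c v x => by
      show f v.1 (c • x.1) = c * f v.1 x.1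
      exact hf.bilinear.smul_right _ _ _)
  have hA : B.IsAlt := fun x => hf.alternating x.1
  have hB : B.Nondegenerate := by
    refine ⟨fun v hv => ?_, fun v hv => ?_⟩ <;> by_contra h <;>
      have h' : v.1 ≠ 0 := fun e => h (Subtype.ext e)
    · obtain ⟨-, x, hx, hxv⟩ := hW v.1 v.2 h'; exact hxv (hv ⟨x, hx⟩)
    · obtain ⟨⟨x, hx, hxv⟩, -⟩ := hW v.1 v.2 h'; exact hxv (hv ⟨x, hx⟩)
  obtain ⟨k, hk⟩ := AltForm.exists_finrank_eq hA hB
  exact ⟨k, by omega⟩

lemma finrank_orth_symp (hf : Geo.IsSymplecticForm f) (W : Submodule F (ι → F)) :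
    Module.finrank F W + Module.finrank F (Transvec.orth hf W) = Fintype.card ι := by
  classical
  let Φ : (ι → F) →ₗ[F] Module.Dual F W := W.dualRestrict.comp (Transvec.formR hf)
  have hker : LinearMap.ker Φ = Transvec.orth hf W := by
    refine Submodule.ext fun v => ?_
    rw [LinearMap.mem_ker, Transvec.mem_orth]
    exact ⟨fun h u hu => LinearMap.congr_fun h ⟨u, hu⟩, fun h => LinearMap.ext fun u => h u.1 u.2⟩
  have hsurj : LinearMap.range Φ = ⊤ := by
    rw [LinearMap.range_eq_top]
    have h1 : Function.Surjective W.dualRestrict := Subspace.dualRestrict_surjective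
    exact h1.comp (Transvec.formR_surjective hf)
  have h := LinearMap.finrank_range_add_finrank_ker Φ
  rw [hsurj, hker, finrank_top, Subspace.dual_finrank_eq, Module.finrank_fintype_fun_eq_card] at h
  exact h

/-- A self-adjoint field of degree r divides half the dimension. -/
lemma two_mul_dvd_of_selfAdjoint [Nonempty ι] (hf : Geo.IsSymplecticForm f) {r : ℕ}
    {K : Subalgebra F (Matrix ι ι F)} (hK : Geo.IsFieldSubalgebra r K)
    (hsa : Geo.IsSelfAdjointFor f K) (halt : ∀ k ∈ K, ∀ v, f (k *ᵥ v) v = 0) :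
    2 * r ∣ Fintype.card ι := by
  classical
  let S : Set ℕ := {d | ∃ W : Submodule F (ι → F), (∀ k ∈ K, ∀ u ∈ W, k *ᵥ u ∈ W) ∧
    (∀ u ∈ W, ∀ v ∈ W, f u v = 0) ∧ r ∣ d ∧ Module.finrank F W = d}
  have hne : S.Nonempty := ⟨0, ⊥, fun k _ u hu => by
      rw [(Submodule.mem_bot F).1 hu, Matrix.mulVec_zero]; exact zero_mem _,
    fun u hu v _ => by rw [(Submodule.mem_bot F).1 hu]; exact Transvec.f_zero_left hf v,
    dvd_zero r, finrank_bot F (ι → F)⟩
  have hbdd : BddAbove S := ⟨Fintype.card ι, fun d ⟨W, _, _, _, hd⟩ => hd ▸ by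
    rw [← Module.finrank_fintype_fun_eq_card F (η := ι)]; exact Submodule.finrank_le _⟩
  obtain ⟨W, hst, hW, hdvd, hd⟩ := Nat.sSup_mem hne hbdd
  have horth : Transvec.orth hf W = W := by
    refine le_antisymm (fun v hv => ?_) fun v hv u hu => hW u hu v hv
    by_contra hvW
    let L : K →ₗ[F] (ι → F) :=
      { toFun := fun k => k.1 *ᵥ v
        map_add' := fun a b => Matrix.add_mulVec _ _ _
        map_smul' := fun c a => Matrix.smul_mulVec c a.1 v }
    have hk : ∀ k : K, L k ∈ W → k = 0 := fun k hk => by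
      by_contra hne
      obtain ⟨y, hy, hky⟩ := hK.inv k.1 k.2 fun e => hne (Subtype.ext e)
      refine hvW ?_
      have h := hst y hy _ hk
      rwa [show L k = k.1 *ᵥ v from rfl, Matrix.mulVec_mulVec, hK.comm y hy k.1 k.2, hky,
        Matrix.one_mulVec] at h
    have hu0 : ∀ k : K, ∀ u ∈ W, f u (L k) = 0 := fun k u hu => by
      show f u (k.1 *ᵥ v) = 0
      rw [← hsa _ k.2]
      exact hv _ (hst _ k.2 u hu)
    set W' := W ⊔ LinearMap.range L with hW'
    have hst' : ∀ k ∈ K, ∀ u ∈ W', k *ᵥ u ∈ W' := by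
      intro k hkK u hu
      obtain ⟨a, ha, _, ⟨l, rfl⟩, rfl⟩ := Submodule.mem_sup.1 hu
      rw [Matrix.mulVec_add]
      refine add_mem (Submodule.mem_sup_left (hst k hkK a ha))
        (Submodule.mem_sup_right ⟨⟨k * l.1, mul_mem hkK l.2⟩, ?_⟩)
      exact (Matrix.mulVec_mulVec _ _ _).symm
    have hiso : ∀ x ∈ W', ∀ y ∈ W', f x y = 0 := by
      intro x hx y hy
      obtain ⟨a, ha, _, ⟨s, rfl⟩, rfl⟩ := Submodule.mem_sup.1 hx
      obtain ⟨b, hb, _, ⟨t, rfl⟩, rfl⟩ := Submodule.mem_sup.1 hy
      have hst0 : f (L s) (L t) = 0 := by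
        show f (s.1 *ᵥ v) (t.1 *ᵥ v) = 0
        rw [← hsa _ t.2, Matrix.mulVec_mulVec, halt _ (mul_mem t.2 s.2)]
      rw [hf.bilinear.add_left, hf.bilinear.add_right, hf.bilinear.add_right, hW a ha b hb,
        hu0 t a ha, hf.skew (L s) b, hu0 s b hb, hst0]
      ring
    have hinj : Function.Injective L := (injective_iff_map_eq_zero L).2 fun k hk0 =>
      hk k (by rw [hk0]; exact zero_mem _)
    have hinf : W ⊓ LinearMap.range L = ⊥ := (Submodule.eq_bot_iff _).2 fun x ⟨hx, k, hkx⟩ => by
      rw [← hkx, hk k (hkx.symm ▸ hx), map_zero]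
    have hdim : Module.finrank F W' = Module.finrank F W + r := by
      have h := Submodule.finrank_sup_add_finrank_inf_eq W (LinearMap.range L)
      rw [hinf, finrank_bot, LinearMap.finrank_range_of_inj hinj, hK.finrank_eq, add_zero] at h
      exact h
    have hr : 0 < r := by
      rw [← hK.finrank_eq]
      haveI : Nontrivial K := ⟨⟨0, 1, fun h => zero_ne_one (congrArg Subtype.val h)⟩⟩
      exact Module.finrank_pos
    have h2 := le_csSup hbdd (show Module.finrank F W + r ∈ S from
      ⟨W', hst', hiso, dvd_add (hd ▸ hdvd) dvd_rfl, hdim⟩)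
    omega
  have h := finrank_orth_symp hf W
  rw [horth, ← two_mul, hd] at h
  rw [← h]
  exact Nat.mul_dvd_mul_left 2 hdvd

/-- Over two elements the stabiliser of an orthogonal decomposition into planes fixes a quadratic
form. -/
lemma quad_of_planes [Fintype F] (hf : Geo.IsSymplecticForm f) (hq : Fintype.card F = 2) {t : ℕ}
    {D : Fin t → Submodule F (ι → F)} (hD : Geo.IsNondegenerateMDecomposition f 2 D) :
    ∃ Q : (ι → F) → F, Geo.IsNondegenerateQuadraticForm Q ∧
      (∀ u v, QuadraticMap.polar Q u v = f u v) ∧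
      Geo.decompositionStabilizer D ≤ Geo.quadSimilarityGroup Q := by
  classical
  have h01 : ∀ a : F, a = 0 ∨ a = 1 := fun a => by
    by_contra h
    push Not at h
    have h3 : ({a, 0, 1} : Finset F).card = 3 :=
      Finset.card_eq_three.2 ⟨a, 0, 1, h.1, h.2, zero_ne_one, rfl⟩
    have := Finset.card_le_univ ({a, 0, 1} : Finset F)
    omega
  have h11 : (1 : F) + 1 = 0 := (h01 _).resolve_right fun h => by simp at h
  let E : Fin t → Submodule F (ι → F) := fun i => ⨆ j, ⨆ (_ : j ≠ i), D j
  let δ : Fin t → (ι → F) → F := fun i v => if v ∈ E i then 0 else 1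
  let Q : (ι → F) → F := fun v => ∑ i, δ i v
  have hdec : ∀ v, ∃ c : Fin t → ι → F, (∀ i, c i ∈ D i) ∧ v = ∑ i, c i := fun v => by
    have hint := DirectSum.isInternal_submodule_of_iSupIndep_of_iSup_eq_top hD.decomp.indep
      hD.decomp.iSup_eq_top
    obtain ⟨c, hc⟩ := hint.2 v
    refine ⟨fun i => (c i : ι → F), fun i => (c i).2, ?_⟩
    rw [← hc, DirectSum.coeAddMonoidHom, DirectSum.toAddMonoid, ← DirectSum.toAddMonoid]
    conv_lhs => rw [← DFinsupp.sum_single (f := c), DFinsupp.sum, map_sum]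
    rw [Finset.sum_subset (Finset.subset_univ _) (fun i _ hi => by
      rw [DFinsupp.notMem_support_iff.1 hi, DFinsupp.single_zero, map_zero])]
    exact Finset.sum_congr rfl fun i _ => DirectSum.toAddMonoid_of _ _ _
  have hmemE : ∀ {i j : Fin t} {x : ι → F}, j ≠ i → x ∈ D j → x ∈ E i := fun {i j x} hj hx =>
    Submodule.mem_iSup_of_mem j (Submodule.mem_iSup_of_mem hj hx)
  have hδ : ∀ (c : Fin t → ι → F), (∀ i, c i ∈ D i) → ∀ i,
      δ i (∑ j, c j) = if c i = 0 then 0 else 1 := by
    intro c hc i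
    have hiff : (∑ j, c j) ∈ E i ↔ c i = 0 := by
      have hrest : ∑ j ∈ Finset.univ.erase i, c j ∈ E i :=
        Submodule.sum_mem _ fun j hj => hmemE (Finset.ne_of_mem_erase hj) (hc j)
      rw [← Finset.add_sum_erase _ _ (Finset.mem_univ i), Submodule.add_mem_iff_left _ hrest]
      exact ⟨fun h => Submodule.disjoint_def.1 (hD.decomp.indep i) _ (hc i) h,
        fun h => h ▸ zero_mem _⟩
    show (if _ then (0 : F) else 1) = _
    rw [if_congr hiff rfl rfl]
  have hone : ∀ i, ∀ a ∈ D i, ∀ b ∈ D i, a ≠ 0 → b ≠ 0 → a ≠ b → f a b = 1 := by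
    intro i a ha b hb ha0 hb0 hab
    refine (h01 _).resolve_left fun h0 => ?_
    obtain ⟨⟨x, hx, hxa⟩, -⟩ := hD.nondegenerate i a ha ha0
    have hb' : b ∉ Submodule.span F {a} := fun h => by
      obtain ⟨c, rfl⟩ := Submodule.mem_span_singleton.1 h
      rcases h01 c with rfl | rfl
      · exact hb0 (zero_smul _ _)
      · exact hab (one_smul _ _).symm
    have htop : Submodule.span F {a} ⊔ Submodule.span F {b} = D i := by
      refine Submodule.eq_of_le_of_finrank_le (sup_le ((Submodule.span_singleton_le_iff_mem _ _).2 ha)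
        ((Submodule.span_singleton_le_iff_mem _ _).2 hb)) ?_
      rw [hD.decomp.finrank_eq i, Submodule.finrank_sup_span_singleton hb',
        finrank_span_singleton ha0]
    rw [← htop] at hx
    obtain ⟨_, h1, _, h2, rfl⟩ := Submodule.mem_sup.1 hx
    obtain ⟨c, rfl⟩ := Submodule.mem_span_singleton.1 h1
    obtain ⟨d, rfl⟩ := Submodule.mem_span_singleton.1 h2
    refine hxa ?_
    rw [hf.bilinear.add_left, hf.bilinear.smul_left, hf.bilinear.smul_left, hf.alternating,
      hf.skew b a, h0, neg_zero, mul_zero, mul_zero, add_zero]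
  have hloc : ∀ i, ∀ a ∈ D i, ∀ b ∈ D i,
      (if a + b = 0 then (0 : F) else 1) - (if a = 0 then 0 else 1) - (if b = 0 then 0 else 1) =
        f a b := by
    intro i a ha b hb
    have hneg : ∀ x : F, -x = x := fun x => by linear_combination (-x) * h11
    by_cases ha0 : a = 0
    · subst ha0
      rw [zero_add, Transvec.f_zero_left hf, if_pos rfl, sub_zero, sub_self]
    by_cases hb0 : b = 0
    · subst hb0
      rw [add_zero, Transvec.f_zero_right hf, if_pos rfl, sub_zero, sub_self]
    rw [if_neg ha0, if_neg hb0]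
    by_cases hab : a = b
    · subst hab
      rw [show a + a = 0 by rw [← two_smul F a, show (2 : F) = 0 by linear_combination h11, zero_smul],
        if_pos rfl, hf.alternating]
      linear_combination -h11
    · have hne : a + b ≠ 0 := fun h => hab (by
        rw [eq_neg_of_add_eq_zero_left h]
        exact funext fun k => hneg _)
      rw [if_neg hne, hone i a ha b hb ha0 hb0 hab]
      linear_combination -h11
  have hpol : ∀ u v, QuadraticMap.polar Q u v = f u v := by
    intro u v
    obtain ⟨a, ha, rfl⟩ := hdec u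
    obtain ⟨b, hb, rfl⟩ := hdec v
    have hab : ∑ i, a i + ∑ i, b i = ∑ i, (a i + b i) := Finset.sum_add_distrib.symm
    simp only [QuadraticMap.polar, Q, hab]
    rw [Finset.sum_congr rfl (fun i _ => hδ _ (fun i => add_mem (ha i) (hb i)) i),
      Finset.sum_congr rfl (fun i _ => hδ _ ha i), Finset.sum_congr rfl (fun i _ => hδ _ hb i),
      ← Finset.sum_sub_distrib, ← Finset.sum_sub_distrib,
      Finset.sum_congr rfl (fun i _ => hloc i _ (ha i) _ (hb i)), Transvec.f_sum_left hf]
    refine Finset.sum_congr rfl fun i _ => ?_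
    rw [Transvec.f_sum_right hf, Finset.sum_eq_single i]
    · intro j _ hj; exact hD.orthogonal i j hj.symm _ (ha i) _ (hb j)
    · simp
  have hp' : QuadraticMap.polar Q = f := funext fun u => funext fun v => hpol u v
  refine ⟨Q, ⟨fun c v => ?_, hp' ▸ hf.bilinear, hp' ▸ hf.nondegenerate⟩, hpol, ?_⟩
  · rcases h01 c with rfl | rfl
    · rw [zero_smul, zero_pow two_ne_zero, zero_mul]
      exact Finset.sum_eq_zero fun i _ => if_pos (zero_mem _)
    · rw [one_smul, one_pow, one_mul]
  · rintro g ⟨τ, hτ⟩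
    refine ⟨1, fun v => ?_⟩
    rw [Units.val_one, one_mul]
    obtain ⟨c, hc, rfl⟩ := hdec v
    have hgc : ∀ i, g.val *ᵥ c (τ.symm i) ∈ D i := fun i => by
      have := hτ (τ.symm i)
      rw [Equiv.apply_symm_apply] at this
      rw [← this]
      exact ⟨_, hc _, Matrix.toLin'_apply _ _⟩
    have hinj : ∀ x : ι → F, g.val *ᵥ x = 0 ↔ x = 0 := fun x =>
      ⟨fun h => Transvec.mv_inj g (h.trans (Transvec.mv_zero g).symm),
        fun h => by rw [h]; exact Matrix.mulVec_zero _⟩
    have hsum : g.val *ᵥ ∑ i, c i = ∑ i, g.val *ᵥ c (τ.symm i) := by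
      rw [Matrix.mulVec_sum]
      exact (Equiv.sum_comp τ.symm fun i => g.val *ᵥ c i).symm
    simp only [Q]
    rw [hsum, Finset.sum_congr rfl (fun i _ => hδ _ hgc i),
      Finset.sum_congr rfl (fun i _ => hδ _ hc i)]
    simp only [hinj]
    exact Equiv.sum_comp τ.symm fun i => if c i = 0 then (0 : F) else 1

/-- A maximal subgroup inside a member is that member. -/
lemma eq_of_le_member [Fintype F] {m : ℕ} (hm : 2 ≤ m) {H M : Subgroup (GL (Fin m ⊕ Fin m) F)}
    (hH : Geo.IsMaximalIn (spGL m F) H) (hle : H ≤ M) (hI : M ≤ spGL m F)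
    (hM : Geo.InSymplecticClass m F M) : H = M := by
  rcases hH.2 M hle hI with h | h
  · exact h.symm
  · exact absurd h.ge (not_sp_le_class hm hM)

end Cfsg.Agent.Aschbacher
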