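import Cfsg.Agent.Lib.Aschbacher.FormTensorCases
import Cfsg.Agent.Lib.Transvec.SympStd

/-!
The subgroup theorem for the symplectic groups.
-/

set_option autoImplicit false
set_option linter.style.haveILetI false

namespace Cfsg.Agent.Aschbacher

open scoped MatrixGroups Matrix Kronecker
open Matrix

variable {ι : Type} [Fintype ι] [DecidableEq ι] {F : Type*} [Field F]
variable {σ : F ≃+* F} {f : (ι → F) → (ι → F) → F}

/-- A tensor power structure of a form. -/
lemma isTensorPowerFormStructure_of {k a : ℕ} {eq : ι ≃ (Fin k → Fin a)} {P : GL ι F}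
    {A : GL (Fin a) F} {c : F} (hc : c ≠ 0)
    (hform : ∀ x y, coordForm f eq P x y =
      c * sesqOf σ (pureMat fun _ => (A : Matrix (Fin a) (Fin a) F)) x y) {e : F} (he : e ≠ 0) :
    Geo.IsTensorPowerFormStructure σ f (sesqOf σ (e • (A : Matrix (Fin a) (Fin a) F))) eq P := by
  refine ⟨c / e ^ k, div_ne_zero hc (pow_ne_zero _ he), fun x y => ?_⟩
  rw [gramMatrix_sesqOf]
  refine (hform x y).trans ?_
  rw [← formOfGram_eq]
  simp only [Geo.formOfGram, Matrix.smul_apply, smul_eq_mul, Finset.mul_sum, pureMat,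
    Matrix.of_apply, Finset.prod_mul_distrib, Finset.prod_const, Finset.card_univ, Fintype.card_fin]
  refine Finset.sum_congr rfl fun p _ => Finset.sum_congr rfl fun r _ => ?_
  field_simp

/-- A perfect group spanning all matrices is non-trivial. -/
lemma ne_bot_of_spanAlg_top {a : ℕ} (ha : 2 ≤ a) {E : Subgroup (GL (Fin a) F)}
    (h : spanAlg E = ⊤) : E ≠ ⊥ := by
  haveI : NeZero a := ⟨by omega⟩
  intro hE
  exact not_le_scalars_of_irred (by rw [Fintype.card_fin]; omega)
    (absIrred_of_spanAlg_eq_top h).1 (hE ▸ bot_le)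

/-- Two bilinear forms fixed by an absolutely irreducible group are proportional. -/
lemma exists_scalar_of_two_fixed {ε : F} (hf : IsHermLike (RingEquiv.refl F) ε f)
    {L : Subgroup (GL ι F)} (hL : spanAlg L = ⊤) (hfix : L ≤ isoGroup f)
    {g : (ι → F) → (ι → F) → F} (hg : Geo.IsBilinearForm g)
    (hgfix : Geo.FixesForm (Geo.matrixSet L) g) : ∃ e : F, ∀ u v, g u v = e * f u v := by
  set G' : Matrix ι ι F := Matrix.of fun a b => g (Pi.single a 1) (Pi.single b 1) with hG'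
  have hgG : g = sesqOf (RingEquiv.refl F) G' :=
    exists_gram (σ := RingEquiv.refl F) hg.add_left hg.smul_left hg.add_right hg.smul_right
  set u := hf.gram with hu
  have hx : ∀ x ∈ L, (x : Matrix ι ι F)ᵀ * (u : Matrix ι ι F) * (x : Matrix ι ι F) = u ∧
      (x : Matrix ι ι F)ᵀ * G' * (x : Matrix ι ι F) = G' := by
    intro x hx
    constructor
    · refine gram_ext (σ := RingEquiv.refl F) fun v w => ?_
      rw [hu, ← congrFun (congrFun hf.eq_sesqOf v) w]
      refine Eq.trans ?_ (hfix hx v w)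
      rw [congrFun (congrFun hf.eq_sesqOf _) _, sesqOf_mulVec]
      rfl
    · refine gram_ext (σ := RingEquiv.refl F) fun v w => ?_
      rw [← congrFun (congrFun hgG v) w]
      refine Eq.trans ?_ (hgfix _ ⟨x, hx, rfl⟩ v w)
      rw [congrFun (congrFun hgG _) _, sesqOf_mulVec]
      rfl
  set T := ((u⁻¹ : GL ι F) : Matrix ι ι F) * G' with hT
  obtain ⟨e, he⟩ := (absIrred_of_spanAlg_eq_top hL).2 T (by
    rintro _ ⟨x, hxL, rfl⟩
    obtain ⟨h1, h2⟩ := hx x hxL
    refine (((Matrix.isUnit_transpose _).2 x.isUnit).mul u.isUnit).mul_left_cancel ?_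
    have e1 : (u : Matrix ι ι F) * T = G' := by rw [hT, ← mul_assoc, Units.mul_inv, one_mul]
    calc (x : Matrix ι ι F)ᵀ * (u : Matrix ι ι F) * (T * (x : Matrix ι ι F))
        = (x : Matrix ι ι F)ᵀ * ((u : Matrix ι ι F) * T) * (x : Matrix ι ι F) := by
          simp only [mul_assoc]
      _ = (u : Matrix ι ι F) * T := by rw [e1, h2]
      _ = (x : Matrix ι ι F)ᵀ * (u : Matrix ι ι F) * (x : Matrix ι ι F) * T := by rw [h1]
      _ = _ := by simp only [mul_assoc])
  have hG'u : G' = e • (u : Matrix ι ι F) := by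
    have h := congrArg (fun M => (u : Matrix ι ι F) * M) he
    simp only [hT, ← mul_assoc, Units.mul_inv, one_mul, Matrix.mul_smul, mul_one] at h
    exact h
  refine ⟨e, fun v w => ?_⟩
  rw [congrFun (congrFun hgG v) w, congrFun (congrFun hf.eq_sesqOf v) w, ← hu, hG'u]
  simp [sesqOf, Matrix.smul_mulVec, dotProduct_smul]

open Geo in
/-- A member of a class, with the dimension recorded for the symplectic-type normalisers. -/
def SympMember (m : ℕ) (F : Type*) [Field F] [Fintype F] (M : Subgroup (GL (Fin m ⊕ Fin m) F)) :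
    Prop :=
  let f := sympForm m F
  let I := spGL m F
  ((∃ W : Submodule F (Fin m ⊕ Fin m → F), W ≠ ⊥ ∧ IsTotallySingularFor f W ∧ M = subspaceStabilizer W ⊓ I) ∨
    (∃ W : Submodule F (Fin m ⊕ Fin m → F), W ≠ ⊥ ∧ IsNondegenerateOn f W ∧ Module.finrank F W < m ∧
        M = subspaceStabilizer W ⊓ I) ∨
    (∃ (t k : ℕ) (D : Fin t → Submodule F (Fin m ⊕ Fin m → F)), IsNondegenerateMDecomposition f k D ∧
        M = decompositionStabilizer D ⊓ I) ∨
    (∃ (D : Fin 2 → Submodule F (Fin m ⊕ Fin m → F)), Odd (Fintype.card F) ∧ IsMDecomposition m D ∧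
        (∀ i, IsTotallySingularFor f (D i)) ∧ M = decompositionStabilizer D ⊓ I) ∨
    (∃ (F₀ : Subfield F) (r : ℕ) (P : GL (Fin m ⊕ Fin m) F) (ζ : F), r.Prime ∧ Fintype.card F = Nat.card F₀ ^ r ∧ ζ ≠ 0 ∧
        IsFormRationalStructure f F₀ ζ P ∧ M = subfieldSubgroup F₀ P ⊓ I) ∨
    (∃ (R : Subgroup (GL (Fin m ⊕ Fin m) F)) (p k : ℕ), 2 * m = 2 ^ k ∧ IsSymplecticTypeGroup 2 R ∧
        ActsAbsolutelyIrreducibly (matrixSet R) ∧ R ≤ similarityGroup f ∧ p.Prime ∧ Odd p ∧ Fintype.card F = p ∧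
        Nat.card R = 2 ^ (1 + 2 * k) ∧ Nat.card (Subgroup.center R) = 2 ∧ IsOfMinusType k R ∧
        M = subgroupNormalizer R ⊓ I) ∨
    (∃ Q : (Fin m ⊕ Fin m → F) → F, ¬ Odd (Fintype.card F) ∧ IsNondegenerateQuadraticForm Q ∧
        (∀ u v, QuadraticMap.polar Q u v = f u v) ∧ M = quadSimilarityGroup Q ⊓ I)) ∨
  (∃ (r : ℕ) (K : Subalgebra F (Matrix (Fin m ⊕ Fin m) (Fin m ⊕ Fin m) F)), r.Prime ∧ IsFieldSubalgebra r K ∧
      IsSelfAdjointFor f K ∧ (∀ k ∈ K, ∀ v, f (k *ᵥ v) v = 0) ∧ M = subalgebraNormalizer K ⊓ I) ∨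
  (∃ K : Subalgebra F (Matrix (Fin m ⊕ Fin m) (Fin m ⊕ Fin m) F), Odd (Fintype.card F) ∧ IsFieldSubalgebra 2 K ∧
      IsAdjointClosedFor f K ∧ ¬ IsSelfAdjointFor f K ∧ M = subalgebraNormalizer K ⊓ I) ∨
  (∃ (n₁ n₂ : ℕ) (e : (Fin m ⊕ Fin m) ≃ Fin n₁ × Fin n₂) (P : GL (Fin m ⊕ Fin m) F)
      (f₁ : (Fin n₁ → F) → (Fin n₁ → F) → F) (f₂ : (Fin n₂ → F) → (Fin n₂ → F) → F),
      Odd (Fintype.card F) ∧ 3 ≤ n₂ ∧ IsSymplecticForm f₁ ∧ IsSymmetricForm f₂ ∧
      IsTensorFormStructure id f f₁ f₂ e P ∧ M = tensorProductSubgroup n₁ n₂ e P ⊓ I) ∨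
  (∃ (k t : ℕ) (e : (Fin m ⊕ Fin m) ≃ (Fin t → Fin k)) (P : GL (Fin m ⊕ Fin m) F) (f₁ : (Fin k → F) → (Fin k → F) → F),
      Odd (Fintype.card F) ∧ Odd t ∧ 3 ≤ t ∧ ¬ (Fintype.card F = 3 ∧ k = 2) ∧ IsSymplecticForm f₁ ∧
      IsTensorPowerFormStructure id f f₁ e P ∧ M = tensorWreathSubgroup k t e P ⊓ I)

lemma SympMember.inClass {m : ℕ} {F : Type*} [Field F] [Fintype F]
    {M : Subgroup (GL (Fin m ⊕ Fin m) F)} (h : SympMember m F M) : Geo.InSymplecticClass m F M :=
  h.imp (Or.imp id <| Or.imp id <| Or.imp id <| Or.imp id <| Or.imp id <| Or.imp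
    (fun ⟨R, p, k, _, h⟩ => ⟨R, p, k, h⟩) id) id

variable [Fintype F]

lemma two_ne_zero_of_odd_card (h : Odd (Fintype.card F)) : (2 : F) ≠ 0 := fun h2 => by
  haveI : CharP F 2 := CharTwo.of_one_ne_zero_of_two_eq_zero one_ne_zero h2
  obtain ⟨n, -, hn⟩ := FiniteField.card F 2
  rw [hn] at h
  exact absurd h (Nat.not_odd_iff_even.2 (Nat.even_pow.2 ⟨even_two, n.ne_zero⟩))

lemma odd_card_of_two_ne_zero (h2 : (2 : F) ≠ 0) : Odd (Fintype.card F) := by
  refine Nat.odd_iff.2 (FiniteField.odd_card_of_char_ne_two fun h => h2 ?_)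
  haveI := ringChar.of_eq h
  exact CharTwo.two_eq_zero

/-- The subgroup theorem for a group of symplectic isometries. -/
theorem sympStructureRefined (m : ℕ) (hm : 1 ≤ m) (H : Subgroup (GL (Fin m ⊕ Fin m) F))
    (hH : H ≤ spGL m F) :
    (∃ M : Subgroup (GL (Fin m ⊕ Fin m) F), SympMember m F M ∧ H ≤ M) ∨
      Geo.InSymplecticResidualClass H := by
  classical
  set f := sympForm m F with hfdef
  have hsf : Geo.IsSymplecticForm f := Transvec.sympForm_isSymplectic m F
  have hf := IsHermLike.of_symplectic hsf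
  have hcard : Fintype.card (Fin m ⊕ Fin m) = 2 * m := by
    rw [Fintype.card_sum, Fintype.card_fin, two_mul]
  haveI : Nonempty (Fin m ⊕ Fin m) := ⟨.inl ⟨0, by omega⟩⟩
  set H' := H ⊔ Geo.scalars (Fin m ⊕ Fin m) F with hH'
  have hsim : H' ≤ Geo.similarityGroup f := sup_scalars_le_sim hf (hH.trans (isoGroup_le f))
  have hle : H ≤ H' := le_sup_left
  have mk : ∀ {S : Subgroup (GL (Fin m ⊕ Fin m) F)}, H' ≤ S → H ≤ S ⊓ spGL m F :=
    fun h => le_inf (hle.trans h) hH
  have part : ∀ {M : Subgroup (GL (Fin m ⊕ Fin m) F)}, SympMember m F M →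
      H ≤ M → (∃ M, SympMember m F M ∧ H ≤ M) ∨ Geo.InSymplecticResidualClass H :=
    fun h h' => .inl ⟨_, h, h'⟩
  have quad : (2 : F) = 0 → QuadCase f H' →
      (∃ M, SympMember m F M ∧ H ≤ M) ∨ Geo.InSymplecticResidualClass H := by
    rintro h2 ⟨Q, hQ, hp, h⟩
    exact part (.inl (Or.inr <| Or.inr <| Or.inr <| Or.inr <| Or.inr <| Or.inr
      ⟨Q, fun ho => two_ne_zero_of_odd_card ho h2, hQ, hp, rfl⟩)) (mk h)
  have sub : SubfieldCase (RingEquiv.refl F) f H' →
      (∃ M, SympMember m F M ∧ H ≤ M) ∨ Geo.InSymplecticResidualClass H := fun h => by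
    obtain ⟨F₁, r, P, ζ, G, hr, hc, hG, hh, -⟩ := h.exists_prime
    exact part (.inl (Or.inr <| Or.inr <| Or.inr <| Or.inr <| Or.inl
      ⟨F₁, r, P, ζ, hr, hc, hG.ne_zero, hG.isFormRationalStructure, rfl⟩)) (mk hh)
  have comm : CommCase f H' →
      (∃ M, SympMember m F M ∧ H ≤ M) ∨ Geo.InSymplecticResidualClass H := by
    rintro (⟨hD, h, -⟩ | ⟨hk, hD, hts, h⟩ | ⟨hr, hdvd, hK, hadj, h⟩)
    · exact part (.inl (Or.inr <| Or.inr <| Or.inl ⟨_, _, _, hD, rfl⟩)) (mk h)
    · by_cases h2 : (2 : F) = 0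
      · exact quad h2 (quadCase_of_pair hsf h2 hD hts h hsim)
      · rename_i k D
        obtain rfl : k = m := by omega
        exact part (.inl (Or.inr <| Or.inr <| Or.inr <| Or.inl
          ⟨_, odd_card_of_two_ne_zero h2, hD, hts, rfl⟩)) (mk h)
    · rcases selfAdjoint_or_two hf hr hK hadj with hsa | h2r
      · exact .inl ⟨_, .inr <| .inl ⟨_, _, hr, hK, hsa,
          fun k hk v => alternating_of_selfAdjoint hsf hK hsa hk v, rfl⟩, mk h⟩
      · subst h2r
        rename_i K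
        by_cases hsa : Geo.IsSelfAdjointFor f K
        · exact .inl ⟨_, .inr <| .inl ⟨_, _, hr, hK, hsa,
            fun k hk v => alternating_of_selfAdjoint hsf hK hsa hk v, rfl⟩, mk h⟩
        · by_cases h2 : (2 : F) = 0
          · exact quad h2 (quadCase_of_field hsf h2 hK hadj hsa hsim h)
          · exact .inl ⟨_, .inr <| .inr <| .inl ⟨_, odd_card_of_two_ne_zero h2, hK, hadj, hsa, rfl⟩,
              mk h⟩
  cases formAsch hf le_sup_right hsim (by omega) with
  | red h =>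
    cases h with
    | singular h0 hW h => exact part (.inl (Or.inl ⟨_, h0, hW, rfl⟩)) (mk h)
    | nondeg h0 hW hd h => exact part (.inl (Or.inr <| Or.inl ⟨_, h0, hW, by omega, rfl⟩)) (mk h)
    | half hk hD h => exact part (.inl (Or.inr <| Or.inr <| Or.inl ⟨_, _, _, hD, rfl⟩)) (mk h)
  | comm hirr h => exact comm h
  | tensor hirr ha hb hs hN =>
    cases sympTensor hsf ha hb hs hsim hirr hN with
    | comm h => exact comm h
    | quad h2 h => exact quad h2 h
    | tens h2 hn₂ hf₁ hf₂ hstr h =>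
      exact .inl ⟨_, .inr <| .inr <| .inr <| .inl
        ⟨_, _, _, _, _, _, odd_card_of_two_ne_zero h2, hn₂, hf₁, hf₂, hstr, rfl⟩, mk h⟩
  | abelian hirr S =>
    cases sympAbCase S hsf hsim with
    | subfield h => exact sub h
    | symplType hk htype habs hRsim hp hodd hq hR hC hminus h =>
      exact part (.inl (Or.inr <| Or.inr <| Or.inr <| Or.inr <| Or.inr <| Or.inl
        ⟨_, _, _, hcard ▸ hk, htype, habs, hRsim, hp, hodd, hq, hR, hC, hminus, rfl⟩)) (mk h)
  | wreath hirr hk ha hw =>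
    obtain ⟨hc, hform, hd, hsymm, hε, hcond, hrep⟩ := hw
    rename_i k a eq P A c d
    haveI : NeZero a := ⟨by omega⟩
    rw [show (RingEquiv.refl F).toRingHom.mapMatrix (A : Matrix (Fin a) (Fin a) F) = A from rfl]
      at hsymm
    replace hd : d * d = 1 := hd
    replace hε : d ^ k * c = -1 * c := hε
    have hdk : d ^ k = -1 := mul_right_cancel₀ hc hε
    obtain ⟨E, hEp, hEtop, hEA⟩ := hcond
    by_cases h2 : (2 : F) = 0
    · have hd1 : d = 1 := by
        have h : (d - 1) * (d - 1) = 0 := by linear_combination hd + (1 - d) * h2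
        exact sub_eq_zero.1 (mul_self_eq_zero.1 h)
      rw [hd1, one_smul] at hsymm
      have hsimE : E ≤ Geo.similarityGroup (formOf (A : Matrix (Fin a) (Fin a) F)) := fun g hg =>
        mem_similarity_of_gram one_ne_zero (by rw [one_smul]; exact hEA g hg)
      exact quad h2 (quadCase_of_wreath hsf h2 hk hform hsymm
        (fun i => diag_eq_zero_of_irred h2 (by rw [Fintype.card_fin]; omega)
          (absIrred_of_spanAlg_eq_top hEtop).1 hsymm hsimE i) hsim hrep)
    · have hd1 : d = -1 := by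
        rcases mul_self_eq_one_iff.1 hd with h1 | h1
        · exfalso
          rw [h1, one_pow] at hdk
          exact h2 (by linear_combination hdk)
        · exact h1
      have hkodd : Odd k := by
        rw [← Nat.not_even_iff_odd]
        intro he
        rw [hd1, he.neg_one_pow] at hdk
        exact h2 (by linear_combination hdk)
      rw [hd1, neg_one_smul] at hsymm
      have hex : ¬ (Fintype.card F = 3 ∧ a = 2) := by
        rintro ⟨hq, rfl⟩
        exact ne_bot_of_spanAlg_top le_rfl hEtop (eq_bot_of_perfect_two_three hq hEp)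
      refine .inl ⟨_, .inr <| .inr <| .inr <| .inr ⟨a, k, eq, P, _, odd_card_of_two_ne_zero h2,
        hkodd, ?_, hex, formOf_symplectic A.isUnit hsymm (diag_zero_of_skew h2 hsymm), ?_, rfl⟩,
        mk (le_tensorWreath_of_reps eq P fun g hg => ?_)⟩
      · obtain ⟨j, hj⟩ := hkodd; omega
      · have h := isTensorPowerFormStructure_of (σ := RingEquiv.refl F) hc hform (e := 1) one_ne_zero
        rwa [one_smul, sesqOf_refl] at h
      · obtain ⟨τ, gs, hg', -⟩ := hrep g hg
        exact ⟨τ, gs, hg'⟩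
  | core le normal perfect simple nonab centralizer top fix =>
    rename_i L
    by_cases hreal : ∃ F₀ : Subfield F, F₀ ≠ ⊤ ∧ Geo.RealisableOver F₀ (Geo.matrixSet L)
    · obtain ⟨F₀, hne, hreal⟩ := hreal
      exact sub (subfieldCase_of_core (by omega) hf normal top fix hne hreal)
    push Not at hreal
    by_cases hQ : ∃ Q : (Fin m ⊕ Fin m → F) → F, Geo.IsNondegenerateQuadraticForm Q ∧
        Geo.FixesQuadForm (Geo.matrixSet L) Q
    · obtain ⟨Q, hQ, hfix⟩ := hQ
      obtain ⟨e, he⟩ := exists_scalar_of_two_fixed hf top fix hQ.polar_bilinear (fixes_polar hfix)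
      by_cases h2 : (2 : F) = 0
      · exact quad h2 (quadCase_of_fixes (by omega) hsf h2 top normal hsim hQ hfix he)
      · exfalso
        obtain ⟨v, hv⟩ := exists_ne (0 : Fin m ⊕ Fin m → F)
        obtain ⟨⟨x, hx⟩, -⟩ := hQ.nondegenerate v hv
        have h1 : QuadraticMap.polar Q x v = QuadraticMap.polar Q v x := QuadraticMap.polar_comm _ _ _
        rw [he, he, hsf.skew v x] at h1
        rw [he] at hx
        refine hx ((mul_eq_zero.1 (?_ : (2 : F) * (e * f x v) = 0)).resolve_left h2)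
        linear_combination h1
    refine .inr ⟨L, residualCore_of le normal perfect simple nonab centralizer top hreal, hQ, ?_⟩
    rintro ⟨τ, g, hg, hfix⟩
    obtain ⟨h1, h2⟩ := realisable_of_two_forms top hf (IsHermLike.of_unitary hg) hg.ne_refl
      (fixesForm_of_le_iso fix) hfix
    exact hreal _ h2 h1

/-- The subgroup theorem for a group of symplectic isometries. -/
theorem sympStructure (m : ℕ) (hm : 1 ≤ m) (H : Subgroup (GL (Fin m ⊕ Fin m) F))
    (hH : H ≤ spGL m F) :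
    (∃ M : Subgroup (GL (Fin m ⊕ Fin m) F), Geo.InSymplecticClass m F M ∧ H ≤ M) ∨
      Geo.InSymplecticResidualClass H :=
  (sympStructureRefined m hm H hH).imp (fun ⟨M, h, h'⟩ => ⟨M, h.inClass, h'⟩) id

end Cfsg.Agent.Aschbacher
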