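import Cfsg.Agent.Lib.Aschbacher.SympRefine

/-!
Over three elements the stabiliser of a tensor cube of planes normalises an extraspecial group.
-/

set_option autoImplicit false
set_option linter.style.haveILetI false

namespace Cfsg.Agent.Aschbacher

open scoped MatrixGroups Matrix Kronecker
open Matrix

variable {F : Type*} [Field F]

/-- Trace zero and determinant one. -/
def IsTZOne (X : Matrix (Fin 2) (Fin 2) F) : Prop := X 0 0 + X 1 1 = 0 ∧ X.det = 1

lemma IsTZOne.sq {X : Matrix (Fin 2) (Fin 2) F} (h : IsTZOne X) : X * X = -1 := by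
  obtain ⟨h1, h2⟩ := h
  rw [Matrix.det_fin_two] at h2
  ext i j
  fin_cases i <;> fin_cases j <;> simp [Matrix.mul_apply, Fin.sum_univ_two] <;>
    grobner

lemma IsTZOne.neg {X : Matrix (Fin 2) (Fin 2) F} (h : IsTZOne X) : IsTZOne (-X) :=
  ⟨by simp only [Matrix.neg_apply]; linear_combination -h.1,
    by rw [Matrix.det_neg, Fintype.card_fin, neg_one_sq, one_mul]; exact h.2⟩

lemma IsTZOne.conj {X : Matrix (Fin 2) (Fin 2) F} (h : IsTZOne X) (g : GL (Fin 2) F) :
    IsTZOne (g.val * X * (g⁻¹).val) := by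
  refine ⟨?_, ?_⟩
  · have ht : Matrix.trace (g.val * X * (g⁻¹).val) = Matrix.trace X := by
      rw [Matrix.trace_mul_comm, ← Matrix.mul_assoc, Units.inv_mul, Matrix.one_mul]
    rw [Matrix.trace_fin_two, Matrix.trace_fin_two] at ht
    rw [ht]; exact h.1
  · rw [Matrix.det_mul, Matrix.det_mul, mul_right_comm, ← Matrix.det_mul, Units.mul_inv,
      Matrix.det_one, one_mul]
    exact h.2

/-- The quaternion group of order eight inside GL(2, 3), as a predicate. -/
def InQ8 (g : GL (Fin 2) F) : Prop := g.val = 1 ∨ g.val = -1 ∨ IsTZOne g.val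

lemma IsTZOne.commutes {X Y : Matrix (Fin 2) (Fin 2) F} (hX : IsTZOne X) (hY : IsTZOne Y)
    (ht : (X * Y) 0 0 + (X * Y) 1 1 = 0) : IsTZOne (X * Y) ∧ Y * X = -(X * Y) := by
  have h1 : IsTZOne (X * Y) := ⟨ht, by rw [Matrix.det_mul, hX.2, hY.2, one_mul]⟩
  refine ⟨h1, ?_⟩
  calc Y * X = -(((X * Y) * (X * Y)) * (Y * X)) := by rw [h1.sq, neg_mul, one_mul, neg_neg]
    _ = -((X * Y) * (X * (Y * Y) * X)) := by simp only [mul_assoc]
    _ = -(X * Y) := by rw [hY.sq, mul_neg, mul_one, neg_mul, hX.sq, neg_neg, mul_one]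

variable [Fintype F] (hq : Fintype.card F = 3)

include hq

lemma three_eq_zero : (3 : F) = 0 := by
  have h := FiniteField.cast_card_eq_zero F
  rw [hq] at h
  exact_mod_cast h

/-- Elements of the quaternion group are equal up to sign or orthogonal. -/
lemma tzOne_cases {X Y : Matrix (Fin 2) (Fin 2) F} (hX : IsTZOne X) (hY : IsTZOne Y) :
    X = Y ∨ X = -Y ∨ (X * Y) 0 0 + (X * Y) 1 1 = 0 := by
  have key : ∀ a b c a' b' c' : ZMod 3, -a * a - b * c = 1 → -a' * a' - b' * c' = 1 →
      (a = a' ∧ b = b' ∧ c = c') ∨ (a = -a' ∧ b = -b' ∧ c = -c') ∨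
        2 * a * a' + b * c' + c * b' = 0 := by decide
  haveI := Fact.mk Nat.prime_three
  obtain ⟨φ⟩ : Nonempty (ZMod 3 ≃+* F) := ⟨ZMod.ringEquivOfPrime F Nat.prime_three hq⟩
  obtain ⟨hX1, hX2⟩ := hX
  obtain ⟨hY1, hY2⟩ := hY
  rw [Matrix.det_fin_two, eq_neg_of_add_eq_zero_right hX1] at hX2
  rw [Matrix.det_fin_two, eq_neg_of_add_eq_zero_right hY1] at hY2
  obtain ⟨a, ha⟩ := φ.surjective (X 0 0)
  obtain ⟨b, hb⟩ := φ.surjective (X 0 1)
  obtain ⟨c, hc⟩ := φ.surjective (X 1 0)
  obtain ⟨a', ha'⟩ := φ.surjective (Y 0 0)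
  obtain ⟨b', hb'⟩ := φ.surjective (Y 0 1)
  obtain ⟨c', hc'⟩ := φ.surjective (Y 1 0)
  rw [← ha, ← hb, ← hc] at hX2
  rw [← ha', ← hb', ← hc'] at hY2
  have e1 : -a * a - b * c = 1 := φ.injective (by
    simp only [map_sub, map_mul, map_neg, map_one]; linear_combination hX2)
  have e2 : -a' * a' - b' * c' = 1 := φ.injective (by
    simp only [map_sub, map_mul, map_neg, map_one]; linear_combination hY2)
  rcases key a b c a' b' c' e1 e2 with ⟨rfl, rfl, rfl⟩ | ⟨rfl, rfl, rfl⟩ | h
  · refine Or.inl (Matrix.ext fun i j => ?_)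
    fin_cases i <;> fin_cases j <;> simp [← ha, ← ha', ← hb, ← hb', ← hc, ← hc',
      eq_neg_of_add_eq_zero_right hX1, eq_neg_of_add_eq_zero_right hY1]
  · refine Or.inr (Or.inl (Matrix.ext fun i j => ?_))
    fin_cases i <;> fin_cases j <;> simp [← ha, ← ha', ← hb, ← hb', ← hc, ← hc',
      eq_neg_of_add_eq_zero_right hX1, eq_neg_of_add_eq_zero_right hY1]
  · refine Or.inr (Or.inr ?_)
    have h' := congrArg φ h
    simp only [map_add, map_mul, map_ofNat, map_zero, ha, hb, hc, ha', hb', hc'] at h'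
    simp only [Matrix.mul_apply, Fin.sum_univ_two, eq_neg_of_add_eq_zero_right hX1,
      eq_neg_of_add_eq_zero_right hY1]
    linear_combination h'

/-- Every element has an orthogonal one. -/
lemma exists_orth_tzOne {X : Matrix (Fin 2) (Fin 2) F} (hX : IsTZOne X) :
    ∃ Y : Matrix (Fin 2) (Fin 2) F, IsTZOne Y ∧ (X * Y) 0 0 + (X * Y) 1 1 = 0 := by
  have h3 := three_eq_zero hq
  by_contra hno
  push Not at hno
  have hI : IsTZOne (!![0, -1; 1, 0] : Matrix (Fin 2) (Fin 2) F) :=
    ⟨by simp, by simp [Matrix.det_fin_two]⟩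
  have hJ : IsTZOne (!![1, 1; 1, -1] : Matrix (Fin 2) (Fin 2) F) :=
    ⟨by simp, by simp [Matrix.det_fin_two]; linear_combination -h3⟩
  have h1 := (tzOne_cases hq hX hI).resolve_right fun h => h.elim (fun h => ?_) (hno _ hI)
  · rcases (tzOne_cases hq hX hJ).imp_right (·.resolve_right (hno _ hJ)) with h2 | h2 <;>
      rw [h1] at h2 <;> simpa using congrFun (congrFun h2 0) 0
  · rcases (tzOne_cases hq hX hJ).imp_right (·.resolve_right (hno _ hJ)) with h2 | h2 <;>
      rw [h] at h2 <;> simpa using congrFun (congrFun h2 0) 0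

/-- Conjugation permutes the quaternions transitively. -/
lemma exists_conj_tzOne {X Y : Matrix (Fin 2) (Fin 2) F} (hX : IsTZOne X) (hY : IsTZOne Y) :
    ∃ g : GL (Fin 2) F, g.val * X * (g⁻¹).val = Y := by
  have h3 := three_eq_zero hq
  have step : ∀ {X Y : Matrix (Fin 2) (Fin 2) F}, IsTZOne X → IsTZOne Y →
      (X * Y) 0 0 + (X * Y) 1 1 = 0 → ∃ g : GL (Fin 2) F, g.val * X * (g⁻¹).val = Y := by
    intro X Y hX hY ht
    have hs : (X + Y) * (X + Y) = 1 := by
      rw [add_mul, mul_add, mul_add, hX.sq, hY.sq, (hX.commutes hY ht).2]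
      ext i j
      simp only [Matrix.add_apply, Matrix.neg_apply]
      linear_combination -((1 : Matrix (Fin 2) (Fin 2) F) i j) * h3
    refine ⟨⟨X + Y, X + Y, hs, hs⟩, ?_⟩
    show (X + Y) * X * (X + Y) = Y
    have h : (X + Y) * X = Y * (X + Y) := by rw [add_mul, mul_add, hX.sq, hY.sq, add_comm]
    rw [h, mul_assoc, hs, mul_one]
  rcases tzOne_cases hq hX hY with h | h | h
  · exact ⟨1, by rw [h]; simp⟩
  · obtain ⟨Z, hZ, hXZ⟩ := exists_orth_tzOne hq hX
    obtain ⟨g, hg⟩ := step hX hZ hXZ
    obtain ⟨g', hg'⟩ := step hZ hY (by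
      have h' := (hX.commutes hZ hXZ).2
      have hY' : Y = -X := by rw [h, neg_neg]
      rw [hY', mul_neg, h', neg_neg]; exact hXZ)
    refine ⟨g' * g, ?_⟩
    rw [_root_.mul_inv_rev, Units.val_mul, Units.val_mul, ← hg', ← hg]
    simp only [mul_assoc]
  · exact step hX hY h

/-- The quaternion group. -/
def q8 : Subgroup (GL (Fin 2) F) where
  carrier := {g | InQ8 g}
  mul_mem' {a b} ha hb := by
    show InQ8 _
    rw [InQ8, Units.val_mul]
    rcases ha with ha | ha | ha
    · rw [ha, one_mul]; exact hb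
    · rw [ha, neg_one_mul]
      rcases hb with hb | hb | hb
      · exact Or.inr (Or.inl (by rw [hb]))
      · exact Or.inl (by rw [hb, neg_neg])
      · exact Or.inr (Or.inr hb.neg)
    · rcases hb with hb | hb | hb
      · rw [hb, mul_one]; exact Or.inr (Or.inr ha)
      · rw [hb, mul_neg_one]; exact Or.inr (Or.inr ha.neg)
      · rcases tzOne_cases hq ha hb with h | h | h
        · exact Or.inr (Or.inl (by rw [h, hb.sq]))
        · exact Or.inl (by rw [h, neg_mul, hb.sq, neg_neg])
        · exact Or.inr (Or.inr (ha.commutes hb h).1)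
  one_mem' := Or.inl rfl
  inv_mem' {a} ha := by
    show InQ8 _
    rcases ha with ha | ha | ha
    · exact Or.inl (Units.inv_eq_of_mul_eq_one_right (by rw [ha, one_mul]))
    · exact Or.inr (Or.inl (Units.inv_eq_of_mul_eq_one_right (by rw [ha, neg_one_mul, neg_neg])))
    · exact Or.inr (Or.inr ((Units.inv_eq_of_mul_eq_one_right (by
        rw [mul_neg, ha.sq, neg_neg]) : (a⁻¹).val = -a.val) ▸ ha.neg))

variable {ι : Type} [Fintype ι] [DecidableEq ι]

/-- Over three elements the similitudes stabilising a tensor cube normalise a symplectic-type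
group. -/
theorem symplType_of_tensor_cube {f : (ι → F) → (ι → F) → F} (hf : Geo.IsSymplecticForm f)
    {e : ι ≃ (Fin 3 → Fin 2)} {P : GL ι F} {g₁ : (Fin 2 → F) → (Fin 2 → F) → F}
    (hg₁ : Geo.IsSymplecticForm g₁) (hstr : Geo.IsTensorPowerFormStructure id f g₁ e P) :
    ∃ R : Subgroup (GL ι F), Geo.IsSymplecticTypeGroup 2 R ∧
      Geo.ActsAbsolutelyIrreducibly (Geo.matrixSet R) ∧ R ≤ Geo.similarityGroup f ∧
      Nat.card R = 2 ^ (1 + 2 * 3) ∧ Nat.card (Subgroup.center R) = 2 ∧ Geo.IsOfMinusType 3 R ∧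
      Geo.tensorWreathSubgroup 2 3 e P ⊓ Geo.similarityGroup f ≤ Geo.subgroupNormalizer R := by
  classical
  have h3 := three_eq_zero hq
  let T : GL (Fin 3 → Fin 2) F →* GL ι F :=
    (MulAut.conj P).toMonoidHom.comp (Geo.glReindex e.symm).toMonoidHom
  have hT : ∀ g, (T g).val = cj P (g.val.submatrix e e) := fun g => by
    simp [T, cj_apply, Geo.glReindex]
  let pi : (Fin 3 → GL (Fin 2) F) →* GL (Fin 3 → Fin 2) F :=
    MonoidHom.mk' pureGL fun a b => (pureGL_mul a b).symm
  have hpi : ∀ gs, (pi gs).val = pureMat fun i => (gs i).val := fun gs => rfl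
  -- similitudes
  obtain ⟨c₁, hc₁, hform⟩ := hstr
  set G := Geo.gramMatrix g₁ with hGdef
  have hG : ∀ u : Matrix (Fin 2) (Fin 2) F, uᵀ * G * u = u.det • G := by
    intro u
    have h10 : G 1 0 = -G 0 1 := hg₁.skew _ _
    have h00 : G 0 0 = 0 := hg₁.alternating _
    have h11 : G 1 1 = 0 := hg₁.alternating _
    ext i j
    fin_cases i <;> fin_cases j <;>
      simp [Matrix.mul_apply, Fin.sum_univ_two, Matrix.det_fin_two, h10, h00, h11] <;> ring
  have hform' : ∀ x y, f (P.val *ᵥ (x ∘ e)) (P.val *ᵥ (y ∘ e)) =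
      c₁ * formOf (pureMat fun _ : Fin 3 => G) x y := fun x y => by
    rw [hform]
    simp [formOf, dotProduct, Matrix.mulVec, Finset.mul_sum, pureMat, mul_assoc]
  have hsim_of : ∀ (W : GL (Fin 3 → Fin 2) F) (μ : Fˣ),
      W.valᵀ * (pureMat fun _ : Fin 3 => G) * W.val = (μ : F) • (pureMat fun _ : Fin 3 => G) →
      T W ∈ Geo.similarityGroup f := by
    intro W μ hW
    refine ⟨μ, fun u v => ?_⟩
    obtain ⟨x, rfl⟩ : ∃ x, P.val *ᵥ (x ∘ e) = u :=
      ⟨((P⁻¹).val *ᵥ u) ∘ e.symm, by
        rw [Function.comp_assoc, Equiv.symm_comp_self, Function.comp_id, Matrix.mulVec_mulVec,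
          Units.mul_inv, Matrix.one_mulVec]⟩
    obtain ⟨y, rfl⟩ : ∃ y, P.val *ᵥ (y ∘ e) = v :=
      ⟨((P⁻¹).val *ᵥ v) ∘ e.symm, by
        rw [Function.comp_assoc, Equiv.symm_comp_self, Function.comp_id, Matrix.mulVec_mulVec,
          Units.mul_inv, Matrix.one_mulVec]⟩
    have hact : ∀ z : (Fin 3 → Fin 2) → F, (T W).val *ᵥ (P.val *ᵥ (z ∘ e)) =
        P.val *ᵥ ((W.val *ᵥ z) ∘ e) := fun z => by
      rw [hT, cj_apply, Matrix.mulVec_mulVec, Units.inv_mul_cancel_right, ← Matrix.mulVec_mulVec,
        Matrix.submatrix_mulVec_equiv, Function.comp_assoc, Equiv.self_comp_symm, Function.comp_id]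
    rw [hact, hact, hform', hform', formOf_mulVec, hW]
    simp [formOf, Matrix.smul_mulVec, dotProduct_smul, mul_left_comm]
  set S := Geo.similarityGroup f
  set H' := Geo.tensorWreathSubgroup 2 3 e P ⊓ S with hH'
  have hpure : ∀ gs, T (pi gs) ∈ H' := by
    intro gs
    refine ⟨Subgroup.mem_map_of_mem _ (Subgroup.mem_map_of_mem _
      (Subgroup.subset_closure (Or.inl (isPureTensor_pureGL gs)))), ?_⟩
    refine hsim_of _ (∏ i, Matrix.GeneralLinearGroup.det (gs i)) ?_
    rw [hpi, pureMat_transpose, pureMat_mul, pureMat_mul,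
      show (fun i => (gs i).valᵀ * G * (gs i).val) = fun i => (gs i).val.det • G from
        funext fun i => hG _, pureMat_smul, Units.coe_prod]
    rfl
  have hperm : ∀ τ, T (permGL (factorPerm τ)) ∈ H' := by
    intro τ
    refine ⟨Subgroup.mem_map_of_mem _ (Subgroup.mem_map_of_mem _
      (Subgroup.subset_closure (Or.inr (isFactorPermutation_permGL τ)))), hsim_of _ 1 ?_⟩
    rw [Units.val_one, one_smul]
    show ((1 : Matrix (Fin 3 → Fin 2) (Fin 3 → Fin 2) F).submatrix (factorPerm τ) id)ᵀ *
      (pureMat fun _ : Fin 3 => G) * ((1 : Matrix (Fin 3 → Fin 2) (Fin 3 → Fin 2) F).submatrix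
        (factorPerm τ) id) = _
    exact (perm_gram τ fun _ : Fin 3 => G).trans rfl
  have hscal : Geo.scalars ι F ≤ H' := by
    intro z hz
    obtain ⟨d, hd⟩ := (Geo.mem_scalars_iff z).1 hz
    have e1 : z = T (pi ![sc (Fin 2) d, 1, 1]) := Units.ext (by
      rw [hT, hpi, hd, show (fun i => ((![sc (Fin 2) d, 1, 1] : Fin 3 → GL (Fin 2) F) i).val) =
        fun i => (![(d : F), 1, 1] i) • (1 : Matrix (Fin 2) (Fin 2) F) from
          funext fun i => by fin_cases i <;> simp [sc_val], pureMat_smul, pureMat_one,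
        Fin.prod_univ_three, Matrix.submatrix_smul]
      simp [Matrix.submatrix_one_equiv])
    rw [e1]; exact hpure _
  -- the normal subgroup
  let B : Subgroup (Fin 3 → GL (Fin 2) F) := Subgroup.pi Set.univ fun _ => q8 hq
  set N := Geo.scalars ι F ⊔ (B.map pi).map T with hN
  have memN : ∀ x ∈ N, ∃ (c : Fˣ) (q : Fin 3 → GL (Fin 2) F), (∀ i, InQ8 (q i)) ∧
      x = sc ι c * T (pi q) := by
    intro x hx
    haveI : (Geo.scalars ι F).Normal := Geo.scalars_normal
    obtain ⟨z, hz, _, ⟨_, ⟨q, hq', rfl⟩, rfl⟩, rfl⟩ := Subgroup.mem_sup_of_normal_left.1 hx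
    obtain ⟨c, rfl⟩ := hz
    exact ⟨c, q, fun i => hq' i (Set.mem_univ i), rfl⟩
  have inN : ∀ q : Fin 3 → GL (Fin 2) F, (∀ i, InQ8 (q i)) → T (pi q) ∈ N := fun q hq' =>
    Subgroup.mem_sup_right ⟨_, ⟨q, fun i _ => hq' i, rfl⟩, rfl⟩
  have hBn : Geo.tensorWreathStandard 2 3 F ≤ Subgroup.normalizer ((B.map pi : Subgroup _) : Set _) := by
    rw [Geo.tensorWreathStandard, Subgroup.closure_le]
    have fwd : ∀ (W : GL (Fin 3 → Fin 2) F),
        (∀ q ∈ B, W * pi q * W⁻¹ ∈ B.map pi) → (∀ q ∈ B, W⁻¹ * pi q * W ∈ B.map pi) →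
        W ∈ Subgroup.normalizer ((B.map pi : Subgroup _) : Set _) := by
      intro W h1 h2
      rw [Subgroup.mem_normalizer_iff]
      refine fun x => ⟨?_, fun hx => ?_⟩
      · rintro ⟨q, hq', rfl⟩; exact h1 q hq'
      · obtain ⟨q, hq', hqe⟩ := hx
        have h := h2 q hq'
        rw [hqe] at h
        simpa [mul_assoc] using h
    have hconjQ : ∀ (g x : GL (Fin 2) F), x ∈ q8 hq → g * x * g⁻¹ ∈ q8 hq := by
      intro g x hx
      show InQ8 _
      rw [InQ8, Units.val_mul, Units.val_mul]
      rcases hx with h | h | h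
      · exact Or.inl (by rw [h, mul_one, Units.mul_inv])
      · exact Or.inr (Or.inl (by rw [h, mul_neg_one, neg_mul, Units.mul_inv]))
      · exact Or.inr (Or.inr (h.conj g))
    rintro g (⟨gs, hgs⟩ | ⟨σ, hσ⟩)
    · obtain rfl : g = pi gs := Units.ext (Matrix.ext hgs)
      refine fwd _ (fun q hq' => ?_) fun q hq' => ?_
      · exact ⟨gs * q * gs⁻¹, fun i hi => hconjQ _ _ (hq' i hi), by simp⟩
      · exact ⟨gs⁻¹ * q * gs, fun i hi => by
          show gs⁻¹ i * q i * gs i ∈ q8 hq
          simpa using hconjQ (gs i)⁻¹ _ (hq' i hi), by simp⟩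
    · obtain rfl : g = permGL (factorPerm σ) := Units.ext (Matrix.ext fun x y => by
        rw [hσ x y]
        show _ = (1 : Matrix (Fin 3 → Fin 2) (Fin 3 → Fin 2) F).submatrix (factorPerm σ) id x y
        simp [factorPerm, Matrix.one_apply, eq_comm])
      have key : ∀ q : Fin 3 → GL (Fin 2) F,
          pi q * permGL (factorPerm σ) = permGL (factorPerm σ) * pi fun i => q (σ i) :=
        fun q => pureGL_mul_perm σ q
      refine fwd _ (fun q hq' => ?_) fun q hq' => ?_
      · refine ⟨fun i => q (σ.symm i), fun i _ => hq' _ (Set.mem_univ _), ?_⟩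
        rw [eq_mul_inv_iff_mul_eq, key]
        simp
      · refine ⟨fun i => q (σ i), fun i _ => hq' _ (Set.mem_univ _), ?_⟩
        rw [mul_assoc, key, inv_mul_cancel_left]
  have hnormal : ∀ g ∈ H', ∀ x ∈ N, g * x * g⁻¹ ∈ N := by
    intro g hg x hx
    obtain ⟨c, q, hq', rfl⟩ := memN x hx
    obtain ⟨_, ⟨W, hW, rfl⟩, hgW⟩ := hg.1
    have hgT : g = T W := hgW.symm
    subst hgT
    obtain ⟨_, ⟨q', hq'', rfl⟩, he⟩ := ((Subgroup.mem_normalizer_iff.1 (hBn hW)) (pi q)).1
      ⟨q, fun i _ => hq' i, rfl⟩ |> fun h => (⟨_, h, rfl⟩ : ∃ y, y ∈ B.map pi ∧ y = W * pi q * W⁻¹)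
    have e1 : T W * (sc ι c * T (pi q)) * (T W)⁻¹ = sc ι c * T (pi q') := by
      rw [← mul_assoc (T W), ← sc_comm, mul_assoc (sc ι c), mul_assoc (sc ι c), he, map_mul, map_mul,
        map_inv]
    rw [e1]
    exact mul_mem (Subgroup.mem_sup_left (sc_mem c)) (inN q' fun i => hq'' i (Set.mem_univ i))
  have hcomm : ∀ x ∈ N, ∀ y ∈ N, ∃ c : Fˣ, y * x = sc ι c * (x * y) := by
    intro x hx y hy
    obtain ⟨c, a, ha, rfl⟩ := memN x hx
    obtain ⟨d, b, hb, rfl⟩ := memN y hy
    have hloc : ∀ i, ∃ s : Fˣ, b i * a i = sc (Fin 2) s * (a i * b i) := by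
      intro i
      rcases ha i with h | h | hA
      · exact ⟨1, by rw [map_one, one_mul]; exact Units.ext (by simp [h])⟩
      · exact ⟨1, by rw [map_one, one_mul]; exact Units.ext (by simp [h])⟩
      rcases hb i with h | h | hB
      · exact ⟨1, by rw [map_one, one_mul]; exact Units.ext (by simp [h])⟩
      · exact ⟨1, by rw [map_one, one_mul]; exact Units.ext (by simp [h])⟩
      rcases tzOne_cases hq hA hB with h | h | h
      · exact ⟨1, by rw [map_one, one_mul]; exact Units.ext (by simp [h])⟩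
      · exact ⟨1, by rw [map_one, one_mul]; exact Units.ext (by simp [h])⟩
      · refine ⟨-1, Units.ext ?_⟩
        rw [Units.val_mul, sc_mul_val, Units.val_mul, (hA.commutes hB h).2]
        simp
    choose s hs using hloc
    refine ⟨∏ i, s i, ?_⟩
    have e1 : T (pi b) * T (pi a) = sc ι (∏ i, s i) * (T (pi a) * T (pi b)) := by
      rw [← map_mul T, ← map_mul T, ← map_mul pi, ← map_mul pi]
      refine Units.ext ?_
      rw [sc_mul_val, hT, hT, hpi, hpi,
        show (fun i => ((b * a) i).val) = fun i => ((s i : F)) • ((a * b) i).val from funext fun i => by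
          rw [Pi.mul_apply, hs i, sc_mul_val]; rfl,
        pureMat_smul, Units.coe_prod, ← map_smul]
      rfl
    calc sc ι d * T (pi b) * (sc ι c * T (pi a))
        = sc ι d * (sc ι c * (T (pi b) * T (pi a))) := by
          rw [mul_assoc, ← mul_assoc (T (pi b)), ← sc_comm c (T (pi b)), mul_assoc]
      _ = sc ι (∏ i, s i) * (sc ι c * (sc ι d * (T (pi a) * T (pi b)))) := by
          rw [e1]
          simp only [← mul_assoc, ← map_mul]
          congr 2
          ac_rfl
      _ = _ := by
          rw [mul_assoc (sc ι c), ← mul_assoc (T (pi a)), ← sc_comm d (T (pi a)), mul_assoc]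
  -- spanning
  have htop : spanAlg N = ⊤ := by
    have hlin : ∀ (i : Fin 3) (X Y : Matrix (Fin 2) (Fin 2) F) (c : F),
        pureAt i (c • X + Y) = c • pureAt i X + pureAt i Y := by
      intro i X Y c
      rw [pureAt_linear i (c • X + Y), pureAt_linear i X, pureAt_linear i Y]
      simp only [Matrix.add_apply, Matrix.smul_apply, smul_eq_mul, add_smul, mul_smul,
        Finset.sum_add_distrib, Finset.smul_sum]
    let φ : Fin 3 → Matrix (Fin 2) (Fin 2) F → Matrix ι ι F := fun i X =>
      cj P ((pureAt i X).submatrix e e)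
    have hφ : ∀ i X, φ i X ∈ spanAlg N := by
      intro i
      have hzero : φ i 0 = 0 := by
        have h := hlin i 0 0 1
        simp only [one_smul, add_zero] at h
        simp only [φ, left_eq_add.1 h, Matrix.submatrix_zero, Pi.zero_apply, map_zero]
      have hlin' : ∀ (c : F) X Y, φ i X ∈ spanAlg N → φ i Y ∈ spanAlg N → φ i (c • X + Y) ∈ spanAlg N := by
        intro c X Y hX hY
        have e1 : φ i (c • X + Y) = c • φ i X + φ i Y := by
          simp only [φ, hlin, ← map_smul, ← map_add]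
          rfl
        rw [e1]
        exact add_mem (Subalgebra.smul_mem _ hX c) hY
      have hQ : ∀ g : GL (Fin 2) F, InQ8 g → φ i g.val ∈ spanAlg N := by
        intro g hg
        have h := coe_mem_spanAlg (inN (Function.update (fun _ => 1) i g) fun j => by
          by_cases hj : j = i
          · subst hj; rwa [Function.update_self]
          · rw [Function.update_of_ne hj]; exact Or.inl rfl)
        rw [hT, hpi, show (fun j => (Function.update (fun _ : Fin 3 => (1 : GL (Fin 2) F)) i g j).val) =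
          Function.update (fun _ => (1 : Matrix (Fin 2) (Fin 2) F)) i g.val from funext fun j => by
            by_cases hj : j = i <;> simp [hj]] at h
        exact h
      have hI : IsTZOne (!![0, -1; 1, 0] : Matrix (Fin 2) (Fin 2) F) :=
        ⟨by simp, by simp [Matrix.det_fin_two]⟩
      have hJ : IsTZOne (!![1, 1; 1, -1] : Matrix (Fin 2) (Fin 2) F) :=
        ⟨by simp, by simp [Matrix.det_fin_two]; linear_combination -h3⟩
      have hK : IsTZOne (!![-1, 1; 1, 1] : Matrix (Fin 2) (Fin 2) F) :=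
        ⟨by simp, by simp [Matrix.det_fin_two]; linear_combination -h3⟩
      have mk : ∀ Y : Matrix (Fin 2) (Fin 2) F, IsTZOne Y → φ i Y ∈ spanAlg N := fun Y hY => by
        have hu : IsUnit Y.det := by rw [hY.2]; exact isUnit_one
        exact hQ (Matrix.GeneralLinearGroup.mkOfDetNeZero Y hu.ne_zero) (Or.inr (Or.inr hY))
      intro X
      have e1 : X = (-(X 0 0 + X 1 1)) • (1 : Matrix (Fin 2) (Fin 2) F) +
          ((-(X 1 0 - X 0 1)) • (!![0, -1; 1, 0] : Matrix (Fin 2) (Fin 2) F) +
          ((X 0 0 - X 1 1 + X 0 1 + X 1 0) • (!![1, 1; 1, -1] : Matrix (Fin 2) (Fin 2) F) +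
            ((-(X 0 0 - X 1 1) + X 0 1 + X 1 0) • (!![-1, 1; 1, 1] : Matrix (Fin 2) (Fin 2) F) + 0))) := by
        ext a b
        fin_cases a <;> fin_cases b <;> simp <;> grobner
      rw [e1]
      refine hlin' _ _ _ (hQ 1 (Or.inl rfl)) (hlin' _ _ _ (mk _ hI)
        (hlin' _ _ _ (mk _ hJ) (hlin' _ _ _ (mk _ hK) ?_)))
      rw [hzero]; exact zero_mem _
    have hunit : ∀ p r : Fin 3 → Fin 2, cj P ((Matrix.single p r (1 : F)).submatrix e e) ∈ spanAlg N := by
      intro p r
      have hs : pureMat (fun i => Matrix.single (p i) (r i) (1 : F)) = Matrix.single p r 1 := by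
        ext x y
        simp only [pureMat, Matrix.of_apply]
        by_cases h : p = x ∧ r = y
        · obtain ⟨rfl, rfl⟩ := h; simp
        · rw [Matrix.single_apply, if_neg h]
          obtain ⟨i, hi⟩ : ∃ i, ¬ (p i = x i ∧ r i = y i) := by
            by_contra hc
            push Not at hc
            exact h ⟨funext fun i => (hc i).1, funext fun i => (hc i).2⟩
          exact Finset.prod_eq_zero (Finset.mem_univ i) (by rw [Matrix.single_apply, if_neg hi])
      have hprod : pureMat (fun i => Matrix.single (p i) (r i) (1 : F)) =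
          pureAt 0 (Matrix.single (p 0) (r 0) 1) * pureAt 1 (Matrix.single (p 1) (r 1) 1) *
            pureAt 2 (Matrix.single (p 2) (r 2) 1) := by
        rw [pureAt, pureAt, pureAt, pureMat_mul, pureMat_mul]
        congr 1
        funext i
        fin_cases i <;> simp
      rw [← hs, hprod]
      rw [← Matrix.submatrix_mul_equiv _ _ _ e, ← Matrix.submatrix_mul_equiv _ _ _ e, map_mul, map_mul]
      exact mul_mem (mul_mem (hφ 0 _) (hφ 1 _)) (hφ 2 _)
    refine Algebra.eq_top_iff.2 fun x => ?_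
    have hx : x = ∑ p, ∑ r, ((cj P⁻¹ x).submatrix e.symm e.symm p r) •
        cj P ((Matrix.single p r (1 : F)).submatrix e e) := by
      apply (cj P⁻¹).injective
      simp only [map_sum, map_smul, cj_inv_cj]
      ext a b
      simp [Matrix.sum_apply, Matrix.single_apply, ite_and, Equiv.symm_apply_eq]
    rw [hx]
    exact sum_mem fun p _ => sum_mem fun r _ => Subalgebra.smul_mem _ (hunit p r) _
  -- minimality
  have hmin : ∀ M : Subgroup (GL ι F), Geo.scalars ι F ≤ M → M ≤ N →
      (∀ g ∈ H', ∀ x ∈ M, g * x * g⁻¹ ∈ M) → M = Geo.scalars ι F ∨ M = N := by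
    intro M hsM hMN hM
    by_cases hns : M ≤ Geo.scalars ι F
    · exact Or.inl (le_antisymm hns hsM)
    refine Or.inr (le_antisymm hMN ?_)
    obtain ⟨x, hxM, hxs⟩ := SetLike.not_le_iff_exists.1 hns
    obtain ⟨c, q, hq', rfl⟩ := memN x (hMN hxM)
    have hTq : T (pi q) ∈ M := by
      have := mul_mem (hsM (sc_mem c⁻¹)) hxM
      rwa [map_inv, inv_mul_cancel_left] at this
    obtain ⟨i, hi⟩ : ∃ i, IsTZOne (q i).val := by
      by_contra hno
      push Not at hno
      have hsign : ∀ i, ∃ d : F, (q i).val = d • 1 := fun i => by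
        rcases hq' i with h | h | h
        · exact ⟨1, by rw [h, one_smul]⟩
        · exact ⟨-1, by rw [h]; simp⟩
        · exact absurd h (hno i)
      choose d hd using hsign
      have hd0 : (∏ i, d i) ≠ 0 := Finset.prod_ne_zero_iff.2 fun i _ h => (q i).ne_zero (by
        rw [hd i, h, zero_smul])
      refine hxs (mul_mem (sc_mem c) ((Geo.mem_scalars_iff _).2 ⟨Units.mk0 _ hd0, ?_⟩))
      rw [hT, hpi, funext hd, pureMat_smul, pureMat_one]
      simp [Matrix.submatrix_smul, Matrix.submatrix_one_equiv]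
    -- an element of one factor
    have hat : ∀ g : GL (Fin 2) F, Function.update (fun _ : Fin 3 => (1 : GL (Fin 2) F)) i g * q *
        (Function.update (fun _ : Fin 3 => (1 : GL (Fin 2) F)) i g)⁻¹ * q⁻¹ =
        Function.update (fun _ => 1) i (g * q i * g⁻¹ * (q i)⁻¹) := fun g => funext fun j => by
      by_cases hj : j = i
      · subst hj; simp
      · simp [Function.update_of_ne hj]
    obtain ⟨Y, hY, hXY⟩ := exists_orth_tzOne hq hi
    obtain ⟨g, hg⟩ := exists_conj_tzOne hq hi hY
    set z := g * q i * g⁻¹ * (q i)⁻¹ with hzdef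
    have hz : IsTZOne z.val := by
      have hinv : ((q i)⁻¹).val = -(q i).val :=
        Units.inv_eq_of_mul_eq_one_right (by rw [mul_neg, hi.sq, neg_neg])
      rw [hzdef, Units.val_mul, Units.val_mul, Units.val_mul, hg, hinv, mul_neg,
        (hi.commutes hY hXY).2, neg_neg]
      exact (hi.commutes hY hXY).1
    have hzM : T (pi (Function.update (fun _ => 1) i z)) ∈ M := by
      rw [hzdef, ← hat g]
      simp only [map_mul, map_inv]
      exact mul_mem (hM _ (hpure _) _ hTq) (inv_mem hTq)
    have hall : ∀ (j : Fin 3) (w : GL (Fin 2) F), InQ8 w →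
        T (pi (Function.update (fun _ => 1) j w)) ∈ M := by
      intro j w hw
      have hone : ∀ w : GL (Fin 2) F, IsTZOne w.val →
          T (pi (Function.update (fun _ => 1) j w)) ∈ M := by
        intro w hw
        obtain ⟨g, hg⟩ := exists_conj_tzOne hq hz hw
        have hgz : g * z * g⁻¹ = w := Units.ext (by rw [Units.val_mul, Units.val_mul, hg])
        have h1 := hM _ (hpure (Function.update (fun _ => 1) i g)) _ hzM
        rw [← map_inv, ← map_inv, ← map_mul, ← map_mul, ← map_mul, ← map_mul,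
          show Function.update (fun _ : Fin 3 => (1 : GL (Fin 2) F)) i g *
            Function.update (fun _ => 1) i z * (Function.update (fun _ => 1) i g)⁻¹ =
              Function.update (fun _ => 1) i w from funext fun l => by
            by_cases hl : l = i
            · subst hl; simp [hgz]
            · simp [Function.update_of_ne hl]] at h1
        have h2 := hM _ (hperm (Equiv.swap i j)) _ h1
        rw [← map_inv, ← map_mul, ← map_mul,
          show permGL (factorPerm (Equiv.swap i j)) * pi (Function.update (fun _ => 1) i w) *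
            (permGL (factorPerm (Equiv.swap i j)))⁻¹ = pi (Function.update (fun _ => 1) j w) from by
            rw [mul_inv_eq_iff_eq_mul]
            refine Eq.trans ?_ (pureGL_mul_perm (Equiv.swap i j) _).symm
            refine congrArg (fun u => permGL (factorPerm (Equiv.swap i j)) * pi u) (funext fun l => ?_)
            by_cases hl : l = i
            · subst hl; simp
            · rw [Function.update_of_ne hl, Function.update_of_ne]
              intro h
              exact hl ((Equiv.swap i j).injective (h.trans (Equiv.swap_apply_left i j).symm))] at h2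
        exact h2
      rcases hw with h | h | h
      · rw [show w = 1 from Units.ext h,
          show Function.update (fun _ : Fin 3 => (1 : GL (Fin 2) F)) j 1 = 1 from
            Function.update_eq_self j _]
        simp only [map_one]
        exact one_mem _
      · obtain ⟨Z, hZ, -⟩ := exists_orth_tzOne hq hi
        have hu : IsUnit Z.det := by rw [hZ.2]; exact isUnit_one
        set u : GL (Fin 2) F := Matrix.GeneralLinearGroup.mkOfDetNeZero Z hu.ne_zero
        have hu2 : u * u = w := Units.ext (by rw [Units.val_mul, h]; exact hZ.sq)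
        have := mul_mem (hone u hZ) (hone u hZ)
        rw [← map_mul, ← map_mul, show Function.update (fun _ : Fin 3 => (1 : GL (Fin 2) F)) j u *
            Function.update (fun _ => 1) j u = Function.update (fun _ => 1) j w from funext fun l => by
          by_cases hl : l = j
          · subst hl; simp [hu2]
          · simp [Function.update_of_ne hl]] at this
        exact this
      · exact hone w h
    refine sup_le hsM ?_
    rintro _ ⟨_, ⟨b, hb, rfl⟩, rfl⟩
    have hb3 : b = Function.update (fun _ => 1) 0 (b 0) * Function.update (fun _ => 1) 1 (b 1) *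
        Function.update (fun _ => 1) 2 (b 2) := funext fun l => by fin_cases l <;> simp
    rw [hb3, map_mul, map_mul, map_mul, map_mul]
    exact mul_mem (mul_mem (hall 0 _ (hb 0 (Set.mem_univ _))) (hall 1 _ (hb 1 (Set.mem_univ _))))
      (hall 2 _ (hb 2 (Set.mem_univ _)))
  have hle : N ≤ H' := by
    refine sup_le hscal ?_
    rintro _ ⟨_, ⟨b, -, rfl⟩, rfl⟩
    exact hpure b
  have Sab : AbSetup H' N := ⟨le_sup_left, hle, hnormal, hmin, hcomm, htop, by
    rw [Fintype.card_congr e]; simp⟩
  cases sympAbCase Sab hf inf_le_right with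
  | subfield h =>
    exfalso
    obtain ⟨F₁, r, -, -, -, hr, hc, -⟩ := h.exists_prime
    rw [hq] at hc
    rcases Nat.lt_or_ge (Nat.card F₁) 2 with h | h
    · have : Nat.card F₁ ^ r ≤ 1 := pow_le_one₀ (Nat.zero_le _) (by omega)
      omega
    · have : 2 ^ 2 ≤ Nat.card F₁ ^ r :=
        (Nat.pow_le_pow_left h 2).trans (Nat.pow_le_pow_right (by omega) hr.two_le)
      omega
  | symplType hk htype habs hRsim hp hodd hqp hR hC hminus h =>
    rename_i R p k
    obtain rfl : k = 3 := by
      rw [Fintype.card_congr e] at hk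
      simp at hk
      exact (Nat.pow_right_injective le_rfl (show 2 ^ 3 = 2 ^ k from hk)).symm
    exact ⟨R, htype, habs, hRsim, hR, hC, hminus, h⟩

end Cfsg.Agent.Aschbacher
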