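import Cfsg.Agent.Lib.Aschbacher.SympRefine
import Cfsg.Agent.Lib.Transvec.QuadGen

/-!
A four-dimensional symmetric factor of plus type splits as a product of two alternating planes.
-/

set_option autoImplicit false
set_option linter.style.haveILetI false

namespace Cfsg.Agent.Aschbacher

open scoped MatrixGroups Matrix Kronecker
open Matrix

section Refl

open Cfsg.Agent.Transvec Cfsg.Agent.Transvec.Orth

variable {ι : Type} [Fintype ι] [DecidableEq ι] {F : Type*} [Field F] {Q : (ι → F) → F}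

/-- In odd characteristic the isometries are products of reflections. -/
theorem isometry_le_refl (hQ : Geo.IsNondegenerateQuadraticForm Q) (h2 : (2 : F) ≠ 0)
    {T : Subgroup (GL ι F)}
    (hT : ∀ r a, r ∈ isometryGroup F Q → IsRefl Q r a → r ∈ T) : isometryGroup F Q ≤ T := by
  suffices H : ∀ (X : Submodule F (ι → F)), Nondeg Q X → ∀ g ∈ isometryGroup F Q,
      (∀ z, (∀ x ∈ X, pol Q z x = 0) → mv g z = z) → g ∈ T by
    intro g hg
    refine H ⊤ (nondeg_top hQ) g hg fun z hz => ?_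
    rw [show z = 0 from nondeg_top hQ z Submodule.mem_top fun w hw => by rw [pol_comm]; exact hz w hw,
      mv_zero]
  intro X
  generalize hd : Module.finrank F X = d
  induction d using Nat.strong_induction_on generalizing X with
  | _ d ih =>
    intro hX g hg hfix
    by_cases hX0 : X = ⊥
    · rw [show g = 1 from ext_mv fun z => by
        rw [mv_one]
        exact hfix z fun x hx => by rw [hX0, Submodule.mem_bot] at hx; rw [hx, pol_zero_right hQ]]
      exact T.one_mem
    obtain ⟨v, hv, hvq⟩ := exists_anisotropic hQ hX hX0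
    have hv' : mv g v ∈ X := mv_mem_of_fix hQ hX hg hfix hv
    obtain ⟨t, htT, ht, htv, htf⟩ : ∃ t ∈ T, t ∈ isometryGroup F Q ∧ mv t (mv g v) = v ∧
        ∀ z, (∀ x ∈ X, pol Q z x = 0) → mv t z = z := by
      have hqv : Q (mv g v) = Q v := mem_isometry.1 hg v
      by_cases h1 : Q (mv g v - v) = 0
      · have h3 : Q (mv g v + v) ≠ 0 := fun h => by
          rw [q_add hQ, hqv] at h
          rw [q_sub hQ, hqv] at h1
          exact mul_ne_zero (mul_ne_zero h2 h2) hvq (by linear_combination h + h1)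
        obtain ⟨r, hr, hr'⟩ := exists_refl hQ (a := mv g v - -v) (by rwa [sub_neg_eq_add])
        obtain ⟨s, hs, hs'⟩ := exists_refl hQ (a := v) hvq
        refine ⟨s * r, T.mul_mem (hT _ _ hs hs') (hT _ _ hr hr'), Subgroup.mul_mem _ hs hr, ?_,
          fun z hz => ?_⟩
        · rw [mv_mul, isRefl_move hQ (by rw [hqv, q_neg hQ]) hr', hs'.2, pol_neg_left hQ, pol_self hQ,
            neg_div, mul_div_assoc, div_self hvq, mul_one, neg_smul, sub_neg_eq_add, two_smul]
          abel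
        · rw [mv_mul, isRefl_fix hr' (hz _ (X.sub_mem hv' (X.neg_mem hv))), isRefl_fix hs' (hz _ hv)]
      · obtain ⟨r, hr, hr'⟩ := exists_refl hQ (a := mv g v - v) h1
        exact ⟨r, hT _ _ hr hr', hr, isRefl_move hQ hqv hr',
          fun z hz => isRefl_fix hr' (hz _ (X.sub_mem hv' hv))⟩
    have hpv : pol Q v v ≠ 0 := by rw [pol_self hQ]; exact mul_ne_zero h2 hvq
    have hv0 : v ≠ 0 := fun h => hpv (by rw [h, pol_zero_left hQ])
    have hU : Nondeg Q (Submodule.span F {v}) := fun u hu h => by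
      obtain ⟨a, rfl⟩ := Submodule.mem_span_singleton.1 hu
      have h' := h v (Submodule.mem_span_singleton_self v)
      rw [pol_smul_right hQ] at h'
      rw [(mul_eq_zero.1 h').resolve_right hpv, zero_smul]
    have hUX : Submodule.span F {v} ≤ X := (Submodule.span_singleton_le_iff_mem _ _).2 hv
    have hfr := finrank_inf_orth_add hQ hU hUX
    rw [finrank_span_singleton hv0] at hfr
    have hmem := ih _ (by omega) (X ⊓ Orth.orth hQ (Submodule.span F {v})) rfl
      (nondeg_inf_orth hQ hU hX hUX) (t * g) (Subgroup.mul_mem _ ht hg) fun z hz => by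
        obtain ⟨q, hq, hzq⟩ := exists_proj hQ hU z
        obtain ⟨a, rfl⟩ := Submodule.mem_span_singleton.1 hq
        have hfq : mv (t * g) (a • v) = a • v := by rw [mv_smul, mv_mul, htv]
        have hfx : ∀ x ∈ X, pol Q (z - a • v) x = 0 := fun x hx => by
          obtain ⟨q', hq', hxq⟩ := exists_proj hQ hU x
          rw [show x = q' + (x - q') by abel, pol_add_right hQ, pol_comm _ q', hzq q' hq', zero_add,
            pol_sub_left hQ, hz _ ⟨X.sub_mem hx (hUX hq'), hxq⟩,
            hxq (a • v) (Submodule.smul_mem _ _ (Submodule.mem_span_singleton_self v)), sub_zero]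
        have hfr' : mv (t * g) (z - a • v) = z - a • v := by
          rw [mv_mul, hfix _ hfx, htf _ hfx]
        rw [show z = a • v + (z - a • v) by abel, mv_add, hfq, hfr']
    have := T.mul_mem (T.inv_mem htT) hmem
    rwa [inv_mul_cancel_left] at this

end Refl

variable {F : Type*} [Field F]

/-- The determinant as a quadratic form on 2 × 2 arrays. -/
def detQ (x : Fin 2 × Fin 2 → F) : F := x (0, 0) * x (1, 1) - x (0, 1) * x (1, 0)

lemma pol_detQ (x y : Fin 2 × Fin 2 → F) : QuadraticMap.polar detQ x y =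
    x (0, 0) * y (1, 1) + x (1, 1) * y (0, 0) - x (0, 1) * y (1, 0) - x (1, 0) * y (0, 1) := by
  simp [QuadraticMap.polar, detQ]; ring

lemma pol_detQ_formOf (x y : Fin 2 × Fin 2 → F) :
    QuadraticMap.polar detQ x y = formOf (J2 F ⊗ₖ J2 F) x y := by
  rw [pol_detQ]
  simp [formOf, J2, dotProduct, Matrix.mulVec, Fintype.sum_prod_type, Fin.sum_univ_two]
  ring

lemma detQ_nondeg : Geo.IsNondegenerateQuadraticForm (detQ (F := F)) where
  smul c v := by simp [detQ]; ring
  polar_bilinear := by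
    rw [show QuadraticMap.polar detQ = formOf (J2 F ⊗ₖ J2 F) from
      funext fun x => funext fun y => pol_detQ_formOf x y]
    exact formOf_bilinear _
  nondegenerate := by
    intro v hv
    have key : ∃ x, QuadraticMap.polar detQ x v ≠ 0 := by
      by_contra h
      push Not at h
      refine hv (funext fun p => ?_)
      obtain ⟨a, b⟩ := p
      have h1 := h (Pi.single (0, 0) 1)
      have h2 := h (Pi.single (0, 1) 1)
      have h3 := h (Pi.single (1, 0) 1)
      have h4 := h (Pi.single (1, 1) 1)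
      simp [pol_detQ] at h1 h2 h3 h4
      fin_cases a <;> fin_cases b <;> simp [h1, h2, h3, h4]
    obtain ⟨x, hx⟩ := key
    exact ⟨⟨x, hx⟩, ⟨x, by rwa [QuadraticMap.polar_comm]⟩⟩

/-- The exchange of the two factors. -/
abbrev swapGL : GL (Fin 2 × Fin 2) F := permGL (Equiv.prodComm _ _)

lemma swap_cj (x y : Matrix (Fin 2) (Fin 2) F) :
    cj (swapGL (F := F)) (x ⊗ₖ y) = y ⊗ₖ x := by
  rw [cj_permGL]
  ext ⟨a, b⟩ ⟨c, d⟩
  simp [mul_comm]

/-- Products of two factors, possibly exchanged. -/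
def pairGroup (F : Type*) [Field F] : Subgroup (GL (Fin 2 × Fin 2) F) :=
  Subgroup.closure {g | (∃ x y : GL (Fin 2) F, g = kronGL x y) ∨ g = swapGL}

/-- The reflections of the determinant form are products of two factors and the exchange. -/
lemma refl_mem_pairGroup {r : GL (Fin 2 × Fin 2) F} {a : Fin 2 × Fin 2 → F}
    (h : Transvec.Orth.IsRefl detQ r a) : r ∈ pairGroup F := by
  obtain ⟨ha, hr⟩ := h
  let A : Matrix (Fin 2) (Fin 2) F := Matrix.of fun i j => a (i, j)
  have hA : A.det = detQ a := by simp [A, detQ, Matrix.det_fin_two]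
  have hJ : (J2 F).det = 1 := by simp [J2, Matrix.det_fin_two]
  let x : GL (Fin 2) F := Matrix.GeneralLinearGroup.mkOfDetNeZero ((detQ a)⁻¹ • (A * J2 F)) (by
    rw [Matrix.det_smul, Matrix.det_mul, hA, hJ, mul_one]
    exact mul_ne_zero (pow_ne_zero _ (inv_ne_zero ha)) ha)
  let y : GL (Fin 2) F := Matrix.GeneralLinearGroup.mkOfDetNeZero ((J2 F * A)ᵀ) (by
    rw [Matrix.det_transpose, Matrix.det_mul, hA, hJ, one_mul]
    exact ha)
  have e : r = kronGL x y * swapGL := Transvec.ext_mv fun z => by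
    rw [hr z, Transvec.mv_mul]
    show _ = (x.val ⊗ₖ y.val) *ᵥ ((1 : Matrix (Fin 2 × Fin 2) (Fin 2 × Fin 2) F).submatrix
      (Equiv.prodComm (Fin 2) (Fin 2)) id *ᵥ z)
    have hs : ((1 : Matrix (Fin 2 × Fin 2) (Fin 2 × Fin 2) F).submatrix
        (Equiv.prodComm (Fin 2) (Fin 2)) id) *ᵥ z = fun p => z (p.2, p.1) := funext fun p => by
      simp [Matrix.mulVec, dotProduct, Matrix.one_apply]
      rfl
    rw [hs]
    funext p
    obtain ⟨i, j⟩ := p
    simp only [Transvec.Orth.pol, pol_detQ, Pi.sub_apply, Pi.smul_apply, smul_eq_mul]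
    fin_cases i <;> fin_cases j <;>
      simp [x, y, A, J2, Matrix.mulVec, dotProduct, Fintype.sum_prod_type, Fin.sum_univ_two,
        Matrix.mul_apply, Matrix.kroneckerMap_apply, Matrix.vecHead, Matrix.vecTail] <;>
      field_simp <;> simp [detQ] <;> ring
  rw [e]
  exact Subgroup.mul_mem _ (Subgroup.subset_closure (Or.inl ⟨x, y, rfl⟩))
    (Subgroup.subset_closure (Or.inr rfl))

/-- Similitudes of `J ⊗ J` are products of two factors, possibly exchanged. -/
lemma similitude_mem_pairGroup (h2 : (2 : F) ≠ 0) {g : GL (Fin 2 × Fin 2) F} {μ : F} (hμ : μ ≠ 0)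
    (hg : g.valᵀ * (J2 F ⊗ₖ J2 F) * g.val = μ • (J2 F ⊗ₖ J2 F)) : g ∈ pairGroup F := by
  have hq : ∀ v : Fin 2 × Fin 2 → F, 2 * detQ v = formOf (J2 F ⊗ₖ J2 F) v v := fun v => by
    rw [← pol_detQ_formOf]; exact (Transvec.Orth.pol_self detQ_nondeg v).symm
  let d : GL (Fin 2) F := Matrix.GeneralLinearGroup.mkOfDetNeZero !![μ, 0; 0, 1] (by
    simp [Matrix.det_fin_two, hμ])
  set D : GL (Fin 2 × Fin 2) F := kronGL d 1 with hD
  have hDQ : ∀ v, detQ (D.val *ᵥ v) = μ * detQ v := fun v => by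
    simp [D, d, kronGL, detQ, Matrix.mulVec, dotProduct, Fintype.sum_prod_type, Fin.sum_univ_two,
      Matrix.kroneckerMap_apply]
    ring
  have hgQ : ∀ v, detQ (g.val *ᵥ v) = μ * detQ v := fun v => by
    refine mul_left_cancel₀ h2 ?_
    rw [mul_left_comm, hq, hq, formOf_mulVec, hg]
    simp [formOf, Matrix.smul_mulVec, dotProduct_smul]
  have hiso : D⁻¹ * g ∈ isometryGroup F (detQ (F := F)) := Transvec.Orth.mem_isometry.2 fun z => by
    refine mul_left_cancel₀ hμ ?_
    rw [← hDQ, ← hgQ, show Transvec.mv (D⁻¹ * g) z = (D⁻¹ * g).val *ᵥ z from rfl,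
      Matrix.mulVec_mulVec, ← Units.val_mul, mul_inv_cancel_left]
  have h := isometry_le_refl detQ_nondeg h2 (T := pairGroup F)
    (fun r a _ hr => refl_mem_pairGroup hr) hiso
  have hDm : D ∈ pairGroup F := Subgroup.subset_closure (Or.inl ⟨d, 1, rfl⟩)
  simpa using Subgroup.mul_mem _ hDm h

variable {ι : Type} [Fintype ι] [DecidableEq ι] [Fintype F]

open Cfsg.Agent.Transvec.Orth in
/-- A symmetric form of plus type in dimension four is a product of two alternating planes. -/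
lemma exists_jj_basis (h2 : (2 : F) ≠ 0) {f₂ : (Fin 4 → F) → (Fin 4 → F) → F}
    (hf₂ : Geo.IsSymmetricForm f₂) (hplus : Geo.IsPlusTypeOn (fun v => f₂ v v) ⊤) :
    ∃ L : (Fin 2 × Fin 2 → F) →ₗ[F] (Fin 4 → F), Function.Injective L ∧
      ∀ x y, 2 * f₂ (L x) (L y) = formOf (J2 F ⊗ₖ J2 F) x y := by
  set Q : (Fin 4 → F) → F := fun v => f₂ v v with hQdef
  have hpol : ∀ u v, QuadraticMap.polar Q u v = 2 * f₂ u v := fun u v => by
    simp only [QuadraticMap.polar, Q, hf₂.bilinear.add_left, hf₂.bilinear.add_right, hf₂.symm v u]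
    ring
  have hpol' : QuadraticMap.polar Q = fun u v => 2 * f₂ u v := funext fun u => funext fun v => hpol u v
  have hQ : Geo.IsNondegenerateQuadraticForm Q := by
    refine ⟨fun c v => ?_, ?_, fun v hv => ?_⟩
    · simp only [Q, hf₂.bilinear.smul_left, hf₂.bilinear.smul_right]; ring
    · rw [hpol']
      exact ⟨fun x y v => by rw [hf₂.bilinear.add_left]; ring,
        fun c x v => by rw [hf₂.bilinear.smul_left]; ring,
        fun v x y => by rw [hf₂.bilinear.add_right]; ring,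
        fun c v x => by rw [hf₂.bilinear.smul_right]; ring⟩
    · obtain ⟨⟨x, hx⟩, ⟨y, hy⟩⟩ := hf₂.nondegenerate v hv
      exact ⟨⟨x, by rw [hpol]; exact mul_ne_zero h2 hx⟩, ⟨y, by rw [hpol]; exact mul_ne_zero h2 hy⟩⟩
  obtain ⟨U, -, hU, hUdim⟩ := hplus
  rw [finrank_top, Module.finrank_fin_fun] at hUdim
  have hUdim' : Module.finrank F U = 2 := by omega
  have hUq : ∀ u ∈ U, Q u = 0 := hU
  obtain ⟨e₁, he₁, he₁0⟩ := U.ne_bot_iff.1 (fun h => by rw [h, finrank_bot] at hUdim'; omega)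
  obtain ⟨d₁, -, hd₁, hed₁⟩ := exists_partner hQ (nondeg_top hQ) (Submodule.mem_top : e₁ ∈ _) he₁0
    (hUq _ he₁)
  obtain ⟨hP, hP2⟩ := nondeg_pair hQ (hUq _ he₁) hd₁ hed₁
  set P := Submodule.span F ({e₁, d₁} : Set (Fin 4 → F))
  set X := (⊤ : Submodule F (Fin 4 → F)) ⊓ orth hQ P
  have hX : Nondeg Q X := nondeg_inf_orth hQ hP (nondeg_top hQ) le_top
  obtain ⟨u, hu, hu'⟩ : ∃ u ∈ U, u ∉ Submodule.span F {e₁} := by
    by_contra h
    push Not at h
    have := Submodule.finrank_mono (h : U ≤ _)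
    rw [hUdim', finrank_span_singleton he₁0] at this
    omega
  have hUo : ∀ a ∈ U, ∀ b ∈ U, pol Q a b = 0 := fun a ha b hb => by
    have h := q_add hQ a b
    rw [hUq _ (U.add_mem ha hb), hUq _ ha, hUq _ hb, zero_add, zero_add] at h
    exact h.symm
  set e₂ := u - pol Q d₁ u • e₁ with he₂
  have he₂U : e₂ ∈ U := U.sub_mem hu (U.smul_mem _ he₁)
  have he₂X : e₂ ∈ X := by
    refine ⟨Submodule.mem_top, (mem_orth_span hQ).2 ?_⟩
    intro z hz
    rcases hz with hz | hz <;> rw [hz]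
    · exact hUo _ he₁ _ he₂U
    · rw [he₂, pol_sub_right hQ, pol_smul_right hQ, pol_comm d₁ e₁, hed₁, mul_one, sub_self]
  have he₂0 : e₂ ≠ 0 := fun h => hu' (by
    rw [sub_eq_zero.1 h]
    exact Submodule.smul_mem _ _ (Submodule.mem_span_singleton_self _))
  obtain ⟨d₂, hd₂X, hd₂, hed₂⟩ := exists_partner hQ hX he₂X he₂0 (hUq _ he₂U)
  have o1 : pol Q e₁ e₂ = 0 := hUo _ he₁ _ he₂U
  have o2 : pol Q d₁ e₂ = 0 := he₂X.2 _ (Submodule.subset_span (Or.inr rfl))
  have o3 : pol Q e₁ d₂ = 0 := hd₂X.2 _ (Submodule.subset_span (Or.inl rfl))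
  have o4 : pol Q d₁ d₂ = 0 := hd₂X.2 _ (Submodule.subset_span (Or.inr rfl))
  let L : (Fin 2 × Fin 2 → F) →ₗ[F] (Fin 4 → F) :=
    (LinearMap.proj (0, 0)).smulRight e₁ + (LinearMap.proj (1, 1)).smulRight d₁ +
      (LinearMap.proj (0, 1)).smulRight e₂ - (LinearMap.proj (1, 0)).smulRight d₂
  have hLx : ∀ x, L x = x (0, 0) • e₁ + x (1, 1) • d₁ + x (0, 1) • e₂ - x (1, 0) • d₂ := fun x => rfl
  have hLQ : ∀ x, Q (L x) = detQ x := fun x => by
    rw [hLx, q_sub hQ, q_add hQ, q_add hQ, q_smul hQ, q_smul hQ, q_smul hQ, q_smul hQ]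
    simp only [pol_add_left hQ, pol_smul_left hQ, pol_smul_right hQ, hUq _ he₁, hd₁, hUq _ he₂U, hd₂,
      hed₁, hed₂, o1, o2, o3, o4, detQ]
    ring
  have hB : ∀ x y, 2 * f₂ (L x) (L y) = formOf (J2 F ⊗ₖ J2 F) x y := fun x y => by
    rw [← hpol, ← pol_detQ_formOf]
    simp only [QuadraticMap.polar, ← map_add, hLQ]
  refine ⟨L, (injective_iff_map_eq_zero L).2 fun x hx => ?_, hB⟩
  by_contra hx0
  obtain ⟨⟨y, hy⟩, -⟩ := (detQ_nondeg (F := F)).nondegenerate x hx0
  refine hy ?_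
  rw [pol_detQ_formOf, ← hB, hx, hf₂.symm,
    show (0 : Fin 4 → F) = (0 : F) • L y from (zero_smul F _).symm, hf₂.bilinear.smul_left, zero_mul,
    mul_zero]

/-- The stabiliser of a decomposition 2 ⊗ 4 with a factor of plus type stabilises a tensor cube. -/
lemma wreath_of_tensor_plus {f : (ι → F) → (ι → F) → F} (h2 : (2 : F) ≠ 0)
    {e : ι ≃ Fin 2 × Fin 4} {P : GL ι F} {f₁ : (Fin 2 → F) → (Fin 2 → F) → F}
    {f₂ : (Fin 4 → F) → (Fin 4 → F) → F} (hf₁ : Geo.IsSymplecticForm f₁) (hf₂ : Geo.IsSymmetricForm f₂)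
    (hplus : Geo.IsPlusTypeOn (fun v => f₂ v v) ⊤) (hstr : Geo.IsTensorFormStructure id f f₁ f₂ e P) :
    ∃ (e' : ι ≃ (Fin 3 → Fin 2)) (P' : GL ι F) (g₁ : (Fin 2 → F) → (Fin 2 → F) → F),
      Geo.IsSymplecticForm g₁ ∧ Geo.IsTensorPowerFormStructure id f g₁ e' P' ∧
      ∀ g ∈ Geo.tensorProductSubgroup 2 4 e P, g ∈ Geo.similarityGroup f →
        g ∈ Geo.tensorWreathSubgroup 2 3 e' P' := by
  classical
  obtain ⟨L, hLinj, hL⟩ := exists_jj_basis h2 hf₂ hplus
  obtain ⟨c₀, hc₀, hform⟩ := hstr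
  set A := Geo.gramMatrix f₁ with hAdef
  set B := Geo.gramMatrix f₂ with hBdef
  have hfA : f₁ = formOf A := exists_gram (σ := RingEquiv.refl F) hf₁.bilinear.add_left
    hf₁.bilinear.smul_left hf₁.bilinear.add_right hf₁.bilinear.smul_right
  have hfB : f₂ = formOf B := exists_gram (σ := RingEquiv.refl F) hf₂.bilinear.add_left
    hf₂.bilinear.smul_left hf₂.bilinear.add_right hf₂.bilinear.smul_right
  -- A is a multiple of J
  have hA : A = A 0 1 • J2 F := by
    have hd : ∀ v, f₁ v v = 0 := hf₁.alternating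
    have h10 : A 1 0 = -A 0 1 := hf₁.skew _ _
    have h00 : A 0 0 = 0 := hd _
    have h11 : A 1 1 = 0 := hd _
    ext i j
    fin_cases i <;> fin_cases j <;> simp [J2, h10, h00, h11]
  have hα : A 0 1 ≠ 0 := fun h => by
    obtain ⟨v, hv⟩ := exists_ne (0 : Fin 2 → F)
    obtain ⟨⟨x, hx⟩, -⟩ := hf₁.nondegenerate v hv
    exact hx (by rw [hfA, hA, h, zero_smul]; simp [formOf])
  -- the change of coordinates in the second factor
  let e4 : Fin 2 × Fin 2 ≃ Fin 4 := finProdFinEquiv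
  let M : Matrix (Fin 4) (Fin 2 × Fin 2) F := LinearMap.toMatrix' L
  let M₀ : Matrix (Fin 2 × Fin 2) (Fin 2 × Fin 2) F := M.submatrix e4 id
  have hLv : ∀ x, L x = M *ᵥ x := fun x => (LinearMap.toMatrix'_mulVec L x).symm
  have hM₀v : ∀ x, M₀ *ᵥ x = (L x) ∘ e4 := fun x => by rw [hLv]; rfl
  have hM₀u : IsUnit M₀ := by
    rw [← Matrix.mulVec_injective_iff_isUnit]
    intro x y h
    rw [hM₀v, hM₀v] at h
    exact hLinj (funext fun i => by simpa using congrFun h (e4.symm i))
  set MU : GL (Fin 2 × Fin 2) F := hM₀u.unit with hMUdef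
  have hMU : MU.val = M₀ := rfl
  set B₀ := B.submatrix e4 e4 with hB₀
  have hMB : M₀ᵀ * B₀ * M₀ = (2 : F)⁻¹ • (J2 F ⊗ₖ J2 F) := by
    refine gram_ext (σ := RingEquiv.refl F) fun x y => ?_
    show formOf _ x y = formOf _ x y
    rw [← formOf_mulVec, hM₀v, hM₀v]
    have h : formOf B₀ ((L x) ∘ e4) ((L y) ∘ e4) = f₂ (L x) (L y) := by
      rw [hfB]
      simp only [formOf, hB₀, Matrix.submatrix_mulVec_equiv, Function.comp_assoc, Equiv.self_comp_symm,
        Function.comp_id]
      exact Equiv.sum_comp e4 fun i => L x i * (B *ᵥ L y) i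
    rw [h]
    simp only [formOf, Matrix.smul_mulVec, dotProduct_smul, smul_eq_mul]
    show _ = _ * formOf _ x y
    rw [← hL, inv_mul_cancel_left₀ h2]
  -- the new coordinates
  let t : Fin 2 × (Fin 2 × Fin 2) ≃ (Fin 3 → Fin 2) :=
    { toFun := fun p => ![p.1, p.2.1, p.2.2]
      invFun := fun x => (x 0, x 1, x 2)
      left_inv := fun p => rfl
      right_inv := fun x => funext fun i => by fin_cases i <;> rfl }
  let e₂ : ι ≃ Fin 2 × (Fin 2 × Fin 2) := e.trans (Equiv.prodCongr (Equiv.refl _) e4.symm)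
  let R : GL ι F := Units.map (kembR e₂ (1 : GL ι F)).toRingHom.toMonoidHom MU
  have hR : R.val = ((1 : Matrix (Fin 2) (Fin 2) F) ⊗ₖ M₀).submatrix e₂ e₂ := by
    show kembR e₂ (1 : GL ι F) MU.val = _
    rw [kembR_apply, cj_apply, hMU]
    simp
  let e' : ι ≃ (Fin 3 → Fin 2) := e₂.trans t
  have he₂ : ∀ x : Fin 2 × Fin 4 → F, x ∘ e = (fun p => x (p.1, e4 p.2)) ∘ e₂ := fun x => funext fun i => by
    simp [e₂]
  have hpure : ∀ x y z : Matrix (Fin 2) (Fin 2) F,
      pureMat ![x, y, z] = (x ⊗ₖ (y ⊗ₖ z)).submatrix t.symm t.symm := fun x y z => by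
    ext p r
    simp only [pureMat, Matrix.of_apply, Fin.prod_univ_three, Matrix.submatrix_apply,
      Matrix.kroneckerMap_apply]
    show x (p 0) (r 0) * y (p 1) (r 1) * z (p 2) (r 2) =
      x (p 0) (r 0) * (y (p 1) (r 1) * z (p 2) (r 2))
    exact mul_assoc _ _ _
  have hform₂ : ∀ x y, f (P.val *ᵥ (x ∘ e₂)) (P.val *ᵥ (y ∘ e₂)) =
      c₀ * formOf (A ⊗ₖ B₀) x y := fun x y => by
    have hx : x ∘ e₂ = (fun p => x (p.1, e4.symm p.2)) ∘ e := funext fun i => by simp [e₂, Prod.map]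
    have hy : y ∘ e₂ = (fun p => y (p.1, e4.symm p.2)) ∘ e := funext fun i => by simp [e₂, Prod.map]
    rw [hx, hy, hform]
    congr 1
    simp only [Geo.formOfGram, formOf, dotProduct, Matrix.mulVec, id_eq, Finset.mul_sum, hB₀,
      Matrix.kroneckerMap_apply, Matrix.submatrix_apply]
    refine (Fintype.sum_equiv ((Equiv.refl _).prodCongr e4) _ _ fun u => ?_).symm
    refine Fintype.sum_equiv ((Equiv.refl _).prodCongr e4) _ _ fun w => ?_
    simp only [Equiv.prodCongr_apply, Equiv.coe_refl, Prod.map_fst, Prod.map_snd, id_eq,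
      Equiv.symm_apply_apply]
    ring
  have hform₃ : ∀ x y, f ((P * R).val *ᵥ (x ∘ e₂)) ((P * R).val *ᵥ (y ∘ e₂)) =
      c₀ * (A 0 1 * (2 : F)⁻¹) * formOf (J2 F ⊗ₖ (J2 F ⊗ₖ J2 F)) x y := fun x y => by
    have hx : ∀ z : Fin 2 × (Fin 2 × Fin 2) → F, (P * R).val *ᵥ (z ∘ e₂) =
        P.val *ᵥ ((((1 : Matrix (Fin 2) (Fin 2) F) ⊗ₖ M₀) *ᵥ z) ∘ e₂) := fun z => by
      rw [Units.val_mul, ← Matrix.mulVec_mulVec, hR, Matrix.submatrix_mulVec_equiv,
        Function.comp_assoc, Equiv.self_comp_symm, Function.comp_id]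
    rw [hx, hx, hform₂, formOf_mulVec, ← Matrix.kroneckerMap_transpose, Matrix.transpose_one,
      ← Matrix.mul_kronecker_mul, ← Matrix.mul_kronecker_mul, one_mul, mul_one, hMB]
    conv_lhs => rw [hA]
    rw [Matrix.smul_kronecker, Matrix.kronecker_smul, smul_smul]
    simp only [formOf, Matrix.smul_mulVec, dotProduct_smul, smul_eq_mul]
    ring
  refine ⟨e', P * R, formOf (J2 F), formOf_symplectic J2_isUnit J2_transpose (by
    intro i; fin_cases i <;> simp [J2]), ⟨c₀ * (A 0 1 * (2 : F)⁻¹),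
      mul_ne_zero hc₀ (mul_ne_zero hα (inv_ne_zero h2)), fun x y => ?_⟩, ?_⟩
  · have hcomp : ∀ z : (Fin 3 → Fin 2) → F, z ∘ e' = (z ∘ t) ∘ e₂ := fun z => rfl
    rw [hcomp, hcomp, hform₃]
    congr 1
    have hg : Geo.gramMatrix (formOf (J2 F)) = J2 F := by
      rw [← sesqOf_refl, gramMatrix_sesqOf]
    have hp : J2 F ⊗ₖ (J2 F ⊗ₖ J2 F) = (pureMat fun _ : Fin 3 => J2 F).submatrix t t := by
      rw [show (fun _ : Fin 3 => J2 F) = ![J2 F, J2 F, J2 F] from funext fun i => by fin_cases i <;> rfl,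
        hpure, Matrix.submatrix_submatrix, Equiv.symm_comp_self, Matrix.submatrix_id_id]
    rw [hp, hg]
    simp only [formOf, dotProduct, Matrix.mulVec, Finset.mul_sum, Matrix.submatrix_apply, pureMat,
      Matrix.of_apply, Function.comp_apply, id_eq]
    refine Fintype.sum_equiv t _ _ fun a => Fintype.sum_equiv t _ _ fun b => ?_
    ring
  · rintro g ⟨_, ⟨k, ⟨a, b, hk⟩, rfl⟩, rfl⟩ hsim
    set g : GL ι F := (MulAut.conj P).toMonoidHom ((Geo.glReindex e.symm).toMonoidHom k)
    have hgv : g.val = cj P ((a.val ⊗ₖ (b.val.submatrix e4 e4)).submatrix e₂ e₂) := by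
      have hk' : g.val = cj P ((a.val ⊗ₖ b.val).submatrix e e) := by
        rw [← hk]; simp [g, cj_apply, Geo.glReindex]
      rw [hk']
      congr 1
      ext i j
      simp [e₂]
    set b₀ := b.val.submatrix e4 e4 with hb₀
    have hb₀u : IsUnit b₀ := (Matrix.isUnit_submatrix_equiv e4 e4).2 b.isUnit
    set bU := hb₀u.unit with hbU
    obtain ⟨μ, hμ⟩ := hsim
    have hact : ∀ x, g.val *ᵥ (P.val *ᵥ (x ∘ e₂)) = P.val *ᵥ (((a.val ⊗ₖ b₀) *ᵥ x) ∘ e₂) := fun x => by
      rw [hgv, cj_apply, Matrix.mulVec_mulVec, Units.inv_mul_cancel_right, ← Matrix.mulVec_mulVec,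
        Matrix.submatrix_mulVec_equiv, Function.comp_assoc, Equiv.self_comp_symm, Function.comp_id]
    have hgram : (a.valᵀ * A * a.val) ⊗ₖ (b₀ᵀ * B₀ * b₀) = (μ : F) • (A ⊗ₖ B₀) := by
      refine gram_ext (σ := RingEquiv.refl F) fun x y => ?_
      show formOf _ x y = formOf _ x y
      have h := hμ (P.val *ᵥ (x ∘ e₂)) (P.val *ᵥ (y ∘ e₂))
      rw [hact, hact, hform₂, hform₂, formOf_mulVec, ← Matrix.kroneckerMap_transpose,
        ← Matrix.mul_kronecker_mul, ← Matrix.mul_kronecker_mul, mul_left_comm] at h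
      rw [mul_left_cancel₀ hc₀ h]
      simp [formOf, Matrix.smul_mulVec, dotProduct_smul]
    have hda : a.valᵀ * A * a.val = a.val.det • A := by
      rw [hA, Matrix.mul_smul, Matrix.smul_mul, J2_gram, smul_comm]
    rw [hda, Matrix.smul_kronecker] at hgram
    have hdet : a.val.det ≠ 0 := ((Matrix.isUnit_iff_isUnit_det _).1 a.isUnit).ne_zero
    have hbB : b₀ᵀ * B₀ * b₀ = ((μ : F) / a.val.det) • B₀ := by
      ext i j
      have h := congrFun (congrFun hgram ((0 : Fin 2), i)) ((1 : Fin 2), j)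
      simp only [Matrix.smul_apply, Matrix.kroneckerMap_apply, smul_eq_mul] at h ⊢
      field_simp
      exact mul_left_cancel₀ hα (by linear_combination h)
    set b' : GL (Fin 2 × Fin 2) F := MU⁻¹ * bU * MU with hb'
    have hMb : M₀ * b'.val = b₀ * M₀ := by
      rw [← hMU, show b₀ = bU.val from rfl, ← Units.val_mul, ← Units.val_mul, hb']; congr 1; group
    have hb'J : b'.valᵀ * (J2 F ⊗ₖ J2 F) * b'.val = ((μ : F) / a.val.det) • (J2 F ⊗ₖ J2 F) := by
      have h : (2 : F)⁻¹ • (b'.valᵀ * (J2 F ⊗ₖ J2 F) * b'.val) =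
          (2 : F)⁻¹ • (((μ : F) / a.val.det) • (J2 F ⊗ₖ J2 F)) := by
        calc _ = b'.valᵀ * (M₀ᵀ * B₀ * M₀) * b'.val := by
              rw [hMB, Matrix.mul_smul, Matrix.smul_mul]
          _ = (M₀ * b'.val)ᵀ * B₀ * (M₀ * b'.val) := by
              simp only [Matrix.transpose_mul, Matrix.mul_assoc]
          _ = M₀ᵀ * (b₀ᵀ * B₀ * b₀) * M₀ := by
              rw [hMb]; simp only [Matrix.transpose_mul, Matrix.mul_assoc]
          _ = _ := by rw [hbB, Matrix.mul_smul, Matrix.smul_mul, hMB, smul_comm]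
      exact smul_right_injective _ (inv_ne_zero h2) h
    have hb'' := similitude_mem_pairGroup h2 (div_ne_zero μ.ne_zero hdet) hb'J
    -- transfer to the standard tensor wreath group
    let Ψ : GL (Fin 2 × Fin 2) F →* GL (Fin 3 → Fin 2) F :=
      MonoidHom.mk' (fun u =>
        { val := ((1 : Matrix (Fin 2) (Fin 2) F) ⊗ₖ u.val).submatrix t.symm t.symm
          inv := ((1 : Matrix (Fin 2) (Fin 2) F) ⊗ₖ (u⁻¹).val).submatrix t.symm t.symm
          val_inv := by
            rw [Matrix.submatrix_mul_equiv, ← Matrix.mul_kronecker_mul, one_mul, Units.mul_inv,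
              Matrix.one_kronecker_one, Matrix.submatrix_one_equiv]
          inv_val := by
            rw [Matrix.submatrix_mul_equiv, ← Matrix.mul_kronecker_mul, one_mul, Units.inv_mul,
              Matrix.one_kronecker_one, Matrix.submatrix_one_equiv] })
        fun u w => Units.ext (by
          show ((1 : Matrix (Fin 2) (Fin 2) F) ⊗ₖ (u * w).val).submatrix t.symm t.symm =
            ((1 : Matrix (Fin 2) (Fin 2) F) ⊗ₖ u.val).submatrix t.symm t.symm *
              ((1 : Matrix (Fin 2) (Fin 2) F) ⊗ₖ w.val).submatrix t.symm t.symm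
          rw [Matrix.submatrix_mul_equiv, ← Matrix.mul_kronecker_mul, one_mul, Units.val_mul])
    have hΨ : Ψ b' ∈ Geo.tensorWreathStandard 2 3 F := by
      refine (Subgroup.closure_le _).2 ?_ hb'' |> fun h => (h : b' ∈ (Geo.tensorWreathStandard 2 3 F).comap Ψ)
      rintro u (⟨x, y, rfl⟩ | rfl)
      · refine Subgroup.subset_closure (Or.inl ?_)
        have : Ψ (kronGL x y) = pureGL ![1, x, y] := Units.ext (by
          show (1 ⊗ₖ (x.val ⊗ₖ y.val)).submatrix t.symm t.symm = pureMat _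
          rw [← hpure]
          congr 1
          funext i; fin_cases i <;> rfl)
        rw [this]; exact isPureTensor_pureGL _
      · refine Subgroup.subset_closure (Or.inr ?_)
        have : Ψ swapGL = permGL (factorPerm (Equiv.swap 1 2)) := Units.ext (Matrix.ext fun p r => by
          show (1 ⊗ₖ ((1 : Matrix (Fin 2 × Fin 2) (Fin 2 × Fin 2) F).submatrix (Equiv.prodComm _ _) id))
              (t.symm p) (t.symm r) =
            (1 : Matrix (Fin 3 → Fin 2) (Fin 3 → Fin 2) F) (factorPerm (Equiv.swap 1 2) p) r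
          rw [show t.symm p = (p 0, p 1, p 2) from rfl, show t.symm r = (r 0, r 1, r 2) from rfl]
          simp only [Matrix.kroneckerMap_apply, Matrix.one_apply,
            Matrix.submatrix_apply, Equiv.prodComm_apply, Prod.swap_prod_mk, id_eq, Prod.mk.injEq,
            funext_iff, Fin.forall_fin_succ, IsEmpty.forall_iff, factorPerm, Equiv.coe_fn_mk,
            Function.comp_apply, Equiv.swap_apply_left, Equiv.swap_apply_right]
          by_cases h0 : p 0 = r 0 <;> by_cases h1 : p 2 = r 1 <;> by_cases h2 : p 1 = r 2 <;>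
            simp [h0, h1, h2, Equiv.swap_apply_def])
        rw [this]; exact isFactorPermutation_permGL _
    have hk2 : pureGL ![a, 1, 1] * Ψ b' ∈ Geo.tensorWreathStandard 2 3 F :=
      mul_mem (Subgroup.subset_closure (Or.inl (isPureTensor_pureGL _))) hΨ
    have hfin : g.val = cj (P * R) ((pureGL ![a, 1, 1] * Ψ b').val.submatrix e' e') := by
      have hprod : (pureGL ![a, 1, 1] * Ψ b').val =
          (a.val ⊗ₖ b'.val).submatrix t.symm t.symm := by
        rw [Units.val_mul]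
        show pureMat _ * (1 ⊗ₖ b'.val).submatrix t.symm t.symm = _
        rw [show (fun i => ((![a, 1, 1] : Fin 3 → GL (Fin 2) F) i).val) = ![a.val, 1, 1] from
          funext fun i => by fin_cases i <;> rfl, hpure, Matrix.one_kronecker_one,
          Matrix.submatrix_mul_equiv, ← Matrix.mul_kronecker_mul, mul_one, one_mul]
      rw [hprod, hgv, cj_apply, cj_apply, Units.val_mul, _root_.mul_inv_rev, Units.val_mul,
        Matrix.submatrix_submatrix]
      have hcomp : t.symm ∘ e' = e₂ := funext fun i => t.symm_apply_apply _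
      rw [hcomp]
      have hmid : ((a.val ⊗ₖ b₀).submatrix e₂ e₂) * R.val = R.val * (a.val ⊗ₖ b'.val).submatrix e₂ e₂ := by
        rw [hR, Matrix.submatrix_mul_equiv, Matrix.submatrix_mul_equiv, ← Matrix.mul_kronecker_mul,
          ← Matrix.mul_kronecker_mul, mul_one, one_mul, hMb]
      calc P.val * (a.val ⊗ₖ b₀).submatrix e₂ e₂ * (P⁻¹).val
          = P.val * (((a.val ⊗ₖ b₀).submatrix e₂ e₂) * R.val) * ((R⁻¹).val * (P⁻¹).val) := by
            simp only [Matrix.mul_assoc]
            rw [← Matrix.mul_assoc R.val (R⁻¹).val, Units.mul_inv, Matrix.one_mul]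
        _ = _ := by rw [hmid]; simp only [hb', Units.val_mul, Matrix.mul_assoc]
    rw [eq_conj_glReindex e' (P * R) _ hfin]
    exact Subgroup.mem_map_of_mem _ (Subgroup.mem_map_of_mem _ hk2)

end Cfsg.Agent.Aschbacher
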