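import Cfsg.Agent.Lib.Aschbacher.SympRefine
import Mathlib.LinearAlgebra.QuadraticForm.Basic

/-!
Tensor decompositions with a three-dimensional symmetric factor over three elements.
-/

set_option autoImplicit false
set_option linter.style.haveILetI false

namespace Cfsg.Agent.Aschbacher

open scoped MatrixGroups Matrix Kronecker
open Matrix

variable {ι : Type} [Fintype ι] [DecidableEq ι] {F : Type*} [Field F] [Fintype F]

/-- A symmetric form in dimension three over three elements has a scalar Gram matrix in some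
basis. -/
lemma exists_scalar_basis_three (hq : Fintype.card F = 3)
    {f₂ : (Fin 3 → F) → (Fin 3 → F) → F} (hf₂ : Geo.IsSymmetricForm f₂) :
    ∃ (w : Fin 3 → Fin 3 → F) (c : F), c ≠ 0 ∧ ∀ i j, f₂ (w i) (w j) = if i = j then c else 0 := by
  classical
  have h3 : (3 : F) = 0 := by
    have h := FiniteField.cast_card_eq_zero F
    rw [hq] at h
    exact_mod_cast h
  have h2 : (2 : F) ≠ 0 := fun h => one_ne_zero (α := F) (by linear_combination h3 - h)
  haveI : Invertible (2 : F) := invertibleOfNonzero h2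
  let B : LinearMap.BilinForm F (Fin 3 → F) := LinearMap.mk₂ F f₂ hf₂.bilinear.add_left
    (fun c x v => by rw [hf₂.bilinear.smul_left]; rfl) hf₂.bilinear.add_right
    (fun c v x => by rw [hf₂.bilinear.smul_right]; rfl)
  obtain ⟨b, hb⟩ := LinearMap.BilinForm.exists_orthogonal_basis (B := B) ⟨hf₂.symm⟩
  let e : Fin (Module.finrank F (Fin 3 → F)) ≃ Fin 3 := finCongr (Module.finrank_fin_fun F)
  let v := fun i => b (e.symm i)
  have hv : ∀ i j, i ≠ j → f₂ (v i) (v j) = 0 := fun i j hij =>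
    hb fun h => hij (e.symm.injective h)
  have hv0 : ∀ i, f₂ (v i) (v i) ≠ 0 := by
    intro i h0
    obtain ⟨⟨x, hx⟩, -⟩ := hf₂.nondegenerate (v i) (b.ne_zero _)
    refine hx ?_
    have h : (LinearMap.flip B (v i)) = 0 := b.ext fun k => by
      show f₂ (b k) (v i) = 0
      by_cases hk : k = e.symm i
      · rw [hk]; exact h0
      · have := hv (e k) i fun h => hk (by rw [← h, Equiv.symm_apply_apply])
        simpa [v] using this
    exact LinearMap.congr_fun h x
  have key : ∀ i j k : Fin 3, i ≠ j → i ≠ k → j ≠ k → f₂ (v i) (v i) = f₂ (v j) (v j) →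
      f₂ (v k) (v k) = -f₂ (v i) (v i) →
      ∃ (w : Fin 3 → Fin 3 → F) (c : F), c ≠ 0 ∧
        ∀ a b, f₂ (w a) (w b) = if a = b then c else 0 := by
    intro i j k hij hik hjk h1 h2'
    refine ⟨![v i + v j, v i - v j, v k], f₂ (v k) (v k), hv0 k, fun a b => ?_⟩
    have hsub : ∀ x y z, f₂ (x - y) z = f₂ x z - f₂ y z := fun x y z => by
      rw [sub_eq_add_neg, hf₂.bilinear.add_left, ← neg_one_smul F y, hf₂.bilinear.smul_left]; ring
    have hsub' : ∀ z x y, f₂ z (x - y) = f₂ z x - f₂ z y := fun z x y => by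
      rw [hf₂.symm, hsub, hf₂.symm z, hf₂.symm z]
    have e1 := hv i j hij
    have e2 := hv j i hij.symm
    have e3 := hv i k hik
    have e4 := hv k i hik.symm
    have e5 := hv j k hjk
    have e6 := hv k j hjk.symm
    fin_cases a <;> fin_cases b <;>
      simp [hf₂.bilinear.add_left, hf₂.bilinear.add_right, hsub, hsub', e1, e2, e3, e4, e5, e6,
        ← h1, h2'] <;> linear_combination (f₂ (v i) (v i)) * h3
  have hd : ∀ a b : F, a ≠ 0 → b ≠ 0 → b = a ∨ b = -a := by
    intro a b ha hb'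
    have h := FiniteField.pow_card_sub_one_eq_one a ha
    have h' := FiniteField.pow_card_sub_one_eq_one b hb'
    rw [hq] at h h'
    exact mul_self_eq_mul_self_iff.1 (by rw [← sq, ← sq]; exact h'.trans h.symm)
  rcases hd _ _ (hv0 0) (hv0 1) with h01 | h01
  · rcases hd _ _ (hv0 0) (hv0 2) with h02 | h02
    · refine ⟨v, f₂ (v 0) (v 0), hv0 0, fun a b => ?_⟩
      by_cases hab : a = b
      · subst hab; rw [if_pos rfl]; fin_cases a <;> simp [h01, h02]
      · rw [if_neg hab]; exact hv a b hab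
    · exact key 0 1 2 (by decide) (by decide) (by decide) h01.symm h02
  · rcases hd _ _ (hv0 0) (hv0 2) with h02 | h02
    · exact key 0 2 1 (by decide) (by decide) (by decide) h02.symm h01
    · exact key 1 2 0 (by decide) (by decide) (by decide) (h01.trans h02.symm)
        (by rw [h01, neg_neg])

/-- Over three elements the stabiliser of a tensor decomposition with a symmetric factor of
dimension three stabilises an orthogonal decomposition into isometric pieces. -/
lemma isometric_decomp_of_tensor_three {f : (ι → F) → (ι → F) → F} (hf : Geo.IsBilinearForm f)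
    (hq : Fintype.card F = 3) {n₁ : ℕ} (h1 : 0 < n₁) {e : ι ≃ Fin n₁ × Fin 3} {P : GL ι F}
    {f₁ : (Fin n₁ → F) → (Fin n₁ → F) → F} {f₂ : (Fin 3 → F) → (Fin 3 → F) → F}
    (hf₁ : Geo.IsBilinearForm f₁) (hf₁n : Geo.IsNondegenerateForm f₁) (hf₂ : Geo.IsSymmetricForm f₂)
    (hstr : Geo.IsTensorFormStructure id f f₁ f₂ e P) :
    ∃ D : Fin 3 → Submodule F (ι → F), Geo.IsNondegenerateMDecomposition f n₁ D ∧
      (∀ i j, ∃ u : D i ≃ₗ[F] D j, ∀ x y : D i, f (u x : ι → F) (u y : ι → F) = f (x : ι → F) (y : ι → F)) ∧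
      ∀ g ∈ Geo.tensorProductSubgroup n₁ 3 e P, g ∈ Geo.similarityGroup f →
        g ∈ Geo.decompositionStabilizer D := by
  classical
  haveI : NeZero n₁ := ⟨h1.ne'⟩
  obtain ⟨w, c, hc, hw⟩ := exists_scalar_basis_three hq hf₂
  obtain ⟨c₀, hc₀, hform⟩ := hstr
  set A := Geo.gramMatrix f₁ with hA
  set B := Geo.gramMatrix f₂ with hB
  have hfA : f₁ = formOf A := exists_gram (σ := RingEquiv.refl F) hf₁.add_left
    hf₁.smul_left hf₁.add_right hf₁.smul_right
  have hfB : f₂ = formOf B := exists_gram (σ := RingEquiv.refl F) hf₂.bilinear.add_left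
    hf₂.bilinear.smul_left hf₂.bilinear.add_right hf₂.bilinear.smul_right
  let M : Matrix (Fin 3) (Fin 3) F := Matrix.of fun a i => w i a
  have hMB : Mᵀ * B * M = c • 1 := Matrix.ext fun i j => by
    have h := hw i j
    rw [hfB] at h
    rw [Matrix.smul_apply, Matrix.one_apply, smul_eq_mul, mul_ite, mul_one, mul_zero, ← h,
      Matrix.mul_assoc]
    simp only [formOf, Matrix.mul_apply, dotProduct, Matrix.mulVec, Matrix.transpose_apply, M,
      Matrix.of_apply]
  have hform' : ∀ x y, f (P.val *ᵥ (x ∘ e)) (P.val *ᵥ (y ∘ e)) = c₀ * formOf (A ⊗ₖ B) x y :=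
    fun x y => by
      rw [hform]
      simp [Geo.formOfGram, formOf, dotProduct, Matrix.mulVec, Finset.mul_sum, mul_assoc]
  let Φ : (Fin n₁ × Fin 3 → F) →ₗ[F] ι → F := (Matrix.toLin' P.val).comp
    ((LinearMap.funLeft F F e).comp (Matrix.toLin' ((1 : Matrix (Fin n₁) (Fin n₁) F) ⊗ₖ M)))
  have hΦ : ∀ x, Φ x = P.val *ᵥ (((1 ⊗ₖ M) *ᵥ x) ∘ e) := fun x => rfl
  let ins : Fin 3 → (Fin n₁ → F) → Fin n₁ × Fin 3 → F := fun i z p => if p.2 = i then z p.1 else 0
  let insL : Fin 3 → (Fin n₁ → F) →ₗ[F] (Fin n₁ × Fin 3 → F) := fun i =>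
    LinearMap.pi fun p => if p.2 = i then LinearMap.proj p.1 else 0
  have hins : ∀ i z, insL i z = ins i z := fun i z => funext fun p => by
    simp only [insL, ins, LinearMap.pi_apply]; split_ifs <;> rfl
  let L : Fin 3 → (Fin n₁ → F) →ₗ[F] ι → F := fun i => Φ.comp (insL i)
  have hL : ∀ i z, L i z = Φ (ins i z) := fun i z => congrArg Φ (hins i z)
  have hLf : ∀ i j z z', f (L i z) (L j z') = if i = j then c₀ * c * f₁ z z' else 0 := by
    intro i j z z'
    rw [hL, hL]
    simp only [hΦ]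
    rw [hform', formOf_mulVec, ← Matrix.kroneckerMap_transpose, Matrix.transpose_one,
      ← Matrix.mul_kronecker_mul, ← Matrix.mul_kronecker_mul, one_mul, mul_one, hMB, hfA]
    simp only [formOf, dotProduct, Matrix.mulVec, ins, Fintype.sum_prod_type, ite_mul, zero_mul,
      mul_ite, mul_zero, Finset.sum_ite_eq', Finset.mem_univ, if_true, Matrix.kroneckerMap_apply,
      Matrix.smul_apply, Matrix.one_apply, smul_eq_mul, mul_one]
    by_cases hij : i = j
    · subst hij
      simp only [if_true, Finset.mul_sum]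
      refine Finset.sum_congr rfl fun a _ => Finset.sum_congr rfl fun b _ => ?_
      ring
    · simp [hij]
  have hLinj : ∀ i, Function.Injective (L i) := fun i => (injective_iff_map_eq_zero _).2 fun z hz => by
    by_contra hz0
    obtain ⟨-, x, hx⟩ := hf₁n z hz0
    have h := hLf i i z x
    rw [hz, show f 0 (L i x) = 0 from by simpa using hf.smul_left 0 0 (L i x), if_pos rfl] at h
    exact mul_ne_zero (mul_ne_zero hc₀ hc) hx h.symm
  let D : Fin 3 → Submodule F (ι → F) := fun i => LinearMap.range (L i)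
  have horth : ∀ i j, i ≠ j → ∀ u ∈ D i, ∀ v ∈ D j, f u v = 0 := by
    rintro i j hij _ ⟨z, rfl⟩ _ ⟨z', rfl⟩
    rw [hLf, if_neg hij]
  have hnd : ∀ i, Geo.IsNondegenerateOn f (D i) := by
    rintro i _ ⟨z, rfl⟩ hne
    have hz : z ≠ 0 := fun h => hne (by rw [h, map_zero])
    obtain ⟨⟨x, hx⟩, ⟨y, hy⟩⟩ := hf₁n z hz
    refine ⟨⟨L i x, ⟨x, rfl⟩, ?_⟩, ⟨L i y, ⟨y, rfl⟩, ?_⟩⟩ <;> rw [hLf, if_pos rfl]
    · exact mul_ne_zero (mul_ne_zero hc₀ hc) hx
    · exact mul_ne_zero (mul_ne_zero hc₀ hc) hy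
  have hindep : iSupIndep D := fun i => by
    rw [Submodule.disjoint_def]
    intro x hx hx'
    by_contra hx0
    obtain ⟨⟨y, hy, hyx⟩, -⟩ := hnd i x hx hx0
    have hle : (⨆ j, ⨆ (_ : j ≠ i), D j) ≤
        LinearMap.ker (({ toFun := fun u => f y u
                          map_add' := fun u v => hf.add_right y u v
                          map_smul' := fun r u => hf.smul_right r y u } : (ι → F) →ₗ[F] F)) :=
      iSup₂_le fun j hj u hu => horth i j hj.symm y hy u hu
    exact hyx (hle hx')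
  have hMdet : M.det ≠ 0 := fun h => by
    have h' := congrArg Matrix.det hMB
    rw [Matrix.det_mul, h, mul_zero, Matrix.det_smul, Matrix.det_one, mul_one,
      Fintype.card_fin] at h'
    exact pow_ne_zero 3 hc h'.symm
  let MU : GL (Fin 3) F := Matrix.GeneralLinearGroup.mkOfDetNeZero M hMdet
  have hMU : MU.val = M := rfl
  have hspan : iSup D = ⊤ := eq_top_iff.2 fun v _ => by
    set x := ((1 : Matrix (Fin n₁) (Fin n₁) F) ⊗ₖ (MU⁻¹).val) *ᵥ (((P⁻¹).val *ᵥ v) ∘ e.symm) with hx
    have hv : v = Φ x := by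
      simp only [hΦ, hx, Matrix.mulVec_mulVec, ← Matrix.mul_kronecker_mul, one_mul, ← hMU,
        Units.mul_inv, Matrix.one_kronecker_one, Matrix.one_mulVec]
      rw [Function.comp_assoc, Equiv.symm_comp_self, Function.comp_id, Matrix.mulVec_mulVec,
        Units.mul_inv, Matrix.one_mulVec]
    have hxs : x = ∑ i, ins i fun a => x (a, i) := funext fun p => by
      rw [Finset.sum_apply]
      simp only [ins]
      rw [Finset.sum_ite_eq Finset.univ p.2 fun i => x (p.1, i)]
      simp
    rw [hv, hxs, map_sum]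
    clear_value x Φ
    refine Submodule.sum_mem _ fun i _ => Submodule.mem_iSup_of_mem i ?_
    exact LinearMap.mem_range.2 ⟨fun a => x (a, i), hL i _⟩
  have hfr : ∀ i, Module.finrank F (D i) = n₁ := fun i => by
    rw [LinearMap.finrank_range_of_inj (hLinj i), Module.finrank_fin_fun]
  refine ⟨D, ⟨⟨by norm_num, h1, hfr, hindep, hspan⟩, hnd, fun i j hij => horth i j hij⟩, fun i j => ?_, ?_⟩
  · refine ⟨(LinearEquiv.ofInjective (L i) (hLinj i)).symm.trans (LinearEquiv.ofInjective (L j) (hLinj j)),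
      fun x y => ?_⟩
    obtain ⟨z, rfl⟩ := (LinearEquiv.ofInjective (L i) (hLinj i)).surjective x
    obtain ⟨z', rfl⟩ := (LinearEquiv.ofInjective (L i) (hLinj i)).surjective y
    simp only [LinearEquiv.trans_apply, LinearEquiv.symm_apply_apply]
    exact ((hLf j j z z').trans (by rw [if_pos rfl])).trans ((hLf i i z z').trans (by rw [if_pos rfl])).symm
  rintro g ⟨_, ⟨k, ⟨a, b, hk⟩, rfl⟩, rfl⟩ hsim
  set g : GL ι F := (MulAut.conj P).toMonoidHom ((Geo.glReindex e.symm).toMonoidHom k)
  have hgv : g.val = cj P ((a.val ⊗ₖ b.val).submatrix e e) := by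
    rw [← hk]; simp [g, cj_apply, Geo.glReindex]
  have hact : ∀ x : Fin n₁ × Fin 3 → F, g.val *ᵥ (P.val *ᵥ (x ∘ e)) =
      P.val *ᵥ (((a.val ⊗ₖ b.val) *ᵥ x) ∘ e) := fun x => by
    rw [hgv, cj_apply, Matrix.mulVec_mulVec, Units.inv_mul_cancel_right, ← Matrix.mulVec_mulVec,
      Matrix.submatrix_mulVec_equiv, Function.comp_assoc, Equiv.self_comp_symm, Function.comp_id]
  obtain ⟨μ, hμ⟩ := hsim
  have hgram : (a.valᵀ * A * a.val) ⊗ₖ (b.valᵀ * B * b.val) = (μ : F) • (A ⊗ₖ B) := by
    refine gram_ext (σ := RingEquiv.refl F) fun x y => ?_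
    show formOf _ x y = formOf _ x y
    have h := hμ (P.val *ᵥ (x ∘ e)) (P.val *ᵥ (y ∘ e))
    rw [hact, hact, hform', hform', formOf_mulVec, ← Matrix.kroneckerMap_transpose,
      ← Matrix.mul_kronecker_mul, ← Matrix.mul_kronecker_mul, mul_left_comm] at h
    rw [mul_left_cancel₀ hc₀ h]
    simp [formOf, Matrix.smul_mulVec, dotProduct_smul]
  have hA0 : A ≠ 0 := fun h => by
    obtain ⟨v, hv⟩ := exists_ne (0 : Fin n₁ → F)
    obtain ⟨⟨x, hx⟩, -⟩ := hf₁n v hv
    exact hx (by rw [hfA, h]; simp [formOf])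
  have hB0 : B ≠ 0 := fun h => by
    rw [h, Matrix.mul_zero, Matrix.zero_mul] at hMB
    simpa [hc] using (congrFun (congrFun hMB 0) 0).symm
  obtain ⟨s, d, hsd, -, hbB⟩ := kron_factor hgram
    (fun h => hB0 (by
      have := congrArg (fun X => (b⁻¹).valᵀ * X * (b⁻¹).val) h
      simpa [← Matrix.mul_assoc, ← Matrix.transpose_mul, Matrix.mul_assoc _ b.val,
        Matrix.mul_assoc B] using this))
    (fun h => hA0 (by
      have := congrArg (fun X => (a⁻¹).valᵀ * X * (a⁻¹).val) h
      simpa [← Matrix.mul_assoc, ← Matrix.transpose_mul, Matrix.mul_assoc _ a.val,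
        Matrix.mul_assoc A] using this))
    μ.ne_zero hA0
  have hd0 : d ≠ 0 := fun h => μ.ne_zero (by rw [← hsd, h, mul_zero])
  set u : GL (Fin 3) F := MU⁻¹ * b * MU with hu
  have hu1 : M * u.val = b.val * M := by
    rw [← hMU, ← Units.val_mul, ← Units.val_mul, hu]; congr 1; group
  have huu : u.valᵀ * u.val = d • 1 := by
    have h : c • (u.valᵀ * u.val) = c • (d • (1 : Matrix (Fin 3) (Fin 3) F)) := by
      calc c • (u.valᵀ * u.val) = u.valᵀ * (Mᵀ * B * M) * u.val := by
            rw [hMB, Matrix.mul_smul, Matrix.smul_mul, Matrix.mul_one]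
        _ = (M * u.val)ᵀ * B * (M * u.val) := by
            simp only [Matrix.transpose_mul, Matrix.mul_assoc]
        _ = Mᵀ * (b.valᵀ * B * b.val) * M := by
            rw [hu1]; simp only [Matrix.transpose_mul, Matrix.mul_assoc]
        _ = _ := by
            rw [hbB, Matrix.mul_smul, Matrix.smul_mul, hMB, smul_comm]
    exact smul_right_injective _ hc h
  choose r hr using monomial_of_orth_three hq u hd0 huu
  have hmap : ∀ i, (D i).map (Matrix.toLin' g.val) = D (r i) := by
    intro i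
    refine Submodule.eq_of_le_of_finrank_le ?_ ?_
    · rintro _ ⟨_, ⟨z, rfl⟩, rfl⟩
      refine ⟨u.val (r i) i • (a.val *ᵥ z), ?_⟩
      rw [Matrix.toLin'_apply]
      rw [hL, hL]
      simp only [hΦ]
      rw [hact, Matrix.mulVec_mulVec (M := a.val ⊗ₖ b.val), ← Matrix.mul_kronecker_mul, mul_one,
        ← hu1, show a.val ⊗ₖ (M * u.val) = (1 ⊗ₖ M) * (a.val ⊗ₖ u.val) by
          rw [← Matrix.mul_kronecker_mul, one_mul], ← Matrix.mulVec_mulVec]
      congr 3
      funext p
      simp only [ins, Matrix.mulVec, dotProduct, Pi.smul_apply, smul_eq_mul,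
        Matrix.kroneckerMap_apply, Fintype.sum_prod_type, mul_ite, mul_zero, Finset.sum_ite_eq',
        Finset.mem_univ, if_true]
      by_cases hp : p.2 = r i
      · rw [if_pos hp, hp, Finset.mul_sum]
        exact Finset.sum_congr rfl fun _ _ => by ring
      · rw [if_neg hp]
        simp [hr i p.2 hp]
    · rw [hfr]
      refine le_of_eq ?_
      rw [← hfr i]
      refine LinearEquiv.finrank_eq (Submodule.equivMapOfInjective _ ?_ _)
      exact fun x y h => Transvec.mv_inj g (by simpa [Transvec.mv] using h)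
  have hrinj : Function.Injective r := fun i j hij => by
    by_contra hne
    have h : D i = D j := by
      refine Submodule.map_injective_of_injective (f := Matrix.toLin' g.val)
        (fun x y h => Transvec.mv_inj g (by simpa [Transvec.mv] using h)) ?_
      rw [hmap, hmap, hij]
    obtain ⟨z, hz⟩ := exists_ne (0 : Fin n₁ → F)
    have hzi : L i z ∈ D j := h ▸ ⟨z, rfl⟩
    obtain ⟨⟨x, hx, hxz⟩, -⟩ := hnd i (L i z) ⟨z, rfl⟩ fun h0 => hz (hLinj i (by rw [h0, map_zero]))
    exact hxz (horth i j hne x hx _ hzi)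
  exact ⟨Equiv.ofBijective r (Finite.injective_iff_bijective.1 hrinj), hmap⟩

/-- Over three elements the stabiliser of a tensor decomposition with a symmetric factor of
dimension three stabilises an orthogonal decomposition. -/
lemma decomp_of_tensor_three {f : (ι → F) → (ι → F) → F} (hf : Geo.IsSymplecticForm f)
    (hq : Fintype.card F = 3) {n₁ : ℕ} (h1 : 0 < n₁) {e : ι ≃ Fin n₁ × Fin 3} {P : GL ι F}
    {f₁ : (Fin n₁ → F) → (Fin n₁ → F) → F} {f₂ : (Fin 3 → F) → (Fin 3 → F) → F}
    (hf₁ : Geo.IsSymplecticForm f₁) (hf₂ : Geo.IsSymmetricForm f₂)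
    (hstr : Geo.IsTensorFormStructure id f f₁ f₂ e P) :
    ∃ D : Fin 3 → Submodule F (ι → F), Geo.IsNondegenerateMDecomposition f n₁ D ∧
      ∀ g ∈ Geo.tensorProductSubgroup n₁ 3 e P, g ∈ Geo.similarityGroup f →
        g ∈ Geo.decompositionStabilizer D := by
  obtain ⟨D, hD, -, hle⟩ :=
    isometric_decomp_of_tensor_three hf.bilinear hq h1 hf₁.bilinear hf₁.nondegenerate hf₂ hstr
  exact ⟨D, hD, hle⟩

end Cfsg.Agent.Aschbacher
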