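import Cfsg.Agent.Lib.Aschbacher.FormFrames

/-!
The extraspecial group of order 243 normalised by the stabiliser of a hermitian tensor square in
dimension nine over the field with four elements.
-/

set_option autoImplicit false
set_option linter.style.haveILetI false

namespace Cfsg.Agent.Aschbacher

open scoped MatrixGroups Matrix
open Matrix
open Cfsg.Agent.Transvec.Herm (fixedField apply_eq_pow card_eq_sq)

variable {F : Type*} [Field F] [Fintype F]

namespace Unit32

variable (hq : Fintype.card F = 4)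
include hq

lemma two : (2 : F) = 0 := by
  have h4 := FiniteField.cast_card_eq_zero F
  rw [hq] at h4
  push_cast at h4
  exact mul_self_eq_zero.1 (by linear_combination h4)

lemma cube {x : F} (hx : x ≠ 0) : x * x * x = 1 := by
  have h := FiniteField.pow_card_sub_one_eq_one x hx
  rw [hq] at h
  linear_combination h

lemma ne_zero_of_prod {d : Fin 3 → F} (h : d 0 * d 1 * d 2 = 1) (i : Fin 3) : d i ≠ 0 := by
  intro h0
  fin_cases i <;> simp_all

omit hq in
/-- The hermitian form `∑ uᵢ wᵢ²`. -/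
def frm (u w : Fin 3 → F) : F := u 0 * (w 0 * w 0) + u 1 * (w 1 * w 1) + u 2 * (w 2 * w 2)

omit hq in
/-- The product of the coordinates. -/
def inv3 (v : Fin 3 → F) : F := v 0 * v 1 * v 2

omit hq in
/-- Orthogonal or dependent. -/
def Rel (u w : Fin 3 → F) : Prop := frm u w = 0 ∨ ∃ c : F, u = c • w

lemma inv3_smul {c : F} (hc : c ≠ 0) (v : Fin 3 → F) : inv3 (c • v) = inv3 v := by
  simp only [inv3, Pi.smul_apply, smul_eq_mul]
  linear_combination (v 0 * v 1 * v 2) * cube hq hc

/-- The vectors of norm one with a vanishing coordinate. -/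
lemma shape {v : Fin 3 → F} (hv : frm v v = 1) (hI : inv3 v = 0) :
    ∃ (i : Fin 3) (c : F), c ≠ 0 ∧ v = c • Pi.single i 1 := by
  have hn : ∀ i, v i ≠ 0 → v i * (v i * v i) = 1 := fun i hi => by
    rw [← mul_assoc]; exact cube hq hi
  have mk : ∀ i, (∀ j, j ≠ i → v j = 0) → v i ≠ 0 →
      ∃ (i : Fin 3) (c : F), c ≠ 0 ∧ v = c • Pi.single i 1 := fun i hz hi =>
    ⟨i, v i, hi, funext fun j => by
      by_cases hj : j = i
      · subst hj; simp
      · simp [hj, hz j hj]⟩
  have h2 := two hq
  simp only [frm] at hv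
  simp only [inv3, mul_eq_zero] at hI
  by_cases h0 : v 0 = 0 <;> by_cases h1 : v 1 = 0 <;> by_cases hh2 : v 2 = 0
  · simp [h0, h1, hh2] at hv
  · exact mk 2 (fun j hj => by fin_cases j <;> simp_all) hh2
  · exact mk 1 (fun j hj => by fin_cases j <;> simp_all) h1
  · rw [h0, hn 1 h1, hn 2 hh2, zero_mul, zero_add] at hv
    exact absurd hv (fun h => one_ne_zero (α := F) (by linear_combination h2 - h))
  · exact mk 0 (fun j hj => by fin_cases j <;> simp_all) h0
  · rw [hn 0 h0, h1, hn 2 hh2, zero_mul, add_zero] at hv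
    exact absurd hv (fun h => one_ne_zero (α := F) (by linear_combination h2 - h))
  · rw [hn 0 h0, hn 1 h1, hh2, zero_mul, add_zero] at hv
    exact absurd hv (fun h => one_ne_zero (α := F) (by linear_combination h2 - h))
  · simp [h0, h1, hh2] at hI

lemma inv3_iff {u w : Fin 3 → F} (hu : frm u u = 1) (hw : frm w w = 1) :
    inv3 u = inv3 w ↔ Rel u w := by
  have h2 := two hq
  have hwne : ∀ c : F, u = c • w → c ≠ 0 := fun c hc h0 => by
    rw [h0, zero_smul] at hc
    simp [frm, hc] at hu
  by_cases hIu : inv3 u = 0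
  · obtain ⟨i, c, hc, rfl⟩ := shape hq hu hIu
    by_cases hIw : inv3 w = 0
    · obtain ⟨j, d, hd, rfl⟩ := shape hq hw hIw
      refine iff_of_true (hIu.trans hIw.symm) ?_
      by_cases hij : i = j
      · subst hij
        exact Or.inr ⟨c / d, by rw [smul_smul, div_mul_cancel₀ _ hd]⟩
      · left
        fin_cases i <;> fin_cases j <;> simp_all [frm]
    · refine iff_of_false (fun h => hIw (h.symm.trans hIu)) ?_
      rintro (h | ⟨e, he⟩)
      · have hw' : w i ≠ 0 := fun h0 => hIw (by fin_cases i <;> simp_all [inv3])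
        have : frm (c • Pi.single i 1) w = c * (w i * w i) := by fin_cases i <;> simp [frm]
        rw [this] at h
        exact mul_ne_zero hc (mul_ne_zero hw' hw') h
      · rw [he, inv3_smul hq (hwne e he)] at hIu
        exact hIw hIu
  · by_cases hIw : inv3 w = 0
    · refine iff_of_false (fun h => hIu (h.trans hIw)) ?_
      rintro (h | ⟨e, he⟩)
      · obtain ⟨j, d, hd, rfl⟩ := shape hq hw hIw
        have hu' : u j ≠ 0 := fun h0 => hIu (by fin_cases j <;> simp_all [inv3])
        have : frm u (d • Pi.single j 1) = u j * (d * d) := by fin_cases j <;> simp [frm]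
        rw [this] at h
        exact mul_ne_zero hu' (mul_ne_zero hd hd) h
      · rw [he, inv3_smul hq (hwne e he)] at hIu
        exact hIu hIw
    · have hu0 : ∀ i, u i ≠ 0 := fun i h0 => hIu (by fin_cases i <;> simp_all [inv3])
      have hw0 : ∀ i, w i ≠ 0 := fun i h0 => hIw (by fin_cases i <;> simp_all [inv3])
      let s : Fin 3 → F := fun i => u i / w i
      have hs0 : ∀ i, s i ≠ 0 := fun i => div_ne_zero (hu0 i) (hw0 i)
      have hus : ∀ i, u i = s i * w i := fun i => (div_mul_cancel₀ _ (hw0 i)).symm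
      have hfs : frm u w = s 0 + s 1 + s 2 := by
        simp only [frm]
        rw [hus 0, hus 1, hus 2]
        linear_combination s 0 * cube hq (hw0 0) + s 1 * cube hq (hw0 1) + s 2 * cube hq (hw0 2)
      have hIs : inv3 u = s 0 * s 1 * s 2 * inv3 w := by
        simp only [inv3]; rw [hus 0, hus 1, hus 2]; ring
      constructor
      · intro h
        have hprod : s 0 * s 1 * s 2 = 1 :=
          mul_right_cancel₀ hIw (by rw [one_mul, ← hIs, h])
        by_cases h01 : s 0 = s 1
        · right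
          refine ⟨s 0, funext fun i => ?_⟩
          have h20 : s 2 = s 0 := by
            refine mul_left_cancel₀ (mul_ne_zero (hs0 0) (hs0 0)) ?_
            rw [cube hq (hs0 0)]
            conv_lhs => arg 1; arg 2; rw [h01]
            exact hprod
          rw [Pi.smul_apply, smul_eq_mul, hus i]
          fin_cases i <;> simp [← h01, h20]
        · left
          rw [hfs]
          have hq' : s 0 * s 0 + s 0 * s 1 + s 1 * s 1 = 0 := by
            refine (mul_eq_zero.1 ?_).resolve_left (sub_ne_zero.2 h01)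
            linear_combination cube hq (hs0 0) - cube hq (hs0 1)
          refine (mul_eq_zero.1 (show (s 0 * s 1) * (s 0 + s 1 + s 2) = 0 from ?_)).resolve_left
            (mul_ne_zero (hs0 0) (hs0 1))
          have h3 : (s 0 + s 1) * (s 0 + s 1) = s 0 * s 1 := by linear_combination hq'
          have hne : s 0 + s 1 ≠ 0 := fun h0 => mul_ne_zero (hs0 0) (hs0 1)
            (by rw [← h3, h0, mul_zero])
          have h4 := cube hq hne
          rw [h3] at h4
          linear_combination h4 + hprod + h2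
      · rintro (h | ⟨c, hc⟩)
        · rw [hfs] at h
          have h01 : s 0 ≠ s 1 := fun h01 => hs0 2 (by linear_combination h + h01 - s 0 * h2)
          have hq' : s 0 * s 0 + s 0 * s 1 + s 1 * s 1 = 0 := by
            refine (mul_eq_zero.1 ?_).resolve_left (sub_ne_zero.2 h01)
            linear_combination cube hq (hs0 0) - cube hq (hs0 1)
          have h3 : (s 0 + s 1) * (s 0 + s 1) = s 0 * s 1 := by linear_combination hq'
          have hne : s 0 + s 1 ≠ 0 := fun h0 => mul_ne_zero (hs0 0) (hs0 1)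
            (by rw [← h3, h0, mul_zero])
          have h4 := cube hq hne
          rw [h3] at h4
          rw [hIs, show s 2 = s 0 + s 1 by linear_combination h - (s 0 + s 1) * h2, h4, one_mul]
        · rw [hc, inv3_smul hq (hwne c hc)]

omit hq in
/-- Membership in the extraspecial group of order 27: a shift times a diagonal matrix of
determinant one. -/
def IsShift (g : GL (Fin 3) F) : Prop :=
  ∃ (s : Fin 3) (d : Fin 3 → F), d 0 * d 1 * d 2 = 1 ∧
    ∀ i j, (g : Matrix (Fin 3) (Fin 3) F) i j = if i = j + s then d j else 0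

omit hq [Fintype F] in
lemma isShift_mul {g h : GL (Fin 3) F} (hg : IsShift g) (hh : IsShift h) : IsShift (g * h) := by
  obtain ⟨s, d, hd, hgd⟩ := hg
  obtain ⟨t, e, he, hhe⟩ := hh
  refine ⟨t + s, fun j => d (j + t) * e j, ?_, fun i j => ?_⟩
  · have hd' : d (0 + t) * d (1 + t) * d (2 + t) = 1 := by
      fin_cases t <;> simp <;> linear_combination hd
    linear_combination e 0 * e 1 * e 2 * hd' + he
  · rw [Units.val_mul, Matrix.mul_apply, Finset.sum_eq_single (j + t)]
    · rw [hgd, hhe, if_pos rfl, add_assoc]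
      split_ifs <;> ring
    · intro k _ hk
      rw [hhe, if_neg hk, mul_zero]
    · simp

omit [Fintype F] hq in
lemma isShift_one : IsShift (1 : GL (Fin 3) F) :=
  ⟨0, fun _ => 1, by ring, fun i j => by simp [Matrix.one_apply]⟩

lemma isShift_cube {g : GL (Fin 3) F} (hg : IsShift g) : g ^ 3 = 1 := by
  obtain ⟨s, d, hd, hgd⟩ := hg
  have hne := ne_zero_of_prod hq hd
  refine Units.ext (Matrix.ext fun i j => ?_)
  rw [Units.val_pow_eq_pow_val, pow_three, Units.val_one, Matrix.one_apply]
  simp only [Matrix.mul_apply, hgd, Fin.sum_univ_three]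
  have h0 := cube hq (hne 0)
  have h1 := cube hq (hne 1)
  have h2 := cube hq (hne 2)
  fin_cases s <;> fin_cases i <;> fin_cases j <;>
    simp <;> first | linear_combination h0 | linear_combination h1 | linear_combination h2 |
      linear_combination hd

omit hq in
/-- The extraspecial group of order 27. -/
def S1 (hq : Fintype.card F = 4) : Subgroup (GL (Fin 3) F) where
  carrier := {g | IsShift g}
  mul_mem' := isShift_mul
  one_mem' := isShift_one
  inv_mem' {g} hg := by
    have h : g⁻¹ = g * g := by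
      rw [inv_eq_iff_mul_eq_one, ← mul_assoc, ← pow_three']
      exact isShift_cube hq hg
    show IsShift g⁻¹
    rw [h]
    exact isShift_mul hg hg

omit hq [Fintype F] in
lemma mem_S1 [Fintype F] {hq : Fintype.card F = 4} {g : GL (Fin 3) F} :
    g ∈ S1 hq ↔ IsShift g := Iff.rfl

omit hq [Fintype F] in
/-- The isometries of the hermitian form. -/
def Iso (g : GL (Fin 3) F) : Prop :=
  ∀ u w, frm ((g : Matrix (Fin 3) (Fin 3) F) *ᵥ u) ((g : Matrix (Fin 3) (Fin 3) F) *ᵥ w) = frm u w

lemma mulVec_shift {g : GL (Fin 3) F} {s : Fin 3} {d : Fin 3 → F}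
    (hgd : ∀ i j, (g : Matrix (Fin 3) (Fin 3) F) i j = if i = j + s then d j else 0)
    (v : Fin 3 → F) (j : Fin 3) :
    ((g : Matrix (Fin 3) (Fin 3) F) *ᵥ v) (j + s) = d j * v j := by
  rw [Matrix.mulVec, dotProduct, Finset.sum_eq_single j]
  · rw [hgd, if_pos rfl]
  · intro k _ hk
    rw [hgd, if_neg (fun h => hk (add_right_cancel h).symm), zero_mul]
  · simp

lemma iso_of_shift {g : GL (Fin 3) F} (hg : IsShift g) :
    Iso g ∧ ∀ v, inv3 ((g : Matrix (Fin 3) (Fin 3) F) *ᵥ v) = inv3 v := by
  obtain ⟨s, d, hd, hgd⟩ := hg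
  have hne := ne_zero_of_prod hq hd
  have hv := fun v j => mulVec_shift hq hgd v j
  constructor
  · intro u w
    have key : frm ((g : Matrix (Fin 3) (Fin 3) F) *ᵥ u) ((g : Matrix (Fin 3) (Fin 3) F) *ᵥ w) =
        d 0 * u 0 * (d 0 * w 0 * (d 0 * w 0)) + d 1 * u 1 * (d 1 * w 1 * (d 1 * w 1)) +
          d 2 * u 2 * (d 2 * w 2 * (d 2 * w 2)) := by
      rw [← hv u 0, ← hv u 1, ← hv u 2, ← hv w 0, ← hv w 1, ← hv w 2]
      simp only [frm]
      fin_cases s <;> simp <;> ring
    rw [key, frm]
    linear_combination u 0 * w 0 * w 0 * cube hq (hne 0) + u 1 * w 1 * w 1 * cube hq (hne 1) +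
      u 2 * w 2 * w 2 * cube hq (hne 2)
  · intro v
    have key : inv3 ((g : Matrix (Fin 3) (Fin 3) F) *ᵥ v) = d 0 * v 0 * (d 1 * v 1) * (d 2 * v 2) := by
      rw [← hv v 0, ← hv v 1, ← hv v 2]
      simp only [inv3]
      fin_cases s <;> simp <;> ring
    rw [key, inv3]
    linear_combination v 0 * v 1 * v 2 * hd

/-- The intrinsic description of the group. -/
lemma shift_of_rel {g : GL (Fin 3) F} (hiso : Iso g) (h3 : g ^ 3 = 1)
    (hrel : ∀ v, frm v v = 1 → Rel ((g : Matrix (Fin 3) (Fin 3) F) *ᵥ v) v) : IsShift g := by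
  have hI : ∀ v, frm v v = 1 → inv3 ((g : Matrix (Fin 3) (Fin 3) F) *ᵥ v) = inv3 v := fun v hv =>
    (inv3_iff hq (by rw [hiso]; exact hv) hv).2 (hrel v hv)
  have hsingle : ∀ i : Fin 3, frm (Pi.single i 1 : Fin 3 → F) (Pi.single i 1) = 1 ∧
      inv3 (Pi.single i 1 : Fin 3 → F) = 0 := fun i => by fin_cases i <;> simp [frm, inv3]
  choose π d hd0 hπ using fun i => shape hq (by rw [hiso]; exact (hsingle i).1)
    ((hI _ (hsingle i).1).trans (hsingle i).2)
  have hent : ∀ i j, (g : Matrix (Fin 3) (Fin 3) F) i j = if i = π j then d j else 0 := fun i j => by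
    have h := congrFun (hπ j) i
    rw [Matrix.mulVec_single_one] at h
    simpa [Pi.single_apply] using h
  have hinj : Function.Injective π := by
    intro a b hab
    have h : (g : Matrix (Fin 3) (Fin 3) F) *ᵥ Pi.single a 1 =
        (g : Matrix (Fin 3) (Fin 3) F) *ᵥ ((d a / d b) • Pi.single b 1) := by
      rw [Matrix.mulVec_smul, hπ, hπ, smul_smul, div_mul_cancel₀ _ (hd0 b), hab]
    have h' := congrFun (Matrix.mulVec_injective_of_isUnit g.isUnit h) a
    by_contra hne
    simp [hne] at h'
  have h31 := congrArg (fun x : GL (Fin 3) F => (x : Matrix (Fin 3) (Fin 3) F)) h3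
  simp only [Units.val_pow_eq_pow_val, Units.val_one] at h31
  have hπ3 : ∀ a, π (π (π a)) = a := fun a => by
    have h := congrArg (fun M => M *ᵥ (Pi.single a 1 : Fin 3 → F)) h31
    simp only [pow_three, ← Matrix.mulVec_mulVec, hπ, Matrix.mulVec_smul, smul_smul,
      Matrix.one_mulVec] at h
    have h' := congrFun h (π (π (π a)))
    by_contra hne
    simp [hne, hd0] at h'
  obtain ⟨s, hs⟩ : ∃ s : Fin 3, ∀ j, π j = j + s :=
    (by decide : ∀ π : Fin 3 → Fin 3, Function.Injective π → (∀ a, π (π (π a)) = a) →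
      ∃ s : Fin 3, ∀ j, π j = j + s) π hinj hπ3
  refine ⟨s, d, ?_, fun i j => by rw [hent, hs]⟩
  have h1 : frm (fun _ => 1 : Fin 3 → F) (fun _ => 1) = 1 := by
    simp [frm]; linear_combination two hq
  have h := hI _ h1
  have hv := fun j => mulVec_shift hq (fun i j => by rw [hent, hs]) (fun _ => (1 : F)) j
  simp only [inv3, mul_one] at h
  simp only [mul_one] at hv
  rw [← hv 0, ← hv 1, ← hv 2]
  fin_cases s <;> simp at h ⊢ <;> linear_combination h

/-- Isometries normalise the group. -/
lemma conj_mem {u g : GL (Fin 3) F} (hu : Iso u) (hg : IsShift g) : IsShift (u * g * u⁻¹) := by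
  obtain ⟨hgi, hgI⟩ := iso_of_shift hq hg
  have hinv : Iso u⁻¹ := fun v w => by
    have h := hu (((u⁻¹ : GL (Fin 3) F) : Matrix (Fin 3) (Fin 3) F) *ᵥ v)
      (((u⁻¹ : GL (Fin 3) F) : Matrix (Fin 3) (Fin 3) F) *ᵥ w)
    simp only [Matrix.mulVec_mulVec, Units.mul_inv, Matrix.one_mulVec] at h
    exact h.symm
  refine shift_of_rel hq (fun v w => ?_) (by rw [conj_pow, isShift_cube hq hg, mul_one,
    mul_inv_cancel]) fun v hv => ?_
  · simp only [Units.val_mul, ← Matrix.mulVec_mulVec]
    rw [hu, hgi, hinv]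
  · set v' := ((u⁻¹ : GL (Fin 3) F) : Matrix (Fin 3) (Fin 3) F) *ᵥ v with hv'
    have hvv : v = (u : Matrix (Fin 3) (Fin 3) F) *ᵥ v' := by
      rw [hv', Matrix.mulVec_mulVec, Units.mul_inv, Matrix.one_mulVec]
    have hn : frm v' v' = 1 := by rw [hv', hinv]; exact hv
    have h := (inv3_iff hq (by rw [hgi]; exact hn) hn).1 (hgI v')
    simp only [Units.val_mul, ← Matrix.mulVec_mulVec, ← hv']
    conv => arg 2; rw [hvv]
    rcases h with h | ⟨c, hc⟩
    · exact Or.inl (by rw [hu]; exact h)
    · exact Or.inr ⟨c, by rw [hc, Matrix.mulVec_smul]⟩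

lemma card_S1 : Nat.card (S1 hq) = 27 := by
  classical
  have hFu : Nat.card Fˣ = 3 := by rw [Nat.card_units, Nat.card_eq_fintype_card, hq]
  let e : Fin 3 × Fˣ × Fˣ → S1 hq := fun p => by
    refine ⟨Matrix.GeneralLinearGroup.mkOfDetNeZero (Matrix.of fun i j => if i = j + p.1 then
      (![(p.2.1 : F), (p.2.2 : F), ((p.2.1 * p.2.2)⁻¹ : Fˣ)] : Fin 3 → F) j else 0) ?_,
      p.1, ![(p.2.1 : F), (p.2.2 : F), ((p.2.1 * p.2.2)⁻¹ : Fˣ)], ?_, fun i j => rfl⟩
    · obtain ⟨s, a, b⟩ := p
      fin_cases s <;> simp [Matrix.det_fin_three]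
    · obtain ⟨s, a, b⟩ := p
      simp
      field_simp
  have hbij : Function.Bijective e := by
    constructor
    · rintro ⟨s, a, b⟩ ⟨t, c, d⟩ h
      have h' : ∀ i j, (if i = j + s then (![(a : F), (b : F), ((a * b)⁻¹ : Fˣ)] : Fin 3 → F) j
          else 0) = if i = j + t then (![(c : F), (d : F), ((c * d)⁻¹ : Fˣ)] : Fin 3 → F) j else 0 :=
        fun i j => congrFun (congrFun (congrArg (fun x : S1 hq =>
          ((x : GL (Fin 3) F) : Matrix (Fin 3) (Fin 3) F)) h) i) j
      have hst : s = t := by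
        by_contra hne
        have h0 := h' s 0
        simp [hne] at h0
      subst hst
      have ha := h' s 0
      have hb := h' (1 + s) 1
      simp at ha hb
      simp [Units.ext ha, Units.ext hb]
    · rintro ⟨g, s, d, hd, hgd⟩
      have hne := ne_zero_of_prod hq hd
      refine ⟨(s, Units.mk0 _ (hne 0), Units.mk0 _ (hne 1)), Subtype.ext (Units.ext
        (Matrix.ext fun i j => ?_))⟩
      show (if i = j + s then (![d 0, d 1, _] : Fin 3 → F) j else 0) = _
      rw [hgd]
      split_ifs
      · fin_cases j <;> simp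
        · have := hne 0
          have := hne 1
          field_simp
          first
            | linear_combination -hd
            | linear_combination hd
            | grind
      · rfl
  rw [← Nat.card_congr (Equiv.ofBijective e hbij), Nat.card_prod, Nat.card_prod, hFu,
    Nat.card_eq_fintype_card, Fintype.card_fin]

/-- The matrices commuting with the group are scalars. -/
lemma exists_omega : ∃ w : F, w ≠ 0 ∧ w ≠ 1 ∧ w * w + w + 1 = 0 := by
  classical
  obtain ⟨w, hw0, hw1⟩ : ∃ w : F, w ≠ 0 ∧ w ≠ 1 := by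
    by_contra h
    push Not at h
    have hsub : (Finset.univ : Finset F) ⊆ {0, 1} := fun x _ => by
      by_cases hx : x = 0
      · simp [hx]
      · simp [h x hx]
    have := (Finset.card_le_card hsub).trans Finset.card_le_two
    rw [Finset.card_univ, hq] at this
    omega
  refine ⟨w, hw0, hw1, (mul_eq_zero.1 ?_).resolve_left (sub_ne_zero.2 hw1)⟩
  linear_combination cube hq hw0

lemma exists_gens : ∃ (w : F) (X D : GL (Fin 3) F), w ≠ 0 ∧ w ≠ 1 ∧ w * w + w + 1 = 0 ∧
    IsShift X ∧ IsShift D ∧ (X : Matrix (Fin 3) (Fin 3) F) = !![0, 0, 1; 1, 0, 0; 0, 1, 0] ∧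
    (D : Matrix (Fin 3) (Fin 3) F) = !![1, 0, 0; 0, w, 0; 0, 0, w * w] := by
  obtain ⟨w, hw0, hw1, hw⟩ := exists_omega hq
  refine ⟨w, Matrix.GeneralLinearGroup.mkOfDetNeZero !![0, 0, 1; 1, 0, 0; 0, 1, 0]
      (by simp [Matrix.det_fin_three]),
    Matrix.GeneralLinearGroup.mkOfDetNeZero !![1, 0, 0; 0, w, 0; 0, 0, w * w]
      (by simp [Matrix.det_fin_three, hw0]), hw0, hw1, hw,
    ⟨1, fun _ => 1, by ring, fun i j => ?_⟩, ⟨0, ![1, w, w * w], ?_, fun i j => ?_⟩, rfl, rfl⟩
  · fin_cases i <;> fin_cases j <;> simp [Matrix.GeneralLinearGroup.mkOfDetNeZero]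
  · simp; linear_combination cube hq hw0
  · fin_cases i <;> fin_cases j <;> simp [Matrix.GeneralLinearGroup.mkOfDetNeZero]

lemma scalar_of_commute {M : Matrix (Fin 3) (Fin 3) F}
    (h : ∀ g : GL (Fin 3) F, IsShift g → M * g = g * M) : ∃ c : F, M = c • 1 := by
  obtain ⟨w, X, D, hw0, hw1, hw, hX, hD, hXv, hDv⟩ := exists_gens hq
  have hX' := h X hX
  have hD' := h D hD
  rw [hXv] at hX'
  rw [hDv] at hD'
  have hx : ∀ i j, (M * (!![0, 0, 1; 1, 0, 0; 0, 1, 0] : Matrix (Fin 3) (Fin 3) F)) i j =
      ((!![0, 0, 1; 1, 0, 0; 0, 1, 0] : Matrix (Fin 3) (Fin 3) F) * M) i j := fun i j => congrFun (congrFun hX' i) j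
  have hd : ∀ i j, (M * (!![1, 0, 0; 0, w, 0; 0, 0, w * w] : Matrix (Fin 3) (Fin 3) F)) i j =
      ((!![1, 0, 0; 0, w, 0; 0, 0, w * w] : Matrix (Fin 3) (Fin 3) F) * M) i j := fun i j => congrFun (congrFun hD' i) j
  simp only [Matrix.mul_apply, Fin.sum_univ_three] at hx hd
  have x01 := hx 1 0; have x12 := hx 2 1
  simp at x01 x12
  have hww : w * w ≠ 1 := fun h => hw1 (by linear_combination (cube hq hw0) - w * h)
  have hwm : w * w ≠ w := fun h => hw1 (mul_left_cancel₀ hw0 (h.trans (mul_one w).symm))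
  have d01 := hd 0 1; have d02 := hd 0 2; have d10 := hd 1 0
  have d12 := hd 1 2; have d20 := hd 2 0; have d21 := hd 2 1
  simp at d01 d02 d10 d12 d20 d21
  have e01 : M 0 1 = 0 := by
    refine (mul_eq_zero.1 (?_ : (w - 1) * M 0 1 = 0)).resolve_left (sub_ne_zero.2 hw1)
    linear_combination d01
  have e02 : M 0 2 = 0 := by
    refine (mul_eq_zero.1 (?_ : (w * w - 1) * M 0 2 = 0)).resolve_left (sub_ne_zero.2 hww)
    linear_combination d02
  have e10 : M 1 0 = 0 := by
    refine (mul_eq_zero.1 (?_ : (w - 1) * M 1 0 = 0)).resolve_left (sub_ne_zero.2 hw1)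
    linear_combination -d10
  have e12 : M 1 2 = 0 := by
    refine (mul_eq_zero.1 (?_ : (w * w - w) * M 1 2 = 0)).resolve_left (sub_ne_zero.2 hwm)
    linear_combination d12
  have e20 : M 2 0 = 0 := by
    refine (mul_eq_zero.1 (?_ : (w * w - 1) * M 2 0 = 0)).resolve_left (sub_ne_zero.2 hww)
    linear_combination -d20
  have e21 : M 2 1 = 0 := by
    refine (mul_eq_zero.1 (?_ : (w * w - w) * M 2 1 = 0)).resolve_left (sub_ne_zero.2 hwm)
    linear_combination -d21
  refine ⟨M 0 0, Matrix.ext fun i j => ?_⟩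
  fin_cases i <;> fin_cases j <;> simp [e01, e02, e10, e12, e20, e21]
  · linear_combination x01
  · linear_combination x01 + x12

/-- A non-scalar element fails to commute with some conjugate. -/
lemma exists_noncommuting {a : GL (Fin 3) F} (ha : IsShift a)
    (hns : ¬ ∃ c : F, (a : Matrix (Fin 3) (Fin 3) F) = c • 1) :
    ∃ u : GL (Fin 3) F, Iso u ∧ u * a * u⁻¹ * a ≠ a * (u * a * u⁻¹) := by
  have h2 := two hq
  obtain ⟨w, hw0, hw1, hw⟩ := exists_omega hq
  obtain ⟨s, d, hd, had⟩ := ha
  have hne := ne_zero_of_prod hq hd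
  have hww : w * w ≠ 1 := fun h => hw1 (by linear_combination (cube hq hw0) - w * h)
  by_cases hs : s = 0
  · -- diagonal: conjugate to a shift
    subst hs
    let V : Matrix (Fin 3) (Fin 3) F := !![1, 1, 1; 1, w, w * w; 1, w * w, w]
    let W : Matrix (Fin 3) (Fin 3) F := !![1, 1, 1; 1, w * w, w; 1, w, w * w]
    have hVW : V * W = 1 := by
      ext i j
      fin_cases i <;> fin_cases j <;> simp [V, W, Matrix.mul_apply, Fin.sum_univ_three] <;>
        first | linear_combination h2 | linear_combination hw |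
          linear_combination h2 + 2 * cube hq hw0 | linear_combination hw + w * cube hq hw0
    have hWV : W * V = 1 := mul_eq_one_comm.1 hVW
    refine ⟨⟨V, W, hVW, hWV⟩, fun u v => ?_, fun h => ?_⟩
    · show frm (V *ᵥ u) (V *ᵥ v) = frm u v
      simp [frm, V, Matrix.mulVec, dotProduct, Fin.sum_univ_three]
      grind
    · have h' := congrArg (fun x : GL (Fin 3) F => (x : Matrix (Fin 3) (Fin 3) F)) h
      simp only [Units.val_mul] at h'
      have hAe : (a : Matrix (Fin 3) (Fin 3) F) =
          Matrix.of fun i j => if i = j + _ then d j else 0 := Matrix.ext fun i j => had i j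
      rw [hAe] at h'
      have e10 := congrFun (congrFun h' 1) 0
      have e20 := congrFun (congrFun h' 2) 0
      simp only [Units.inv_mk, Matrix.mul_apply, Fin.sum_univ_three] at e10 e20
      simp [V, W] at e10 e20
      refine hns ⟨d 0, Matrix.ext fun i j => ?_⟩
      have key : d 0 = d 1 ∧ d 0 = d 2 := by
        grind
      rw [had, add_zero, Matrix.smul_apply, Matrix.one_apply]
      fin_cases j <;> fin_cases i <;> simp [key.1, key.2] <;> simp [← key.1, ← key.2]
  · -- a shift: conjugate by a diagonal isometry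
    let V : Matrix (Fin 3) (Fin 3) F := !![1, 0, 0; 0, 1, 0; 0, 0, w]
    let W : Matrix (Fin 3) (Fin 3) F := !![1, 0, 0; 0, 1, 0; 0, 0, w * w]
    have hVW : V * W = 1 := by
      ext i j
      fin_cases i <;> fin_cases j <;> simp [V, W, Matrix.mul_apply, Fin.sum_univ_three]
      linear_combination cube hq hw0
    refine ⟨⟨V, W, hVW, mul_eq_one_comm.1 hVW⟩, fun u v => ?_, fun h => ?_⟩
    · show frm (V *ᵥ u) (V *ᵥ v) = frm u v
      simp [frm, V, Matrix.mulVec, dotProduct, Fin.sum_univ_three]
      linear_combination (u 2 * v 2 * v 2) * cube hq hw0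
    · have h' := congrArg (fun x : GL (Fin 3) F => (x : Matrix (Fin 3) (Fin 3) F)) h
      simp only [Units.val_mul] at h'
      have hAe : (a : Matrix (Fin 3) (Fin 3) F) =
          Matrix.of fun i j => if i = j + _ then d j else 0 := Matrix.ext fun i j => had i j
      rw [hAe] at h'
      have p0 := mul_ne_zero (hne 0) (hne 1)
      have p1 := mul_ne_zero (hne 1) (hne 2)
      have p2 := mul_ne_zero (hne 2) (hne 0)
      fin_cases s
      · exact hs rfl
      · have e := congrFun (congrFun h' 2) 0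
        simp only [Units.inv_mk, Matrix.mul_apply, Fin.sum_univ_three] at e
        simp [V, W] at e
        exact hw1 (mul_left_cancel₀ p0 (by grind))
      · have e := congrFun (congrFun h' 1) 0
        simp only [Units.inv_mk, Matrix.mul_apply, Fin.sum_univ_three] at e
        simp [V, W] at e
        exact hw1 (mul_left_cancel₀ p2 (by grind))

end Unit32

end Cfsg.Agent.Aschbacher

namespace Cfsg.Agent.Aschbacher

open scoped MatrixGroups Matrix
open Matrix
open Cfsg.Agent.Transvec.Herm (fixedField mem_fixedField apply_eq_pow card_eq_sq)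
open Unit32

variable {ι : Type} [Fintype ι] [DecidableEq ι] {F : Type*} [Field F] [Fintype F]
variable {σ : F ≃+* F} {f : (ι → F) → (ι → F) → F}

lemma sigma_sq (hq : Fintype.card F = 4) (hσ : σ ≠ RingEquiv.refl F) (hinv : ∀ a, σ (σ a) = a)
    (x : F) : σ x = x * x := by
  have h := card_eq_sq hσ hinv
  rw [Nat.card_eq_fintype_card, hq] at h
  have h2 : Nat.card (fixedField σ) = 2 :=
    (Nat.pow_left_injective two_ne_zero (show 2 ^ 2 = _ from h)).symm
  rw [apply_eq_pow hσ hinv, h2, sq]

/-- In dimension three over four elements the similitudes of the identity are isometries. -/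
lemma iso_of_sim (hq : Fintype.card F = 4) (hσ : σ ≠ RingEquiv.refl F) (hinv : ∀ a, σ (σ a) = a)
    {u : GL (Fin 3) F} {e : F} (he : e ≠ 0)
    (hu : (u : Matrix (Fin 3) (Fin 3) F)ᵀ * σ.toRingHom.mapMatrix (u : Matrix (Fin 3) (Fin 3) F) =
      e • 1) : Unit32.Iso u ∧ e = 1 := by
  have hs := sigma_sq hq hσ hinv
  have h00 := congrFun (congrFun hu 0) 0
  simp [Matrix.mul_apply, Fin.sum_univ_three, hs] at h00
  have he1 : e = 1 := by
    have hfix : e * e = e := by
      have hx : ∀ x : F, x * (x * x) = 0 ∨ x * (x * x) = 1 := fun x => by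
        by_cases hx : x = 0
        · simp [hx]
        · exact Or.inr (by rw [← mul_assoc]; exact Unit32.cube hq hx)
      have h2 := Unit32.two hq
      rcases hx ((u : Matrix (Fin 3) (Fin 3) F) 0 0) with a | a <;>
        rcases hx ((u : Matrix (Fin 3) (Fin 3) F) 1 0) with b | b <;>
        rcases hx ((u : Matrix (Fin 3) (Fin 3) F) 2 0) with c | c <;>
        rw [a, b, c] at h00 <;> rw [← h00] <;> grind
    exact mul_right_cancel₀ he (hfix.trans (one_mul e).symm)
  refine ⟨fun v w => ?_, he1⟩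
  have hfs : ∀ v w, Unit32.frm v w = sesqOf σ (1 : Matrix (Fin 3) (Fin 3) F) v w := fun v w => by
    simp [Unit32.frm, sesqOf, dotProduct, Fin.sum_univ_three, hs]
  rw [hfs, hfs, sesqOf_mulVec, mul_one, hu, he1, one_smul]

/-- The data of the class six member for the hermitian tensor square over four elements. -/
theorem exists_extraspecial_nine (hq : Fintype.card F = 4) (hσ : σ ≠ RingEquiv.refl F)
    (hf : IsHermLike σ 1 f) {H : Subgroup (GL ι F)} {eq : ι ≃ (Fin 2 → Fin 3)} {P : GL ι F} {c : F}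
    (hform : ∀ x y, coordForm f eq P x y =
      c * sesqOf σ (1 : Matrix (Fin 2 → Fin 3) (Fin 2 → Fin 3) F) x y)
    (h : ∀ g ∈ H, ∃ (τ : Equiv.Perm (Fin 2)) (gs : Fin 2 → GL (Fin 3) F),
      (g : Matrix ι ι F) = cj P (((permGL (factorPerm τ) * pureGL gs : GL (Fin 2 → Fin 3) F) :
        Matrix (Fin 2 → Fin 3) (Fin 2 → Fin 3) F).submatrix eq eq) ∧
      ∀ i, ∃ e : F, e ≠ 0 ∧ (gs i : Matrix (Fin 3) (Fin 3) F)ᵀ *
        σ.toRingHom.mapMatrix (gs i : Matrix (Fin 3) (Fin 3) F) =
          e • (1 : Matrix (Fin 3) (Fin 3) F)) :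
    ∃ (R : Subgroup (GL ι F)), Geo.IsSymplecticTypeGroup 3 R ∧
      Geo.ActsAbsolutelyIrreducibly (Geo.matrixSet R) ∧ R ≤ Geo.similarityGroup f ∧
      Geo.IsMinimalFieldFor (Nat.card (Subgroup.center R)) 2 2 F ∧
      Nat.card (Subgroup.center R) = 3 ∧ Nat.card R = 3 ^ (1 + 2 * 2) ∧
      H ≤ Geo.subgroupNormalizer R := by
  classical
  have hsq := sigma_sq hq hσ hf.invol
  set S := S1 hq
  let ψ₀ : GL (Fin 2 → Fin 3) F →* GL ι F :=
    (MulAut.conj P).toMonoidHom.comp (Geo.glReindex eq.symm).toMonoidHom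
  have hψ₀inj : Function.Injective ψ₀ :=
    (MulAut.conj P).injective.comp (Geo.glReindex eq.symm).injective
  let κ : GL (Fin 3) F × GL (Fin 3) F →* GL (Fin 2 → Fin 3) F :=
    { toFun := fun p => pureGL ![p.1, p.2]
      map_one' := Units.ext (by
        rw [pureGL_val, Units.val_one, ← pureMat_one]
        congr 1
        funext i
        fin_cases i <;> rfl)
      map_mul' := fun p q => by
        rw [pureGL_mul]
        congr 1
        funext i
        fin_cases i <;> rfl }
  let ψ : S × S →* GL ι F := (ψ₀.comp κ).comp (S.subtype.prodMap S.subtype)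
  have hψ : ∀ a b : S, ψ (a, b) = ψ₀ (κ ((a : GL (Fin 3) F), (b : GL (Fin 3) F))) := fun a b => rfl
  -- the kernel of the tensor product
  have hκ : ∀ a b : GL (Fin 3) F, κ (a, b) = 1 → ∃ x : F, x ≠ 0 ∧
      (a : Matrix (Fin 3) (Fin 3) F) = x • 1 ∧ (b : Matrix (Fin 3) (Fin 3) F) = x⁻¹ • 1 := by
    intro a b hab
    have h1 : pureMat (fun i => ((![a, b] : Fin 2 → GL (Fin 3) F) i : Matrix (Fin 3) (Fin 3) F)) =
        (1 : F) • pureMat (fun _ : Fin 2 => (1 : Matrix (Fin 3) (Fin 3) F)) := by
      rw [one_smul, pureMat_one, ← pureGL_val]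
      exact congrArg Units.val hab
    obtain ⟨d, hd0, hd, hprod⟩ := pureMat_factor h1 one_ne_zero (fun _ => one_ne_zero)
    refine ⟨d 0, hd0 0, hd 0, ?_⟩
    rw [Fin.prod_univ_two] at hprod
    rw [← eq_inv_of_mul_eq_one_right hprod]
    exact hd 1
  set R := ψ.range with hRdef
  -- scalars of order three
  have hsc : ∀ x : Fˣ, Unit32.IsShift (sc (Fin 3) x) := fun x =>
    ⟨0, fun _ => (x : F), by rw [Unit32.cube hq x.ne_zero], fun i j => by
      simp [sc, Matrix.diagonal_apply]⟩
  have hker : Nat.card ψ.ker = 3 := by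
    refine Eq.trans (Nat.card_congr ?_) (by rw [Nat.card_units, Nat.card_eq_fintype_card, hq] :
      Nat.card Fˣ = 3)
    refine (Equiv.ofBijective (fun x : Fˣ => (⟨(⟨sc (Fin 3) x, hsc x⟩, ⟨sc (Fin 3) x⁻¹, hsc x⁻¹⟩),
      ?_⟩ : ψ.ker)) ⟨fun x y hxy => ?_, ?_⟩).symm
    · rw [MonoidHom.mem_ker, hψ, ← map_one ψ₀]
      congr 1
      refine Units.ext ?_
      show pureMat _ = _
      rw [Units.val_one, ← pureMat_one]
      have e : (fun i : Fin 2 => ((![sc (Fin 3) x, sc (Fin 3) x⁻¹] : Fin 2 → GL (Fin 3) F) i :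
          Matrix (Fin 3) (Fin 3) F)) =
          fun i => (![(x : F), ((x⁻¹ : Fˣ) : F)] : Fin 2 → F) i • (1 : Matrix (Fin 3) (Fin 3) F) := by
        funext i
        fin_cases i <;> simp [sc, Matrix.smul_one_eq_diagonal]
      rw [e, pureMat_smul, Fin.prod_univ_two]
      simp
    · exact sc_injective (congrArg (fun v : ψ.ker => ((v.1.1 : S) : GL (Fin 3) F)) hxy)
    · rintro ⟨⟨⟨a, ha⟩, ⟨b, hb⟩⟩, hab⟩
      rw [MonoidHom.mem_ker, hψ] at hab
      obtain ⟨x, hx, hax, hbx⟩ := hκ a b (hψ₀inj (hab.trans (map_one ψ₀).symm))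
      refine ⟨Units.mk0 x hx, Subtype.ext (Prod.ext (Subtype.ext (Units.ext ?_))
        (Subtype.ext (Units.ext ?_)))⟩
      · show ((sc (Fin 3) _ : GL (Fin 3) F) : Matrix (Fin 3) (Fin 3) F) = _
        rw [hax]; simp [sc, Matrix.smul_one_eq_diagonal]
      · show ((sc (Fin 3) _ : GL (Fin 3) F) : Matrix (Fin 3) (Fin 3) F) = _
        rw [hbx]; simp [sc, Matrix.smul_one_eq_diagonal]
  have hRcard : Nat.card R = 3 ^ (1 + 2 * 2) := by
    have h1 := Subgroup.card_mul_index ψ.ker
    rw [Subgroup.index_ker, hker, Nat.card_prod, Unit32.card_S1 hq] at h1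
    have : Nat.card R = 243 := by rw [hRdef]; omega
    rw [this]; norm_num
  have hR3 : ∀ x ∈ R, x ^ 3 = 1 := by
    rintro _ ⟨⟨⟨a, ha⟩, ⟨b, hb⟩⟩, rfl⟩
    rw [hψ, ← map_pow, ← map_pow, Prod.pow_mk, Unit32.isShift_cube hq ha, Unit32.isShift_cube hq hb]
    exact map_one (ψ₀.comp κ)
  -- centralising elements
  have hcomm : ∀ a b : S, (∀ a' : S, ψ (a, b) * ψ (a', 1) = ψ (a', 1) * ψ (a, b)) →
      ∃ x : F, ((a : GL (Fin 3) F) : Matrix (Fin 3) (Fin 3) F) = x • 1 := by
    intro a b hab
    refine Unit32.scalar_of_commute hq fun g hg => ?_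
    have h1 := hab ⟨g, hg⟩
    rw [← map_mul, ← map_mul, Prod.mk_mul_mk, Prod.mk_mul_mk, mul_one, one_mul, hψ, hψ] at h1
    have h2 := hψ₀inj h1
    have h3 : κ (((a : GL (Fin 3) F) * g) * (g * (a : GL (Fin 3) F))⁻¹, 1) = 1 := by
      have e : (((a : GL (Fin 3) F) * g) * (g * (a : GL (Fin 3) F))⁻¹, (1 : GL (Fin 3) F)) =
          ((a : GL (Fin 3) F) * g, (b : GL (Fin 3) F)) *
            (g * (a : GL (Fin 3) F), (b : GL (Fin 3) F))⁻¹ := by
        simp
      rw [e, map_mul, map_inv]
      exact mul_inv_eq_one.2 h2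
    obtain ⟨x, hx, hx1, hx2⟩ := hκ _ _ h3
    have hx' : x = 1 := by
      have h0 := congrFun (congrFun hx2 0) 0
      simp at h0
      exact h0
    rw [hx', one_smul] at hx1
    exact congrArg Units.val (mul_inv_eq_one.1 (Units.ext hx1))
  have hcentral : ∀ x ∈ R, (∀ a' : S, x * ψ (a', 1) = ψ (a', 1) * x) →
      (∀ b' : S, x * ψ (1, b') = ψ (1, b') * x) → ∃ z : Fˣ, x = sc ι z := by
    rintro _ ⟨⟨a, b⟩, rfl⟩ h1 h2
    obtain ⟨x, hx⟩ := hcomm a b h1
    obtain ⟨y, hy⟩ : ∃ y : F, ((b : GL (Fin 3) F) : Matrix (Fin 3) (Fin 3) F) = y • 1 := by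
      refine Unit32.scalar_of_commute hq fun g hg => ?_
      have h3 := h2 ⟨g, hg⟩
      rw [← map_mul, ← map_mul, Prod.mk_mul_mk, Prod.mk_mul_mk, mul_one, one_mul, hψ, hψ] at h3
      have h4 := hψ₀inj h3
      have h5 : κ (1, ((b : GL (Fin 3) F) * g) * (g * (b : GL (Fin 3) F))⁻¹) = 1 := by
        have e : ((1 : GL (Fin 3) F), ((b : GL (Fin 3) F) * g) * (g * (b : GL (Fin 3) F))⁻¹) =
            ((a : GL (Fin 3) F), (b : GL (Fin 3) F) * g) *
              ((a : GL (Fin 3) F), g * (b : GL (Fin 3) F))⁻¹ := by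
          simp
        rw [e, map_mul, map_inv]
        exact mul_inv_eq_one.2 h4
      obtain ⟨x, hx, hx1, hx2⟩ := hκ _ _ h5
      have hx' : x = 1 := by
        have h0 := congrFun (congrFun hx1 0) 0
        simp at h0
        exact h0.symm
      rw [hx', inv_one, one_smul] at hx2
      exact congrArg Units.val (mul_inv_eq_one.1 (Units.ext hx2))
    have hxy : x * y ≠ 0 := by
      refine mul_ne_zero ?_ ?_ <;> intro h0
      · rw [h0, zero_smul] at hx; exact (a : GL (Fin 3) F).ne_zero hx
      · rw [h0, zero_smul] at hy; exact (b : GL (Fin 3) F).ne_zero hy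
    refine ⟨Units.mk0 _ hxy, Units.ext ?_⟩
    rw [hψ]
    have e : (fun i : Fin 2 => ((![(a : GL (Fin 3) F), (b : GL (Fin 3) F)] : Fin 2 → GL (Fin 3) F) i :
        Matrix (Fin 3) (Fin 3) F)) = fun i => (![x, y] : Fin 2 → F) i • 1 := by
      funext i
      fin_cases i <;> simp [hx, hy]
    show ((MulAut.conj P (Geo.glReindex eq.symm (pureGL _)) : GL ι F) : Matrix ι ι F) = _
    simp [Geo.glReindex, pureGL_val, e, pureMat_smul, pureMat_one, Fin.prod_univ_two,
      Matrix.submatrix_smul, Matrix.submatrix_one_equiv]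
    simp [sc, ← Matrix.smul_one_eq_diagonal, smul_smul, mul_comm]
  have hscR : ∀ z : Fˣ, sc ι z ∈ R := fun z => by
    refine ⟨(⟨sc (Fin 3) z, hsc z⟩, 1), Units.ext ?_⟩
    rw [hψ]
    have e : (fun i : Fin 2 => ((![sc (Fin 3) z, (1 : GL (Fin 3) F)] : Fin 2 → GL (Fin 3) F) i :
        Matrix (Fin 3) (Fin 3) F)) = fun i => (![(z : F), 1] : Fin 2 → F) i • 1 := by
      funext i
      fin_cases i <;> simp [sc, Matrix.smul_one_eq_diagonal]
    show ((MulAut.conj P (Geo.glReindex eq.symm (pureGL _)) : GL ι F) : Matrix ι ι F) = _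
    simp [Geo.glReindex, pureGL_val, e, pureMat_smul, pureMat_one, Fin.prod_univ_two,
      Matrix.submatrix_smul, Matrix.submatrix_one_equiv]
    simp [sc, ← Matrix.smul_one_eq_diagonal, smul_smul, mul_comm]
  haveI : Nonempty ι := ⟨eq.symm fun _ => 0⟩
  let toC : Fˣ → Subgroup.center R := fun z => ⟨⟨sc ι z, hscR z⟩, Subgroup.mem_center_iff.2 fun y =>
    Subtype.ext (sc_comm z (y : GL ι F)).symm⟩
  have htoC : Function.Bijective toC := by
    refine ⟨fun x y hxy => sc_injective (congrArg
      (fun v : Subgroup.center R => ((v : R) : GL ι F)) hxy), ?_⟩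
    rintro ⟨⟨x, hx⟩, hc⟩
    have hc' : ∀ y ∈ R, x * y = y * x := fun y hy =>
      congrArg Subtype.val (Subgroup.mem_center_iff.1 hc ⟨y, hy⟩) |>.symm
    obtain ⟨z, hz⟩ := hcentral x hx (fun a' => hc' _ ⟨_, rfl⟩) (fun b' => hc' _ ⟨_, rfl⟩)
    exact ⟨z, Subtype.ext (Subtype.ext hz.symm)⟩
  have hCcard : Nat.card (Subgroup.center R) = 3 := by
    rw [← Nat.card_eq_of_bijective toC htoC, Nat.card_units, Nat.card_eq_fintype_card, hq]
  -- normalising elements
  have hS : ∀ u : GL (Fin 3) F, Unit32.Iso u → ∀ a : S, u * (a : GL (Fin 3) F) * u⁻¹ ∈ S :=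
    fun u hu a => Unit32.conj_mem hq hu a.2
  have hnorm : ∀ (τ : Equiv.Perm (Fin 2)) (gs : Fin 2 → GL (Fin 3) F), (∀ i, Unit32.Iso (gs i)) →
      ∀ x ∈ R, ψ₀ (permGL (factorPerm τ) * pureGL gs) * x *
        (ψ₀ (permGL (factorPerm τ) * pureGL gs))⁻¹ ∈ R := by
    intro τ gs hgs x hx
    obtain ⟨⟨a, b⟩, rfl⟩ := hx
    set p : Fin 2 → GL (Fin 3) F := fun i =>
      gs i * (![(a : GL (Fin 3) F), (b : GL (Fin 3) F)] : Fin 2 → GL (Fin 3) F) i * (gs i)⁻¹ with hp
    have hpS : ∀ i, p i ∈ S := fun i => by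
      fin_cases i
      · exact hS _ (hgs 0) a
      · exact hS _ (hgs 1) b
    refine ⟨(⟨p (τ.symm 0), hpS _⟩, ⟨p (τ.symm 1), hpS _⟩), ?_⟩
    rw [hψ, hψ, ← map_inv, ← map_mul, ← map_mul]
    congr 1
    show pureGL ![p (τ.symm 0), p (τ.symm 1)] = permGL (factorPerm τ) * pureGL gs *
      pureGL ![(a : GL (Fin 3) F), (b : GL (Fin 3) F)] * (permGL (factorPerm τ) * pureGL gs)⁻¹
    rw [_root_.mul_inv_rev, mul_assoc _ (pureGL gs), pureGL_mul, pureGL_inv, ← mul_assoc,
      mul_assoc _ (pureGL _) (pureGL _), pureGL_mul, eq_mul_inv_iff_mul_eq, pureGL_mul_perm]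
    congr 2
    funext i
    have h2 : ∀ j : Fin 2, (![p (τ.symm 0), p (τ.symm 1)] : Fin 2 → GL (Fin 3) F) j =
        p (τ.symm j) := fun j => by fin_cases j <;> rfl
    rw [h2, Equiv.symm_apply_apply, hp]
  have hiso_shift : ∀ a : S, Unit32.Iso (a : GL (Fin 3) F) := fun a =>
    (Unit32.iso_of_shift hq a.2).1
  have hgram : ∀ u : GL (Fin 3) F, Unit32.Iso u → (u : Matrix (Fin 3) (Fin 3) F)ᵀ *
      σ.toRingHom.mapMatrix (u : Matrix (Fin 3) (Fin 3) F) = 1 := fun u hu => by
    refine gram_ext (σ := σ) fun v w => ?_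
    have hfs : ∀ v w, Unit32.frm v w = sesqOf σ (1 : Matrix (Fin 3) (Fin 3) F) v w := fun v w => by
      simp [Unit32.frm, sesqOf, dotProduct, Fin.sum_univ_three, hsq]
    have h := hu v w
    rw [hfs, hfs, sesqOf_mulVec, mul_one] at h
    exact h
  have hRsim : R ≤ Geo.similarityGroup f := by
    rintro _ ⟨⟨a, b⟩, rfl⟩
    refine isoGroup_le f fun u v => ?_
    set W := (κ ((a : GL (Fin 3) F), (b : GL (Fin 3) F)) :
      Matrix (Fin 2 → Fin 3) (Fin 2 → Fin 3) F) with hW
    have hg : ((ψ (a, b) : GL ι F) : Matrix ι ι F) = cj P (W.submatrix eq eq) := by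
      rw [hψ, hW]
      show ((MulAut.conj P (Geo.glReindex eq.symm _) : GL ι F) : Matrix ι ι F) = _
      simp [Geo.glReindex, cj_apply]
    have hWW : Wᵀ * σ.toRingHom.mapMatrix W = 1 := by
      show (pureMat _)ᵀ * σ.toRingHom.mapMatrix (pureMat _) = 1
      rw [pureMat_transpose, pureMat_map, pureMat_mul, ← pureMat_one]
      congr 1
      funext i
      fin_cases i
      · exact hgram _ (hiso_shift a)
      · exact hgram _ (hiso_shift b)
    have key : ∀ x y, coordForm f eq P (W *ᵥ x) (W *ᵥ y) = coordForm f eq P x y := fun x y => by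
      rw [hform, hform, sesqOf_mulVec, mul_one, hWW]
    have hco : ∀ x y, f x y = coordForm f eq P (coords eq P x) (coords eq P y) := fun x y => by
      rw [coordForm, mulVec_coords, mulVec_coords]
    simp only [glToMat, Units.coeHom_apply]
    rw [hco, hco u v, coords_mulVec eq P hg, coords_mulVec eq P hg, key]
  have hexp : Monoid.exponent R = 3 := by
    have hd : Monoid.exponent R ∣ 3 := Monoid.exponent_dvd_of_forall_pow_eq_one fun x =>
      Subtype.ext (hR3 x.1 x.2)
    rcases (Nat.dvd_prime Nat.prime_three).1 hd with h1 | h1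
    · exfalso
      haveI := Monoid.exp_eq_one_iff.1 h1
      rw [Nat.card_of_subsingleton (1 : R)] at hRcard
      norm_num at hRcard
    · exact h1
  haveI : Fact (Nat.Prime 3) := ⟨Nat.prime_three⟩
  have hchar : ∀ A : Subgroup R, A.Characteristic → IsMulCommutative A → IsCyclic A := by
    intro A hA hAc
    have hle : A ≤ Subgroup.center R := by
      intro x hx
      obtain ⟨⟨a, b⟩, hab⟩ := x.2
      -- conjugation by an element of the normaliser
      have hconj : ∀ g : GL ι F, (∀ y ∈ R, g * y * g⁻¹ ∈ R) →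
          ∀ y : R, y ∈ A → g * (y : GL ι F) * g⁻¹ * (x : GL ι F) =
            (x : GL ι F) * (g * (y : GL ι F) * g⁻¹) := by
        intro g hg y hy
        let α₀ : R →* R :=
          { toFun := fun z => ⟨g * z.1 * g⁻¹, hg _ z.2⟩
            map_one' := Subtype.ext (by simp)
            map_mul' := fun z w => Subtype.ext (by simp [mul_assoc]) }
        have hinj : Function.Injective α₀ := fun z w h => Subtype.ext
          (mul_left_cancel (mul_right_cancel (congrArg Subtype.val h)))
        let α : R ≃* R := MulEquiv.ofBijective α₀ ⟨hinj, Finite.injective_iff_surjective.1 hinj⟩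
        have hy' : α y ∈ A := by
          have h := Subgroup.characteristic_iff_map_eq.1 hA α
          exact h.le ⟨y, hy, rfl⟩
        exact congrArg Subtype.val (congrArg Subtype.val (hAc.is_comm.comm (⟨α y, hy'⟩ : A) ⟨x, hx⟩))
      have scal : ∀ a' b' : S, ψ (a', b') = (x : GL ι F) → ∀ g : GL (Fin 3) F, Unit32.Iso g →
          (g * (a' : GL (Fin 3) F) * g⁻¹ * (a' : GL (Fin 3) F) =
            (a' : GL (Fin 3) F) * (g * (a' : GL (Fin 3) F) * g⁻¹)) ∧
          (g * (b' : GL (Fin 3) F) * g⁻¹ * (b' : GL (Fin 3) F) =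
            (b' : GL (Fin 3) F) * (g * (b' : GL (Fin 3) F) * g⁻¹)) := by
        intro a' b' hab' g hg
        have h1 : ∀ i, Unit32.Iso ((![g, g] : Fin 2 → GL (Fin 3) F) i) := fun i => by
          fin_cases i <;> exact hg
        have hperm : (permGL (factorPerm (1 : Equiv.Perm (Fin 2))) : GL (Fin 2 → Fin 3) F) = 1 :=
          Units.ext (by
            show (1 : Matrix (Fin 2 → Fin 3) (Fin 2 → Fin 3) F).submatrix _ id = 1
            ext r c; rfl)
        have hg1 : ∀ v : GL (Fin 3) F × GL (Fin 3) F, (v = (g, 1) ∨ v = (1, g)) →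
            ∀ y ∈ R, ψ₀ (κ v) * y * (ψ₀ (κ v))⁻¹ ∈ R := by
          intro v hv y hy
          have hi : ∀ i, Unit32.Iso ((![v.1, v.2] : Fin 2 → GL (Fin 3) F) i) := fun i => by
            rcases hv with rfl | rfl <;> fin_cases i <;>
              first | exact hg | (intro u w; simp)
          have h := hnorm 1 ![v.1, v.2] hi y hy
          rwa [hperm, one_mul] at h
        constructor
        · have h := hconj _ (hg1 (g, 1) (Or.inl rfl)) x hx
          rw [← hab', hψ, ← map_inv, ← map_mul, ← map_mul, ← map_mul, ← map_mul,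
            ← map_inv, ← map_mul, ← map_mul, ← map_mul, ← map_mul] at h
          have h' := hψ₀inj h
          simp only [Prod.mk_mul_mk, Prod.inv_mk, inv_one, one_mul, mul_one] at h'
          obtain ⟨z, hz, hz1, hz2⟩ := hκ _ _ (by
            have e := mul_inv_eq_one.2 h'
            rwa [← map_inv, ← map_mul, Prod.inv_mk, Prod.mk_mul_mk] at e)
          have hz' : z = 1 := by
            have h0 := congrFun (congrFun hz2 0) 0
            simp at h0
            exact h0
          rw [hz', one_smul] at hz1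
          exact mul_inv_eq_one.1 (Units.ext hz1)
        · have h := hconj _ (hg1 (1, g) (Or.inr rfl)) x hx
          rw [← hab', hψ, ← map_inv, ← map_mul, ← map_mul, ← map_mul, ← map_mul,
            ← map_inv, ← map_mul, ← map_mul, ← map_mul, ← map_mul] at h
          have h' := hψ₀inj h
          simp only [Prod.mk_mul_mk, Prod.inv_mk, inv_one, one_mul, mul_one] at h'
          obtain ⟨z, hz, hz1, hz2⟩ := hκ _ _ (by
            have e := mul_inv_eq_one.2 h'
            rwa [← map_inv, ← map_mul, Prod.inv_mk, Prod.mk_mul_mk] at e)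
          have hz' : z = 1 := by
            have h0 := congrFun (congrFun hz1 0) 0
            simp at h0
            exact h0.symm
          rw [hz', inv_one, one_smul] at hz2
          exact mul_inv_eq_one.1 (Units.ext hz2)
      have hsa : ∃ y : F, ((a : GL (Fin 3) F) : Matrix (Fin 3) (Fin 3) F) = y • 1 := by
        by_contra hns
        obtain ⟨u, hu, hne⟩ := Unit32.exists_noncommuting hq a.2 hns
        exact hne (scal a b hab u hu).1
      have hsb : ∃ y : F, ((b : GL (Fin 3) F) : Matrix (Fin 3) (Fin 3) F) = y • 1 := by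
        by_contra hns
        obtain ⟨u, hu, hne⟩ := Unit32.exists_noncommuting hq b.2 hns
        exact hne (scal a b hab u hu).2
      refine Subgroup.mem_center_iff.2 fun y => Subtype.ext ?_
      obtain ⟨⟨a', b'⟩, hy'⟩ := y.2
      show (y : GL ι F) * (x : GL ι F) = (x : GL ι F) * (y : GL ι F)
      rw [← hab, ← hy', ← map_mul, ← map_mul]
      obtain ⟨s, hs⟩ := hsa
      obtain ⟨t, ht⟩ := hsb
      refine congrArg ψ (Prod.ext (Subtype.ext (Units.ext ?_)) (Subtype.ext (Units.ext ?_)))
      · show ((a' : GL (Fin 3) F) : Matrix (Fin 3) (Fin 3) F) * _ = _ * _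
        rw [hs, Matrix.mul_smul, mul_one, Matrix.smul_mul, one_mul]
      · show ((b' : GL (Fin 3) F) : Matrix (Fin 3) (Fin 3) F) * _ = _ * _
        rw [ht, Matrix.mul_smul, mul_one, Matrix.smul_mul, one_mul]
    haveI : IsCyclic (Subgroup.center R) := isCyclic_of_prime_card hCcard
    exact isCyclic_of_injective (Subgroup.inclusion hle) (Subgroup.inclusion_injective hle)
  refine ⟨R, ⟨Nat.prime_three, IsPGroup.of_card hRcard, hchar, by rw [hexp]; rfl⟩, ?_, hRsim,
    ⟨Nat.prime_two, CharTwo.of_one_ne_zero_of_two_eq_zero one_ne_zero (Unit32.two hq), hq,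
      by rw [hCcard]; norm_num, fun d hd hd' => ?_⟩, hCcard, hRcard, fun g hg => ?_⟩
  · refine absIrred_of_spanAlg_eq_top ?_
    refine eq_top_iff.2 fun M _ => ?_
    have hS1 : spanAlg S = ⊤ := spanAlg_eq_top ⟨?_, fun M hM => ?_⟩
    · -- all pure tensors
      have hpure : ∀ A B : Matrix (Fin 3) (Fin 3) F,
          cj P ((pureMat (![A, B] : Fin 2 → _)).submatrix eq eq) ∈ spanAlg R := by
        let L : Matrix (Fin 3) (Fin 3) F → Matrix (Fin 3) (Fin 3) F → Matrix ι ι F := fun A B =>
          cj P ((pureMat (![A, B] : Fin 2 → _)).submatrix eq eq)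
        have hpm : ∀ A B, pureMat (![A, B] : Fin 2 → Matrix (Fin 3) (Fin 3) F) =
            Matrix.of fun x y => A (x 0) (y 0) * B (x 1) (y 1) := fun A B => by
          ext x y; simp [pureMat, Fin.prod_univ_two]
        intro A B
        show L A B ∈ _
        refine spanAlg_induction (L := S) (p := fun A => L A B ∈ spanAlg R) (fun a ha => ?_) ?_ ?_ ?_
          (hS1 ▸ Algebra.mem_top)
        · refine spanAlg_induction (L := S) (p := fun B => L (a : Matrix (Fin 3) (Fin 3) F) B ∈ spanAlg R)
            (fun b hb => ?_) ?_ ?_ ?_ (hS1 ▸ Algebra.mem_top)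
          · refine (?_ : L _ _ = ((ψ (⟨a, ha⟩, ⟨b, hb⟩) : GL ι F) : Matrix ι ι F)) ▸
              coe_mem_spanAlg ⟨_, rfl⟩
            rw [hψ]
            show _ = ((MulAut.conj P (Geo.glReindex eq.symm (pureGL _)) : GL ι F) : Matrix ι ι F)
            simp only [L, hpm]
            simp [Geo.glReindex, pureGL_val, cj_apply, pureMat, Fin.prod_univ_two]
          · simp only [L, hpm]
            convert zero_mem (spanAlg R)
            rw [map_eq_zero_iff _ (cj P).injective]
            ext r c; simp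
          · intro p q hp hq'
            simp only [L, hpm] at hp hq' ⊢
            convert add_mem hp hq' using 1
            rw [← map_add]; congr 1; ext r c; simp [mul_add]
          · intro e p hp
            simp only [L, hpm] at hp ⊢
            convert Subalgebra.smul_mem _ hp e using 1
            rw [← map_smul]; congr 1; ext r c; simp; ring
        · simp only [L, hpm]
          convert zero_mem (spanAlg R)
          rw [map_eq_zero_iff _ (cj P).injective]
          ext r c; simp
        · intro p q hp hq'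
          simp only [L, hpm] at hp hq' ⊢
          convert add_mem hp hq' using 1
          rw [← map_add]; congr 1; ext r c; simp [add_mul]
        · intro e p hp
          simp only [L, hpm] at hp ⊢
          convert Subalgebra.smul_mem _ hp e using 1
          rw [← map_smul]; congr 1; ext r c; simp; ring
      let Φ : Matrix (Fin 2 → Fin 3) (Fin 2 → Fin 3) F ≃ₐ[F] Matrix ι ι F :=
        (Matrix.reindexAlgEquiv F F eq.symm).trans (cj P)
      have hM : M = Φ ((cj P⁻¹ M).submatrix eq.symm eq.symm) := by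
        show M = cj P (((cj P⁻¹ M).submatrix eq.symm eq.symm).submatrix eq eq)
        rw [Matrix.submatrix_submatrix, Equiv.symm_comp_self, Matrix.submatrix_id_id, cj_cj_inv]
      rw [hM, Matrix.matrix_eq_sum_single ((cj P⁻¹ M).submatrix eq.symm eq.symm)]
      simp only [map_sum]
      refine sum_mem fun x _ => sum_mem fun y _ => ?_
      show cj P ((Matrix.single x y _).submatrix eq eq) ∈ _
      set v := ((cj P⁻¹ M).submatrix eq.symm eq.symm) x y
      convert Subalgebra.smul_mem _ (hpure (Matrix.single (x 0) (y 0) 1)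
        (Matrix.single (x 1) (y 1) 1)) v using 1
      rw [← map_smul]
      congr 1
      ext r t
      simp only [Matrix.submatrix_apply, Matrix.smul_apply, pureMat, Matrix.of_apply,
        Fin.prod_univ_two, Matrix.single_apply, smul_eq_mul]
      simp only [Matrix.cons_val_zero, Matrix.cons_val_one, Matrix.single_apply]
      have he : ∀ p q : Fin 2 → Fin 3, p = q ↔ p 0 = q 0 ∧ p 1 = q 1 := fun p q => by
        simp [funext_iff, Fin.forall_fin_two]
      simp only [he x, he y]
      split_ifs <;> first | (exfalso; tauto) | ring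
    · -- the group of order 27 is irreducible
      intro W hW
      by_contra hc
      push Not at hc
      obtain ⟨w, X, D, hw0, hw1, hw, hX, hD, hXv, hDv⟩ := Unit32.exists_gens hq
      obtain ⟨v, hvW, hv0⟩ := (Submodule.ne_bot_iff _).1 hc.1
      have hmv : ∀ g : GL (Fin 3) F, Unit32.IsShift g → ∀ u ∈ W,
          (g : Matrix (Fin 3) (Fin 3) F) *ᵥ u ∈ W := fun g hg u hu =>
        hW _ ⟨g, hg, rfl⟩ ⟨u, hu, Matrix.toLin'_apply _ _⟩
      have hDu := fun u hu => hmv D hD u hu
      have hXu := fun u hu => hmv X hX u hu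
      rw [hDv] at hDu
      rw [hXv] at hXu
      have h2 := Unit32.two hq
      have hc3 := Unit32.cube hq hw0
      -- the projection onto a coordinate
      have hproj : ∀ u ∈ W, ![u 0, 0, 0] ∈ W := by
        intro u hu
        have h1 := add_mem (add_mem hu (hDu _ hu)) (hDu _ (hDu _ hu))
        convert h1 using 1
        funext i
        fin_cases i <;> simp [Matrix.mulVec, dotProduct, Fin.sum_univ_three, Matrix.vecHead,
          Matrix.vecTail, Function.comp_def] <;>
          first
            | linear_combination -(u 0) * h2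
            | linear_combination (u 0) * h2
            | linear_combination (u 1) * hw
            | linear_combination (u 2) * hw + (u 2) * w * hc3
            | linear_combination -(u 1) * hw
            | linear_combination -(u 2) * hw - (u 2) * w * hc3
      have he0 : ![(1 : F), 0, 0] ∈ W := by
        have key : ∀ u ∈ W, u 0 ≠ 0 → ![(1 : F), 0, 0] ∈ W := fun u hu h0 => by
          convert W.smul_mem (u 0)⁻¹ (hproj u hu) using 1
          funext i
          fin_cases i <;> simp [h0]
        obtain ⟨i, hi⟩ := Function.ne_iff.1 hv0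
        fin_cases i
        · exact key v hvW hi
        · refine key _ (hXu _ (hXu v hvW)) ?_
          simpa [Matrix.mulVec, dotProduct, Fin.sum_univ_three] using hi
        · refine key _ (hXu v hvW) ?_
          simpa [Matrix.mulVec, dotProduct, Fin.sum_univ_three] using hi
      refine hc.2 (eq_top_iff.2 fun u _ => ?_)
      have he1 := hXu _ he0
      have he2 := hXu _ he1
      convert add_mem (add_mem (W.smul_mem (u 0) he0) (W.smul_mem (u 1) he1))
        (W.smul_mem (u 2) he2) using 1
      funext i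
      fin_cases i <;>
        simp [Matrix.mulVec, dotProduct, Fin.sum_univ_three, Matrix.vecHead, Matrix.vecTail,
          Function.comp_def]
    · exact Unit32.scalar_of_commute hq fun g hg => hM _ ⟨g, hg, rfl⟩
  · interval_cases d
    norm_num [hCcard]
  · obtain ⟨τ, gs, hg', he⟩ := h g hg
    have hiso : ∀ i, Unit32.Iso (gs i) := fun i => by
      obtain ⟨e, he0, he'⟩ := he i
      exact (iso_of_sim hq hσ hf.invol he0 he').1
    have hgψ : g = ψ₀ (permGL (factorPerm τ) * pureGL gs) := eq_conj_glReindex eq P _ hg'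
    have hsub : ∀ x ∈ R, g * x * g⁻¹ ∈ R := hgψ ▸ hnorm τ gs hiso
    refine Subgroup.mem_normalizer_iff.2 fun x => ⟨hsub x, fun hx => ?_⟩
    let α : R → R := fun z => ⟨g * z.1 * g⁻¹, hsub _ z.2⟩
    have hinj : Function.Injective α := fun z w h => Subtype.ext
      (mul_left_cancel (mul_right_cancel (congrArg Subtype.val h)))
    obtain ⟨z, hz⟩ := (Finite.injective_iff_surjective.1 hinj) ⟨_, hx⟩
    have e : z.1 = x := mul_left_cancel (mul_right_cancel (congrArg Subtype.val hz))
    exact e ▸ z.2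

end Cfsg.Agent.Aschbacher
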