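import Cfsg.Agent.Lib.Classical.UnitaryStd

/-!
A subgroup `L₂(11)` of `SU₅(2)`, as the stabiliser of eleven totally isotropic planes, given by
explicit matrices with tables for the field of four elements.
-/

set_option autoImplicit false

namespace Cfsg.Agent.Aschbacher.UnitFive

open scoped MatrixGroups Matrix
open Matrix

/-- Addition on the field of four elements, coded by `0, 1, ω, ω + 1`. -/
def tAdd (a b : Fin 4) : Fin 4 :=
  (![![0, 1, 2, 3], ![1, 0, 3, 2], ![2, 3, 0, 1], ![3, 2, 1, 0]] : Fin 4 → Fin 4 → Fin 4) a b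

/-- Multiplication on the field of four elements. -/
def tMul (a b : Fin 4) : Fin 4 :=
  (![![0, 0, 0, 0], ![0, 1, 2, 3], ![0, 2, 3, 1], ![0, 3, 1, 2]] : Fin 4 → Fin 4 → Fin 4) a b

/-- Coded matrices. -/
abbrev TM := Fin 5 → Fin 5 → Fin 4

/-- Coded vectors. -/
abbrev TV := Fin 5 → Fin 4

/-- Matrix times vector. -/
def tMV (M : TM) (v : TV) : TV := fun i =>
  tAdd (tAdd (tAdd (tAdd (tMul (M i 0) (v 0)) (tMul (M i 1) (v 1))) (tMul (M i 2) (v 2)))
    (tMul (M i 3) (v 3))) (tMul (M i 4) (v 4))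

/-- Matrix product. -/
def tMM (M N : TM) : TM := fun i j => tMV M (fun k => N k j) i

/-- The identity. -/
def tOne : TM := fun i j => if i = j then 1 else 0

/-- Powers. -/
def tPow (M : TM) : ℕ → TM
  | 0 => tOne
  | k + 1 => tMM (tPow M k) M

/-- The conjugate transpose. -/
def tStar (M : TM) : TM := fun i j => tMul (M j i) (M j i)

/-- The element of order eleven. -/
def tA : TM := ![![1, 3, 3, 1, 1], ![3, 3, 1, 3, 3], ![2, 2, 1, 2, 1], ![2, 2, 1, 1, 2],
  ![3, 1, 3, 1, 1]]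

/-- The element of order five. -/
def tB : TM := ![![3, 1, 2, 1, 2], ![2, 0, 0, 1, 3], ![3, 0, 1, 2, 0], ![2, 2, 0, 1, 0],
  ![3, 2, 3, 3, 3]]

/-- An involution. -/
def tC : TM := ![![1, 1, 2, 1, 3], ![1, 1, 1, 1, 1], ![3, 1, 0, 2, 0], ![1, 1, 3, 1, 2],
  ![2, 1, 0, 3, 0]]

/-- The cyclic shift. -/
def tD : TM := fun i j => if j = i + 1 then 1 else 0

/-- The first spanning vectors of the planes. -/
def tU : Fin 11 → TV := ![![0, 1, 3, 1, 2], ![2, 2, 1, 3, 0], ![3, 3, 0, 2, 3], ![0, 3, 0, 3, 0],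
  ![1, 0, 0, 2, 0], ![3, 2, 1, 0, 1], ![0, 1, 2, 1, 2], ![1, 3, 0, 2, 3], ![2, 2, 3, 0, 1],
  ![0, 0, 2, 1, 0], ![0, 1, 0, 3, 0]]

/-- The second spanning vectors of the planes. -/
def tW : Fin 11 → TV := ![![1, 0, 3, 2, 1], ![0, 2, 3, 1, 2], ![0, 0, 0, 2, 3], ![1, 3, 0, 3, 1],
  ![1, 0, 3, 2, 2], ![3, 0, 0, 0, 1], ![2, 1, 0, 3, 3], ![1, 2, 3, 3, 0], ![1, 3, 3, 1, 0],
  ![0, 1, 2, 1, 3], ![0, 0, 1, 0, 2]]

/-- A linear combination in a plane. -/
def tComb (x y : Fin 4) (i : Fin 11) : TV := fun k => tAdd (tMul x (tU i k)) (tMul y (tW i k))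

/-- A matrix carries each plane to a plane. -/
def Carries (M : TM) (j : Fin 11 → Fin 11) (c : Fin 11 → Fin 4 × Fin 4 × Fin 4 × Fin 4) : Prop :=
  ∀ i, tMV M (tU i) = tComb (c i).1 (c i).2.1 (j i) ∧
    tMV M (tW i) = tComb (c i).2.2.1 (c i).2.2.2 (j i)

lemma carries_A : Carries tA ![1, 2, 3, 4, 5, 6, 7, 8, 9, 10, 0] (fun _ => (1, 0, 0, 1)) := by
  unfold Carries; decide

lemma carries_B : Carries tB ![0, 4, 8, 1, 5, 9, 2, 6, 10, 3, 7] (fun _ => (0, 2, 3, 2)) := by
  unfold Carries; decide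

lemma carries_C : Carries tC ![0, 1, 10, 4, 3, 9, 7, 6, 8, 5, 2]
    ![(1, 0, 1, 1), (3, 2, 2, 3), (1, 2, 1, 3), (3, 3, 0, 2), (2, 3, 0, 3), (1, 1, 3, 2),
      (3, 1, 0, 2), (2, 1, 0, 3), (1, 0, 2, 1), (2, 1, 3, 1), (3, 2, 1, 1)] := by
  unfold Carries; decide

lemma moves_D : ∀ i x y, tMV tD (tU 0) ≠ tComb x y i := by decide +kernel

lemma pow_A : tPow tA 11 = tOne := by decide +kernel
lemma pow_B : tPow tB 5 = tOne := by decide +kernel
lemma pow_C : tPow tC 2 = tOne := by decide +kernel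
lemma pow_D : tPow tD 5 = tOne := by decide +kernel
lemma unit_A : tMM (tStar tA) tA = tOne := by decide +kernel
lemma unit_B : tMM (tStar tB) tB = tOne := by decide +kernel
lemma unit_C : tMM (tStar tC) tC = tOne := by decide +kernel
lemma unit_D : tMM (tStar tD) tD = tOne := by decide +kernel
lemma A_ne : tA ≠ tOne := by decide +kernel
lemma B_ne : tB ≠ tOne := by decide +kernel
lemma BA : tMM tB tA = tMM (tPow tA 4) tB := by decide +kernel
lemma CA : ∀ k : Fin 11, tMM tC tA ≠ tMM (tPow tA k.val) tC := by decide +kernel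

section Field

variable {F : Type*} [Field F]

/-- The decoding. -/
def dec (ω : F) : Fin 4 → F := ![0, 1, ω, ω + 1]

variable {ω : F} (hω : ω * ω + ω + 1 = 0) (h2 : (2 : F) = 0)
include hω h2

lemma dec_add (a b : Fin 4) : dec ω (tAdd a b) = dec ω a + dec ω b := by
  haveI : CharP F 2 := CharTwo.of_one_ne_zero_of_two_eq_zero one_ne_zero h2
  fin_cases a <;> fin_cases b <;>
    simp [dec, tAdd, CharTwo.add_self_eq_zero, add_comm, add_left_comm]
  all_goals linear_combination -ω * h2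

lemma dec_mul (a b : Fin 4) : dec ω (tMul a b) = dec ω a * dec ω b := by
  fin_cases a <;> fin_cases b <;> simp [dec, tMul]
  all_goals first
    | linear_combination -hω + (ω + 1) * h2
    | linear_combination -hω + h2
    | linear_combination -hω + ω * h2
    | linear_combination -hω
    | linear_combination -hω - ω * h2

omit hω h2 in
lemma dec_inj (hω : ω * ω + ω + 1 = 0) (h2 : (2 : F) = 0) : Function.Injective (dec ω) := by
  have h0 : ω ≠ 0 := fun h => by rw [h] at hω; simp at hω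
  have h1 : ω ≠ 1 := fun h => one_ne_zero (α := F) (by rw [h] at hω; linear_combination hω - h2)
  have h3 : ω + 1 ≠ 0 := fun h => h1 (by linear_combination h - h2)
  have h4 : ω + 1 ≠ 1 := fun h => h0 (by linear_combination h)
  have h5 : ω + 1 ≠ ω := fun h => one_ne_zero (α := F) (by linear_combination h)
  intro a b h
  fin_cases a <;> fin_cases b <;> simp [dec] at h ⊢
  all_goals first
    | exact absurd h one_ne_zero | exact absurd h h0 | exact absurd h h1 | exact absurd h h3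
    | exact absurd h h4 | exact absurd h h5 | exact absurd h.symm one_ne_zero
    | exact absurd h.symm h0 | exact absurd h.symm h1 | exact absurd h.symm h3
    | exact absurd h.symm h4 | exact absurd h.symm h5

/-- A decoded matrix. -/
noncomputable def decM (ω : F) (M : TM) : Matrix (Fin 5) (Fin 5) F :=
  Matrix.of fun i j => dec ω (M i j)

lemma decM_mv (M : TM) (v : TV) : decM ω M *ᵥ (dec ω ∘ v) = dec ω ∘ tMV M v := by
  funext i
  simp [decM, Matrix.mulVec, dotProduct, Fin.sum_univ_five, tMV, dec_add hω h2, dec_mul hω h2]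

lemma decM_mul (M N : TM) : decM ω M * decM ω N = decM ω (tMM M N) := by
  ext i j
  simp [decM, Matrix.mul_apply, Fin.sum_univ_five, tMM, tMV, dec_add hω h2, dec_mul hω h2]

omit hω h2 in
lemma decM_one : decM ω tOne = 1 := by
  ext i j
  rcases eq_or_ne i j with h | h <;> simp [decM, tOne, h, dec, Matrix.one_apply]

lemma decM_pow (M : TM) (k : ℕ) : decM ω M ^ k = decM ω (tPow M k) := by
  induction k with
  | zero => simp [tPow, decM_one]
  | succ k ih => rw [pow_succ, ih, decM_mul hω h2]; rfl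

omit hω h2 in
lemma decM_inj (hω : ω * ω + ω + 1 = 0) (h2 : (2 : F) = 0) {M N : TM}
    (h : decM ω M = decM ω N) : M = N :=
  funext fun i => funext fun j => dec_inj hω h2 (congrFun (congrFun h i) j)

lemma decM_star (M : TM) :
    (decM ω M).transpose.map (fun x => x ^ 2) = decM ω (tStar M) := by
  ext i j
  simp [decM, tStar, dec_mul hω h2, pow_two]

/-- The decoded matrix in the general linear group. -/
noncomputable def glOf (M : TM) {k : ℕ} (hk : k ≠ 0) (hM : tPow M k = tOne) : GL (Fin 5) F :=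
  Units.ofPowEqOne (decM ω M) k (by rw [decM_pow hω h2, hM, decM_one]) hk

lemma glOf_coe (M : TM) {k : ℕ} (hk : k ≠ 0) (hM : tPow M k = tOne) :
    ((glOf hω h2 M hk hM : GL (Fin 5) F) : Matrix (Fin 5) (Fin 5) F) = decM ω M := rfl

lemma glOf_pow (M : TM) {k : ℕ} (hk : k ≠ 0) (hM : tPow M k = tOne) :
    (glOf hω h2 M hk hM : GL (Fin 5) F) ^ k = 1 :=
  Units.ext (by rw [Units.val_pow_eq_pow_val, glOf_coe, decM_pow hω h2, hM, decM_one]; rfl)

end Field

section Group

variable {F : Type*} [Field F] [Fintype F]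

lemma cube_eq_one (hF : Fintype.card F = 4) {x : F} (hx : x ≠ 0) : x ^ 3 = 1 := by
  have := FiniteField.pow_card_sub_one_eq_one x hx
  rwa [hF] at this

lemma exists_omega (hF : Fintype.card F = 4) :
    ∃ ω : F, ω * ω + ω + 1 = 0 ∧ (2 : F) = 0 := by
  classical
  have h2 : (2 : F) = 0 := by
    have h4 := FiniteField.cast_card_eq_zero F
    rw [hF] at h4
    push_cast at h4
    exact mul_self_eq_zero.1 (by linear_combination h4)
  obtain ⟨ω, -, hω⟩ : ∃ ω ∈ (Finset.univ : Finset F), ω ∉ ({0, 1} : Finset F) :=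
    Finset.exists_mem_notMem_of_card_lt_card (by
      rw [Finset.card_univ, hF]; exact (Finset.card_le_two).trans_lt (by norm_num))
  simp only [Finset.mem_insert, Finset.mem_singleton, not_or] at hω
  refine ⟨ω, mul_left_cancel₀ (sub_ne_zero.2 hω.2) ?_, h2⟩
  rw [mul_zero]
  linear_combination cube_eq_one hF hω.1

/-- A matrix of order prime to three with orthonormal columns lies in the special unitary group. -/
lemma glOf_mem (hF : Fintype.card F = 4) {ω : F} (hω : ω * ω + ω + 1 = 0) (h2 : (2 : F) = 0)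
    (M : TM) {k : ℕ} (hk : k ≠ 0) (hk3 : Nat.Coprime k 3) (hM : tPow M k = tOne)
    (hu : tMM (tStar M) M = tOne) :
    (glOf hω h2 M hk hM : GL (Fin 5) F) ∈ GU 5 F 2 ⊓ Geo.specialLinear (Fin 5) F := by
  refine ⟨fun u v => ?_, ?_⟩
  · haveI : CharP F 2 := CharTwo.of_one_ne_zero_of_two_eq_zero one_ne_zero h2
    have hfix : ∀ x : F, (x ^ 2) ^ 2 = x := fun x => by
      rw [← pow_mul]; have := FiniteField.pow_card x; rwa [hF] at this
    have hfrob : ∀ w : Fin 5 → F, (fun i => ((decM ω M *ᵥ w) i) ^ 2) =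
        (decM ω M).map (fun x => x ^ 2) *ᵥ fun i => w i ^ 2 := fun w => funext fun i => by
      simp [Matrix.mulVec, dotProduct, Fin.sum_univ_five, CharTwo.add_sq, mul_pow]
    have horth : (decM ω M).transpose * (decM ω M).map (fun x => x ^ 2) = 1 := by
      have h1 : (decM ω M).transpose.map (fun x => x ^ 2) * decM ω M = 1 := by
        rw [decM_star hω h2, decM_mul hω h2, hu, decM_one]
      ext i j
      have h3 := congrArg (fun x => x ^ 2) (congrFun (congrFun h1 i) j)
      simp only [Matrix.mul_apply, Fin.sum_univ_five, Matrix.map_apply, Matrix.transpose_apply,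
        CharTwo.add_sq, mul_pow, hfix, Matrix.one_apply, apply_ite (fun x : F => x ^ 2), one_pow,
        zero_pow two_ne_zero] at h3 ⊢
      exact h3
    have hdot : ∀ a b : Fin 5 → F, hermForm 5 F 2 a b = a ⬝ᵥ fun i => b i ^ 2 := fun a b => rfl
    show hermForm 5 F 2 (decM ω M *ᵥ u) (decM ω M *ᵥ v) = hermForm 5 F 2 u v
    rw [hdot, hdot, hfrob, Matrix.dotProduct_mulVec, ← Matrix.vecMul_transpose, Matrix.vecMul_vecMul,
      horth, Matrix.vecMul_one]
  · set g : GL (Fin 5) F := glOf hω h2 M hk hM with hg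
    have h1 : (Matrix.GeneralLinearGroup.det g) ^ k = 1 := by
      rw [← map_pow, hg, glOf_pow, map_one]
    have h3 : (Matrix.GeneralLinearGroup.det g) ^ 3 = 1 := Units.ext (by
      rw [Units.val_pow_eq_pow_val]; exact cube_eq_one hF (Units.ne_zero _))
    refine MonoidHom.mem_ker.2 ?_
    rw [← pow_one (Matrix.GeneralLinearGroup.det g), ← hk3.gcd_eq_one]
    exact pow_gcd_eq_one.2 ⟨h1, h3⟩

/-- The eleven planes, as a set of vectors. -/
def planes (ω : F) : Set (Fin 5 → F) :=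
  {v | ∃ (i : Fin 11) (x y : F), v = x • (dec ω ∘ tU i) + y • (dec ω ∘ tW i)}

/-- The stabiliser of the eleven planes. -/
def planeStab (ω : F) : Subgroup (GL (Fin 5) F) where
  carrier := {g | (fun v => g.val *ᵥ v) '' planes ω = planes ω}
  one_mem' := by simp
  mul_mem' {a b} ha hb := by
    simp only [Set.mem_ofPred_eq] at ha hb ⊢
    conv_rhs => rw [← ha, ← hb]
    rw [Set.image_image]
    simp [Matrix.mulVec_mulVec]
  inv_mem' {a} ha := by
    simp only [Set.mem_ofPred_eq] at ha ⊢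
    conv_lhs => rw [← ha]
    rw [Set.image_image]
    simp [Matrix.mulVec_mulVec]

lemma mem_planeStab {ω : F} (hω : ω * ω + ω + 1 = 0) (h2 : (2 : F) = 0) {M : TM}
    {g : GL (Fin 5) F} (hg : g.val = decM ω M) {j : Fin 11 → Fin 11}
    {c : Fin 11 → Fin 4 × Fin 4 × Fin 4 × Fin 4} (hc : Carries M j c) : g ∈ planeStab ω := by
  show (fun v => g.val *ᵥ v) '' planes ω = planes ω
  refine Set.eq_of_subset_of_ncard_le ?_ ?_ (Set.toFinite _)
  · rintro _ ⟨v, ⟨i, x, y, rfl⟩, rfl⟩
    refine ⟨j i, x * dec ω (c i).1 + y * dec ω (c i).2.2.1,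
      x * dec ω (c i).2.1 + y * dec ω (c i).2.2.2, ?_⟩
    show g.val *ᵥ _ = _
    rw [Matrix.mulVec_add, Matrix.mulVec_smul, Matrix.mulVec_smul, hg, decM_mv hω h2,
      decM_mv hω h2, (hc i).1, (hc i).2]
    funext k
    simp [tComb, dec_add hω h2, dec_mul hω h2]
    ring
  · rw [Set.ncard_image_of_injective _ (fun a b h => Transvec.mv_inj g h)]

lemma exists_code (hF : Fintype.card F = 4) {ω : F} (hω : ω * ω + ω + 1 = 0) (h2 : (2 : F) = 0)
    (x : F) : ∃ a, dec ω a = x :=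
  ((Fintype.bijective_iff_injective_and_card _).2 ⟨dec_inj hω h2, by simp [hF]⟩).2 x

/-- The subgroup of the special unitary group and three of its elements. -/
theorem exists_overgroup (hF : Fintype.card F = 4) :
    ∃ (L : Subgroup (GL (Fin 5) F)) (a b c : GL (Fin 5) F),
      a ∈ GU 5 F 2 ⊓ Geo.specialLinear (Fin 5) F ∧ b ∈ GU 5 F 2 ⊓ Geo.specialLinear (Fin 5) F ∧
      c ∈ GU 5 F 2 ⊓ Geo.specialLinear (Fin 5) F ∧ a ∈ L ∧ b ∈ L ∧ c ∈ L ∧
      ¬ GU 5 F 2 ⊓ Geo.specialLinear (Fin 5) F ≤ L ∧ orderOf a = 11 ∧ orderOf b = 5 ∧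
      b * a * b⁻¹ ∈ Subgroup.zpowers a ∧ c * a * c⁻¹ ∉ Subgroup.zpowers a := by
  obtain ⟨ω, hω, h2⟩ := exists_omega hF
  set a : GL (Fin 5) F := glOf hω h2 tA (by norm_num) pow_A with ha
  set b : GL (Fin 5) F := glOf hω h2 tB (by norm_num) pow_B with hb
  set c : GL (Fin 5) F := glOf hω h2 tC (by norm_num) pow_C with hc
  set d : GL (Fin 5) F := glOf hω h2 tD (by norm_num) pow_D with hd
  haveI : Fact (Nat.Prime 11) := ⟨by norm_num⟩
  haveI : Fact (Nat.Prime 5) := ⟨by norm_num⟩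
  have hoa : orderOf a = 11 := orderOf_eq_prime (glOf_pow hω h2 _ _ _) fun h =>
    A_ne (decM_inj hω h2 (by rw [decM_one]; exact congrArg Units.val h))
  have hob : orderOf b = 5 := orderOf_eq_prime (glOf_pow hω h2 _ _ _) fun h =>
    B_ne (decM_inj hω h2 (by rw [decM_one]; exact congrArg Units.val h))
  have hpow : ∀ k : ℕ, (a ^ k : GL (Fin 5) F).val = decM ω (tPow tA k) := fun k => by
    rw [Units.val_pow_eq_pow_val, ha, glOf_coe, decM_pow hω h2]
  refine ⟨planeStab ω, a, b, c, glOf_mem hF hω h2 _ _ (by norm_num) _ unit_A,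
    glOf_mem hF hω h2 _ _ (by norm_num) _ unit_B, glOf_mem hF hω h2 _ _ (by norm_num) _ unit_C,
    mem_planeStab hω h2 (glOf_coe hω h2 _ _ _) carries_A,
    mem_planeStab hω h2 (glOf_coe hω h2 _ _ _) carries_B,
    mem_planeStab hω h2 (glOf_coe hω h2 _ _ _) carries_C, fun hle => ?_, hoa, hob, ?_, ?_⟩
  · have hdm : d ∈ planeStab ω := hle (glOf_mem hF hω h2 _ _ (by norm_num) _ unit_D)
    have h0 : dec ω ∘ tU 0 ∈ planes ω := ⟨0, 1, 0, by simp⟩
    have h1 : d.val *ᵥ (dec ω ∘ tU 0) ∈ planes ω := by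
      rw [← (show _ '' planes ω = planes ω from hdm)]; exact ⟨_, h0, rfl⟩
    obtain ⟨i, x, y, hxy⟩ := h1
    obtain ⟨x', rfl⟩ := exists_code hF hω h2 x
    obtain ⟨y', rfl⟩ := exists_code hF hω h2 y
    refine moves_D i x' y' (funext fun k => dec_inj hω h2 ?_)
    rw [hd, glOf_coe, decM_mv hω h2] at hxy
    have := congrFun hxy k
    simpa [tComb, dec_add hω h2, dec_mul hω h2] using this
  · refine ⟨4, ?_⟩
    show a ^ (4 : ℤ) = _
    rw [eq_mul_inv_iff_mul_eq, show ((4 : ℤ)) = ((4 : ℕ) : ℤ) from rfl, zpow_natCast]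
    refine Units.ext ?_
    rw [Units.val_mul, Units.val_mul, hpow, ha, hb, glOf_coe, glOf_coe, decM_mul hω h2,
      decM_mul hω h2, BA]
  · intro h
    rw [← mem_powers_iff_mem_zpowers, Submonoid.mem_powers_iff] at h
    obtain ⟨k, hk⟩ := h
    rw [← pow_mod_orderOf, hoa, eq_mul_inv_iff_mul_eq] at hk
    have := congrArg Units.val hk
    rw [Units.val_mul, Units.val_mul, hpow, ha, hc, glOf_coe, glOf_coe, decM_mul hω h2,
      decM_mul hω h2] at this
    exact CA ⟨k % 11, Nat.mod_lt _ (by norm_num)⟩ (decM_inj hω h2 this).symm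

end Group

end Cfsg.Agent.Aschbacher.UnitFive
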