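import Cfsg.Agent.Lib.Aschbacher.UnitMaximal
import Cfsg.Agent.Lib.Aschbacher.UnitFiveData

/-!
The normaliser of a field of degree five is not maximal in `SU₅(2)`.
-/

set_option autoImplicit false
set_option linter.style.haveILetI false

namespace Cfsg.Agent.Aschbacher.UnitFive

open scoped MatrixGroups Matrix
open Matrix

variable {F : Type*} [Field F] [Fintype F]

/-- A finite group whose order divides a number prime to `p ^ 2` has conjugate subgroups of
order `p`. -/
lemma zpowers_conj {G : Type*} [Group G] [Finite G] {p : ℕ} [Fact p.Prime]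
    (hp : ¬ p ^ 2 ∣ Nat.card G) {x a : G} (hx : orderOf x = p) (ha : orderOf a = p) :
    ∃ g : G, (Subgroup.zpowers x).map (MulAut.conj g).toMonoidHom = Subgroup.zpowers a := by
  have key : ∀ y : G, orderOf y = p → ∃ P : Sylow p G, (P : Subgroup G) = Subgroup.zpowers y := by
    intro y hy
    obtain ⟨P, hP⟩ := (IsPGroup.of_card (n := 1)
      (show Nat.card (Subgroup.zpowers y) = p ^ 1 by rw [Nat.card_zpowers, hy, pow_one])).exists_le_sylow
    obtain ⟨k, hk⟩ := P.2.exists_card_eq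
    refine ⟨P, (Subgroup.eq_of_le_of_card_ge hP ?_).symm⟩
    have hk1 : k ≤ 1 := by
      by_contra h
      exact hp ((pow_dvd_pow p (by omega)).trans (hk ▸ Subgroup.card_subgroup_dvd_card _))
    rw [Nat.card_zpowers, hy, hk]
    exact (Nat.pow_le_pow_right (Fact.out : p.Prime).pos hk1).trans (pow_one p).le
  obtain ⟨P, hP⟩ := key x hx
  obtain ⟨Q, hQ⟩ := key a ha
  obtain ⟨g, hg⟩ := MulAction.exists_smul_eq G P Q
  refine ⟨g, ?_⟩
  rw [← hP, ← hQ, ← hg, Sylow.coe_subgroup_smul]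
  rfl

lemma not_dvd_card_GL (hF : Fintype.card F = 4) : ¬ 11 ^ 2 ∣ Nat.card (GL (Fin 5) F) := by
  rw [Matrix.card_GL_field, hF]
  simp [Fin.prod_univ_five]

/-- A field of degree five closed under adjoints gives an element of order eleven whose group is
normalised by the normaliser of the field, and the latter has order at most 55. -/
theorem field_data (hF : Fintype.card F = 4)
    {K : Subalgebra F (Matrix (Fin 5) (Fin 5) F)} (hK : Geo.IsFieldSubalgebra 5 K)
    (hadj : Geo.IsAdjointClosedFor (hermForm 5 F 2) K) :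
    ∃ x : GL (Fin 5) F, orderOf x = 11 ∧
      x ∈ Geo.subalgebraNormalizer K ⊓ (GU 5 F 2 ⊓ Geo.specialLinear (Fin 5) F) ∧
      (∀ h ∈ Geo.subalgebraNormalizer K ⊓ (GU 5 F 2 ⊓ Geo.specialLinear (Fin 5) F),
        h * x * h⁻¹ ∈ Subgroup.zpowers x) ∧
      Nat.card ↥(Geo.subalgebraNormalizer K ⊓ (GU 5 F 2 ⊓ Geo.specialLinear (Fin 5) F)) ≤ 55 := by
  classical
  obtain ⟨σ, hσ, hu, -⟩ := UnitaryStd.exists_setup (n := 5) (q := 2) (by rw [hF]; norm_num : Fintype.card F = 2 ^ 2) (by norm_num)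
  obtain ⟨ω, hω, h2⟩ := exists_omega hF
  -- K as a field
  haveI : Nontrivial ↥K := ⟨⟨0, 1, fun h => zero_ne_one (congrArg Subtype.val h)⟩⟩
  have hfield : IsField ↥K :=
    { exists_pair_ne := exists_pair_ne _
      mul_comm := fun a b => Subtype.ext (hK.comm a a.2 b b.2)
      mul_inv_cancel := fun {a} ha => by
        obtain ⟨b, hb, hab⟩ := hK.inv a a.2 fun h => ha (Subtype.ext h)
        exact ⟨⟨b, hb⟩, Subtype.ext hab⟩ }
  letI : Field ↥K := hfield.toField
  haveI : Finite ↥K := Finite.of_injective (fun k : ↥K => (k : Matrix (Fin 5) (Fin 5) F))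
    Subtype.val_injective
  haveI : Fintype ↥K := Fintype.ofFinite _
  have hcardK : Fintype.card ↥K = 1024 := by
    rw [Module.card_eq_pow_finrank (K := F) (V := ↥K), hF, hK.finrank_eq]; norm_num
  -- the adjoint
  have hval : ∀ {a b : Matrix (Fin 5) (Fin 5) F}, (∀ u v, hermForm 5 F 2 u (a *ᵥ v) =
      hermForm 5 F 2 u (b *ᵥ v)) → a = b := by
    intro a b h
    refine Matrix.ext_of_mulVec_single fun i => ?_
    by_contra hne
    obtain ⟨u, hu'⟩ := (hu.nondegenerate _ (sub_ne_zero.2 hne)).1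
    refine hu' ?_
    rw [sub_eq_add_neg, Transvec.Herm.add_right hu, ← neg_one_smul F (b *ᵥ _),
      Transvec.Herm.smul_right hu, h, map_neg, map_one]
    ring
  choose θ hθK hθ using fun k : ↥K => hadj k k.2
  let θ' : ↥K → ↥K := fun k => ⟨θ k, hθK k⟩
  have hθ' : ∀ (k : ↥K) u v, hermForm 5 F 2 (k.1 *ᵥ u) v = hermForm 5 F 2 u ((θ' k).1 *ᵥ v) :=
    fun k => hθ k
  have huniq : ∀ (k k' : ↥K), (∀ u v, hermForm 5 F 2 (k.1 *ᵥ u) v =
      hermForm 5 F 2 u (k'.1 *ᵥ v)) → θ' k = k' := fun k k' h =>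
    Subtype.ext (hval fun u v => (hθ' k u v).symm.trans (h u v))
  have hmul : ∀ a b, θ' (a * b) = θ' a * θ' b := fun a b => huniq _ _ fun u v => by
    rw [show a * b = b * a from mul_comm a b]
    show hermForm 5 F 2 ((b.1 * a.1) *ᵥ u) v = hermForm 5 F 2 u (((θ' a).1 * (θ' b).1) *ᵥ v)
    rw [← Matrix.mulVec_mulVec, ← Matrix.mulVec_mulVec, hθ' b, hθ' a]
  have hadd : ∀ a b, θ' (a + b) = θ' a + θ' b := fun a b => huniq _ _ fun u v => by
    show hermForm 5 F 2 ((a.1 + b.1) *ᵥ u) v = hermForm 5 F 2 u (((θ' a).1 + (θ' b).1) *ᵥ v)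
    rw [Matrix.add_mulVec, Matrix.add_mulVec, hu.add_left, Transvec.Herm.add_right hu, hθ', hθ']
  have hinv : ∀ a, θ' (θ' a) = a := fun a => huniq _ _ fun u v => by
    rw [hu.herm, ← hθ', ← hu.herm]
  let τ : ↥K ≃+* ↥K :=
    { toFun := θ', invFun := θ', left_inv := hinv, right_inv := hinv, map_mul' := hmul, map_add' := hadd }
  have hτne : τ ≠ RingEquiv.refl ↥K := by
    intro h
    have hw : θ' (algebraMap F ↥K (σ ω)) = algebraMap F ↥K ω := huniq _ _ fun u v => by
      show hermForm 5 F 2 (algebraMap F (Matrix (Fin 5) (Fin 5) F) (σ ω) *ᵥ u) v =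
        hermForm 5 F 2 u (algebraMap F (Matrix (Fin 5) (Fin 5) F) ω *ᵥ v)
      rw [Algebra.algebraMap_eq_smul_one, Algebra.algebraMap_eq_smul_one, Matrix.smul_mulVec,
        Matrix.smul_mulVec, Matrix.one_mulVec, Matrix.one_mulVec, hu.smul_left,
        Transvec.Herm.smul_right hu]
    rw [show θ' = ⇑τ from rfl, h] at hw
    have hw' : σ ω = ω := (algebraMap F ↥K).injective hw
    rw [hσ] at hw'
    exact one_ne_zero (α := F) (by linear_combination hω - hw' - ω * h2)
  have hτinv : ∀ a, τ (τ a) = a := hinv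
  have hpow : ∀ k : ↥K, θ' k = k ^ 32 := by
    have hc : Nat.card (Transvec.Herm.fixedField τ) = 32 := by
      have h := Transvec.Herm.card_eq_sq hτne hτinv
      rw [Nat.card_eq_fintype_card, hcardK] at h
      exact Nat.pow_left_injective two_ne_zero (show _ ^ 2 = 32 ^ 2 by rw [← h])
    intro k
    rw [← hc]
    exact Transvec.Herm.apply_eq_pow hτne hτinv k
  have hiso : ∀ (g : GL (Fin 5) F) (k : ↥K), g.val = k.1 → (g ∈ GU 5 F 2 ↔ k ^ 33 = 1) := by
    intro g k hg
    have h33 : k ^ 33 = θ' k * k := by rw [hpow]; exact pow_succ k 32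
    constructor
    · intro h
      rw [h33]
      refine Subtype.ext (hval fun u v => ?_)
      show hermForm 5 F 2 u (((θ' k).1 * k.1) *ᵥ v) = hermForm 5 F 2 u ((1 : Matrix _ _ F) *ᵥ v)
      rw [← Matrix.mulVec_mulVec, ← hθ', Matrix.one_mulVec, ← hg]
      exact h u v
    · intro h u v
      show hermForm 5 F 2 (g.val *ᵥ u) (g.val *ᵥ v) = hermForm 5 F 2 u v
      rw [hg, hθ', Matrix.mulVec_mulVec]
      rw [h33] at h
      rw [show (θ' k).1 * k.1 = 1 from congrArg Subtype.val h, Matrix.one_mulVec]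
  -- the element of order eleven
  obtain ⟨γ, hγ⟩ := IsCyclic.exists_generator (α := (↥K)ˣ)
  have hoγ : orderOf γ = 1023 := by
    rw [orderOf_eq_card_of_forall_mem_zpowers hγ, Nat.card_units, Nat.card_eq_fintype_card, hcardK]
  let em : (↥K)ˣ →* GL (Fin 5) F := Units.map K.val.toRingHom.toMonoidHom
  have heminj : Function.Injective em := fun a b h =>
    Units.ext (Subtype.ext (congrArg Units.val h))
  set ξ : (↥K)ˣ := γ ^ 93 with hξ
  have hoξ : orderOf ξ = 11 := by
    rw [hξ, orderOf_pow, hoγ]; norm_num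
  set x : GL (Fin 5) F := em ξ with hx
  have hox : orderOf x = 11 := by rw [hx, orderOf_injective em heminj, hoξ]
  have hdet3 : ∀ g : GL (Fin 5) F, (Matrix.GeneralLinearGroup.det g) ^ 3 = 1 := fun g => Units.ext (by
    rw [Units.val_pow_eq_pow_val]; exact cube_eq_one hF (Units.ne_zero _))
  have hξ11 : ξ ^ 11 = 1 := hoξ ▸ pow_orderOf_eq_one ξ
  have hxG : x ∈ GU 5 F 2 ⊓ Geo.specialLinear (Fin 5) F := by
    refine ⟨(hiso x ξ.val rfl).2 ?_, MonoidHom.mem_ker.2 ?_⟩
    · rw [← Units.val_pow_eq_pow_val, pow_mul ξ 11 3, hξ11, one_pow, Units.val_one]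
    · have h11 : (Matrix.GeneralLinearGroup.det x) ^ 11 = 1 := by
        rw [← map_pow, hx, ← map_pow, hξ11, map_one, map_one]
      rw [← pow_one (Matrix.GeneralLinearGroup.det x), ← (show Nat.gcd 11 3 = 1 by norm_num)]
      exact pow_gcd_eq_one.2 ⟨h11, hdet3 x⟩
  -- elements of the group commuting with K
  have hcent : ∀ z ∈ GU 5 F 2 ⊓ Geo.specialLinear (Fin 5) F,
      (∀ k : ↥K, z.val * k.1 = k.1 * z.val) → z ∈ Subgroup.zpowers x := by
    intro z hz hzc
    let v₀ : Fin 5 → F := Pi.single 0 1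
    let ev : ↥K →ₗ[F] (Fin 5 → F) :=
      { toFun := fun k => k.1 *ᵥ v₀
        map_add' := fun a b => Matrix.add_mulVec a.1 b.1 v₀
        map_smul' := fun c a => Matrix.smul_mulVec c a.1 v₀ }
    have hevinj : Function.Injective ev := by
      refine (injective_iff_map_eq_zero ev).2 fun k hk => ?_
      by_contra hne
      have h1 : (k⁻¹ : ↥K).1 *ᵥ (k.1 *ᵥ v₀) = v₀ := by
        rw [Matrix.mulVec_mulVec, show (k⁻¹ : ↥K).1 * k.1 = 1 from
          congrArg Subtype.val (inv_mul_cancel₀ hne), Matrix.one_mulVec]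
      rw [show k.1 *ᵥ v₀ = 0 from hk, Matrix.mulVec_zero] at h1
      exact one_ne_zero (α := F) (by simpa [v₀] using (congrFun h1 0).symm)
    have hevsurj : Function.Surjective ev :=
      (LinearMap.injective_iff_surjective_of_finrank_eq_finrank
        (by rw [hK.finrank_eq, Module.finrank_pi, Fintype.card_fin])).1 hevinj
    obtain ⟨k, hk⟩ := hevsurj (z.val *ᵥ v₀)
    have hzk : z.val = k.1 := by
      refine Matrix.ext_of_mulVec_single fun i => ?_
      obtain ⟨k', hk'⟩ := hevsurj (Pi.single i 1)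
      rw [← hk']
      show z.val *ᵥ (k'.1 *ᵥ v₀) = k.1 *ᵥ (k'.1 *ᵥ v₀)
      calc z.val *ᵥ (k'.1 *ᵥ v₀) = k'.1 *ᵥ (z.val *ᵥ v₀) := by
            rw [Matrix.mulVec_mulVec, hzc, Matrix.mulVec_mulVec]
        _ = k'.1 *ᵥ (k.1 *ᵥ v₀) := congrArg _ hk.symm
        _ = k.1 *ᵥ (k'.1 *ᵥ v₀) := by
            rw [Matrix.mulVec_mulVec, Matrix.mulVec_mulVec, hK.comm _ k.2 _ k'.2]
    have h33 := (hiso z k hzk).1 hz.1
    have hk0 : k ≠ 0 := fun h => by rw [h, zero_pow (by norm_num)] at h33; exact zero_ne_one h33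
    have hy3 : (k ^ 11) ^ 3 = 1 := by rw [← pow_mul]; exact h33
    have hprim : IsPrimitiveRoot (algebraMap F ↥K ω) 3 := by
      have hω1 : ω ≠ 1 := fun h => one_ne_zero (α := F) (by rw [h] at hω; linear_combination hω - h2)
      have hω0 : ω ≠ 0 := fun h => by rw [h] at hω; simp at hω
      refine IsPrimitiveRoot.map_of_injective ?_ (algebraMap F ↥K).injective
      haveI : Fact (Nat.Prime 3) := ⟨Nat.prime_three⟩
      exact (orderOf_eq_prime (cube_eq_one hF hω0) hω1) ▸ IsPrimitiveRoot.orderOf ω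
    obtain ⟨i, -, hi⟩ := hprim.eq_pow_of_pow_eq_one hy3
    have hz11 : (z ^ 11).val = (ω ^ i) • (1 : Matrix (Fin 5) (Fin 5) F) := by
      rw [Units.val_pow_eq_pow_val, hzk, ← Algebra.algebraMap_eq_smul_one]
      rw [← map_pow] at hi
      exact (congrArg Subtype.val hi).symm
    have hdet : (z ^ 11).val.det = 1 := by
      rw [← Matrix.GeneralLinearGroup.val_det_apply,
        show Matrix.GeneralLinearGroup.det (z ^ 11) = 1 from MonoidHom.mem_ker.1 (Subgroup.pow_mem _ hz.2 11)]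
      rfl
    rw [hz11, Matrix.det_smul, Matrix.det_one, mul_one, Fintype.card_fin] at hdet
    have hc3 : (ω ^ i) ^ 3 = 1 := cube_eq_one hF (fun h => by rw [h] at hdet; simp at hdet)
    have hc1 : ω ^ i = 1 := by linear_combination (-(ω ^ i)) * hdet + ((ω ^ i) ^ 3 + 1) * hc3
    have hk11 : k ^ 11 = 1 := by
      rw [← hi, ← map_pow, hc1, map_one]
    haveI : NeZero (11 : ℕ) := ⟨by norm_num⟩
    have hpr : IsPrimitiveRoot ((ξ : (↥K)ˣ) : ↥K) 11 :=
      (hoξ ▸ IsPrimitiveRoot.orderOf ξ).map_of_injective (f := Units.coeHom ↥K) Units.val_injective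
    obtain ⟨j, -, hj⟩ := hpr.eq_pow_of_pow_eq_one hk11
    refine ⟨(j : ℤ), ?_⟩
    show x ^ (j : ℤ) = z
    rw [zpow_natCast]
    refine Units.ext ?_
    rw [Units.val_pow_eq_pow_val, hzk, ← hj]
    rfl
  -- the normaliser
  have hconjK : ∀ h ∈ Geo.subalgebraNormalizer K, ∀ k : ↥K, h.val * k.1 * (h⁻¹).val ∈ K :=
    fun h hh k => (hh k.1).1 k.2
  have hxK : ∀ k : ↥K, x.val * k.1 = k.1 * x.val := fun k => hK.comm _ ξ.val.2 _ k.2
  have hxH : x ∈ Geo.subalgebraNormalizer K := fun k => by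
    constructor
    · intro hk
      rw [hxK ⟨k, hk⟩, mul_assoc, ← Units.val_mul, mul_inv_cancel, Units.val_one, mul_one]
      exact hk
    · intro hk
      have h2' := hxK ⟨_, hk⟩
      simp only [mul_assoc, Units.inv_mul, mul_one] at h2'
      have h3 : (x.val * k * (x⁻¹).val : Matrix (Fin 5) (Fin 5) F) = k := by
        have h4 := congrArg (fun M => (x⁻¹).val * M) h2'
        simp only [← mul_assoc, Units.inv_mul, one_mul] at h4
        exact h4
      rwa [h3] at hk
  refine ⟨x, hox, ⟨hxH, hxG⟩, fun h hh => ?_, ?_⟩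
  · refine hcent _ (Subgroup.mul_mem _ (Subgroup.mul_mem _ hh.2 hxG) (Subgroup.inv_mem _ hh.2))
      fun k => ?_
    rw [Units.val_mul, Units.val_mul]
    exact hK.comm _ (hconjK h hh.1 ξ.val) _ k.2
  · set H := Geo.subalgebraNormalizer K ⊓ (GU 5 F 2 ⊓ Geo.specialLinear (Fin 5) F) with hHdef
    let mkAut : ↥H → (↥K ≃ₐ[F] ↥K) := fun h =>
      { toFun := fun k => ⟨h.1.val * k.1 * (h.1⁻¹).val, hconjK h.1 h.2.1 k⟩
        invFun := fun k => ⟨(h.1⁻¹).val * k.1 * h.1.val, by
          have := hconjK h.1⁻¹ (Subgroup.inv_mem _ h.2.1) k; rwa [inv_inv] at this⟩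
        left_inv := fun k => Subtype.ext (by simp [mul_assoc])
        right_inv := fun k => Subtype.ext (by simp [mul_assoc])
        map_mul' := fun a b => Subtype.ext (by simp [mul_assoc])
        map_add' := fun a b => Subtype.ext (by simp [mul_add, add_mul])
        commutes' := fun c => Subtype.ext (by
          simp [Algebra.algebraMap_eq_smul_one, Matrix.smul_mul, Matrix.mul_smul]) }
    let φ : ↥H →* (↥K ≃ₐ[F] ↥K) := MonoidHom.mk' mkAut fun a b =>
      AlgEquiv.ext fun k => Subtype.ext (by simp [mkAut, mul_assoc, Units.val_inv_eq_inv_val, Matrix.mul_inv_rev])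
    have hker : φ.ker.map H.subtype ≤ Subgroup.zpowers x := by
      rintro _ ⟨h, hh, rfl⟩
      refine hcent _ h.2.2 fun k => ?_
      have h1 := congrArg Subtype.val (DFunLike.congr_fun (MonoidHom.mem_ker.1 hh) k)
      change h.1.val * k.1 * (h.1⁻¹).val = k.1 at h1
      calc h.1.val * k.1 = h.1.val * k.1 * (h.1⁻¹).val * h.1.val := by
            rw [mul_assoc (h.1.val * k.1), Units.inv_mul, mul_one]
        _ = _ := by rw [h1]; rfl
    have hker11 : Nat.card φ.ker ≤ 11 := by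
      rw [← Subgroup.card_map_of_injective (K := φ.ker) (f := H.subtype) H.subtype_injective, ← hox, ← Nat.card_zpowers]
      exact Subgroup.card_le_of_le hker
    have hrange : Nat.card φ.range ≤ 5 := by
      refine (Finite.card_subtype_le _).trans ?_
      rw [Nat.card_eq_fintype_card]
      exact (AlgEquiv.card_le (F := F) (K := ↥K)).trans hK.finrank_eq.le
    calc Nat.card ↥H = Nat.card (↥H ⧸ φ.ker) * Nat.card φ.ker :=
          Subgroup.card_eq_card_quotient_mul_card_subgroup _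
      _ = Nat.card φ.range * Nat.card φ.ker := by
          rw [Nat.card_congr (QuotientGroup.quotientKerEquivRange φ).toEquiv]
      _ ≤ 5 * 11 := Nat.mul_le_mul hrange hker11

/-- The normaliser of a field of degree five is not maximal over the field with four elements. -/
theorem field_not_maximal {q : ℕ} (hF : Fintype.card F = q ^ 2) (hq : q = 2)
    {K : Subalgebra F (Matrix (Fin 5) (Fin 5) F)} (hK : Geo.IsFieldSubalgebra 5 K)
    (hadj : Geo.IsAdjointClosedFor (hermForm 5 F q) K) {H : Subgroup (GL (Fin 5) F)}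
    (hH : Geo.IsMaximalIn (GU 5 F q ⊓ Geo.specialLinear (Fin 5) F) H)
    (he : H = Geo.subalgebraNormalizer K ⊓ (GU 5 F q ⊓ Geo.specialLinear (Fin 5) F)) : False := by
  subst hq
  rw [show (2 : ℕ) ^ 2 = 4 from rfl] at hF
  obtain ⟨x, hox, hxH, hnorm, hcard⟩ := field_data hF hK hadj
  rw [← he] at hxH hnorm hcard
  obtain ⟨L, a, b, c, haG, hbG, hcG, haL, hbL, hcL, hnle, hoa, hob, hba, hca⟩ := exists_overgroup hF
  set G := GU 5 F 2 ⊓ Geo.specialLinear (Fin 5) F with hG
  have hxG : x ∈ G := hH.1.le hxH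
  haveI : Fact (Nat.Prime 11) := ⟨by norm_num⟩
  obtain ⟨g, hg⟩ := zpowers_conj (G := ↥G) (p := 11)
    (fun h => not_dvd_card_GL hF (h.trans (Subgroup.card_subgroup_dvd_card G)))
    (x := ⟨x, hxG⟩) (a := ⟨a, haG⟩) (by rw [← hox, Subgroup.orderOf_mk]) (by rw [← hoa, Subgroup.orderOf_mk])
  -- conjugation by g
  set e : GL (Fin 5) F ≃* GL (Fin 5) F := MulAut.conj (g : GL (Fin 5) F) with he'
  have hea : ∀ y, y ∈ Subgroup.zpowers x ↔ e y ∈ Subgroup.zpowers a := by
    intro y
    have hg' : (Subgroup.zpowers x).map e.toMonoidHom = Subgroup.zpowers a := by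
      have h1 := congrArg (Subgroup.map G.subtype) hg
      rw [Subgroup.map_map, MonoidHom.map_zpowers, MonoidHom.map_zpowers] at h1
      rw [MonoidHom.map_zpowers]
      exact h1
    rw [← hg']
    exact (Subgroup.mem_map_iff_mem e.injective).symm
  have heG : ∀ y, y ∈ G ↔ e y ∈ G := fun y => by
    rw [he', MulAut.conj_apply, Subgroup.mul_mem_cancel_right _ (Subgroup.inv_mem _ g.2),
      Subgroup.mul_mem_cancel_left _ g.2]
  let N : Subgroup (GL (Fin 5) F) := Subgroup.normalizer (Subgroup.zpowers x : Set _) ⊓ G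
  have hconj : ∀ y ∈ G, y * x * y⁻¹ ∈ Subgroup.zpowers x → y ∈ N := by
    intro y hy hyx
    refine ⟨Subgroup.mem_normalizer_iff_map_conj_eq.2 ?_, hy⟩
    refine Subgroup.eq_of_le_of_card_ge ?_ ?_
    · rw [MonoidHom.map_zpowers, Subgroup.zpowers_le]
      exact hyx
    · rw [Subgroup.card_map_of_injective (MulEquiv.injective _)]
  rcases hH.2 N (fun h hh => hconj h (hH.1.le hh) (hnorm h hh)) inf_le_right with hN | hN
  swap
  · -- then everything normalises
    have hc' : e.symm c ∈ N := hN ▸ (heG _).2 (by rw [e.apply_symm_apply]; exact hcG)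
    refine hca ?_
    have hxa : e.symm a ∈ Subgroup.zpowers x := (hea _).2 (by rw [e.apply_symm_apply]; exact Subgroup.mem_zpowers a)
    have := (hea _).1 ((Subgroup.mem_normalizer_iff.1 hc'.1 _).1 hxa)
    simpa using this
  have hxa : e.symm a ∈ Subgroup.zpowers x := (hea _).2 (by rw [e.apply_symm_apply]; exact Subgroup.mem_zpowers a)
  have hzH : ∀ y ∈ G, e y * a * (e y)⁻¹ ∈ Subgroup.zpowers a → y ∈ H := by
    intro y hy hya
    rw [← hN]
    refine hconj y hy ((hea _).2 ?_)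
    obtain ⟨k, hk⟩ := (hea x).1 (Subgroup.mem_zpowers x)
    have hk' : a ^ k = e x := hk
    rw [map_mul, map_mul, map_inv, ← hk', ← conj_zpow]
    exact Subgroup.zpow_mem _ hya k
  have haH : e.symm a ∈ H := hzH _ ((heG _).2 (by rw [e.apply_symm_apply]; exact haG)) (by
    rw [e.apply_symm_apply, mul_inv_cancel_right]; exact Subgroup.mem_zpowers a)
  have hbH : e.symm b ∈ H := hzH _ ((heG _).2 (by rw [e.apply_symm_apply]; exact hbG)) (by
    rw [e.apply_symm_apply]; exact hba)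
  let L' : Subgroup (GL (Fin 5) F) := L.comap e.toMonoidHom ⊓ G
  have hmem : ∀ y : GL (Fin 5) F, y ∈ L → y ∈ G → e.symm y ∈ L' := fun y hyL hyG =>
    ⟨show e (e.symm y) ∈ L by rw [e.apply_symm_apply]; exact hyL,
      (heG _).2 (by rw [e.apply_symm_apply]; exact hyG)⟩
  have h55 : Nat.card ↥H ≤ Nat.card ↥(H ⊓ L') := by
    refine hcard.trans (Nat.le_of_dvd Nat.card_pos ?_)
    have key : ∀ y ∈ H ⊓ L', orderOf y ∣ Nat.card ↥(H ⊓ L') := fun y hy =>
      Subgroup.orderOf_mk y hy ▸ orderOf_dvd_natCard (⟨y, hy⟩ : ↥(H ⊓ L'))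
    refine (show Nat.Coprime 11 5 by norm_num).mul_dvd_of_dvd_of_dvd ?_ ?_
    · have := key _ ⟨haH, hmem a haL haG⟩
      rwa [MulEquiv.orderOf_eq, hoa] at this
    · have := key _ ⟨hbH, hmem b hbL hbG⟩
      rwa [MulEquiv.orderOf_eq, hob] at this
  have hHL : H ≤ L' := inf_eq_left.1 (Subgroup.eq_of_le_of_card_ge inf_le_left h55)
  rcases hH.2 L' hHL inf_le_right with hL | hL
  · have hcH : e.symm c ∈ N := hN.symm ▸ (hL ▸ hmem c hcL hcG)
    refine hca ?_
    have := (hea _).1 ((Subgroup.mem_normalizer_iff.1 hcH.1 _).1 hxa)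
    simpa using this
  · refine hnle fun y hy => ?_
    have : e.symm y ∈ L' := hL.symm ▸ (heG _).2 (by rw [e.apply_symm_apply]; exact hy)
    have h1 : e (e.symm y) ∈ L := this.1
    rwa [e.apply_symm_apply] at h1

end Cfsg.Agent.Aschbacher.UnitFive
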