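import Cfsg.Agent.Lib.Aschbacher.UnitExtraspecial
import Cfsg.Agent.Lib.Transvec.HermStd

/-!
The subgroup theorem for the unitary groups.
-/

set_option autoImplicit false
set_option linter.style.haveILetI false

namespace Cfsg.Agent.Aschbacher

open scoped MatrixGroups Matrix Kronecker
open Matrix

variable {F : Type*} [Field F] [Fintype F]

/-- The geometric subgroups of the unitary group, before intersecting with it; the group of symplectic
type comes with the dimension and the field extension with its divisibility. -/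
inductive UnitX (n : ℕ) (F : Type*) [Field F] [Fintype F] (q : ℕ) :
    Subgroup (GL (Fin n) F) → Prop
  | singular {W : Submodule F (Fin n → F)} (h0 : W ≠ ⊥)
      (hW : Geo.IsTotallySingularFor (hermForm n F q) W) : UnitX n F q (Geo.subspaceStabilizer W)
  | nondeg {W : Submodule F (Fin n → F)} (h0 : W ≠ ⊥)
      (hW : Geo.IsNondegenerateOn (hermForm n F q) W) (hlt : 2 * Module.finrank F W < n) :
      UnitX n F q (Geo.subspaceStabilizer W)
  | decomp {t k : ℕ} {D : Fin t → Submodule F (Fin n → F)}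
      (hD : Geo.IsNondegenerateMDecomposition (hermForm n F q) k D) :
      UnitX n F q (Geo.decompositionStabilizer D)
  | pair {k : ℕ} {D : Fin 2 → Submodule F (Fin n → F)} (hk : 2 * k = n)
      (hD : Geo.IsMDecomposition k D) (hts : ∀ i, Geo.IsTotallySingularFor (hermForm n F q) (D i)) :
      UnitX n F q (Geo.decompositionStabilizer D)
  | subOdd {F₀ : Subfield F} {r : ℕ} {P : GL (Fin n) F} (hr : r.Prime) (hro : Odd r)
      (hc : Fintype.card F = Nat.card F₀ ^ r)
      (hP : Geo.IsFormRationalStructure (hermForm n F q) F₀ 1 P) :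
      UnitX n F q (Geo.subfieldSubgroup F₀ P)
  | subTwo {F₀ : Subfield F} {P : GL (Fin n) F} (hq : Odd q)
      (hc : Fintype.card F = Nat.card F₀ ^ 2)
      (hP : Geo.IsFormRationalStructure (hermForm n F q) F₀ 1 P) :
      UnitX n F q (Geo.subfieldSubgroup F₀ P)
  | subSkew {F₀ : Subfield F} {P : GL (Fin n) F} {ζ : F} (hn : Even n)
      (hc : Fintype.card F = Nat.card F₀ ^ 2) (hζ : ζ ≠ 0) (hζq : ζ + ζ ^ q = 0)
      (hP : Geo.IsFormRationalStructure (hermForm n F q) F₀ ζ P)
      (h0 : ∀ u : Fin n → F, (∀ i, u i ∈ F₀) → hermForm n F q ((P : Matrix (Fin n) (Fin n) F) *ᵥ u)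
        ((P : Matrix (Fin n) (Fin n) F) *ᵥ u) = 0) :
      UnitX n F q (Geo.subfieldSubgroup F₀ P)
  | symplType {R : Subgroup (GL (Fin n) F)} {r p e k : ℕ} (hn : n = r ^ k)
      (htype : Geo.IsSymplecticTypeGroup r R)
      (habs : Geo.ActsAbsolutelyIrreducibly (Geo.matrixSet R))
      (hsim : R ≤ Geo.similarityGroup (hermForm n F q)) (hrp : r ≠ p)
      (hmin : Geo.IsMinimalFieldFor (Nat.card (Subgroup.center R)) p e F)
      (hdata : (Odd r ∧ Nat.card (Subgroup.center R) = r ∧ 1 ≤ k ∧ Nat.card R = r ^ (1 + 2 * k)) ∨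
        (r = 2 ∧ e = 2 ∧ Nat.card (Subgroup.center R) = 4 ∧ Nat.card R = 2 ^ (2 + 2 * k))) :
      UnitX n F q (Geo.subgroupNormalizer R)
  | field {r : ℕ} {K : Subalgebra F (Matrix (Fin n) (Fin n) F)} (hr : r.Prime) (hro : Odd r)
      (hdvd : r ∣ n) (hK : Geo.IsFieldSubalgebra r K)
      (hadj : Geo.IsAdjointClosedFor (hermForm n F q) K) :
      UnitX n F q (Geo.subalgebraNormalizer K)
  | tensor {n₁ n₂ : ℕ} {eq : Fin n ≃ Fin n₁ × Fin n₂} {P : GL (Fin n) F}
      {f₁ : (Fin n₁ → F) → (Fin n₁ → F) → F} {f₂ : (Fin n₂ → F) → (Fin n₂ → F) → F}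
      (h1 : 2 ≤ n₁) (h2 : n₁ < n₂) (hf₁ : Geo.IsUnitaryFormPow q f₁)
      (hf₂ : Geo.IsUnitaryFormPow q f₂)
      (hstr : Geo.IsTensorFormStructure (fun x : F => x ^ q) (hermForm n F q) f₁ f₂ eq P) :
      UnitX n F q (Geo.tensorProductSubgroup n₁ n₂ eq P)
  | wreath {k t : ℕ} {eq : Fin n ≃ (Fin t → Fin k)} {P : GL (Fin n) F}
      {f₁ : (Fin k → F) → (Fin k → F) → F} (hk : 3 ≤ k) (ht : 2 ≤ t) (hex : ¬ (q = 2 ∧ k = 3))
      (hf₁ : Geo.IsUnitaryFormPow q f₁)
      (hstr : Geo.IsTensorPowerFormStructure (fun x : F => x ^ q) (hermForm n F q) f₁ eq P) :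
      UnitX n F q (Geo.tensorWreathSubgroup k t eq P)

lemma UnitX.inClass {n q : ℕ} {X : Subgroup (GL (Fin n) F)} (h : UnitX n F q X) :
    Geo.InUnitaryClass n F q (X ⊓ GU n F q) := by
  cases h with
  | singular h0 hW => exact .inl <| .inl ⟨_, h0, hW, rfl⟩
  | nondeg h0 hW hlt => exact .inl <| .inr <| .inl ⟨_, h0, hW, hlt, rfl⟩
  | decomp hD => exact .inl <| .inr <| .inr <| .inl ⟨_, _, _, hD, rfl⟩
  | pair hk hD hts => exact .inl <| .inr <| .inr <| .inr <| .inl ⟨_, _, hk, hD, hts, rfl⟩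
  | subOdd hr hro hc hP => exact .inl <| .inr <| .inr <| .inr <| .inr <| .inl ⟨_, _, _, hr, hro, hc, hP, rfl⟩
  | subTwo hq hc hP => exact .inl <| .inr <| .inr <| .inr <| .inr <| .inr <| .inl ⟨_, _, hq, hc, hP, rfl⟩
  | subSkew hn hc hζ hζq hP h0 =>
    exact .inl <| .inr <| .inr <| .inr <| .inr <| .inr <| .inr <| .inl
      ⟨_, _, _, hn, hc, hζ, hζq, hP, h0, rfl⟩
  | symplType hn htype habs hsim hrp hmin hdata =>
    exact .inl <| .inr <| .inr <| .inr <| .inr <| .inr <| .inr <| .inr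
      ⟨_, _, _, _, _, htype, habs, hsim, hrp, hmin, hdata, rfl⟩
  | field hr hro hdvd hK hadj => exact .inr <| .inl ⟨_, _, hr, hro, hK, hadj, rfl⟩
  | tensor h1 h2 hf₁ hf₂ hstr =>
    exact .inr <| .inr <| .inl ⟨_, _, _, _, _, _, h1, h2, hf₁, hf₂, hstr, rfl⟩
  | wreath hk ht hex hf₁ hstr =>
    exact .inr <| .inr <| .inr ⟨_, _, _, _, _, hk, ht, hex, hf₁, hstr, rfl⟩

/-- The subgroup theorem for a group of hermitian isometries. -/
theorem unitStructureRefined (n q : ℕ) (hF : Fintype.card F = q ^ 2) (hn : 2 ≤ n)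
    (H : Subgroup (GL (Fin n) F)) (hH : H ≤ GU n F q) :
    (∃ X : Subgroup (GL (Fin n) F), UnitX n F q X ∧ H ≤ X) ∨
      Geo.InUnitaryResidualClass H := by
  classical
  obtain ⟨σ, hσq, hq2, hu⟩ := Transvec.Herm.exists_unitary_std (F := F) hF (by omega : 0 < n)
  set f := hermForm n F q with hfdef
  have hσ := hu.ne_refl
  have hf := IsHermLike.of_unitary hu
  have hpow : ∀ {a : ℕ} {g : (Fin a → F) → (Fin a → F) → F}, Geo.IsUnitaryForm σ g →
      Geo.IsUnitaryFormPow q g :=
    fun hg => ⟨hg.add_left, hg.smul_left, fun v w => (hg.herm v w).trans (hσq _), hg.nondegenerate⟩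
  have hσfun : (fun x : F => x ^ q) = ⇑σ := funext fun x => (hσq x).symm
  haveI : Nonempty (Fin n) := ⟨⟨0, by omega⟩⟩
  have hcard : Fintype.card (Fin n) = n := Fintype.card_fin n
  set H' := H ⊔ Geo.scalars (Fin n) F with hH'
  have hsim : H' ≤ Geo.similarityGroup f := sup_scalars_le_sim hf (hH.trans (isoGroup_le f))
  have hle : H ≤ H' := le_sup_left
  have mk : ∀ {S : Subgroup (GL (Fin n) F)}, H' ≤ S → H ≤ S := fun h => hle.trans h
  have part : ∀ {M : Subgroup (GL (Fin n) F)}, UnitX n F q M →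
      H ≤ M → (∃ X, UnitX n F q X ∧ H ≤ X) ∨ Geo.InUnitaryResidualClass H :=
    fun h h' => .inl ⟨_, h, h'⟩
  have hqodd : (2 : F) ≠ 0 → Odd q := fun h2 => by
    have h := odd_card_of_two_ne_zero h2
    rw [hF] at h
    exact (Nat.odd_pow_iff two_ne_zero).1 h
  have sub : SubfieldCase σ f H' →
      (∃ X, UnitX n F q X ∧ H ≤ X) ∨ Geo.InUnitaryResidualClass H := fun h => by
    obtain ⟨F₁, r, P, ζ, G, hr, hc, hG, hh, halt⟩ := h.exists_prime
    rcases hr.eq_two_or_odd' with rfl | hodd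
    swap
    · obtain ⟨z, hz, G₂, hG₂⟩ := hG.normalise_odd hσ hf hodd hc
      rw [← subfieldSubgroup_mul_sc F₁ P hz] at hh
      exact part (.subOdd hr hodd hc hG₂.isFormRationalStructure) (mk hh)
    obtain ⟨hfix, hcase⟩ := hG.normalise_two hσ hf hc
    have skew : ∀ {P' : GL (Fin n) F} {ζ' : F}, RatGram σ f F₁ P' ζ' G → ζ' + σ ζ' = 0 →
        Gᵀ = -G → (∀ i, G i i = 0) → H' ≤ Geo.subfieldSubgroup F₁ P' →
        (∃ X, UnitX n F q X ∧ H ≤ X) ∨ Geo.InUnitaryResidualClass H := by
      intro P' ζ' hG' hζ hs hd hh'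
      have heven : Even n := hcard ▸
        even_card_of_symplectic (formOf_symplectic hG'.isUnit hs hd)
      exact part (.subSkew heven hc hG'.ne_zero (by rw [← hσq]; exact hζ) hG'.isFormRationalStructure
        fun u hu' => hG'.self_eq_zero hfix hs hd hu') (mk hh')
    rcases hcase with ⟨hsym, z, hz, hG₂⟩ | ⟨hs, hζ⟩
    · rw [← subfieldSubgroup_mul_sc F₁ P hz] at hh
      by_cases h2 : (2 : F) = 0
      · exact skew hG₂ (by rw [map_one, ← two_mul, mul_one, h2]) (transpose_neg_of_symm hsym h2)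
          (halt h2 hfix hsym) hh
      · exact part (.subTwo (hqodd h2) hc hG₂.isFormRationalStructure) (mk hh)
    · refine skew hG hζ hs ?_ hh
      by_cases h2 : (2 : F) = 0
      · refine halt h2 hfix ?_
        rw [hs]
        exact Matrix.ext fun i j => neg_eq_of_char_two h2 _
      · exact diag_zero_of_skew h2 hs
  have comm : CommCase f H' →
      (∃ X, UnitX n F q X ∧ H ≤ X) ∨ Geo.InUnitaryResidualClass H := by
    rintro (⟨hD, h, -⟩ | ⟨hk, hD, hts, h⟩ | ⟨hr, hdvd, hK, hadj, h⟩)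
    · exact part (.decomp hD) (mk h)
    · exact part (.pair (by rw [hk, hcard]) hD hts) (mk h)
    · exact part (.field hr (odd_of_unitary_field hf hσ hr hK hadj) (hcard ▸ hdvd) hK hadj) (mk h)
  have wreath : ∀ {k a : ℕ} {eq : Fin n ≃ (Fin k → Fin a)} {P : GL (Fin n) F} {A : GL (Fin a) F}
      {c d : F}, 3 ≤ a → 2 ≤ k → c ≠ 0 →
      (∀ x y, coordForm f eq P x y =
        c * sesqOf σ (pureMat fun _ => (A : Matrix (Fin a) (Fin a) F)) x y) →
      d * σ d = 1 →
      (A : Matrix (Fin a) (Fin a) F)ᵀ = d • σ.toRingHom.mapMatrix (A : Matrix (Fin a) (Fin a) F) →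
      ¬ (q = 2 ∧ a = 3) → H' ≤ Geo.tensorWreathSubgroup a k eq P →
      (∃ X, UnitX n F q X ∧ H ≤ X) ∨ Geo.InUnitaryResidualClass H := by
    intro k a eq P A c d ha hk hc hform hd hA hex hh
    obtain ⟨e, he, hA'⟩ := exists_herm_scale hσ hf.invol hd hA
    have huA : IsUnit (e • (A : Matrix (Fin a) (Fin a) F)) := by
      rw [Matrix.isUnit_iff_isUnit_det, Matrix.det_smul, isUnit_iff_ne_zero]
      exact mul_ne_zero (pow_ne_zero _ he) ((Matrix.isUnit_iff_isUnit_det _).1 A.isUnit).ne_zero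
    refine part (.wreath ha hk hex (hpow (isUnitary_sesqOf hσ hf.invol huA hA')) ?_) (mk hh)
    rw [hσfun]
    exact isTensorPowerFormStructure_of hc hform he
  cases formAsch hf le_sup_right hsim (by omega) with
  | red h =>
    cases h with
    | singular h0 hW h => exact part (.singular h0 hW) (mk h)
    | nondeg h0 hW hd h => exact part (.nondeg h0 hW (by omega)) (mk h)
    | half hk hD h => exact part (.decomp hD) (mk h)
  | comm hirr h => exact comm h
  | tensor hirr ha hb hs hN =>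
    cases unitTensor hf hσ hs ha hb hsim hN with
    | tens h1 h2 hf₁ hf₂ hstr h =>
      refine part (.tensor h1 h2 (hpow hf₁) (hpow hf₂) ?_) (mk h)
      rw [hσfun]
      exact hstr
    | wreath ha' hw =>
      rename_i a'
      rcases eq_or_lt_of_le ha' with rfl | ha3
      · exact sub (subfieldCase_of_two hf hσ one_le_two hsim hw)
      obtain ⟨hc, hform, hd, hsymm, -, hcond, hrep⟩ := hw
      rename_i eq' P' A' c' d'
      by_cases hex : q = 2 ∧ a' = 3
      · obtain ⟨hq', rfl⟩ := hex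
        rw [hcond, pureMat_one] at hform
        have hq4 : Fintype.card F = 4 := by rw [hF, hq']; norm_num
        obtain ⟨R, htype, habs, hRsim, hmin, hC, hR, hn'⟩ :=
          exists_extraspecial_nine (H := H') hq4 hσ hf hform fun g hg => by
            obtain ⟨τ, gs, hg', he⟩ := hrep g hg
            refine ⟨τ, gs, hg', fun i => ?_⟩
            obtain ⟨e, he0, he'⟩ := he i
            rw [hcond, mul_one] at he'
            exact ⟨e, he0, he'⟩
        exact part (.symplType (by simpa using Fintype.card_congr eq') htype habs hRsim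
          (by norm_num : (3 : ℕ) ≠ 2) hmin (Or.inl ⟨by decide, hC, one_le_two, hR⟩)) (mk hn')
      · exact wreath ha3 le_rfl hc hform hd hsymm hex (le_tensorWreath_of_reps eq' P' fun g hg => by
          obtain ⟨τ, gs, hg', -⟩ := hrep g hg
          exact ⟨τ, gs, hg'⟩)
  | abelian hirr S =>
    cases unitAbCase S hσ hf hsim with
    | subfield h => exact sub h
    | symplType hk htype habs hRsim hrp hmin hdata h =>
      exact part (.symplType (hcard ▸ hk) htype habs hRsim hrp hmin hdata) (mk h)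
  | wreath hirr hk ha hw =>
    rename_i k a
    rcases eq_or_lt_of_le ha with rfl | ha3
    · exact sub (subfieldCase_of_two hf hσ (by omega) hsim hw)
    obtain ⟨hc, hform, hd, hsymm, -, hcond, hrep⟩ := hw
    rename_i eq P A c d
    have hex : ¬ (q = 2 ∧ a = 3) := by
      rintro ⟨hq', rfl⟩
      obtain ⟨E, hEp, hEtop, hEA⟩ := hcond
      obtain ⟨p, u, hA⟩ := herm_congr (A₀ := (1 : GL (Fin 3) F)) (c₀ := 1) hσ hf.invol hd
        (by simp) hsymm (by simp)
      rw [Units.val_one, mul_one] at hA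
      have hp0 : p ≠ 0 := fun h0 => A.ne_zero (by rw [hA, h0, zero_smul])
      have hE' : ⁅E.map (MulAut.conj u).toMonoidHom, E.map (MulAut.conj u).toMonoidHom⁆ =
          E.map (MulAut.conj u).toMonoidHom := by rw [← Subgroup.map_commutator, hEp]
      refine ne_bot_of_spanAlg_top ha hEtop ?_
      have hbot := eq_bot_of_perfect_unitary (σ := σ) (by rw [hF, hq']; norm_num) hσ hf.invol hE' (by
        rintro _ ⟨g, hg, rfl⟩
        have hgA := hEA g hg
        rw [hA, Matrix.mul_smul, Matrix.smul_mul] at hgA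
        have hg1 := smul_right_injective _ hp0 hgA
        show ((u * g * u⁻¹ : GL (Fin 3) F) : Matrix (Fin 3) (Fin 3) F)ᵀ * σ.toRingHom.mapMatrix
          ((u * g * u⁻¹ : GL (Fin 3) F) : Matrix (Fin 3) (Fin 3) F) = 1
        set x : GL (Fin 3) F := u * g * u⁻¹ with hx
        have hxu : (x : Matrix (Fin 3) (Fin 3) F) * (u : Matrix (Fin 3) (Fin 3) F) =
            (u : Matrix (Fin 3) (Fin 3) F) * (g : Matrix (Fin 3) (Fin 3) F) := by
          rw [← Units.val_mul, ← Units.val_mul, hx, inv_mul_cancel_right]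
        refine ((Matrix.isUnit_transpose _).2 u.isUnit).mul_left_cancel ?_
        refine (u.isUnit.map σ.toRingHom.mapMatrix).mul_right_cancel ?_
        calc _ = ((x : Matrix (Fin 3) (Fin 3) F) * (u : Matrix (Fin 3) (Fin 3) F))ᵀ *
              σ.toRingHom.mapMatrix ((x : Matrix (Fin 3) (Fin 3) F) * (u : Matrix (Fin 3) (Fin 3) F)) := by
              rw [Matrix.transpose_mul, map_mul]; simp only [mul_assoc]
          _ = (g : Matrix (Fin 3) (Fin 3) F)ᵀ * ((u : Matrix (Fin 3) (Fin 3) F)ᵀ *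
              σ.toRingHom.mapMatrix (u : Matrix (Fin 3) (Fin 3) F)) *
              σ.toRingHom.mapMatrix (g : Matrix (Fin 3) (Fin 3) F) := by
              rw [hxu, Matrix.transpose_mul, map_mul]; simp only [mul_assoc]
          _ = _ := by rw [hg1, mul_one])
      exact (Subgroup.map_eq_bot_iff_of_injective _ (MulAut.conj u).injective).1 hbot
    exact wreath ha3 hk hc hform hd hsymm hex (le_tensorWreath_of_reps eq P fun g hg => by
      obtain ⟨τ, gs, hg', -⟩ := hrep g hg
      exact ⟨τ, gs, hg'⟩)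
  | core le normal perfect simple nonab centralizer top fix =>
    rename_i L
    by_cases hreal : ∃ F₀ : Subfield F, F₀ ≠ ⊤ ∧ Geo.RealisableOver F₀ (Geo.matrixSet L)
    · obtain ⟨F₀, hne, hreal⟩ := hreal
      exact sub (subfieldCase_of_core (by omega) hf normal top fix hne hreal)
    push Not at hreal
    refine .inr ⟨L, residualCore_of le normal perfect simple nonab centralizer top hreal, ?_, ?_⟩
    · rintro ⟨Q, hQ, hfix⟩
      obtain ⟨h1, h2⟩ := realisable_of_two_forms top (IsHermLike.of_symmetric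
        ⟨hQ.polar_bilinear, QuadraticMap.polar_comm _, hQ.nondegenerate⟩) hf hσ
        (fixes_polar hfix) (fixesForm_of_le_iso fix)
      exact hreal _ h2 h1
    · rintro ⟨g, hg, hfix⟩
      obtain ⟨h1, h2⟩ := realisable_of_two_forms top (IsHermLike.of_symplectic hg) hf hσ
        hfix (fixesForm_of_le_iso fix)
      exact hreal _ h2 h1

/-- The subgroup theorem in terms of the classes. -/
theorem unitStructure (n q : ℕ) (hF : Fintype.card F = q ^ 2) (hn : 2 ≤ n)
    (H : Subgroup (GL (Fin n) F)) (hH : H ≤ GU n F q) :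
    (∃ M : Subgroup (GL (Fin n) F), Geo.InUnitaryClass n F q M ∧ H ≤ M) ∨
      Geo.InUnitaryResidualClass H :=
  (unitStructureRefined n q hF hn H hH).imp
    (fun ⟨_, h, h'⟩ => ⟨_, h.inClass, le_inf h' hH⟩) id

end Cfsg.Agent.Aschbacher
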