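import Cfsg.Agent.Lib.Aschbacher.UnitProper
import Cfsg.Agent.Lib.Aschbacher.UnitStructure
import Cfsg.Agent.Lib.Classical.UnitaryStd

/-!
No geometric member contains the special unitary group; maximal subgroups of the special unitary
group.
-/

set_option autoImplicit false
set_option linter.style.haveILetI false

namespace Cfsg.Agent.Aschbacher

open scoped MatrixGroups Matrix Kronecker
open Matrix

variable {F : Type*} [Field F] [Fintype F] {n : ℕ}
variable {σ : F ≃+* F} {f : (Fin n → F) → (Fin n → F) → F}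

/-- The special unitary group lies in no tensor power stabiliser. -/
lemma not_su_le_tensorWreath (hu : Geo.IsUnitaryForm σ f) (h3 : 3 ≤ Fintype.card (Fin n))
    (h32 : Fintype.card (Fin n) = 3 → 3 ≤ Nat.card (Transvec.Herm.fixedField σ)) {k t : ℕ}
    {e : Fin n ≃ (Fin t → Fin k)} {P : GL (Fin n) F}
    {f₁ : (Fin k → F) → (Fin k → F) → F} (hk : 3 ≤ k) (ht : 2 ≤ t)
    (hf₁ : Geo.IsUnitaryForm σ f₁)
    (hstr : Geo.IsTensorPowerFormStructure σ f f₁ e P) :
    ¬ UnitarySimple.sug f ≤ Geo.tensorWreathSubgroup k t e P := by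
  classical
  intro hle
  haveI : NeZero n := ⟨by rw [Fintype.card_fin] at h3; omega⟩
  haveI : NeZero t := ⟨by omega⟩
  haveI : NeZero k := ⟨by omega⟩
  let T : GL (Fin t → Fin k) F →* GL (Fin n) F :=
    (MulAut.conj P).toMonoidHom.comp (Geo.glReindex e.symm).toMonoidHom
  let pi : (Fin t → GL (Fin k) F) →* GL (Fin t → Fin k) F :=
    MonoidHom.mk' pureGL fun a b => Units.ext (by
      show pureMat _ = pureMat _ * pureMat _
      rw [pureMat_mul]; simp)
  have hT : ∀ g, (T g).val = cj P (g.val.submatrix e e) := fun g => by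
    simp [T, cj_apply, Geo.glReindex]
  have hBn : Geo.tensorWreathStandard k t F ≤ Subgroup.normalizer (pi.range : Set _) := by
    rw [Geo.tensorWreathStandard, Subgroup.closure_le]
    rintro g (⟨gs, hgs⟩ | ⟨σ, hσ⟩)
    · have : g = pi gs := Units.ext (Matrix.ext hgs)
      exact Subgroup.le_normalizer (this ▸ ⟨gs, rfl⟩)
    · have hgσ : g = permGL (factorPerm σ) := Units.ext (Matrix.ext fun x y => by
        rw [hσ x y]
        show _ = (1 : Matrix (Fin t → Fin k) (Fin t → Fin k) F).submatrix (factorPerm σ) id x y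
        simp [factorPerm, Matrix.one_apply, eq_comm])
      subst hgσ
      have key : ∀ gs : Fin t → GL (Fin k) F,
          permGL (factorPerm σ) * pi gs * (permGL (factorPerm σ))⁻¹ =
            pi (fun i => gs (σ.symm i)) := fun gs => Units.ext (by
        rw [← cj_coe, cj_permGL]
        exact pureMat_submatrix σ _)
      rw [SetLike.mem_coe, Subgroup.mem_normalizer_iff]
      intro x
      constructor
      · rintro ⟨gs, rfl⟩; exact ⟨_, (key gs).symm⟩
      · rintro ⟨gs, hgs⟩
        refine ⟨fun i => gs (σ i), ?_⟩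
        have h' := key fun i => gs (σ i)
        simp only [Equiv.apply_symm_apply] at h'
        rw [hgs] at h'
        exact mul_left_cancel (mul_right_cancel h')
  -- an isometry of one factor
  obtain ⟨c, hc, hform⟩ := hstr
  set G := Geo.gramMatrix f₁ with hG
  have hfG : f₁ = sesqOf σ G := by
    exact exists_gram (σ := σ) hf₁.add_left hf₁.smul_left (Transvec.Herm.add_right hf₁)
      fun c v x => Transvec.Herm.smul_right hf₁ c v x
  have hform' : ∀ x y, f (P.val *ᵥ (x ∘ e)) (P.val *ᵥ (y ∘ e)) =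
      c * sesqOf σ (pureMat fun _ : Fin t => G) x y := fun x y => by
    rw [hform]
    simp [sesqOf, dotProduct, Matrix.mulVec, Finset.mul_sum, pureMat, mul_assoc]
  obtain ⟨w, -, hw, hww⟩ := Transvec.Herm.exists_isotropic hf₁ (Transvec.Herm.nondeg_top hf₁)
    (by rw [finrank_top, Module.finrank_pi, Fintype.card_fin]; omega)
  obtain ⟨a₀, ha₀, ha₀'⟩ := Transvec.Herm.exists_anti hf₁.ne_refl hf₁.involutive
  set τ : GL (Fin k) F := Transvec.Herm.htv hf₁ w hww a₀
  have hτG : τ.valᵀ * G * σ.toRingHom.mapMatrix τ.val = G := by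
    refine gram_ext (σ := σ) fun u v => ?_
    rw [← sesqOf_mulVec, ← hfG]
    exact Transvec.Herm.htv_mem hf₁ w hww ha₀' u v
  have hτs : ¬ ∃ d : F, τ.val = d • (1 : Matrix (Fin k) (Fin k) F) := by
    rintro ⟨d, hd⟩
    obtain ⟨⟨x, hx⟩, -⟩ := hf₁.nondegenerate w hw
    have h := congrArg (fun M => M *ᵥ x) hd
    simp only [Matrix.smul_mulVec, Matrix.one_mulVec] at h
    change Transvec.mv τ x = d • x at h
    rw [Transvec.Herm.mv_htv] at h
    have h' : f₁ (x + (a₀ * f₁ x w) • w) w = f₁ (d • x) w := by rw [h]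
    rw [hf₁.add_left, hf₁.smul_left, hww, mul_zero, add_zero, hf₁.smul_left] at h'
    obtain rfl : d = 1 := mul_right_cancel₀ hx (by rw [one_mul]; exact h'.symm)
    rw [one_smul, add_eq_left] at h
    exact mul_ne_zero ha₀ hx ((smul_eq_zero.1 h).resolve_right hw)
  -- the algebra of one factor
  let gs₀ : Fin t → GL (Fin k) F := Function.update (fun _ => 1) 0 τ
  have hgs₀ : (fun i => (gs₀ i).val) =
      Function.update (fun _ => (1 : Matrix (Fin k) (Fin k) F)) 0 τ.val := by
    funext i
    by_cases hi : i = 0 <;> simp [gs₀, hi]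
  have hmap : ∀ h : Fin t → Matrix (Fin k) (Fin k) F,
      σ.toRingHom.mapMatrix (pureMat h) = pureMat fun i => σ.toRingHom.mapMatrix (h i) := fun h => by
    ext a b
    simp [pureMat, map_prod]
  have hsim₀ : T (pi gs₀) ∈ Geo.similarityGroup f := by
    refine ⟨1, fun u v => ?_⟩
    obtain ⟨x, rfl⟩ : ∃ x, P.val *ᵥ (x ∘ e) = u :=
      ⟨((P⁻¹).val *ᵥ u) ∘ e.symm, by
        rw [Function.comp_assoc, Equiv.symm_comp_self, Function.comp_id, Matrix.mulVec_mulVec,
          Units.mul_inv, Matrix.one_mulVec]⟩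
    obtain ⟨y, rfl⟩ : ∃ y, P.val *ᵥ (y ∘ e) = v :=
      ⟨((P⁻¹).val *ᵥ v) ∘ e.symm, by
        rw [Function.comp_assoc, Equiv.symm_comp_self, Function.comp_id, Matrix.mulVec_mulVec,
          Units.mul_inv, Matrix.one_mulVec]⟩
    have hact : ∀ z : (Fin t → Fin k) → F, (T (pi gs₀)).val *ᵥ (P.val *ᵥ (z ∘ e)) =
        P.val *ᵥ ((pureMat (fun i => (gs₀ i).val) *ᵥ z) ∘ e) := fun z => by
      rw [hT, cj_apply, Matrix.mulVec_mulVec, Units.inv_mul_cancel_right, ← Matrix.mulVec_mulVec,
        Matrix.submatrix_mulVec_equiv, Function.comp_assoc, Equiv.self_comp_symm, Function.comp_id]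
      rfl
    rw [hact, hact, hform', hform', sesqOf_mulVec, hmap, pureMat_transpose, pureMat_mul, pureMat_mul,
      Units.val_one, one_mul]
    congr 3
    funext i
    by_cases hi : i = 0
    · subst hi; simpa [gs₀] using hτG
    · simp [gs₀, hi]
  have hpow : ∀ X : Matrix (Fin k) (Fin k) F, pureAt (0 : Fin t) X =
      pureMat (Function.update (fun _ => (1 : Matrix (Fin k) (Fin k) F)) 0 X) := fun X => rfl
  have hus : T (pi gs₀) ∉ Geo.scalars (Fin n) F := by
    intro hs
    obtain ⟨d, hd⟩ := (Geo.mem_scalars_iff _).1 hs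
    have hd' : (pi gs₀).val = d.val • 1 := by
      have h := congrArg (fun M => (cj P⁻¹ M).submatrix e.symm e.symm) hd
      simpa [hT, cj_inv_cj, Matrix.submatrix_smul, Matrix.submatrix_one_equiv] using h
    refine hτs ⟨d, Matrix.ext fun a b => ?_⟩
    have h := congrFun (congrFun hd' (Function.update (fun _ => 0) 0 a))
      (Function.update (fun _ => 0) 0 b)
    have hprod : (pi gs₀).val (Function.update (fun _ => 0) 0 a)
        (Function.update (fun _ => 0) 0 b) = τ.val a b := by
      show pureMat (fun i => (gs₀ i).val) _ _ = _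
      rw [hgs₀]
      simp only [pureMat, Matrix.of_apply]
      rw [Finset.prod_eq_single (0 : Fin t)]
      · simp
      · intro i _ hi; simp [hi]
      · simp
    rw [hprod] at h
    rw [h, Matrix.smul_apply, Matrix.smul_apply, Matrix.one_apply, Matrix.one_apply]
    by_cases hab : a = b
    · simp [hab]
    · rw [if_neg hab, if_neg fun hh => hab (by simpa using congrFun hh 0)]
  -- the symplectic group lies in the base group
  set B : Subgroup (GL (Fin n) F) := pi.range.map T with hBdef
  have hmem : ∀ g ∈ UnitarySimple.sug f, ∃ s ∈ Geo.tensorWreathStandard k t F, T s = g := by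
    intro g hg
    obtain ⟨_, ⟨s, hs, rfl⟩, hg'⟩ := hle hg
    exact ⟨s, hs, hg'⟩
  have hsimI : ∀ g ∈ UnitarySimple.sug f, g ∈ Geo.similarityGroup f :=
    fun g hg => ⟨1, fun u v => by rw [Units.val_one, one_mul]; exact hg.1 u v⟩
  have hB : UnitarySimple.sug f ≤ B ⊓ Geo.similarityGroup f := by
    refine su_le_of_normal hu h3 h32 (fun g hg x hx => ⟨?_, Subgroup.mul_mem _
      (Subgroup.mul_mem _ (hsimI g hg) hx.2) (Subgroup.inv_mem _ (hsimI g hg))⟩) inf_le_right fun h => hus (h ⟨⟨_, ⟨gs₀, rfl⟩, rfl⟩, hsim₀⟩)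
    obtain ⟨s, hs, rfl⟩ := hmem g hg
    obtain ⟨y, hy, rfl⟩ := hx.1
    exact ⟨s * y * s⁻¹, (Subgroup.mem_normalizer_iff.1 (hBn hs) y).1 hy, by simp⟩
  -- the factor subgroup
  let B₀ : Subgroup (Fin t → GL (Fin k) F) :=
    { carrier := {gs | ∀ i, i ≠ 0 → gs i = 1}
      one_mem' := fun _ _ => rfl
      mul_mem' := fun ha hb i hi => by rw [Pi.mul_apply, ha i hi, hb i hi, one_mul]
      inv_mem' := fun ha i hi => by rw [Pi.inv_apply, ha i hi, inv_one] }
  set C : Subgroup (GL (Fin n) F) := (B₀.map pi).map T with hCdef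
  have hgs₀B : gs₀ ∈ B₀ := fun i hi => Function.update_of_ne hi _ _
  have hC : UnitarySimple.sug f ≤ C ⊓ Geo.similarityGroup f := by
    refine su_le_of_normal hu h3 h32 (fun g hg x hx => ⟨?_, Subgroup.mul_mem _
      (Subgroup.mul_mem _ (hsimI g hg) hx.2) (Subgroup.inv_mem _ (hsimI g hg))⟩) inf_le_right
      fun h => hus (h ⟨⟨_, ⟨gs₀, hgs₀B, rfl⟩, rfl⟩, hsim₀⟩)
    obtain ⟨_, ⟨hs, rfl⟩, rfl⟩ := (hB hg).1
    obtain ⟨_, ⟨y, hy, rfl⟩, rfl⟩ := hx.1
    refine ⟨_, ⟨hs * y * hs⁻¹, fun i hi => ?_, rfl⟩, by simp⟩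
    rw [Pi.mul_apply, Pi.mul_apply, Pi.inv_apply, hy i hi, mul_one, mul_inv_cancel]
  -- so the symplectic group commutes with another factor
  have h10 : (⟨1, by omega⟩ : Fin t) ≠ 0 := by simp [Fin.ext_iff]
  let gs₁ : Fin t → GL (Fin k) F := Function.update (fun _ => 1) ⟨1, by omega⟩ τ
  obtain ⟨d, hd⟩ := scalar_of_commute_htv hu (by omega) (u := (T (pi gs₁)).val) fun v hv c' hc' => by
    obtain ⟨_, ⟨y, hy, rfl⟩, hy'⟩ := (hC ⟨Transvec.Herm.htv_mem hu v hv hc',
      Transvec.Herm.htv_mem_specialLinear hu v hv c'⟩).1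
    rw [← hy', ← Units.val_mul, ← Units.val_mul, ← map_mul, ← map_mul, ← map_mul, ← map_mul]
    congr 3
    funext i
    by_cases hi : i = 0
    · subst hi
      simp [gs₁, h10.symm]
    · rw [Pi.mul_apply, Pi.mul_apply, hy i hi, one_mul, mul_one]
  have hd' : (pi gs₁).val = d • 1 := by
    have h := congrArg (fun M => (cj P⁻¹ M).submatrix e.symm e.symm) hd
    simpa [hT, cj_inv_cj, Matrix.submatrix_smul, Matrix.submatrix_one_equiv] using h
  refine hτs ⟨d, Matrix.ext fun a b => ?_⟩
  set j : Fin t := ⟨1, by omega⟩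
  have h := congrFun (congrFun hd' (Function.update (fun _ => 0) j a))
    (Function.update (fun _ => 0) j b)
  have hprod : (pi gs₁).val (Function.update (fun _ => 0) j a)
      (Function.update (fun _ => 0) j b) = τ.val a b := by
    show pureMat (fun i => (gs₁ i).val) _ _ = _
    simp only [pureMat, Matrix.of_apply]
    rw [Finset.prod_eq_single j]
    · simp [gs₁, j]
    · intro i _ hi
      have hg : gs₁ i = 1 := Function.update_of_ne hi _ _
      simp [hg, Function.update_of_ne hi]
    · simp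
  rw [hprod] at h
  rw [h, Matrix.smul_apply, Matrix.smul_apply, Matrix.one_apply, Matrix.one_apply]
  by_cases hab : a = b
  · simp [hab]
  · rw [if_neg hab, if_neg fun hh => hab (by simpa using congrFun hh j)]

/-- No geometric subgroup contains the special unitary group. -/
theorem not_su_le_unitX {q : ℕ} (hF : Fintype.card F = q ^ 2) (h3 : 3 ≤ n)
    (h32 : n = 3 → 3 ≤ q) {X : Subgroup (GL (Fin n) F)}
    (hX : UnitX n F q X) : ¬ GU n F q ⊓ Geo.specialLinear (Fin n) F ≤ X := by
  obtain ⟨σ, hσq, hu, hfix⟩ := UnitaryStd.exists_setup (n := n) hF (by omega)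
  have hσfun : (fun x : F => x ^ q) = ⇑σ := funext fun x => (hσq x).symm
  have h3' : 3 ≤ Fintype.card (Fin n) := by rwa [Fintype.card_fin]
  have h32' : Fintype.card (Fin n) = 3 → 3 ≤ Nat.card (Transvec.Herm.fixedField σ) := fun h => by
    rw [hfix]; exact h32 (by simpa using h)
  have red : (¬ ∀ v hv c, σ c = -c → Transvec.Herm.htv hu v hv c ∈ X) →
      ¬ GU n F q ⊓ Geo.specialLinear (Fin n) F ≤ X := fun h h' => h fun v hv c hc =>
    h' ⟨Transvec.Herm.htv_mem hu v hv hc, Transvec.Herm.htv_mem_specialLinear hu v hv c⟩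
  have hne : ∀ {F₀ : Subfield F} {r : ℕ}, r.Prime → Fintype.card F = Nat.card F₀ ^ r → F₀ ≠ ⊤ := by
    intro F₀ r hr hc h
    subst h
    rw [← Nat.card_eq_fintype_card] at hc
    rw [show Nat.card (⊤ : Subfield F) = Nat.card F from
      Nat.card_congr (Equiv.subtypeUnivEquiv fun _ => Subfield.mem_top _)] at hc
    exact hr.one_lt.ne (Nat.pow_right_injective Finite.one_lt_card ((pow_one _).trans hc))
  have hqs : Fintype.card (Fin n) = 3 → ∃ s : F, σ s = s ∧ s ≠ 0 ∧ s ≠ 1 := fun h => by
    have h3q := h32' h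
    haveI : Fintype (Transvec.Herm.fixedField σ) := Fintype.ofFinite _
    rw [Nat.card_eq_fintype_card] at h3q
    classical
    obtain ⟨s, hs⟩ : ∃ s : Transvec.Herm.fixedField σ, s ∉ ({0, 1} : Finset (Transvec.Herm.fixedField σ)) :=
      (Finset.exists_mem_notMem_of_card_lt_card (t := Finset.univ) (by
        rw [Finset.card_univ]; exact (Finset.card_le_two).trans_lt h3q)).imp fun _ h => h.2
    simp only [Finset.mem_insert, Finset.mem_singleton, not_or] at hs
    exact ⟨s, s.2, fun h => hs.1 (Subtype.ext h), fun h => hs.2 (Subtype.ext h)⟩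
  have hh : ∀ {k : ℕ} {g : (Fin k → F) → (Fin k → F) → F}, Geo.IsUnitaryFormPow q g →
      Geo.IsUnitaryForm σ g := fun hg => ⟨hu.ne_refl, hu.involutive, hg.add_left, hg.smul_left,
    fun v w => (hg.herm v w).trans (hσq _).symm, hg.nondegenerate⟩
  cases hX with
  | @singular W h0 hW =>
    refine red (not_htv_le_subspace hu (by omega) h0 fun h => ?_)
    obtain ⟨v, hv⟩ := Function.ne_iff.1 (show (Pi.single ⟨0, by omega⟩ 1 : Fin n → F) ≠ 0 by
      intro h; simpa using congrFun h ⟨0, by omega⟩)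
    obtain ⟨⟨x, hx⟩, -⟩ := hu.nondegenerate (Pi.single ⟨0, by omega⟩ 1 : Fin n → F)
      fun h => hv (congrFun h v)
    exact hx (hW x (h ▸ Submodule.mem_top) _ (h ▸ Submodule.mem_top))
  | @nondeg W h0 hW hlt =>
    refine red (not_htv_le_subspace hu (by omega) h0 fun h => ?_)
    rw [h, finrank_top, Module.finrank_pi, Fintype.card_fin] at hlt
    omega
  | decomp hD => exact red (not_htv_le_decomposition hu h3' hqs hD.decomp)
  | pair hk hD hts => exact red (not_htv_le_decomposition hu h3' hqs hD)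
  | subOdd hr hro hc hP =>
    exact red (not_htv_le_subfield hu (by rw [Fintype.card_fin]; omega) (hne hr hc) _)
  | subTwo hq hc hP =>
    exact red (not_htv_le_subfield hu (by rw [Fintype.card_fin]; omega) (hne Nat.prime_two hc) _)
  | subSkew hn hc hζ hζq hP h0 =>
    exact red (not_htv_le_subfield hu (by rw [Fintype.card_fin]; omega) (hne Nat.prime_two hc) _)
  | symplType hn htype habs hsim hrp hmin hdata =>
    haveI := hmin.2.1
    exact not_su_le_symplType hu h3' h32' hrp htype habs hsim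
  | field hr hro hdvd hK hadj => exact red (not_htv_normalises_field hu h3' hr.two_le hK)
  | tensor h1 h2 hf₁ hf₂ hstr => exact red (not_htv_le_tensor hu h1 (by omega) _ _)
  | wreath hk ht hex hf₁ hstr =>
    exact not_su_le_tensorWreath hu h3' h32' hk ht (hh hf₁) (hσfun ▸ hstr)

/-- A maximal subgroup of the special unitary group is a member of a class or residual. -/
theorem unitMaximal {q : ℕ} (hF : Fintype.card F = q ^ 2) (h4 : 4 ≤ n)
    {H : Subgroup (GL (Fin n) F)}
    (hH : Geo.IsMaximalIn (GU n F q ⊓ Geo.specialLinear (Fin n) F) H) :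
    (∃ X, UnitX n F q X ∧ H = X ⊓ (GU n F q ⊓ Geo.specialLinear (Fin n) F)) ∨
      Geo.InUnitaryResidualClass H := by
  rcases unitStructureRefined n q hF (by omega) H (hH.1.le.trans inf_le_left) with ⟨X, hX, hle⟩ | h
  · rcases hH.2 (X ⊓ (GU n F q ⊓ Geo.specialLinear (Fin n) F)) (le_inf hle hH.1.le) inf_le_right with
      h | h
    · exact .inl ⟨X, hX, h.symm⟩
    · exact absurd (h.ge.trans inf_le_left)
        (not_su_le_unitX hF (by omega) (fun h => absurd h (by omega)) hX)
  · exact .inr h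

/-- A maximal subgroup contained in a geometric member is that member. -/
theorem eq_of_le_unitX {q : ℕ} (hF : Fintype.card F = q ^ 2) (h4 : 4 ≤ n)
    {H X : Subgroup (GL (Fin n) F)}
    (hH : Geo.IsMaximalIn (GU n F q ⊓ Geo.specialLinear (Fin n) F) H) (hX : UnitX n F q X)
    (hle : H ≤ X) : H = X ⊓ (GU n F q ⊓ Geo.specialLinear (Fin n) F) := by
  rcases hH.2 (X ⊓ (GU n F q ⊓ Geo.specialLinear (Fin n) F)) (le_inf hle hH.1.le) inf_le_right with
    h | h
  · exact h.symm
  · exact absurd (h.ge.trans inf_le_left)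
      (not_su_le_unitX hF (by omega) (fun h => absurd h (by omega)) hX)

/-- The same in dimension three, for more than two elements in the fixed field. -/
theorem unitMaximal_three {q : ℕ} (hF : Fintype.card F = q ^ 2) (hn : n = 3) (hq : 3 ≤ q)
    {H : Subgroup (GL (Fin n) F)}
    (hH : Geo.IsMaximalIn (GU n F q ⊓ Geo.specialLinear (Fin n) F) H) :
    (∃ X, UnitX n F q X ∧ H = X ⊓ (GU n F q ⊓ Geo.specialLinear (Fin n) F)) ∨
      Geo.InUnitaryResidualClass H := by
  rcases unitStructureRefined n q hF (by omega) H (hH.1.le.trans inf_le_left) with ⟨X, hX, hle⟩ | h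
  · rcases hH.2 (X ⊓ (GU n F q ⊓ Geo.specialLinear (Fin n) F)) (le_inf hle hH.1.le) inf_le_right with
      h | h
    · exact .inl ⟨X, hX, h.symm⟩
    · exact absurd (h.ge.trans inf_le_left) (not_su_le_unitX hF (by omega) (fun _ => hq) hX)
  · exact .inr h

/-- A maximal subgroup contained in a geometric member is that member, in dimension three. -/
theorem eq_of_le_unitX_three {q : ℕ} (hF : Fintype.card F = q ^ 2) (hn : n = 3) (hq : 3 ≤ q)
    {H X : Subgroup (GL (Fin n) F)}
    (hH : Geo.IsMaximalIn (GU n F q ⊓ Geo.specialLinear (Fin n) F) H) (hX : UnitX n F q X)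
    (hle : H ≤ X) : H = X ⊓ (GU n F q ⊓ Geo.specialLinear (Fin n) F) := by
  rcases hH.2 (X ⊓ (GU n F q ⊓ Geo.specialLinear (Fin n) F)) (le_inf hle hH.1.le) inf_le_right with
    h | h
  · exact h.symm
  · exact absurd (h.ge.trans inf_le_left) (not_su_le_unitX hF (by omega) (fun _ => hq) hX)

end Cfsg.Agent.Aschbacher
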