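import Cfsg.Agent.Lib.Aschbacher.UnitRefine

/-!
Over nine elements the stabiliser of an orthonormal frame in dimension four normalises a group of
symplectic type of order 64, generated by scalars, sign changes and translations of the four points.
-/

set_option autoImplicit false
set_option linter.style.haveILetI false

namespace Cfsg.Agent.Aschbacher

open scoped MatrixGroups Matrix
open Matrix
open Cfsg.Agent.Transvec (mv)

namespace Mon4

/-- The characters of the four-group, with values in the exponents of a square root of minus one. -/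
def chi4 (c a : Fin 4) : Fin 4 := if (c.val &&& a.val = 1 ∨ c.val &&& a.val = 2) then 2 else 0

/-- A constant plus a character. -/
def aff (k c : Fin 4) (a : Fin 4) : Fin 4 := k + chi4 c a

lemma xor_assoc' : ∀ v w a : Fin 4, v ^^^ (w ^^^ a) = (v ^^^ w) ^^^ a := by decide
lemma xor_zero' : ∀ a : Fin 4, (0 : Fin 4) ^^^ a = a := by decide
lemma xor_cancel' : ∀ v a : Fin 4, v ^^^ (v ^^^ a) = a := by decide
lemma chi_xor : ∀ c v a : Fin 4, chi4 c (v ^^^ a) = chi4 c v + chi4 c a := by decide
lemma chi_mul : ∀ c d a : Fin 4, chi4 c a + chi4 d a = chi4 (c ^^^ d) a := by decide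
lemma chi_self : ∀ c a : Fin 4, chi4 c a + chi4 c a = 0 := by decide
lemma chi_zero : ∀ a : Fin 4, chi4 0 a = 0 := by decide
lemma chi_values : ∀ c a : Fin 4, chi4 c a = 0 ∨ chi4 c a = 2 := by decide
lemma aff_inj : ∀ k c k' c' : Fin 4, (∀ a, aff k c a = aff k' c' a) → k = k' ∧ c = c' := by decide
lemma chi_central : ∀ v c : Fin 4, (∀ w d : Fin 4, chi4 c w = chi4 d v) → v = 0 ∧ c = 0 := by decide
lemma chi_partner : ∀ v c : Fin 4, ¬ (v = 0 ∧ c = 0) →
    ∃ w d : Fin 4, chi4 c w + chi4 d v = 2 := by decide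

set_option maxRecDepth 20000 in
lemma perm_spec : ∀ a b c d : Fin 4, a ≠ b → a ≠ c → a ≠ d → b ≠ c → b ≠ d → c ≠ d →
    (∀ v, ∃ v', ∀ x, ![a, b, c, d] (v ^^^ x) = v' ^^^ ![a, b, c, d] x) ∧
      ∀ s, ∃ k' c', ∀ x, chi4 s x = aff k' c' (![a, b, c, d] x) := by decide

set_option maxRecDepth 20000 in
lemma diag_spec : ∀ a b c d : Fin 4, a + b + c + d = 0 ∨ a + b + c + d = 2 →
    ∀ v, ∃ s, ∀ x, ![a, b, c, d] (v ^^^ x) = (![a, b, c, d] v - a) + chi4 s x + ![a, b, c, d] x := by
  decide

lemma perm_aff (p : Equiv.Perm (Fin 4)) :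
    (∀ v, ∃ v', ∀ x, p (v ^^^ x) = v' ^^^ p x) ∧ ∀ k s, ∃ k' c', ∀ x, aff k s x = aff k' c' (p x) := by
  have hp : (p : Fin 4 → Fin 4) = ![p 0, p 1, p 2, p 3] := by funext x; fin_cases x <;> rfl
  have hne : ∀ {x y : Fin 4}, x ≠ y → p x ≠ p y := fun h h' => h (p.injective h')
  obtain ⟨h1, h2⟩ := perm_spec (p 0) (p 1) (p 2) (p 3) (hne (by decide)) (hne (by decide))
    (hne (by decide)) (hne (by decide)) (hne (by decide)) (hne (by decide))
  rw [← hp] at h1 h2
  refine ⟨h1, fun k s => ?_⟩
  obtain ⟨k', c', h⟩ := h2 s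
  exact ⟨k + k', c', fun x => by rw [aff, h, aff, aff]; abel⟩

lemma diag_aff {e : Fin 4 → Fin 4} (he : e 0 + e 1 + e 2 + e 3 = 0 ∨ e 0 + e 1 + e 2 + e 3 = 2)
    (v : Fin 4) : ∃ k c, ∀ x, e (v ^^^ x) = aff k c x + e x := by
  obtain ⟨s, hs⟩ := diag_spec _ _ _ _ he v
  have hp : e = ![e 0, e 1, e 2, e 3] := by funext x; fin_cases x <;> rfl
  rw [← hp] at hs
  exact ⟨_, s, hs⟩

variable {F : Type*} [Field F]

/-- The powers of a root of minus one. -/
def ip (i : F) (k : Fin 4) : F := i ^ k.val

/-- A monomial matrix: column y has its entry in row p y. -/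
def mon (i : F) (p e : Fin 4 → Fin 4) : Matrix (Fin 4) (Fin 4) F :=
  Matrix.of fun x y => if x = p y then ip i (e y) else 0

variable {i : F} (hi : i * i = -1)
include hi

lemma four : i ^ 4 = 1 := by
  rw [show i ^ 4 = (i * i) * (i * i) by ring, hi]; ring

lemma ip_add (a b : Fin 4) : ip i (a + b) = ip i a * ip i b := by
  simp only [ip, Fin.val_add, ← pow_add]
  conv_rhs => rw [← Nat.mod_add_div (a.val + b.val) 4, pow_add, pow_mul, four hi, one_pow, mul_one]

lemma ip_ne_zero (a : Fin 4) : ip i a ≠ 0 := pow_ne_zero _ fun h => by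
  rw [h, mul_zero] at hi; exact one_ne_zero (α := F) (by linear_combination hi)

lemma ip_inj (h2 : (2 : F) ≠ 0) {a b : Fin 4} (h : ip i a = ip i b) : a = b := by
  have key : ∀ c : Fin 4, ip i c = 1 → c = 0 := by
    intro c hc
    fin_cases c
    · rfl
    · have h1 : i = 1 := by simpa [ip] using hc
      rw [h1, one_mul] at hi
      exact absurd (by linear_combination hi) h2
    · have h1 : i * i = 1 := by simpa [ip, pow_two] using hc
      rw [hi] at h1
      exact absurd (by linear_combination -h1) h2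
    · have h1 : i * i * i = 1 := by simpa [ip, pow_succ] using hc
      rw [hi] at h1
      have h3 : i = -1 := by linear_combination -h1
      rw [h3] at hi
      exact absurd (by linear_combination hi) h2
  have hsub : ip i (a - b) = 1 := by
    have h1 : ip i (a - b) * ip i b = ip i b := by rw [← ip_add hi, sub_add_cancel, h]
    exact (mul_eq_right₀ (ip_ne_zero hi b)).1 h1
  exact sub_eq_zero.1 (key _ hsub)

omit hi in
lemma ip_zero : ip i 0 = 1 := pow_zero i

lemma mon_mul (p e p' e' : Fin 4 → Fin 4) :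
    mon i p e * mon i p' e' = mon i (p ∘ p') (e ∘ p' + e') := by
  ext x y
  rw [Matrix.mul_apply, Finset.sum_eq_single (p' y)]
  · simp [mon, ip_add hi]
  · intro z _ hz; simp [mon, hz]
  · simp

omit hi in
lemma mon_scalar (k : Fin 4) : mon i id (fun _ => k) = ip i k • (1 : Matrix (Fin 4) (Fin 4) F) := by
  ext x y
  by_cases h : x = y
  · subst h; simp [mon]
  · simp [mon, h]

omit hi in
lemma mon_one : mon i id (fun _ => 0) = 1 := by rw [mon_scalar, ip_zero, one_smul]

/-- The elements of the group. -/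
def elt (i : F) (v k c : Fin 4) : Matrix (Fin 4) (Fin 4) F := mon i (fun x => v ^^^ x) (aff k c)

omit hi in
lemma elt_scalar (k : Fin 4) : elt i 0 k 0 = ip i k • (1 : Matrix (Fin 4) (Fin 4) F) := by
  rw [← mon_scalar]
  refine congrArg₂ (mon i) (funext fun x => xor_zero' x) (funext fun x => ?_)
  simp [aff, chi_zero]

lemma elt_mul (v k c w l d : Fin 4) :
    elt i v k c * elt i w l d = elt i (v ^^^ w) (k + l + chi4 c w) (c ^^^ d) := by
  rw [elt, elt, mon_mul hi, elt]
  refine congrArg₂ (mon i) (funext fun x => xor_assoc' v w x) (funext fun x => ?_)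
  simp only [Pi.add_apply, Function.comp_apply, aff, chi_xor, ← chi_mul c d x]
  abel

lemma elt_sq (v k c : Fin 4) :
    elt i v k c * elt i v k c = ip i (k + k + chi4 c v) • (1 : Matrix (Fin 4) (Fin 4) F) := by
  rw [elt_mul hi, ← elt_scalar]
  refine congrArg₂ (fun a b => elt i a _ b) ?_ ?_
  · revert v; decide
  · revert c; decide

lemma elt_inj (h2 : (2 : F) ≠ 0) {v k c w l d : Fin 4} (h : elt i v k c = elt i w l d) :
    v = w ∧ k = l ∧ c = d := by
  have key : ∀ x, v ^^^ x = w ^^^ x ∧ aff k c x = aff l d x := by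
    intro x
    have h' := congrFun (congrFun h (v ^^^ x)) x
    simp only [elt, mon, Matrix.of_apply, if_true] at h'
    by_cases hvw : v ^^^ x = w ^^^ x
    · rw [if_pos hvw] at h'
      exact ⟨hvw, ip_inj hi h2 h'⟩
    · rw [if_neg hvw] at h'
      exact absurd h' (ip_ne_zero hi _)
  have h0 := (key 0).1
  have hx : ∀ v w : Fin 4, v ^^^ 0 = w ^^^ 0 → v = w := by decide
  obtain ⟨h1, h3⟩ := aff_inj k c l d fun x => (key x).2
  exact ⟨hx v w h0, h1, h3⟩

end Mon4

open Mon4

/-- The stabiliser of an orthonormal frame over nine elements normalises a group of symplectic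
type. -/
theorem symplType_of_frame_three {F : Type*} [Field F] [Fintype F] (hF : Fintype.card F = 3 ^ 2)
    {D : Fin 4 → Submodule F (Fin 4 → F)}
    (hD : Geo.IsNondegenerateMDecomposition (hermForm 4 F 3) 1 D) :
    ∃ R : Subgroup (GL (Fin 4) F), Geo.IsSymplecticTypeGroup 2 R ∧
      Geo.ActsAbsolutelyIrreducibly (Geo.matrixSet R) ∧
      R ≤ Geo.similarityGroup (hermForm 4 F 3) ∧ Nat.card R = 64 ∧
      Nat.card (Subgroup.center R) = 4 ∧
      ∀ g ∈ Geo.decompositionStabilizer D, g ∈ GU 4 F 3 ⊓ Geo.specialLinear (Fin 4) F →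
        g ∈ Geo.subgroupNormalizer R := by
  classical
  obtain ⟨σ, hσq, hu, hfix⟩ := UnitaryStd.exists_setup (n := 4) hF (by norm_num)
  set f := hermForm 4 F 3 with hfdef
  obtain ⟨i, hi⟩ : ∃ i : F, i * i = -1 := by
    obtain ⟨i, hi⟩ := (FiniteField.isSquare_neg_one_iff (F := F)).2 (by rw [hF]; norm_num)
    exact ⟨i, hi.symm⟩
  have h3 : (3 : F) = 0 := by
    have h9 := FiniteField.cast_card_eq_zero F
    rw [hF] at h9
    push_cast at h9
    exact mul_self_eq_zero.1 (by linear_combination h9)
  have h2 : (2 : F) ≠ 0 := fun h => one_ne_zero (α := F) (by linear_combination h3 - h)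
  -- an orthonormal frame
  have hvec : ∀ j, ∃ d, d ∈ D j ∧ f d d = 1 := by
    intro j
    have hnd : Transvec.Herm.Nondeg hu (D j) := (Transvec.Herm.nondeg_iff hu).2 fun u hu' h => by
      by_contra h0
      obtain ⟨⟨x, hx, hxu⟩, -⟩ := hD.nondegenerate j u hu' h0
      exact hxu (h x hx)
    obtain ⟨v, hv, hvv⟩ := Transvec.Herm.exists_anisotropic hu hnd (fun h => by
      have := hD.decomp.finrank_eq j; rw [h, finrank_bot] at this; omega)
    obtain ⟨a, ha⟩ := Transvec.Herm.exists_norm hu.ne_refl hu.involutive (f v v)⁻¹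
      (by rw [map_inv₀, Transvec.Herm.self_fixed hu])
    refine ⟨a • v, (D j).smul_mem a hv, ?_⟩
    rw [hu.smul_left, Transvec.Herm.smul_right hu, ← mul_assoc, ha, inv_mul_cancel₀ hvv]
  choose d hd hdd using hvec
  have hgram : ∀ a b, f (d a) (d b) = if a = b then 1 else 0 := by
    intro a b
    by_cases h : a = b
    · subst h; rw [if_pos rfl, hdd]
    · rw [if_neg h]; exact hD.orthogonal a b h _ (hd a) _ (hd b)
  let Pm : Matrix (Fin 4) (Fin 4) F := Matrix.of fun x a => d a x
  have hPv : ∀ u : Fin 4 → F, Pm *ᵥ u = ∑ a, u a • d a := fun u => by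
    funext x
    simp [Pm, Matrix.mulVec, dotProduct, mul_comm]
  have hPf : ∀ u v, f (Pm *ᵥ u) (Pm *ᵥ v) = f u v := fun u v => by
    have hH := IsHermLike.of_unitary hu
    rw [hPv, hPv, hH.sum_left]
    refine Finset.sum_congr rfl fun a _ => ?_
    rw [hH.sum_right, Finset.sum_eq_single a]
    · rw [hu.smul_left, Transvec.Herm.smul_right hu, hgram, if_pos rfl, hσq, mul_one]
    · intro b _ hb; rw [hu.smul_left, Transvec.Herm.smul_right hu, hgram, if_neg hb.symm]; ring
    · simp
  let P : GL (Fin 4) F := ((Matrix.mulVec_injective_iff_isUnit (A := Pm)).1 (fun x y h => by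
    by_contra hne
    obtain ⟨⟨z, hz⟩, -⟩ := hu.nondegenerate (x - y) (sub_ne_zero.2 hne)
    rw [← hPf, Matrix.mulVec_sub, sub_eq_zero.2 h] at hz
    exact hz (Transvec.Herm.zero_right hu _))).unit
  have hPGU : P ∈ GU 4 F 3 := fun u v => hPf u v
  -- monomial units
  have ip_norm : ∀ k, ip i k * (ip i k) ^ 3 = 1 := fun k => by
    rw [← pow_succ', ip, ← pow_mul, mul_comm, pow_mul, four hi, one_pow]
  let monU : Equiv.Perm (Fin 4) → (Fin 4 → Fin 4) → GL (Fin 4) F := fun p e =>
    { val := mon i p e
      inv := mon i p.symm (fun x => -e (p.symm x))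
      val_inv := by
        rw [mon_mul hi, ← mon_one (i := i)]
        refine congrArg₂ (mon i) (funext fun x => by simp) (funext fun x => by simp)
      inv_val := by
        rw [mon_mul hi, ← mon_one (i := i)]
        refine congrArg₂ (mon i) (funext fun x => by simp) (funext fun x => by simp) }
  have hmonGU : ∀ p e, monU p e ∈ GU 4 F 3 := fun p e u v => by
    show hermForm 4 F 3 (mon i p e *ᵥ u) (mon i p e *ᵥ v) = hermForm 4 F 3 u v
    have hval : ∀ (w : Fin 4 → F) y, (mon i p e *ᵥ w) (p y) = ip i (e y) * w y := fun w y => by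
      simp [mon, Matrix.mulVec, dotProduct]
    simp only [hermForm]
    rw [← Equiv.sum_comp p]
    refine Finset.sum_congr rfl fun y _ => ?_
    rw [hval, hval, mul_pow]
    linear_combination (u y * v y ^ 3) * ip_norm (e y)
  let xorP : Fin 4 → Equiv.Perm (Fin 4) := fun v =>
    ⟨fun x => v ^^^ x, fun x => v ^^^ x, xor_cancel' v, xor_cancel' v⟩
  let E : Fin 4 → Fin 4 → Fin 4 → GL (Fin 4) F := fun v k c =>
    MulAut.conj P (monU (xorP v) (aff k c))
  have hEv : ∀ v k c, (E v k c : Matrix (Fin 4) (Fin 4) F) = cj P (elt i v k c) := fun v k c => by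
    show ((P * monU (xorP v) (aff k c) * P⁻¹ : GL (Fin 4) F) : Matrix (Fin 4) (Fin 4) F) = _
    rw [cj_apply]; rfl
  have hEmul : ∀ v k c w l d, E v k c * E w l d = E (v ^^^ w) (k + l + chi4 c w) (c ^^^ d) :=
    fun v k c w l d => Units.ext (by rw [Units.val_mul, hEv, hEv, hEv, ← map_mul, elt_mul hi])
  have hEinj : ∀ {v k c w l d}, E v k c = E w l d → v = w ∧ k = l ∧ c = d := fun {v k c w l d} h => by
    have h' := congrArg Units.val h
    rw [hEv, hEv] at h'
    exact elt_inj hi h2 ((cj P).injective h')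
  have hE0 : ∀ k, (E 0 k 0 : Matrix (Fin 4) (Fin 4) F) = ip i k • 1 := fun k => by
    rw [hEv, elt_scalar, map_smul, map_one]
  have hE1 : E 0 0 0 = 1 := Units.ext (by rw [hE0, ip_zero, one_smul, Units.val_one])
  have hEsq : ∀ v k c, E v k c * E v k c = E 0 (k + k + chi4 c v) 0 := fun v k c => Units.ext (by
    rw [Units.val_mul, hEv, ← map_mul, elt_sq hi, map_smul, map_one, hE0])
  have hEscal : ∀ k (x : GL (Fin 4) F), E 0 k 0 * x = x * E 0 k 0 := fun k x => Units.ext (by
    rw [Units.val_mul, Units.val_mul, hE0]; simp)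
  let S : Submonoid (GL (Fin 4) F) :=
    { carrier := {g | ∃ v k c, g = E v k c}
      mul_mem' := by
        rintro _ _ ⟨v, k, c, rfl⟩ ⟨w, l, d, rfl⟩
        exact ⟨_, _, _, hEmul v k c w l d⟩
      one_mem' := ⟨0, 0, 0, hE1.symm⟩ }
  let R : Subgroup (GL (Fin 4) F) :=
    { S with
      inv_mem' := fun {x} hx => by
        show x⁻¹ ∈ S
        rw [show x⁻¹ = x ^ (orderOf x - 1) from inv_eq_of_mul_eq_one_right (by
          rw [← pow_succ', Nat.sub_add_cancel (orderOf_pos x), pow_orderOf_eq_one])]
        exact S.pow_mem hx _ }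
  have memR : ∀ v k c, E v k c ∈ R := fun v k c => ⟨v, k, c, rfl⟩
  have hx4 : ∀ v k c, E v k c ^ 4 = 1 := fun v k c => by
    rw [pow_succ, pow_succ, pow_succ, pow_one, mul_assoc (E v k c * E v k c), hEsq, hEmul]
    rw [← hE1]
    congr 1
    have : ∀ k c v : Fin 4,
        (k + k + chi4 c v) + (k + k + chi4 c v) + chi4 0 0 = 0 := by decide
    exact this k c v
  have hswap : ∀ v k c w l d, E w l d * E v k c = E 0 (chi4 c w + chi4 d v) 0 * (E v k c * E w l d) := by
    intro v k c w l d
    rw [hEmul, hEmul, hEmul]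
    congr 1
    · revert v w; decide
    · rw [chi_zero]
      have hh : ∀ a b x y : Fin 4, (x = 0 ∨ x = 2) →
          b + a + y = x + y + (a + b + x) + 0 := by decide
      exact hh _ _ _ _ (chi_values _ _)
    · revert c d; decide
  have hcentre : ∀ x : R, x ∈ Subgroup.center R ↔ ∃ k, (x : GL (Fin 4) F) = E 0 k 0 := by
    rintro ⟨_, v, k, c, rfl⟩
    constructor
    · intro hx
      have hzero : ∀ w d : Fin 4, chi4 c w = chi4 d v := by
        intro w d
        have h := congrArg Subtype.val (Subgroup.mem_center_iff.1 hx ⟨_, memR w 0 d⟩)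
        change E w 0 d * E v k c = E v k c * E w 0 d at h
        rw [hswap, mul_eq_right, ← hE1] at h
        have := (hEinj h).2.1
        have hh : ∀ a b : Fin 4, a + b = 0 → (a = 0 ∨ a = 2) → a = b := by decide
        exact hh _ _ this (chi_values _ _)
      obtain ⟨rfl, rfl⟩ := chi_central v c hzero
      exact ⟨k, rfl⟩
    · rintro ⟨k', hk'⟩
      refine Subgroup.mem_center_iff.2 fun y => Subtype.ext ?_
      show (y : GL (Fin 4) F) * E v k c = E v k c * y
      rw [show E v k c = E 0 k' 0 from hk', hEscal]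
  have hexp : Monoid.exponent R = 4 := by
    refine Nat.dvd_antisymm (Monoid.exponent_dvd_of_forall_pow_eq_one ?_) ?_
    · rintro ⟨_, v, k, c, rfl⟩
      exact Subtype.ext (hx4 v k c)
    · have h : orderOf (⟨E 0 1 0, memR 0 1 0⟩ : R) = 4 := by
        refine orderOf_eq_prime_pow (p := 2) (n := 1) ?_ ?_
        · intro h
          have h' := congrArg Subtype.val h
          rw [SubmonoidClass.coe_pow, pow_one, pow_two, hEsq] at h'
          change E 0 (1 + 1 + chi4 0 0) 0 = 1 at h'
          rw [← hE1] at h'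
          exact absurd (hEinj h').2.1 (by decide)
        · exact Subtype.ext (hx4 0 1 0)
      have h' := Monoid.order_dvd_exponent (⟨E 0 1 0, memR 0 1 0⟩ : R)
      rwa [h] at h'
  have htype : Geo.IsSymplecticTypeGroup 2 R := by
    refine ⟨Nat.prime_two, ?_, ?_, by rw [hexp]; rfl⟩
    · rintro ⟨_, v, k, c, rfl⟩
      exact ⟨2, Subtype.ext (hx4 v k c)⟩
    · intro A hA hAc
      have hle : A ≤ Subgroup.center R := by
        intro x hxA
        by_contra hx
        obtain ⟨v, k, c, hxE⟩ := x.2
        have hne : ¬ (v = 0 ∧ c = 0) := fun h => hx ((hcentre x).2 ⟨k, by rw [hxE, h.1, h.2]⟩)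
        obtain ⟨w, d, hwd⟩ := chi_partner v c hne
        obtain ⟨l, hl⟩ : ∃ l : Fin 4, l + l + chi4 d w = 2 := by
          have hh : ∀ d w : Fin 4, ∃ l : Fin 4, l + l + chi4 d w = 2 := by decide
          exact hh d w
        set y := E w l d with hy
        have hip2 : ip i 2 = -1 := by
          show i ^ 2 = -1
          rw [pow_two, hi]
        have hy2 : y.val * y.val = -1 := by
          rw [hy, ← Units.val_mul, hEsq, hl, hE0, hip2, neg_smul, one_smul]
        let u : GL (Fin 4) F :=
          { val := 1 + y.val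
            inv := (2 : F)⁻¹ • (1 - y.val)
            val_inv := by
              rw [Matrix.mul_smul, mul_sub, mul_one, add_mul, one_mul, hy2]
              rw [show (1 + y.val - (y.val + -1)) = (2 : F) • (1 : Matrix (Fin 4) (Fin 4) F) by
                rw [two_smul]; abel, smul_smul, inv_mul_cancel₀ h2, one_smul]
            inv_val := by
              rw [Matrix.smul_mul, sub_mul, one_mul, mul_add, mul_one, hy2]
              rw [show (1 + y.val - (y.val + -1)) = (2 : F) • (1 : Matrix (Fin 4) (Fin 4) F) by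
                rw [two_smul]; abel, smul_smul, inv_mul_cancel₀ h2, one_smul] }
        have hconj : ∀ z ∈ R, (y * z = z * y → u * z * u⁻¹ = z) ∧
            (y.val * z.val = -(z.val * y.val) → u * z * u⁻¹ = y * z) := by
          intro z _
          refine ⟨fun h => ?_, fun h => ?_⟩
          · rw [mul_inv_eq_iff_eq_mul]
            refine Units.ext ?_
            have h' := congrArg Units.val h
            simp only [Units.val_mul] at h' ⊢
            show (1 + y.val) * z.val = z.val * (1 + y.val)
            rw [add_mul, mul_add, one_mul, mul_one, h']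
          · rw [mul_inv_eq_iff_eq_mul]
            refine Units.ext ?_
            simp only [Units.val_mul]
            show (1 + y.val) * z.val = y.val * z.val * (1 + y.val)
            have e1 : y.val * z.val * y.val = z.val := by
              rw [h, neg_mul, mul_assoc, hy2, mul_neg, mul_one, neg_neg]
            rw [add_mul, mul_add, one_mul, mul_one, e1, add_comm]
        have hcases : ∀ z ∈ R, y * z = z * y ∨ y.val * z.val = -(z.val * y.val) := by
          rintro _ ⟨v', k', c', rfl⟩
          have h := hswap v' k' c' w l d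
          rcases chi_values c' w with h1 | h1 <;> rcases chi_values d v' with h1' | h1' <;>
            rw [h1, h1'] at h
          · exact Or.inl (h.trans (by rw [show (0 : Fin 4) + 0 = 0 from rfl, hE1, one_mul]))
          · right
            have h' := congrArg Units.val h
            rw [Units.val_mul, Units.val_mul, Units.val_mul, show (0 : Fin 4) + 2 = 2 from rfl, hE0,
              hip2, neg_smul, one_smul, neg_mul, one_mul] at h'
            exact h'
          · right
            have h' := congrArg Units.val h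
            rw [Units.val_mul, Units.val_mul, Units.val_mul, show (2 : Fin 4) + 0 = 2 from rfl, hE0,
              hip2, neg_smul, one_smul, neg_mul, one_mul] at h'
            exact h'
          · exact Or.inl (h.trans (by rw [show (2 : Fin 4) + 2 = 0 from rfl, hE1, one_mul]))
        have hmem : ∀ z ∈ R, u * z * u⁻¹ ∈ R := fun z hz => by
          rcases hcases z hz with h | h
          · rw [(hconj z hz).1 h]; exact hz
          · rw [(hconj z hz).2 h]; exact R.mul_mem (memR w l d) hz
        let φ : R →* R :=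
          { toFun := fun z => ⟨u * z.1 * u⁻¹, hmem _ z.2⟩
            map_one' := Subtype.ext (by simp)
            map_mul' := fun a b => Subtype.ext (by simp [mul_assoc]) }
        have hφ : Function.Injective φ := fun a b h => Subtype.ext
          (mul_left_cancel (mul_right_cancel (congrArg Subtype.val h)))
        let α : R ≃* R := MulEquiv.ofBijective φ (Finite.injective_iff_bijective.1 hφ)
        have hαx : α x ∈ A := by
          have := (Subgroup.characteristic_iff_map_le.1 hA α) (Subgroup.mem_map_of_mem _ hxA)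
          exact this
        have hanti : y.val * x.1.val = -(x.1.val * y.val) := by
          have h := congrArg Units.val (hswap v k c w l d)
          rw [hwd, Units.val_mul, Units.val_mul, Units.val_mul, hE0, hip2, neg_smul, one_smul,
            neg_mul, one_mul, ← hxE] at h
          exact h
        have hcom := congrArg (fun z : A => (z.1 : R).1.val)
          (hAc.is_comm.comm ⟨α x, hαx⟩ ⟨x, hxA⟩)
        have hαv : (α x).1 = y * x.1 := (hconj x.1 x.2).2 hanti
        simp only [Subgroup.coe_mul, Units.val_mul, hαv] at hcom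
        rw [← mul_assoc, hanti, neg_mul, eq_comm, eq_neg_iff_add_eq_zero, ← two_smul F,
          smul_eq_zero] at hcom
        have hu' : IsUnit (x.1.val * y.val * x.1.val) := (x.1.isUnit.mul y.isUnit).mul x.1.isUnit
        exact hu'.ne_zero (hcom.resolve_left h2)
      let ev : A →* F :=
        { toFun := fun x => (x.1 : R).1.val 0 0
          map_one' := by simp
          map_mul' := fun a b => by
            obtain ⟨k, hk⟩ := (hcentre a.1).1 (hle a.2)
            simp only [Subgroup.coe_mul, Units.val_mul, hk, hE0]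
            simp }
      refine isCyclic_of_subgroup_isDomain ev fun a b h => ?_
      obtain ⟨k, hk⟩ := (hcentre a.1).1 (hle a.2)
      obtain ⟨l, hl⟩ := (hcentre b.1).1 (hle b.2)
      refine Subtype.ext (Subtype.ext ?_)
      change (a.1 : R).1.val 0 0 = (b.1 : R).1.val 0 0 at h
      rw [hk, hl, hE0, hE0] at h
      rw [hk, hl, ip_inj hi h2 (a := k) (b := l) (by simpa using h)]
  have htop : spanAlg R = ⊤ := by
    have h4 : (4 : F) ≠ 0 := fun h => one_ne_zero (α := F) (by linear_combination h - h3)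
    have hmem : ∀ a b, cj P (Matrix.single a b (1 : F)) ∈ spanAlg R := by
      intro a b
      have e1 : Matrix.single a b (1 : F) =
          ∑ c : Fin 4, ((4 : F)⁻¹ * ip i (chi4 c b)) • elt i (a ^^^ b) 0 c := by
        ext x y
        simp only [Matrix.sum_apply, Matrix.smul_apply, elt, mon, Matrix.of_apply, smul_eq_mul, aff,
          zero_add, mul_ite, mul_zero, mul_assoc, ← ip_add hi]
        by_cases hxy : x = (a ^^^ b) ^^^ y
        · subst hxy
          simp only [if_true, Fin.sum_univ_four]
          by_cases hby : b = y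
          · subst hby
            have : ∀ a b : Fin 4, (a ^^^ b) ^^^ b = a := by decide
            simp only [chi_self, ip_zero, this, Matrix.single_apply_same, mul_one]
            field_simp
            norm_num
          · rw [Matrix.single_apply_of_ne _ _ _ _ _ (fun h => hby h.2)]
            have hsum : ∀ b y : Fin 4, b ≠ y →
                chi4 0 b + chi4 0 y = 0 ∧
                ((chi4 1 b + chi4 1 y = 0 ∧ chi4 2 b + chi4 2 y = 2 ∧ chi4 3 b + chi4 3 y = 2) ∨
                  (chi4 1 b + chi4 1 y = 2 ∧ chi4 2 b + chi4 2 y = 0 ∧ chi4 3 b + chi4 3 y = 2) ∨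
                  (chi4 1 b + chi4 1 y = 2 ∧ chi4 2 b + chi4 2 y = 2 ∧ chi4 3 b + chi4 3 y = 0)) := by
              decide
            obtain ⟨e0, ⟨e1, e2, e3⟩ | ⟨e1, e2, e3⟩ | ⟨e1, e2, e3⟩⟩ := hsum b y hby <;>
              rw [e0, e1, e2, e3] <;> simp [ip, pow_two, hi]
        · simp only [if_neg hxy, Finset.sum_const_zero]
          refine Matrix.single_apply_of_ne _ _ _ _ _ fun h => hxy ?_
          have hh : ∀ a b : Fin 4, a = (a ^^^ b) ^^^ b := by decide
          rw [← h.1, ← h.2]
          exact hh a b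
      rw [e1, map_sum]
      exact sum_mem fun c _ => by
        rw [map_smul, ← hEv]
        exact Subalgebra.smul_mem _ (coe_mem_spanAlg (memR _ _ _)) _
    refine Algebra.eq_top_iff.2 fun X => ?_
    rw [← cj_cj_inv P X, Matrix.matrix_eq_sum_single (cj P⁻¹ X), map_sum]
    refine sum_mem fun a _ => ?_
    rw [map_sum]
    refine sum_mem fun b _ => ?_
    rw [← mul_one ((cj P⁻¹ X) a b), ← smul_eq_mul, ← Matrix.smul_single, map_smul]
    exact Subalgebra.smul_mem _ (hmem a b) _
  refine ⟨R, htype, absIrred_of_spanAlg_eq_top htop, ?_, ?_, ?_, ?_⟩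
  · rintro _ ⟨v, k, c, rfl⟩
    have hg : E v k c ∈ GU 4 F 3 :=
      Subgroup.mul_mem _ (Subgroup.mul_mem _ hPGU (hmonGU _ _)) (Subgroup.inv_mem _ hPGU)
    exact ⟨1, fun u w => (hg u w).trans (by simp [hfdef])⟩
  · let φ : Fin 4 × Fin 4 × Fin 4 → R := fun t => ⟨E t.1 t.2.1 t.2.2, memR _ _ _⟩
    rw [← Nat.card_eq_of_bijective φ ⟨?_, ?_⟩]
    · simp
    · intro s t h
      obtain ⟨e1, e2, e3⟩ := hEinj (congrArg Subtype.val h)
      exact Prod.ext e1 (Prod.ext e2 e3)
    · rintro ⟨_, v, k, c, rfl⟩; exact ⟨(v, k, c), rfl⟩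
  · let φ : Fin 4 → Subgroup.center R := fun k => ⟨⟨E 0 k 0, memR 0 k 0⟩, (hcentre _).2 ⟨k, rfl⟩⟩
    rw [← Nat.card_eq_of_bijective φ ⟨?_, ?_⟩]
    · simp
    · intro s t h
      exact (hEinj (congrArg (fun z : Subgroup.center R => (z.1 : R).1) h)).2.1
    · rintro ⟨x, hx⟩
      obtain ⟨k, hk⟩ := (hcentre x).1 hx
      exact ⟨k, Subtype.ext (Subtype.ext hk.symm)⟩
  rintro g ⟨τ, hτ⟩ hg
  -- the monomial form of an element
  have hcol : ∀ a, ∃ k : Fin 4, mv g (d a) = ip i k • d (τ a) := by
    intro a
    have hmem : mv g (d a) ∈ D (τ a) := hτ a ▸ ⟨d a, hd a, Matrix.toLin'_apply _ _⟩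
    have hspan : Submodule.span F {d (τ a)} = D (τ a) :=
      Submodule.eq_of_le_of_finrank_le ((Submodule.span_singleton_le_iff_mem _ _).2 (hd _)) (by
        rw [Transvec.Herm.finrank_span_single hu (by rw [hdd]; exact one_ne_zero),
          hD.decomp.finrank_eq])
    obtain ⟨l, hl⟩ := Submodule.mem_span_singleton.1 (hspan.ge hmem)
    have h1 : f (mv g (d a)) (mv g (d a)) = f (d a) (d a) := hg.1 (d a) (d a)
    rw [← hl, hu.smul_left, Transvec.Herm.smul_right hu, hdd, hdd, mul_one, hσq] at h1
    have hroot : (l * l - 1) * (l * l + 1) = 0 := by linear_combination h1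
    obtain ⟨k, hk⟩ : ∃ k, ip i k = l := by
      rcases mul_eq_zero.1 hroot with h | h
      · rcases mul_self_eq_one_iff.1 (show l * l = 1 by linear_combination h) with rfl | rfl
        · exact ⟨0, ip_zero⟩
        · exact ⟨2, by rw [ip]; simp [pow_two, hi]⟩
      · have h' : (l - i) * (l + i) = 0 := by linear_combination h - hi
        rcases mul_eq_zero.1 h' with h'' | h''
        · exact ⟨1, by rw [ip]; simp [sub_eq_zero.1 h'']⟩
        · refine ⟨3, ?_⟩
          rw [ip, eq_neg_of_add_eq_zero_left h'']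
          show i ^ 3 = -i
          rw [pow_succ, pow_two, hi, neg_one_mul]
    exact ⟨k, by rw [← hl, hk]⟩
  choose e he using hcol
  have hgval : (g : Matrix (Fin 4) (Fin 4) F) = cj P (mon i τ e) := by
    rw [cj_apply, eq_comm, Units.mul_inv_eq_iff_eq_mul]
    refine Matrix.ext_of_mulVec_single fun a => ?_
    rw [← Matrix.mulVec_mulVec, ← Matrix.mulVec_mulVec]
    show Pm *ᵥ _ = mv g (Pm *ᵥ _)
    have hcola : Pm *ᵥ Pi.single a 1 = d a := by
      funext x; simp [Pm]
    rw [hcola, he, hPv, Finset.sum_eq_single (τ a)]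
    · simp [mon]
    · intro b _ hb; simp [mon, hb]
    · simp
  have hpar : e 0 + e 1 + e 2 + e 3 = 0 ∨ e 0 + e 1 + e 2 + e 3 = 2 := by
    have hdet : (g : Matrix (Fin 4) (Fin 4) F).det = 1 := UnitaryStd.det_eq_one hg
    have hm : mon i τ e = (Matrix.diagonal fun y => ip i (e y)).submatrix τ.symm id := by
      ext x y
      by_cases h : x = τ y
      · subst h; simp [mon]
      · rw [Matrix.submatrix_apply, Matrix.diagonal_apply_ne _ (fun h' => h (by
          simpa using congrArg τ h'))]
        simp [mon, h]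
    rw [hgval, cj_apply, Matrix.det_units_conj, hm, Matrix.det_permute, Matrix.det_diagonal,
      Fin.prod_univ_four, ← ip_add hi, ← ip_add hi, ← ip_add hi] at hdet
    set s := e 0 + e 1 + e 2 + e 3 with hs
    have hsq : ip i (s + s) = 1 := by
      rw [ip_add hi]
      rcases Int.units_eq_one_or (Equiv.Perm.sign τ.symm) with h | h <;> rw [h] at hdet <;>
        simp at hdet
      · rw [hdet, one_mul]
      · rw [show ip i s = -1 by linear_combination -hdet]; ring
    have h0 : s + s = 0 := ip_inj hi h2 (hsq.trans ip_zero.symm)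
    have hh : ∀ s : Fin 4, s + s = 0 → s = 0 ∨ s = 2 := by decide
    exact hh s h0
  obtain ⟨hxor, haff⟩ := perm_aff τ
  have hconj : ∀ z ∈ R, g * z * g⁻¹ ∈ R := by
    rintro _ ⟨v, k, c, rfl⟩
    obtain ⟨v', hv'⟩ := hxor v
    obtain ⟨k₁, c₁, h1⟩ := diag_aff hpar v
    obtain ⟨k', c', h'⟩ := haff (k₁ + k) (c₁ ^^^ c)
    refine ⟨v', k', c', ?_⟩
    rw [mul_inv_eq_iff_eq_mul]
    refine Units.ext ?_
    rw [Units.val_mul, Units.val_mul, hEv, hEv, hgval, ← map_mul, ← map_mul, elt, elt, mon_mul hi,
      mon_mul hi]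
    congr 1
    refine congrArg₂ (mon i) (funext fun x => hv' x) (funext fun x => ?_)
    simp only [Pi.add_apply, Function.comp_apply]
    rw [h1, ← h']
    simp only [aff, ← chi_mul c₁ c x]
    abel
  rw [Geo.subgroupNormalizer, Subgroup.mem_normalizer_iff]
  intro z
  refine ⟨hconj z, fun hz => ?_⟩
  have hle : R.map (MulAut.conj g).toMonoidHom ≤ R := by
    rintro _ ⟨x, hx, rfl⟩; exact hconj x hx
  have heq : R.map (MulAut.conj g).toMonoidHom = R := Subgroup.eq_of_le_of_card_ge hle
    (le_of_eq (Nat.card_congr (R.equivMapOfInjective _ (MulAut.conj g).injective).toEquiv))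
  obtain ⟨y, hy, hyz⟩ := heq.ge hz
  rwa [← (MulAut.conj g).injective hyz]

end Cfsg.Agent.Aschbacher
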