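import Cfsg.Agent.Lib.Aschbacher.UnitRefine

/-!
For at most three elements of the fixed field the stabiliser of a totally isotropic pair of planes in
the special unitary group of dimension four lies in a subfield group of symplectic kind.
-/

set_option autoImplicit false
set_option linter.style.haveILetI false

namespace Cfsg.Agent.Aschbacher

open scoped MatrixGroups Matrix
open Matrix
open Cfsg.Agent.Transvec (mv)

variable {F : Type*} [Field F] [Finite F]
variable {σ : F ≃+* F} {f : (Fin 4 → F) → (Fin 4 → F) → F}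

/-- The pair stabiliser in a subfield group. -/
theorem skew_of_pair_four (hu : Geo.IsUnitaryForm σ f)
    (hq : Nat.card (Transvec.Herm.fixedField σ) ≤ 3)
    {D : Fin 2 → Submodule F (Fin 4 → F)} (hD : Geo.IsMDecomposition 2 D)
    (hts : ∀ i, Geo.IsTotallySingularFor f (D i)) :
    ∃ (P : GL (Fin 4) F) (ζ : F), ζ ≠ 0 ∧ ζ + σ ζ = 0 ∧
      Geo.IsFormRationalStructure f (Transvec.Herm.fixedField σ) ζ P ∧
      (∀ u : Fin 4 → F, (∀ i, u i ∈ Transvec.Herm.fixedField σ) → f (mv P u) (mv P u) = 0) ∧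
      ∀ g ∈ Geo.decompositionStabilizer D, (∀ u v, f (mv g u) (mv g v) = f u v) →
        (g : Matrix (Fin 4) (Fin 4) F).det = 1 →
        g ∈ Geo.subfieldSubgroup (Transvec.Herm.fixedField σ) P := by
  classical
  set F₀ := Transvec.Herm.fixedField σ with hF₀
  have hmemF : ∀ x : F, x ∈ F₀ ↔ σ x = x := fun x => Transvec.Herm.mem_fixedField
  obtain ⟨t, ht, ht'⟩ := Transvec.Herm.exists_anti hu.ne_refl hu.involutive
  obtain ⟨ω, hω⟩ : ∃ ω : F, σ ω ≠ ω := by
    by_contra h; push Not at h; exact hu.ne_refl (RingEquiv.ext h)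
  -- coordinates
  let b : Module.Basis (Fin 2) F (D 0) := Module.finBasisOfFinrankEq F _ (hD.finrank_eq 0)
  have hrepr : ∀ (x : Fin 4 → F) (hx : x ∈ D 0),
      x = b.repr ⟨x, hx⟩ 0 • (b 0).1 + b.repr ⟨x, hx⟩ 1 • (b 1).1 := fun x hx => by
    have h := congrArg Subtype.val (b.sum_repr ⟨x, hx⟩)
    simp only [Fin.sum_univ_two, Submodule.coe_add, Submodule.coe_smul] at h
    exact h.symm
  have hdec : ∀ v : Fin 4 → F, ∃ x ∈ D 0, ∃ y ∈ D 1, v = x + y := by
    intro v
    have htop : D 0 ⊔ D 1 = ⊤ := by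
      rw [← hD.iSup_eq_top]
      refine le_antisymm (sup_le (le_iSup D 0) (le_iSup D 1)) (iSup_le fun i => ?_)
      fin_cases i
      · exact le_sup_left
      · exact le_sup_right
    obtain ⟨x, hx, y, hy, h⟩ := Submodule.mem_sup.1 (htop.ge (Submodule.mem_top : v ∈ ⊤))
    exact ⟨x, hx, y, hy, h.symm⟩
  let Ψ : (D 1) →ₗ[F] (Fin 2 → F) :=
    { toFun := fun y i => f y.1 (b i).1
      map_add' := fun y z => funext fun i => hu.add_left _ _ _
      map_smul' := fun c y => funext fun i => hu.smul_left _ _ _ }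
  have hΨ : Function.Injective Ψ := (injective_iff_map_eq_zero Ψ).2 fun y hy => by
    by_contra hy0
    obtain ⟨-, x, hx⟩ := hu.nondegenerate y.1 fun h => hy0 (Subtype.ext h)
    obtain ⟨x0, hx0, x1, hx1, rfl⟩ := hdec x
    rw [Transvec.Herm.add_right hu, hts 1 y.1 y.2 x1 hx1, add_zero] at hx
    refine hx ?_
    rw [hrepr x0 hx0, Transvec.Herm.add_right hu, Transvec.Herm.smul_right hu,
      Transvec.Herm.smul_right hu]
    have h0 := congrFun hy 0
    have h1 := congrFun hy 1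
    simp only [Ψ, LinearMap.coe_mk, AddHom.coe_mk, Pi.zero_apply] at h0 h1
    rw [h0, h1, mul_zero, mul_zero, add_zero]
  have hΨs : Function.Surjective Ψ := (LinearMap.injective_iff_surjective_of_finrank_eq_finrank (by
    rw [hD.finrank_eq 1, Module.finrank_fin_fun])).1 hΨ
  obtain ⟨y₀, hy₀⟩ := hΨs (Pi.single 0 1)
  obtain ⟨y₁, hy₁⟩ := hΨs (Pi.single 1 1)
  let col : Fin 4 → Fin 4 → F := ![(b 0).1, (b 1).1, y₀.1, y₁.1]
  have hcolD : col 0 ∈ D 0 ∧ col 1 ∈ D 0 ∧ col 2 ∈ D 1 ∧ col 3 ∈ D 1 :=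
    ⟨(b 0).2, (b 1).2, y₀.2, y₁.2⟩
  have p00 := congrFun hy₀ 0
  have p01 := congrFun hy₀ 1
  have p10 := congrFun hy₁ 0
  have p11 := congrFun hy₁ 1
  simp only [Ψ, LinearMap.coe_mk, AddHom.coe_mk, Pi.single_eq_same, ne_eq, one_ne_zero,
    zero_ne_one, not_false_eq_true, Pi.single_eq_of_ne] at p00 p01 p10 p11
  let Q : Matrix (Fin 4) (Fin 4) F := Matrix.of fun x a => col a x
  have hQv : ∀ u : Fin 4 → F, Q *ᵥ u = u 0 • col 0 + u 1 • col 1 + u 2 • col 2 + u 3 • col 3 := by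
    intro u
    funext x
    simp [Q, Matrix.mulVec, dotProduct, Fin.sum_univ_four, mul_comm]
  have hQf : ∀ x y, f (Q *ᵥ x) (Q *ᵥ y) =
      x 0 * σ (y 2) + x 1 * σ (y 3) + x 2 * σ (y 0) + x 3 * σ (y 1) := by
    intro x y
    have e00 : f (b 0).1 (b 0).1 = 0 := hts 0 _ (b 0).2 _ (b 0).2
    have e01 : f (b 0).1 (b 1).1 = 0 := hts 0 _ (b 0).2 _ (b 1).2
    have e10 : f (b 1).1 (b 0).1 = 0 := hts 0 _ (b 1).2 _ (b 0).2
    have e11 : f (b 1).1 (b 1).1 = 0 := hts 0 _ (b 1).2 _ (b 1).2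
    have f00 : f y₀.1 y₀.1 = 0 := hts 1 _ y₀.2 _ y₀.2
    have f01 : f y₀.1 y₁.1 = 0 := hts 1 _ y₀.2 _ y₁.2
    have f10 : f y₁.1 y₀.1 = 0 := hts 1 _ y₁.2 _ y₀.2
    have f11 : f y₁.1 y₁.1 = 0 := hts 1 _ y₁.2 _ y₁.2
    have q00 : f (b 0).1 y₀.1 = 1 := by rw [hu.herm, p00, map_one]
    have q01 : f (b 1).1 y₀.1 = 0 := by rw [hu.herm, p01, map_zero]
    have q10 : f (b 0).1 y₁.1 = 0 := by rw [hu.herm, p10, map_zero]
    have q11 : f (b 1).1 y₁.1 = 1 := by rw [hu.herm, p11, map_one]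
    rw [hQv, hQv]
    simp only [col, hu.add_left, Transvec.Herm.add_right hu, hu.smul_left, Transvec.Herm.smul_right hu,
      Matrix.cons_val, e00, e01, e10, e11, f00, f01, f10, f11, p00, p01, p10, p11, q00, q01, q10, q11]
    ring
  have hQu : IsUnit Q := (Matrix.mulVec_injective_iff_isUnit (A := Q)).1 fun x y h => by
    have h' : ∀ z, f (Q *ᵥ (x - y)) (Q *ᵥ z) = 0 := fun z => by
      rw [Matrix.mulVec_sub, sub_eq_zero.2 h]; exact Transvec.Herm.zero_left hu _
    have h0 := h' (Pi.single 2 1)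
    have h1 := h' (Pi.single 3 1)
    have h2 := h' (Pi.single 0 1)
    have h3 := h' (Pi.single 1 1)
    rw [hQf] at h0 h1 h2 h3
    simp at h0 h1 h2 h3
    funext i
    fin_cases i <;> exact sub_eq_zero.1 (by assumption)
  let C : Matrix (Fin 4) (Fin 4) F :=
    !![1, ω, 0, 0; 0, 0, 1, ω; 0, 0, -1, -σ ω; 1, σ ω, 0, 0]
  have hω' : ω - σ ω ≠ 0 := sub_ne_zero.2 (Ne.symm hω)
  have hCu : IsUnit C := (Matrix.mulVec_injective_iff_isUnit (A := C)).1 fun x y h => by
    have h0 := congrFun h 0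
    have h1 := congrFun h 1
    have h2 := congrFun h 2
    have h3 := congrFun h 3
    simp [C, Matrix.mulVec, dotProduct, Fin.sum_univ_four] at h0 h1 h2 h3
    have e1 : x 1 = y 1 := mul_left_cancel₀ hω' (by linear_combination h0 - h3)
    have e3 : x 3 = y 3 := mul_left_cancel₀ hω' (by linear_combination h1 + h2)
    funext i
    fin_cases i
    · show x 0 = y 0
      rw [e1] at h0; linear_combination h0
    · exact e1
    · show x 2 = y 2
      rw [e3] at h1; linear_combination h1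
    · exact e3
  let P : GL (Fin 4) F := (hQu.mul hCu).unit
  have hPv : ∀ u, mv P u = Q *ᵥ (C *ᵥ u) := fun u => by
    show (Q * C) *ᵥ u = _
    rw [Matrix.mulVec_mulVec]
  -- the rational combinations
  let eh : F → F → Fin 4 → F := fun α β => ![α, β, -σ β, σ α]
  have hCrat : ∀ u : Fin 4 → F, (∀ i, u i ∈ F₀) →
      C *ᵥ u = eh (u 0 + u 1 * ω) (u 2 + u 3 * ω) := by
    intro u hu'
    have h := fun i => (hmemF _).1 (hu' i)
    funext i
    fin_cases i <;>
      simp [C, eh, Matrix.mulVec, dotProduct, Fin.sum_univ_four, map_add, map_mul, h] <;> ring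
  have heh : ∀ α β, ∃ u : Fin 4 → F, (∀ i, u i ∈ F₀) ∧ C *ᵥ u = eh α β := by
    intro α β
    have hsplit : ∀ α : F, ∃ a b : F, a ∈ F₀ ∧ b ∈ F₀ ∧ α = a + b * ω := by
      intro α
      have hb : σ ((α - σ α) / (ω - σ ω)) = (α - σ α) / (ω - σ ω) := by
        rw [map_div₀, map_sub, map_sub, hu.involutive, hu.involutive, ← neg_sub α, ← neg_sub ω,
          neg_div_neg_eq]
      refine ⟨α - (α - σ α) / (ω - σ ω) * ω, (α - σ α) / (ω - σ ω), (hmemF _).2 ?_, (hmemF _).2 hb,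
        by ring⟩
      rw [map_sub, map_mul, hb]
      field_simp
      ring
    obtain ⟨a, b, ha, hb, rfl⟩ := hsplit α
    obtain ⟨c, d, hc, hd, rfl⟩ := hsplit β
    have hmem : ∀ i, ![a, b, c, d] i ∈ F₀ := fun i => by fin_cases i <;> assumption
    exact ⟨![a, b, c, d], hmem, by rw [hCrat _ hmem]; simp⟩
  have hform : ∀ α β γ δ, f (Q *ᵥ eh α β) (Q *ᵥ eh γ δ) =
      (σ α * σ δ - α * δ) + (β * γ - σ β * σ γ) := by
    intro α β γ δ
    rw [hQf]
    simp [eh, map_neg, hu.involutive]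
    ring
  refine ⟨P, t, ht, by rw [ht']; ring, fun u v hu' hv' => ?_, fun u hu' => ?_, ?_⟩
  · show t * f (mv P u) (mv P v) ∈ F₀
    rw [hPv, hPv, hCrat u hu', hCrat v hv', hform, hmemF]
    simp only [map_mul, map_add, map_sub, ht', hu.involutive]
    ring
  · rw [hPv, hCrat u hu', hform]
    ring
  intro g hgD hgf hdet
  -- membership from the images of the rational vectors
  have mem : ∀ g : GL (Fin 4) F, (∃ s : F, s ≠ 0 ∧ ∀ α β, ∃ α' β',
      mv g (Q *ᵥ eh α β) = s • (Q *ᵥ eh α' β')) → g ∈ Geo.subfieldSubgroup F₀ P := by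
    rintro g ⟨s, hs, himg⟩
    have hcols : ∀ j : Fin 4, ∃ u : Fin 4 → F, (∀ i, u i ∈ F₀) ∧
        mv g (mv P (Pi.single j 1)) = s • mv P u := by
      intro j
      have hj : ∀ i, (Pi.single j 1 : Fin 4 → F) i ∈ F₀ := fun i => by
        by_cases h : i = j
        · subst h; simpa using F₀.one_mem
        · simpa [h] using F₀.zero_mem
      obtain ⟨α', β', he⟩ := himg _ _
      obtain ⟨u, hu', hC⟩ := heh α' β'
      exact ⟨u, hu', by rw [hPv, hCrat _ hj, he, hPv, hC]⟩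
    choose u hu' hcol using hcols
    let M : Matrix (Fin 4) (Fin 4) F₀ := Matrix.of fun x j => ⟨u j x, hu' j x⟩
    have hgP : (g : Matrix (Fin 4) (Fin 4) F) * P.val = s • (P.val * M.map F₀.subtype) := by
      refine Matrix.ext_of_mulVec_single fun j => ?_
      rw [← Matrix.mulVec_mulVec, Matrix.smul_mulVec, ← Matrix.mulVec_mulVec]
      show mv g (mv P (Pi.single j 1)) = _
      rw [hcol]
      congr 1
      show P.val *ᵥ u j = _
      congr 1
      funext x
      simp [M]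
    have hMu : M.det ≠ 0 := fun h0 => by
      have h1 := congrArg Matrix.det hgP
      rw [Matrix.det_smul, Matrix.det_mul, Matrix.det_mul,
        show (M.map F₀.subtype).det = F₀.subtype M.det from (RingHom.map_det _ _).symm, h0, map_zero,
        mul_zero, mul_zero] at h1
      exact mul_ne_zero ((Matrix.isUnit_iff_isUnit_det _).1 g.isUnit).ne_zero
        ((Matrix.isUnit_iff_isUnit_det _).1 P.isUnit).ne_zero h1
    let g₀ : GL (Fin 4) F₀ := Matrix.GeneralLinearGroup.mkOfDetNeZero M hMu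
    refine ⟨Matrix.GeneralLinearGroup.map (F₀.subtype : F₀ →+* F) g₀ * sc (Fin 4) (Units.mk0 s hs),
      Subgroup.mul_mem _ (Subgroup.mem_sup_left ⟨g₀, rfl⟩) (Subgroup.mem_sup_right (sc_mem _)),
      Units.ext ?_⟩
    show P.val * ((M.map F₀.subtype) * (sc (Fin 4) (Units.mk0 s hs)).val) * (P⁻¹).val = g.val
    rw [Units.mul_inv_eq_iff_eq_mul, hgP, sc_val]
    simp
  -- stabilisers of the two planes
  have fixcase : ∀ g : GL (Fin 4) F, (∀ u v, f (mv g u) (mv g v) = f u v) →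
      (g : Matrix (Fin 4) (Fin 4) F).det = 1 → (∀ x ∈ D 0, mv g x ∈ D 0) →
      (∀ x ∈ D 1, mv g x ∈ D 1) → g ∈ Geo.subfieldSubgroup F₀ P := by
    intro g hgf hdet h0 h1
    have hsp0 : ∀ x ∈ D 0, ∃ r s : F, x = Q *ᵥ ![r, s, 0, 0] := fun x hx => by
      refine ⟨b.repr ⟨x, hx⟩ 0, b.repr ⟨x, hx⟩ 1, ?_⟩
      rw [hQv]
      simpa [col] using hrepr x hx
    have hsp1 : ∀ x ∈ D 1, ∃ r s : F, x = Q *ᵥ ![0, 0, r, s] := fun x hx => by
      refine ⟨f x (b 0).1, f x (b 1).1, ?_⟩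
      rw [hQv]
      have : (⟨x, hx⟩ : D 1) = f x (b 0).1 • y₀ + f x (b 1).1 • y₁ := by
        refine hΨ ?_
        rw [map_add, map_smul, map_smul, hy₀, hy₁]
        funext i
        fin_cases i <;> simp [Ψ]
      simpa [col] using congrArg Subtype.val this
    obtain ⟨a, c, hac⟩ := hsp0 _ (h0 _ hcolD.1)
    obtain ⟨b', d, hbd⟩ := hsp0 _ (h0 _ hcolD.2.1)
    obtain ⟨x1, x2, hx12⟩ := hsp1 _ (h1 _ hcolD.2.2.1)
    obtain ⟨y1, y2, hy12⟩ := hsp1 _ (h1 _ hcolD.2.2.2)
    let G : Matrix (Fin 4) (Fin 4) F := !![a, b', 0, 0; c, d, 0, 0; 0, 0, x1, y1; 0, 0, x2, y2]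
    have hGQ : (g : Matrix (Fin 4) (Fin 4) F) * Q = Q * G := by
      refine Matrix.ext_of_mulVec_single fun j => ?_
      rw [← Matrix.mulVec_mulVec, ← Matrix.mulVec_mulVec]
      have hQj : Q *ᵥ Pi.single j 1 = col j := by funext x; simp [Q]
      rw [hQj]
      show mv g (col j) = _
      fin_cases j
      · refine hac.trans ?_
        congr 1; funext i; fin_cases i <;> simp [G]
      · refine hbd.trans ?_
        congr 1; funext i; fin_cases i <;> simp [G]
      · refine hx12.trans ?_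
        congr 1; funext i; fin_cases i <;> simp [G]
      · refine hy12.trans ?_
        congr 1; funext i; fin_cases i <;> simp [G]
    have hGact : ∀ w, mv g (Q *ᵥ w) = Q *ᵥ (G *ᵥ w) := fun w => by
      show (g : Matrix (Fin 4) (Fin 4) F) *ᵥ (Q *ᵥ w) = _
      rw [Matrix.mulVec_mulVec, hGQ, Matrix.mulVec_mulVec]
    have hGdet : G.det = 1 := by
      have h := congrArg Matrix.det hGQ
      rw [Matrix.det_mul, Matrix.det_mul, hdet, one_mul] at h
      exact mul_left_cancel₀ ((Matrix.isUnit_iff_isUnit_det _).1 hQu).ne_zero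
        (h.symm.trans (mul_one _).symm)
    have hGdet' : (a * d - b' * c) * (x1 * y2 - y1 * x2) = 1 := by
      rw [← hGdet]
      simp [G, Matrix.det_succ_row_zero, Fin.sum_univ_succ, Fin.succAbove]
      ring
    have hpair : ∀ z w, f (Q *ᵥ (G *ᵥ z)) (Q *ᵥ (G *ᵥ w)) = f (Q *ᵥ z) (Q *ᵥ w) := fun z w => by
      rw [← hGact, ← hGact, hgf]
    have r00 := hpair ![1, 0, 0, 0] ![0, 0, 1, 0]
    have r01 := hpair ![1, 0, 0, 0] ![0, 0, 0, 1]
    have r10 := hpair ![0, 1, 0, 0] ![0, 0, 1, 0]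
    have r11 := hpair ![0, 1, 0, 0] ![0, 0, 0, 1]
    simp [hQf, G, Matrix.mulVec, dotProduct, Fin.sum_univ_four] at r00 r01 r10 r11
    set Δ := a * d - b' * c with hΔ
    have hΔX : Δ * σ (x1 * y2 - y1 * x2) = 1 := by
      rw [hΔ, map_sub, map_mul, map_mul]
      linear_combination (b' * σ y1 + d * σ y2) * r00 - (b' * σ x1 + d * σ x2) * r01 + r11
    have hΔ0 : Δ ≠ 0 := left_ne_zero_of_mul_eq_one hGdet'
    have hXfix : σ (x1 * y2 - y1 * x2) = x1 * y2 - y1 * x2 :=
      mul_left_cancel₀ hΔ0 (hΔX.trans hGdet'.symm)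
    have hΔf : σ Δ = Δ := by
      have h := congrArg σ hGdet'
      rw [map_mul, hXfix, map_one] at h
      exact mul_right_cancel₀ (right_ne_zero_of_mul_eq_one hGdet') (h.trans hGdet'.symm)
    have hΔ2 : Δ = 1 ∨ Δ = -1 := by
      haveI : Fintype F₀ := Fintype.ofFinite _
      have h := FiniteField.pow_card_sub_one_eq_one (⟨Δ, (hmemF Δ).2 hΔf⟩ : F₀)
        fun h => hΔ0 (congrArg Subtype.val h)
      have h' := congrArg Subtype.val h
      rw [← Nat.card_eq_fintype_card] at h'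
      change Δ ^ (Nat.card F₀ - 1) = 1 at h'
      have h1 : 1 < Nat.card F₀ := Finite.one_lt_card
      rcases (show Nat.card F₀ = 2 ∨ Nat.card F₀ = 3 by omega) with h2 | h2 <;> rw [h2] at h'
      · left; simpa using h'
      · exact mul_self_eq_one_iff.1 (by rw [← sq]; exact h')
    obtain ⟨s, hs, hsΔ⟩ : ∃ s : F, s ≠ 0 ∧ σ s = Δ * s := by
      rcases hΔ2 with h | h
      · exact ⟨1, one_ne_zero, by rw [map_one, h, one_mul]⟩
      · exact ⟨t, ht, by rw [ht', h, neg_one_mul]⟩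
    have hΔΔ : Δ * Δ = 1 := by rcases hΔ2 with h | h <;> rw [h] <;> ring
    -- the lower block
    have ex1 : σ x1 = Δ * d := by linear_combination (-σ x1) * hΔΔ + Δ * d * r00 - Δ * c * r10
    have ex2 : σ x2 = -(Δ * b') := by linear_combination (-σ x2) * hΔΔ - Δ * b' * r00 + Δ * a * r10
    have ey1 : σ y1 = -(Δ * c) := by linear_combination (-σ y1) * hΔΔ + Δ * d * r01 - Δ * c * r11
    have ey2 : σ y2 = Δ * a := by linear_combination (-σ y2) * hΔΔ - Δ * b' * r01 + Δ * a * r11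
    have flip : ∀ {x y : F}, σ x = y → x = σ y := fun {x y} h => by rw [← h, hu.involutive]
    have fx1 := flip ex1
    have fx2 := flip ex2
    have fy1 := flip ey1
    have fy2 := flip ey2
    simp only [map_neg, map_mul, hΔf] at fx1 fx2 fy1 fy2
    refine mem g ⟨s, hs, fun α β => ⟨(α * a + β * b') / s, (α * c + β * d) / s, ?_⟩⟩
    rw [hGact, ← Matrix.mulVec_smul]
    congr 1
    have hdiv : ∀ x : F, s * σ (x / s) = Δ * σ x := fun x => by
      rw [map_div₀, hsΔ]
      field_simp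
      linear_combination (-(σ x)) * hΔΔ
    have hinv : s * (σ s)⁻¹ = Δ := by
      rw [hsΔ]
      field_simp
      linear_combination (-1 : F) * hΔΔ
    funext i
    fin_cases i
    · simp [G, eh, Matrix.mulVec, dotProduct, Fin.sum_univ_four]
      field_simp
    · simp [G, eh, Matrix.mulVec, dotProduct, Fin.sum_univ_four]
      field_simp
    · simp [G, eh, Matrix.mulVec, dotProduct, Fin.sum_univ_four, hdiv, fx1, fy1, map_add, map_mul]
      linear_combination (σ d * σ β + σ c * σ α) * hinv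
    · simp [G, eh, Matrix.mulVec, dotProduct, Fin.sum_univ_four, hdiv, fx2, fy2, map_add, map_mul]
      linear_combination (-(σ b' * σ β + σ a * σ α)) * hinv
  obtain ⟨τ, hτ⟩ := hgD
  have hmove : ∀ (i : Fin 2), ∀ x ∈ D i, mv g x ∈ D (τ i) := fun i x hx =>
    hτ i ▸ ⟨x, hx, Matrix.toLin'_apply _ _⟩
  by_cases h00 : τ 0 = 0
  · have h11 : τ 1 = 1 := by
      have h : τ 1 ≠ 0 := fun h => absurd (τ.injective (h.trans h00.symm)) (by decide)
      omega
    exact fixcase g hgf hdet (fun x hx => h00 ▸ hmove 0 x hx) (fun x hx => h11 ▸ hmove 1 x hx)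
  -- the exchange
  have h01 : τ 0 = 1 := by omega
  have h10 : τ 1 = 0 := by
    have h : τ 1 ≠ 1 := fun h => absurd (τ.injective (h.trans h01.symm)) (by decide)
    omega
  let S : Matrix (Fin 4) (Fin 4) F := !![0, 0, 1, 0; 0, 0, 0, 1; 1, 0, 0, 0; 0, 1, 0, 0]
  have hSS : S * S = 1 := by
    ext i j; fin_cases i <;> fin_cases j <;> simp [S, Matrix.mul_apply, Fin.sum_univ_four]
  let S0 : GL (Fin 4) F := MulAut.conj hQu.unit ⟨S, S, hSS, hSS⟩
  have hS0 : ∀ w, mv S0 (Q *ᵥ w) = Q *ᵥ (S *ᵥ w) := fun w => by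
    show (Q * S * (hQu.unit⁻¹).val) *ᵥ (Q *ᵥ w) = _
    rw [Matrix.mulVec_mulVec, Matrix.mul_assoc, hQu.val_inv_mul, mul_one, Matrix.mulVec_mulVec]
  have hQsurj : ∀ z, ∃ w, Q *ᵥ w = z := fun z => ⟨(hQu.unit⁻¹).val *ᵥ z, by
    rw [Matrix.mulVec_mulVec, hQu.mul_val_inv, Matrix.one_mulVec]⟩
  have hS0f : ∀ u v, f (mv S0 u) (mv S0 v) = f u v := by
    intro u v
    obtain ⟨u, rfl⟩ := hQsurj u
    obtain ⟨v, rfl⟩ := hQsurj v
    rw [hS0, hS0, hQf, hQf]
    simp [S, Matrix.mulVec, dotProduct, Fin.sum_univ_four]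
    ring
  have hS0det : (S0 : Matrix (Fin 4) (Fin 4) F).det = 1 := by
    show (hQu.unit.val * S * (hQu.unit⁻¹).val).det = 1
    rw [Matrix.det_units_conj]
    simp [S, Matrix.det_succ_row_zero, Fin.sum_univ_succ, Fin.succAbove]
  have hS0sub : S0 ∈ Geo.subfieldSubgroup F₀ P := by
    refine mem S0 ⟨t, ht, fun α β => ⟨-σ β / t, σ α / t, ?_⟩⟩
    rw [hS0, ← Matrix.mulVec_smul]
    congr 1
    funext i
    fin_cases i <;>
      simp [S, eh, Matrix.mulVec, dotProduct, Fin.sum_univ_four, map_div₀, hu.involutive, ht'] <;>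
      field_simp
  have hS0D : (∀ x ∈ D 0, mv S0 x ∈ D 1) ∧ ∀ x ∈ D 1, mv S0 x ∈ D 0 := by
    refine ⟨fun x hx => ?_, fun x hx => ?_⟩
    · rw [hrepr x hx, Transvec.mv_add]
      refine add_mem ?_ ?_ <;> rw [Transvec.mv_smul] <;> refine Submodule.smul_mem _ _ ?_
      · have e : Q *ᵥ Pi.single 0 1 = (b 0).1 := by funext x; simp [Q, col]
        rw [← e, hS0]
        have e' : S *ᵥ Pi.single 0 1 = Pi.single 2 1 := by funext i; fin_cases i <;> simp [S]
        rw [e']
        have : Q *ᵥ Pi.single 2 1 = y₀.1 := by funext x; simp [Q, col]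
        rw [this]; exact y₀.2
      · have e : Q *ᵥ Pi.single 1 1 = (b 1).1 := by funext x; simp [Q, col]
        rw [← e, hS0]
        have e' : S *ᵥ Pi.single 1 1 = Pi.single 3 1 := by funext i; fin_cases i <;> simp [S]
        rw [e']
        have : Q *ᵥ Pi.single 3 1 = y₁.1 := by funext x; simp [Q, col]
        rw [this]; exact y₁.2
    · have hx' : (⟨x, hx⟩ : D 1) = f x (b 0).1 • y₀ + f x (b 1).1 • y₁ := by
        refine hΨ ?_
        rw [map_add, map_smul, map_smul, hy₀, hy₁]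
        funext i
        fin_cases i <;> simp [Ψ]
      have hx'' : x = f x (b 0).1 • y₀.1 + f x (b 1).1 • y₁.1 := congrArg Subtype.val hx'
      rw [hx'', Transvec.mv_add, Transvec.mv_smul, Transvec.mv_smul]
      refine add_mem (Submodule.smul_mem _ _ ?_) (Submodule.smul_mem _ _ ?_)
      · have e : Q *ᵥ Pi.single 2 1 = y₀.1 := by funext x; simp [Q, col]
        rw [← e, hS0]
        have e' : S *ᵥ Pi.single 2 1 = Pi.single 0 1 := by funext i; fin_cases i <;> simp [S]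
        rw [e']
        have : Q *ᵥ Pi.single 0 1 = (b 0).1 := by funext x; simp [Q, col]
        rw [this]; exact (b 0).2
      · have e : Q *ᵥ Pi.single 3 1 = y₁.1 := by funext x; simp [Q, col]
        rw [← e, hS0]
        have e' : S *ᵥ Pi.single 3 1 = Pi.single 1 1 := by funext i; fin_cases i <;> simp [S]
        rw [e']
        have : Q *ᵥ Pi.single 1 1 = (b 1).1 := by funext x; simp [Q, col]
        rw [this]; exact (b 1).2
  have hmain : g * S0 ∈ Geo.subfieldSubgroup F₀ P := by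
    refine fixcase (g * S0) (fun u v => ?_) ?_ (fun x hx => ?_) fun x hx => ?_
    · rw [Transvec.mv_mul, Transvec.mv_mul, hgf, hS0f]
    · rw [Units.val_mul, Matrix.det_mul, hdet, hS0det, one_mul]
    · rw [Transvec.mv_mul]; exact h10 ▸ hmove 1 _ (hS0D.1 x hx)
    · rw [Transvec.mv_mul]; exact h01 ▸ hmove 0 _ (hS0D.2 x hx)
  simpa using Subgroup.mul_mem _ hmain (Subgroup.inv_mem _ hS0sub)

end Cfsg.Agent.Aschbacher
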