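import Cfsg.Agent.Lib.Aschbacher.SympProper
import Cfsg.Agent.Lib.Aschbacher.FormFrames
import Cfsg.Agent.Lib.Classical.UnitarySimple
import Cfsg.Agent.Lib.Transvec.HermGen

/-!
The hermitian transvections lie in no geometric subgroup.
-/

set_option autoImplicit false
set_option linter.style.haveILetI false

namespace Cfsg.Agent.Aschbacher

open scoped MatrixGroups Matrix Kronecker commutatorElement
open Matrix
open Cfsg.Agent.Transvec (mv)

variable {ι : Type} [Fintype ι] [DecidableEq ι] {F : Type*} [Field F] [Finite F]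
variable {σ : F ≃+* F} {f : (ι → F) → (ι → F) → F} (hu : Geo.IsUnitaryForm σ f)

include hu

omit [Finite F] in
/-- A combination of two isotropic vectors is isotropic, for a non-zero parameter, together with
its multiples by the fixed field. -/
lemma exists_iso_comb {v w : ι → F} (hv : f v v = 0) (hw : f w w = 0) :
    ∃ b : F, b ≠ 0 ∧ ∀ s : F, (σ s = s ∨ f v w = 0) →
      f (v + (s * b) • w) (v + (s * b) • w) = 0 := by
  have hexp : ∀ x : F, f (v + x • w) (v + x • w) = σ x * f v w + x * σ (f v w) := fun x => by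
    rw [hu.add_left, Transvec.Herm.add_right hu, Transvec.Herm.add_right hu, hu.smul_left,
      hu.smul_left, Transvec.Herm.smul_right hu, Transvec.Herm.smul_right hu, hv, hw, hu.herm w v]
    ring
  by_cases h0 : f v w = 0
  · exact ⟨1, one_ne_zero, fun s _ => by rw [hexp, h0, map_zero, mul_zero, mul_zero, add_zero]⟩
  obtain ⟨t, ht, ht'⟩ := Transvec.Herm.exists_anti hu.ne_refl hu.involutive
  have h1 : σ (f v w) ≠ 0 := (map_ne_zero_iff σ σ.injective).2 h0
  refine ⟨t / σ (f v w), div_ne_zero ht h1, fun s hs => ?_⟩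
  rw [hexp, map_mul, map_div₀, ht', hu.involutive, hs.resolve_right h0]
  field_simp
  ring

omit [Finite F] in
lemma exists_f_ne_zero {v : ι → F} (hv : v ≠ 0) : ∃ x, f x v ≠ 0 := (hu.nondegenerate v hv).1

lemma iso_span_top (h2 : 2 ≤ Fintype.card ι) :
    Submodule.span F {v : ι → F | f v v = 0} = ⊤ := by
  refine top_le_iff.1 ((Transvec.Herm.isotropic_span hu (Transvec.Herm.nondeg_top hu) (by
    rw [finrank_top, Module.finrank_pi]; exact h2)).trans ?_)
  exact Submodule.span_mono fun v hv => hv.2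

lemma iso_not_mem (h2 : 2 ≤ Fintype.card ι) {W : Submodule F (ι → F)} (hW : W ≠ ⊤) :
    ∃ v, v ∉ W ∧ f v v = 0 := by
  by_contra h
  push Not at h
  refine hW (top_le_iff.1 ((iso_span_top hu h2).ge.trans (Submodule.span_le.2 fun v hv => ?_)))
  by_contra hv'
  exact h v hv' hv

/-- A matrix commuting with all hermitian transvections is scalar. -/
lemma scalar_of_commute_htv (h2 : 2 ≤ Fintype.card ι) {u : Matrix ι ι F}
    (h : ∀ (v : ι → F) (hv : f v v = 0) (c : F), σ c = -c →
      (Transvec.Herm.htv hu v hv c : Matrix ι ι F) * u =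
        u * (Transvec.Herm.htv hu v hv c : Matrix ι ι F)) :
    ∃ l : F, u = l • (1 : Matrix ι ι F) := by
  classical
  obtain ⟨t, ht, ht'⟩ := Transvec.Herm.exists_anti hu.ne_refl hu.involutive
  have key : ∀ v : ι → F, f v v = 0 → ∃ l : F, u *ᵥ v = l • v := by
    intro v hv
    by_cases hv0 : v = 0
    · exact ⟨0, by rw [hv0, Matrix.mulVec_zero, smul_zero]⟩
    obtain ⟨x, hx⟩ := exists_f_ne_zero hu hv0
    have h' := congrArg (fun M => M *ᵥ x) (h v hv t ht')
    simp only [← Matrix.mulVec_mulVec] at h'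
    change mv (Transvec.Herm.htv hu v hv t) (u *ᵥ x) = u *ᵥ mv (Transvec.Herm.htv hu v hv t) x at h'
    rw [Transvec.Herm.mv_htv, Transvec.Herm.mv_htv, Matrix.mulVec_add, Matrix.mulVec_smul,
      add_right_inj] at h'
    refine ⟨(t * f x v)⁻¹ * (t * f (u *ᵥ x) v), ?_⟩
    rw [mul_smul, h', smul_smul, inv_mul_cancel₀ (mul_ne_zero ht hx), one_smul]
  obtain ⟨v₀, hv₀, hv₀iso⟩ := iso_not_mem hu h2 (W := ⊥) (fun hbt => by
    have := congrArg (fun W : Submodule F (ι → F) => Module.finrank F W) hbt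
    simp [finrank_top, Module.finrank_pi] at this
    omega)
  have hv₀0 : v₀ ≠ 0 := fun hh => hv₀ (by rw [hh]; exact zero_mem _)
  obtain ⟨l, hl⟩ := key v₀ hv₀iso
  have same : ∀ w : ι → F, f w w = 0 → u *ᵥ w = l • w := by
    intro w hw
    by_cases hdep : ∃ a : F, w = a • v₀
    · obtain ⟨a, rfl⟩ := hdep
      rw [Matrix.mulVec_smul, hl, smul_comm]
    push Not at hdep
    have hind : ∀ a b : F, a • v₀ + b • w = 0 → a = 0 ∧ b = 0 := by
      intro a b hab
      by_cases hb : b = 0
      · rw [hb, zero_smul, add_zero, smul_eq_zero] at hab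
        exact ⟨hab.resolve_right hv₀0, hb⟩
      · refine absurd ?_ (hdep (-a / b))
        rw [div_eq_inv_mul, mul_smul, neg_smul, show -(a • v₀) = b • w from neg_eq_of_add_eq_zero_right hab,
          smul_smul, inv_mul_cancel₀ hb, one_smul]
    obtain ⟨l₂, hl₂⟩ := key w hw
    obtain ⟨b, hb, hbs⟩ := exists_iso_comb hu hv₀iso hw
    obtain ⟨l₃, hl₃⟩ := key _ (hbs 1 (Or.inl (map_one σ)))
    rw [one_mul, Matrix.mulVec_add, Matrix.mulVec_smul, hl, hl₂, smul_add, smul_smul, smul_smul] at hl₃
    have := hind (l - l₃) (b * l₂ - l₃ * b) (by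
      rw [sub_smul, sub_smul]
      linear_combination (norm := module) hl₃)
    have h1 : l₂ = l₃ := mul_left_cancel₀ hb (by linear_combination this.2)
    rw [hl₂, h1, ← sub_eq_zero.1 this.1]
  refine ⟨l, mulVec_ext fun x => ?_⟩
  have hle : Submodule.span F {v : ι → F | f v v = 0} ≤
      LinearMap.ker (Matrix.toLin' u - l • LinearMap.id) :=
    Submodule.span_le.2 fun v hv => by simp [same v hv]
  have hx := hle ((iso_span_top hu h2).ge (Submodule.mem_top : x ∈ ⊤))
  simp [sub_eq_zero] at hx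
  rw [hx, Matrix.smul_mulVec, Matrix.one_mulVec]

omit [Finite F] in
/-- The displacement of a matrix by a transvection vanishes on a subspace of codimension two. -/
lemma cj_htv_sub_mulVec (v : ι → F) (hv : f v v = 0) (c : F) (u : Matrix ι ι F) {x : ι → F}
    (hx : f x v = 0) (hux : f (u *ᵥ x) v = 0) :
    (cj (Transvec.Herm.htv hu v hv c) u - u) *ᵥ x = 0 := by
  have hinv : ((Transvec.Herm.htv hu v hv c)⁻¹ : GL ι F) = Transvec.Herm.htv hu v hv (-c) :=
    inv_eq_of_mul_eq_one_right (by
      rw [Transvec.Herm.htv_add, add_neg_cancel, Transvec.Herm.htv_zero])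
  rw [Matrix.sub_mulVec, cj_apply, hinv, ← Matrix.mulVec_mulVec, ← Matrix.mulVec_mulVec]
  change mv (Transvec.Herm.htv hu v hv c) (u *ᵥ mv (Transvec.Herm.htv hu v hv (-c)) x) - u *ᵥ x = 0
  rw [Transvec.Herm.htv_fix hu v hv (-c) hx, Transvec.Herm.htv_fix hu v hv c hux, sub_self]

omit [Finite F] in
/-- A small map kills some combination. -/
lemma exists_small_herm {b : ℕ} (hb : 3 ≤ b) (L : (Fin b → F) →ₗ[F] ι → F) (v : ι → F)
    (u : Matrix ι ι F) : ∃ z : Fin b → F, z ≠ 0 ∧ f (L z) v = 0 ∧ f (u *ᵥ L z) v = 0 := by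
  let φ : (Fin b → F) →ₗ[F] F × F :=
    LinearMap.prod ((Transvec.Herm.formH hu v).comp L)
      ((Transvec.Herm.formH hu v).comp ((Matrix.toLin' u).comp L))
  have hker : LinearMap.ker φ ≠ ⊥ := by
    intro h
    have h' := LinearMap.finrank_le_finrank_of_injective (LinearMap.ker_eq_bot.1 h)
    rw [Module.finrank_prod, Module.finrank_self, Module.finrank_fintype_fun_eq_card,
      Fintype.card_fin] at h'
    omega
  obtain ⟨z, hz, hz0⟩ := (Submodule.ne_bot_iff _).1 hker
  have hz' : φ z = 0 := hz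
  refine ⟨z, hz0, congrArg Prod.fst hz', ?_⟩
  have h2 := congrArg Prod.snd hz'
  simpa [φ, Transvec.Herm.formH_apply, Matrix.toLin'_apply] using h2

/-- The hermitian transvections normalise no extension field. -/
lemma not_htv_normalises_field (h3 : 3 ≤ Fintype.card ι) {r : ℕ} (hr : 2 ≤ r)
    {K : Subalgebra F (Matrix ι ι F)} (hK : Geo.IsFieldSubalgebra r K) :
    ¬ ∀ v hv c, σ c = -c → Transvec.Herm.htv hu v hv c ∈ Geo.subalgebraNormalizer K := by
  classical
  intro hle
  haveI : Nonempty ι := Fintype.card_pos_iff.1 (by omega)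
  have hbot : ∀ u ∈ K, ∃ c : F, u = c • (1 : Matrix ι ι F) := by
    intro u hu'
    refine scalar_of_commute_htv hu (by omega) fun v hv c hc => ?_
    set t := Transvec.Herm.htv hu v hv c
    have hD : cj t u - u ∈ K := sub_mem ((hle v hv c hc u).1 hu') hu'
    have h0 : cj t u - u = 0 := by
      by_contra h
      obtain ⟨y, -, hy⟩ := hK.inv _ hD h
      let L : (Fin (Fintype.card ι) → F) →ₗ[F] ι → F :=
        LinearMap.funLeft F F (Fintype.equivFin ι)
      obtain ⟨z, hz, h1, h2⟩ := exists_small_herm hu h3 L v u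
      have h' := congrArg (fun M => M *ᵥ L z) (mul_eq_one_comm.1 hy)
      simp only [← Matrix.mulVec_mulVec, cj_htv_sub_mulVec hu v hv c u h1 h2, Matrix.mulVec_zero,
        Matrix.one_mulVec, t] at h'
      refine hz (funext fun i => ?_)
      simpa [L, LinearMap.funLeft] using (congrFun h' ((Fintype.equivFin ι).symm i)).symm
    rw [sub_eq_zero, cj_apply, Units.mul_inv_eq_iff_eq_mul] at h0
    exact h0
  have : K = ⊥ := le_antisymm (fun u hu' => by
    obtain ⟨c, rfl⟩ := hbot u hu'
    exact Subalgebra.smul_mem _ (one_mem _) c) bot_le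
  have h := hK.finrank_eq
  rw [this, Subalgebra.finrank_bot] at h
  omega

/-- The hermitian transvections normalise no tensor decomposition with a factor of dimension at
least 3. -/
lemma not_htv_le_tensor {n₁ n₂ : ℕ} (h1 : 2 ≤ n₁) (h2 : 3 ≤ n₂) (e : ι ≃ Fin n₁ × Fin n₂)
    (P : GL ι F) :
    ¬ ∀ v hv c, σ c = -c → Transvec.Herm.htv hu v hv c ∈ Geo.tensorProductSubgroup n₁ n₂ e P := by
  classical
  intro hle
  haveI : NeZero n₁ := ⟨by omega⟩
  haveI : NeZero n₂ := ⟨by omega⟩
  haveI : Nonempty ι := ⟨e.symm (0, 0)⟩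
  have hcard : 2 ≤ Fintype.card ι := by
    rw [Fintype.card_congr e, Fintype.card_prod, Fintype.card_fin, Fintype.card_fin]
    nlinarith
  have hbot : ∀ X, ∃ c : F, kemb e P X = c • (1 : Matrix ι ι F) := by
    intro X
    refine scalar_of_commute_htv hu hcard fun v hv c hc => ?_
    set t := Transvec.Herm.htv hu v hv c
    obtain ⟨_, ⟨k, ⟨a, b, hk⟩, rfl⟩, hg'⟩ := hle v hv c hc
    have hgv : (t : Matrix ι ι F) =
        kemb e P (a : Matrix (Fin n₁) (Fin n₁) F) * kembR e P (b : Matrix (Fin n₂) (Fin n₂) F) := by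
      rw [kemb_mul_kembR, ← hk]
      refine (congrArg Units.val hg'.symm).trans ?_
      simp [cj_apply, Geo.glReindex]
    have hX : cj t (kemb e P X) = kemb e P (cj a X) := by
      rw [cj_apply t, Units.mul_inv_eq_iff_eq_mul, hgv, ← mul_assoc, ← map_mul, cj_apply,
        mul_assoc _ _ (a : Matrix (Fin n₁) (Fin n₁) F), Units.inv_mul, mul_one]
      rw [mul_assoc, (kembR_mul_kemb e P X _).trans (kemb_mul_kembR e P X _).symm, ← mul_assoc,
        ← map_mul]
    have h0 : cj t (kemb e P X) - kemb e P X = 0 := by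
      by_contra hne
      rw [hX, ← map_sub] at hne
      set Y := cj a X - X with hY
      obtain ⟨i, j, hij⟩ : ∃ i j, Y i j ≠ 0 := by
        by_contra h
        push Not at h
        exact hne (by rw [show Y = 0 from Matrix.ext h, map_zero])
      let L : (Fin n₂ → F) →ₗ[F] ι → F := (Matrix.toLin' (P : Matrix ι ι F)).comp
        (LinearMap.pi fun p => if (e p).1 = j then LinearMap.proj (e p).2 else 0)
      obtain ⟨z, hz, h1', h2'⟩ := exists_small_herm hu h2 L v (kemb e P X)
      have h' := cj_htv_sub_mulVec hu v hv c (kemb e P X) h1' h2'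
      rw [hX, ← map_sub, ← hY, kemb_apply, cj_apply, LinearMap.comp_apply, Matrix.toLin'_apply,
        Matrix.mulVec_mulVec, Units.inv_mul_cancel_right, ← Matrix.mulVec_mulVec] at h'
      obtain ⟨s, hs⟩ := Function.ne_iff.1 hz
      have h'' := congrFun (congrArg (fun w => ((P⁻¹ : GL ι F) : Matrix ι ι F) *ᵥ w) h') (e.symm (i, s))
      simp only [Matrix.mulVec_mulVec, Matrix.mulVec_zero, Pi.zero_apply] at h''
      rw [← Matrix.mul_assoc, Units.inv_mul, Matrix.one_mul] at h''
      simp only [Matrix.mulVec, dotProduct, Matrix.submatrix_apply, Equiv.apply_symm_apply,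
        LinearMap.pi_apply, Matrix.kroneckerMap_apply] at h''
      rw [Finset.sum_eq_single (e.symm (j, s)), Equiv.apply_symm_apply] at h''
      · simp [hij] at h''
        exact hs h''
      · intro p _ hp
        have hne' : e p ≠ (j, s) := fun h => hp (by rw [← h, e.symm_apply_apply])
        by_cases hp1 : (e p).1 = j
        · have : s ≠ (e p).2 := fun h => hne' (Prod.ext hp1 h.symm)
          simp [this]
        · simp [hp1]
      · simp
    rw [sub_eq_zero, cj_apply, Units.mul_inv_eq_iff_eq_mul] at h0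
    exact h0
  obtain ⟨c, hc⟩ := hbot (Matrix.single (0 : Fin n₁) (⟨1, by omega⟩ : Fin n₁) (1 : F))
  have h' : Matrix.single (0 : Fin n₁) (⟨1, by omega⟩ : Fin n₁) (1 : F) = c • 1 :=
    kemb_injective e P (by rw [hc, map_smul, map_one])
  have hne : (0 : Fin n₁) ≠ ⟨1, by omega⟩ := by simp [Fin.ext_iff]
  simpa [hne] using congrFun (congrFun h' 0) ⟨1, by omega⟩

/-- The hermitian transvections stabilise no proper subspace. -/
lemma not_htv_le_subspace (h2 : 2 ≤ Fintype.card ι) {W : Submodule F (ι → F)} (h0 : W ≠ ⊥)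
    (h1 : W ≠ ⊤) :
    ¬ ∀ v hv c, σ c = -c → Transvec.Herm.htv hu v hv c ∈ Geo.subspaceStabilizer W := by
  intro hle
  obtain ⟨w, hw, hw0⟩ := W.ne_bot_iff.1 h0
  obtain ⟨t, ht, ht'⟩ := Transvec.Herm.exists_anti hu.ne_refl hu.involutive
  obtain ⟨v, hvW, hv, hvw⟩ : ∃ v, v ∉ W ∧ f v v = 0 ∧ f v w ≠ 0 := by
    obtain ⟨e, -, he, hew⟩ := Transvec.Herm.exists_isotropic_not_orth hu (Transvec.Herm.nondeg_top hu)
      (by rw [finrank_top, Module.finrank_pi]; exact h2) (Submodule.mem_top (x := w)) hw0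
    by_cases heW : e ∈ W
    swap; · exact ⟨e, heW, he, hew⟩
    obtain ⟨v, hvW, hv⟩ := iso_not_mem hu h2 h1
    by_cases hvw : f v w = 0
    swap; · exact ⟨v, hvW, hv, hvw⟩
    obtain ⟨b, hb, hbs⟩ := exists_iso_comb hu he hv
    refine ⟨e + b • v, fun h => hvW ?_, by simpa using hbs 1 (Or.inl (map_one σ)), ?_⟩
    · have := W.smul_mem b⁻¹ (W.sub_mem h heW)
      rwa [add_sub_cancel_left, smul_smul, inv_mul_cancel₀ hb, one_smul] at this
    · rwa [hu.add_left, hu.smul_left, hvw, mul_zero, add_zero]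
  have hwv : f w v ≠ 0 := fun h => hvw ((Transvec.Herm.f_eq_zero_comm hu).1 h)
  have h' : mv (Transvec.Herm.htv hu v hv t) w ∈ W := (hle v hv t ht' w).1 hw
  rw [Transvec.Herm.mv_htv] at h'
  have h'' := W.smul_mem (t * f w v)⁻¹ (W.sub_mem h' hw)
  rw [add_sub_cancel_left, smul_smul, inv_mul_cancel₀ (mul_ne_zero ht hwv), one_smul] at h''
  exact hvW h''

/-- The hermitian transvections stabilise no decomposition. -/
lemma not_htv_le_decomposition (h3 : 3 ≤ Fintype.card ι)
    (hq : Fintype.card ι = 3 → ∃ s : F, σ s = s ∧ s ≠ 0 ∧ s ≠ 1) {t k : ℕ}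
    {D : Fin t → Submodule F (ι → F)} (hD : Geo.IsMDecomposition k D) :
    ¬ ∀ v hv c, σ c = -c → Transvec.Herm.htv hu v hv c ∈ Geo.decompositionStabilizer D := by
  classical
  intro hle
  obtain ⟨a₀, ha₀, ha₀'⟩ := Transvec.Herm.exists_anti hu.ne_refl hu.involutive
  have hdisj : ∀ {i j : Fin t} {x : ι → F}, i ≠ j → x ∈ D i → x ∈ D j → x = 0 :=
    fun {i j x} hij hi hj => Submodule.disjoint_def.1 (hD.indep i) x hi
      (Submodule.mem_iSup_of_mem j (Submodule.mem_iSup_of_mem hij.symm hj))
  -- the step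
  have step : ∀ v : ι → F, f v v = 0 → v ≠ 0 → ∃ (i j : Fin t) (x : ι → F) (a : F), a ≠ 0 ∧
      x ∈ D i ∧ f x v ≠ 0 ∧ x + a • v ∈ D j ∧ (∀ z ∈ D i, f z v = 0 → z ∈ D j) := by
    intro v hv hv0
    obtain ⟨i, x, hx, hxv⟩ : ∃ i, ∃ x ∈ D i, f x v ≠ 0 := by
      by_contra h
      push Not at h
      obtain ⟨y, hy⟩ := exists_f_ne_zero hu hv0
      have hle' : iSup D ≤ LinearMap.ker (Transvec.Herm.formH hu v) :=
        iSup_le fun i z hz => h i z hz
      exact hy (hle' (hD.iSup_eq_top.ge (Submodule.mem_top : y ∈ ⊤)))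
    obtain ⟨τ, hτ⟩ := hle v hv a₀ ha₀'
    have him : ∀ z ∈ D i, mv (Transvec.Herm.htv hu v hv a₀) z ∈ D (τ i) := fun z hz =>
      hτ i ▸ ⟨z, hz, Matrix.toLin'_apply _ _⟩
    refine ⟨i, τ i, x, a₀ * f x v, mul_ne_zero ha₀ hxv, hx, hxv, ?_, fun z hz hzv => ?_⟩
    · simpa [Transvec.Herm.mv_htv] using him x hx
    · simpa [Transvec.Herm.htv_fix hu v hv a₀ hzv] using him z hz
  rcases Nat.lt_or_ge k 2 with hk | hk
  swap
  -- large blocks contain all isotropic vectors
  · have hone : ∀ v : ι → F, f v v = 0 → v ≠ 0 → ∃ i, v ∈ D i := by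
      intro v hv hv0
      obtain ⟨i, j, x, a, ha, hx, -, hj, hfix⟩ := step v hv hv0
      obtain ⟨z, hz, hzv, hz0⟩ : ∃ z ∈ D i, f z v = 0 ∧ z ≠ 0 := by
        let φ := (Transvec.Herm.formH hu v).comp (D i).subtype
        have hker : LinearMap.ker φ ≠ ⊥ := fun h => by
          have h' := LinearMap.finrank_le_finrank_of_injective (LinearMap.ker_eq_bot.1 h)
          rw [hD.finrank_eq, Module.finrank_self] at h'
          omega
        obtain ⟨z, hz, hz0⟩ := (Submodule.ne_bot_iff _).1 hker
        exact ⟨z.1, z.2, hz, fun h => hz0 (Subtype.ext h)⟩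
      obtain rfl : i = j := by
        by_contra hij
        exact hz0 (hdisj hij hz (hfix z hz hzv))
      refine ⟨i, ?_⟩
      have := (D i).smul_mem a⁻¹ ((D i).sub_mem hj hx)
      rwa [add_sub_cancel_left, smul_smul, inv_mul_cancel₀ ha, one_smul] at this
    obtain ⟨v, hv0', hv⟩ := iso_not_mem hu (by omega) (W := ⊥) (fun hbt => by
      have := congrArg (fun W : Submodule F (ι → F) => Module.finrank F W) hbt
      simp [finrank_top, Module.finrank_pi] at this
      omega)
    have hv0 : v ≠ 0 := fun h => hv0' (by rw [h]; exact zero_mem _)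
    obtain ⟨i, hi⟩ := hone v hv hv0
    obtain ⟨w, hwi, hw⟩ := iso_not_mem hu (by omega) (W := D i) (fun h => by
      have h' := hD.finrank_eq i
      rw [h, finrank_top, Module.finrank_pi] at h'
      have hc := mdecomp_card hD
      have := hD.two_le
      nlinarith [hD.pos])
    have hw0 : w ≠ 0 := fun h => hwi (by rw [h]; exact zero_mem _)
    obtain ⟨l, hl⟩ := hone w hw hw0
    have hil : i ≠ l := fun h => hwi (h ▸ hl)
    obtain ⟨b, hb, hbs⟩ := exists_iso_comb hu hv hw
    have hu' := hbs 1 (Or.inl (map_one σ))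
    rw [one_mul] at hu'
    have hne : v + b • w ≠ 0 := fun h => hv0 (hdisj hil hi (by
      rw [eq_neg_of_add_eq_zero_left h]; exact (D l).neg_mem ((D l).smul_mem b hl)))
    obtain ⟨m, hm⟩ := hone _ hu' hne
    by_cases hmi : m = i
    · subst hmi
      refine smul_ne_zero hb hw0 (hdisj hil ?_ ((D l).smul_mem b hl))
      simpa using (D m).sub_mem hm hi
    · refine hv0 (Submodule.disjoint_def.1 (hD.indep i) v hi ?_)
      rw [show v = v + b • w - b • w by simp]
      exact sub_mem (Submodule.mem_iSup_of_mem m (Submodule.mem_iSup_of_mem hmi hm))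
        (Submodule.mem_iSup_of_mem l (Submodule.mem_iSup_of_mem hil.symm ((D l).smul_mem b hl)))
  -- lines: coordinates
  obtain rfl : k = 1 := by have := hD.pos; omega
  have ht : t = Fintype.card ι := by simpa using mdecomp_card hD
  have hex : ∀ i, ∃ d, d ∈ D i ∧ d ≠ 0 := fun i => (D i).ne_bot_iff.1 fun h => by
    have := hD.finrank_eq i; rw [h, finrank_bot] at this; omega
  choose d hd hd0 using hex
  haveI : Nonempty (Fin t) := ⟨⟨0, by omega⟩⟩
  let B : Module.Basis (Fin t) F (ι → F) := basisOfLinearIndependentOfCardEqFinrank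
    (iSupIndep.linearIndependent D hD.indep hd hd0) (by rw [Fintype.card_fin, Module.finrank_pi, ht])
  have hB : ∀ i, B i = d i := fun i => congrFun (coe_basisOfLinearIndependentOfCardEqFinrank _ _) i
  have hline : ∀ i, ∀ x ∈ D i, ∀ l, l ≠ i → B.repr x l = 0 := by
    intro i x hx l hl
    have hspan : Submodule.span F {d i} = D i :=
      Submodule.eq_of_le_of_finrank_le ((Submodule.span_singleton_le_iff_mem _ _).2 (hd i)) (by
        rw [finrank_span_singleton (hd0 i), hD.finrank_eq])
    obtain ⟨c, rfl⟩ := Submodule.mem_span_singleton.1 (hspan.ge hx)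
    rw [← hB, map_smul, B.repr_self, Finsupp.smul_apply, Finsupp.single_eq_of_ne hl, smul_zero]
  have hzero : ∀ i, ∀ x ∈ D i, B.repr x i = 0 → x = 0 := by
    intro i x hx h
    apply B.repr.injective
    rw [map_zero]
    refine Finsupp.ext fun l => ?_
    by_cases hl : l = i
    · subst hl; simpa using h
    · simpa using hline i x hx l hl
  have supp : ∀ v : ι → F, f v v = 0 → v ≠ 0 → ∃ i j, i ≠ j ∧ B.repr v i ≠ 0 ∧ B.repr v j ≠ 0 ∧
      ∀ l, l ≠ i → l ≠ j → B.repr v l = 0 := by
    intro v hv hv0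
    obtain ⟨i, j, x, a, ha, hx, hxv, hj, -⟩ := step v hv hv0
    have hx0 : x ≠ 0 := fun h => hxv (by rw [h]; exact Transvec.Herm.zero_left hu v)
    have hrep : ∀ l, a * B.repr v l = B.repr (x + a • v) l - B.repr x l := fun l => by
      rw [map_add, map_smul]; simp
    have hij : i ≠ j := by
      rintro rfl
      have hvi : v ∈ D i := by
        have := (D i).smul_mem a⁻¹ ((D i).sub_mem hj hx)
        rwa [add_sub_cancel_left, smul_smul, inv_mul_cancel₀ ha, one_smul] at this
      have hvr : B.repr v i ≠ 0 := fun h => hv0 (hzero i v hvi h)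
      have hxe : x = (B.repr x i / B.repr v i) • v := by
        rw [← sub_eq_zero]
        refine hzero i _ ((D i).sub_mem hx ((D i).smul_mem _ hvi)) ?_
        rw [map_sub, map_smul, Finsupp.sub_apply, Finsupp.smul_apply, smul_eq_mul,
          div_mul_cancel₀ _ hvr, sub_self]
      exact hxv (by rw [hxe, hu.smul_left, hv, mul_zero])
    have hxa : x + a • v ≠ 0 := fun h => by
      have := congrArg (fun y => f y v) h
      simp only [hu.add_left, hu.smul_left, hv, mul_zero, add_zero, Transvec.Herm.zero_left hu] at this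
      exact hxv this
    refine ⟨i, j, hij, fun h => ?_, fun h => ?_, fun l hli hlj => ?_⟩
    · have := hrep i
      rw [h, mul_zero, hline j _ hj i hij, zero_sub, eq_comm, neg_eq_zero] at this
      exact hx0 (hzero i x hx this)
    · have := hrep j
      rw [h, mul_zero, hline i x hx j hij.symm, sub_zero, eq_comm] at this
      exact hxa (hzero j _ hj this)
    · have := hrep l
      rw [hline j _ hj l hlj, hline i x hx l hli, sub_zero, mul_eq_zero] at this
      exact this.resolve_left ha
  obtain ⟨v, hv0', hv⟩ := iso_not_mem hu (by omega) (W := ⊥) (fun hbt => by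
    have := congrArg (fun W : Submodule F (ι → F) => Module.finrank F W) hbt
    simp [finrank_top, Module.finrank_pi] at this
    omega)
  have hv0 : v ≠ 0 := fun h => hv0' (by rw [h]; exact zero_mem _)
  obtain ⟨i, j, hij, hvi, hvj, hvl⟩ := supp v hv hv0
  -- a second isotropic vector with two admissible combinations
  obtain ⟨w, l, hw, hli, hlj, hwl, b, b', hbb, hb, hb', hcb, hcb'⟩ : ∃ (w : ι → F) (l : Fin t),
      f w w = 0 ∧ l ≠ i ∧ l ≠ j ∧ B.repr w l ≠ 0 ∧ ∃ b b' : F, b ≠ b' ∧ b ≠ 0 ∧ b' ≠ 0 ∧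
        f (v + b • w) (v + b • w) = 0 ∧ f (v + b' • w) (v + b' • w) = 0 := by
    rcases eq_or_lt_of_le h3 with h | h4
    · obtain ⟨s, hs, hs0, hs1⟩ := hq h.symm
      obtain ⟨l, hl⟩ : ∃ l : Fin t, l ∉ ({i, j} : Finset (Fin t)) := Finset.exists_mem_notMem_of_card_lt_card
        (s := {i, j}) (t := Finset.univ) (by
          rw [Finset.card_univ, Fintype.card_fin, Finset.card_pair hij]; omega) |>.imp fun _ h => h.2
      simp only [Finset.mem_insert, Finset.mem_singleton, not_or] at hl
      obtain ⟨w, hwW, hw⟩ := iso_not_mem hu (by omega) (W := LinearMap.ker (B.coord l)) (fun h => by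
        have := h.ge (Submodule.mem_top : B l ∈ ⊤)
        simp at this)
      obtain ⟨b, hb, hbs⟩ := exists_iso_comb hu hv hw
      have h1 := hbs 1 (Or.inl (map_one σ))
      rw [one_mul] at h1
      exact ⟨w, l, hw, hl.1, hl.2, by simpa using hwW, b, s * b,
        fun he => hs1 (mul_right_cancel₀ hb (by rw [← he, one_mul])), hb, mul_ne_zero hs0 hb, h1,
        hbs s (Or.inl hs)⟩
    · have htop := Transvec.Herm.nondeg_top hu
      obtain ⟨e, -, hve, hee⟩ := Transvec.Herm.exists_partner hu htop Submodule.mem_top hv0 hv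
      obtain ⟨hPn, hP2⟩ := Transvec.Herm.nondeg_pair hu hv hee hve
      have hsum := Transvec.Herm.finrank_orth_add hu hPn
      rw [hP2, Module.finrank_pi] at hsum
      obtain ⟨w, hwX, hw0, hw⟩ := Transvec.Herm.exists_isotropic hu (Transvec.Herm.nondeg_orth hu hPn)
        (by omega)
      have hvw : f v w = 0 := hwX v (Submodule.subset_span (Set.mem_insert _ _))
      have hew : f e w = 0 := hwX e (Submodule.subset_span (Set.mem_insert_of_mem _ rfl))
      obtain ⟨l, hli, hlj, hwl⟩ : ∃ l, l ≠ i ∧ l ≠ j ∧ B.repr w l ≠ 0 := by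
        by_contra h
        push Not at h
        -- a combination supported on one line
        set u := B.repr w j • v - B.repr v j • w with hu'
        have hiso : f u u = 0 := by
          rw [hu', Transvec.Herm.sub_left hu, Transvec.Herm.sub_right hu, Transvec.Herm.sub_right hu,
            hu.smul_left, hu.smul_left, hu.smul_left, hu.smul_left, Transvec.Herm.smul_right hu,
            Transvec.Herm.smul_right hu, Transvec.Herm.smul_right hu, Transvec.Herm.smul_right hu,
            hv, hw, hvw, (Transvec.Herm.f_eq_zero_comm hu).1 hvw]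
          ring
        have hu0 : u ≠ 0 := fun h0 => by
          have h1 := congrArg (fun y => f e y) h0
          simp only [hu', Transvec.Herm.sub_right hu, Transvec.Herm.smul_right hu, hew, mul_zero,
            sub_zero, Transvec.Herm.zero_right hu, hu.herm e v, hve, map_one, mul_one,
            map_eq_zero_iff σ σ.injective] at h1
          rw [hu', h1, zero_smul, zero_sub, neg_eq_zero, smul_eq_zero] at h0
          exact h0.elim hvj hw0
        have huj : B.repr u j = 0 := by
          rw [hu', map_sub, map_smul, map_smul, Finsupp.sub_apply, Finsupp.smul_apply,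
            Finsupp.smul_apply, smul_eq_mul, smul_eq_mul]
          ring
        have hul : ∀ l, l ≠ i → l ≠ j → B.repr u l = 0 := fun l hli hlj => by
          rw [hu', map_sub, map_smul, map_smul, Finsupp.sub_apply, Finsupp.smul_apply,
            Finsupp.smul_apply, hvl l hli hlj, h l hli hlj]
          simp
        obtain ⟨p, r, hpr, hp, hr, -⟩ := supp u hiso hu0
        have hpi : ∀ l, B.repr u l ≠ 0 → l = i := fun l hl => by
          by_contra hli
          by_cases hlj : l = j
          · exact hl (hlj ▸ huj)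
          · exact hl (hul l hli hlj)
        exact hpr ((hpi p hp).trans (hpi r hr).symm)
      obtain ⟨s, hs0, hs1⟩ : ∃ s : F, s ≠ 0 ∧ s ≠ 1 := by
        obtain ⟨a, ha⟩ : ∃ a : F, σ a ≠ a := by
          by_contra h; push Not at h; exact hu.ne_refl (RingEquiv.ext h)
        exact ⟨a, fun h => ha (by rw [h, map_zero]), fun h => ha (by rw [h, map_one])⟩
      have hiso : ∀ c : F, f (v + c • w) (v + c • w) = 0 := fun c => by
        rw [hu.add_left, Transvec.Herm.add_right hu, Transvec.Herm.add_right hu, hu.smul_left,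
          hu.smul_left, Transvec.Herm.smul_right hu, Transvec.Herm.smul_right hu, hv, hw, hvw,
          (Transvec.Herm.f_eq_zero_comm hu).1 hvw]
        ring
      exact ⟨w, l, hw, hli, hlj, hwl, 1, s, Ne.symm hs1, one_ne_zero, hs0, hiso 1, hiso s⟩
  have hw0 : w ≠ 0 := fun h => hwl (by simp [h])
  have main : ∀ c : F, c ≠ 0 → f (v + c • w) (v + c • w) = 0 →
      B.repr v i + c * B.repr w i = 0 ∨ B.repr v j + c * B.repr w j = 0 := by
    intro c hc hiso
    have hrep : ∀ m, B.repr (v + c • w) m = B.repr v m + c * B.repr w m := fun m => by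
      rw [map_add, map_smul]; simp
    have hl' : B.repr (v + c • w) l ≠ 0 := by
      rw [hrep, hvl l hli hlj, zero_add]; exact mul_ne_zero hc hwl
    by_contra hno
    push Not at hno
    obtain ⟨p, r, -, hp, hr, hrest⟩ := supp _ hiso fun h => hl' (by rw [h]; simp)
    have mem : ∀ m, B.repr (v + c • w) m ≠ 0 → m = p ∨ m = r := fun m hm => by
      by_contra h'
      push Not at h'
      exact hm (hrest m h'.1 h'.2)
    have h1 := mem i (by rw [hrep]; exact hno.1)
    have h2 := mem j (by rw [hrep]; exact hno.2)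
    have h3' := mem l hl'
    rcases h1 with h1 | h1 <;> rcases h2 with h2 | h2 <;> rcases h3' with h3' | h3' <;>
      first
        | exact hij (h1.trans h2.symm)
        | exact hli (h3'.trans h1.symm)
        | exact hlj (h3'.trans h2.symm)
  have hboth : ¬ (B.repr w i ≠ 0 ∧ B.repr w j ≠ 0) := by
    rintro ⟨h1, h2⟩
    obtain ⟨p, r, -, -, -, hrest⟩ := supp w hw hw0
    have mem : ∀ m, B.repr w m ≠ 0 → m = p ∨ m = r := fun m hm => by
      by_contra h'
      push Not at h'
      exact hm (hrest m h'.1 h'.2)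
    rcases mem i h1 with h1 | h1 <;> rcases mem j h2 with h2 | h2 <;> rcases mem l hwl with h3' | h3' <;>
      first
        | exact hij (h1.trans h2.symm)
        | exact hli (h3'.trans h1.symm)
        | exact hlj (h3'.trans h2.symm)
  rcases main b hb hcb with e1 | e1 <;> rcases main b' hb' hcb' with e2 | e2
  · have hwi : B.repr w i ≠ 0 := fun h => hvi (by rw [h, mul_zero, add_zero] at e1; exact e1)
    exact hbb (mul_right_cancel₀ hwi (by linear_combination e1 - e2))
  · exact hboth ⟨fun h => hvi (by rw [h, mul_zero, add_zero] at e1; exact e1),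
      fun h => hvj (by rw [h, mul_zero, add_zero] at e2; exact e2)⟩
  · exact hboth ⟨fun h => hvi (by rw [h, mul_zero, add_zero] at e2; exact e2),
      fun h => hvj (by rw [h, mul_zero, add_zero] at e1; exact e1)⟩
  · have hwj : B.repr w j ≠ 0 := fun h => hvj (by rw [h, mul_zero, add_zero] at e1; exact e1)
    exact hbb (mul_right_cancel₀ hwj (by linear_combination e1 - e2))

omit [Finite F] in
/-- A proper semilinear map fixing all isotropic points of a hermitian three-space does not exist. -/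
lemma false_of_semilinear_three [Finite F] {F₀ : Subfield F} (hne : F₀ ≠ ⊤) (φ : F →+* F)
    (hφ : ∀ x, x ∈ F₀ ↔ φ x = x) (θ : (ι → F) → (ι → F))
    (hadd : ∀ x y, θ (x + y) = θ x + θ y) (hsmul : ∀ (c : F) x, θ (c • x) = φ c • θ x)
    (heig : ∀ v : ι → F, f v v = 0 → ∃ l : F, θ v = l • v) (hθ0 : ∀ v, θ v = 0 → v = 0)
    {v e : ι → F} (hv0 : v ≠ 0) (hv : f v v = 0) (hee : f e e = 0) (hve : f v e = 1)
    (hPn : Transvec.Herm.Nondeg hu (Submodule.span F {v, e}))
    (h1 : Module.finrank F (Transvec.Herm.orth hu (Submodule.span F {v, e})) = 1) : False := by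
  classical
  haveI := Fintype.ofFinite F
  have hev : f e v = 1 := by rw [hu.herm, hve, map_one]
  obtain ⟨w, hw, hww⟩ := Transvec.Herm.exists_anisotropic hu (Transvec.Herm.nondeg_orth hu hPn)
    (fun h => by rw [h, finrank_bot] at h1; exact zero_ne_one h1)
  have hvw : f v w = 0 := hw v (Submodule.subset_span (Set.mem_insert _ _))
  have hew : f e w = 0 := hw e (Submodule.subset_span (Set.mem_insert_of_mem _ rfl))
  have hwv : f w v = 0 := (Transvec.Herm.f_eq_zero_comm hu).1 hvw
  have hwe : f w e = 0 := (Transvec.Herm.f_eq_zero_comm hu).1 hew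
  obtain ⟨l₁, hl₁⟩ := heig v hv
  obtain ⟨l₂, hl₂⟩ := heig e hee
  have hl10 : l₁ ≠ 0 := fun h => hv0 (hθ0 v (by rw [hl₁, h, zero_smul]))
  obtain ⟨t, ht0, htσ⟩ := Transvec.Herm.exists_anti hu.ne_refl hu.involutive
  have hiso : ∀ a b : F, a + σ a + b * σ b * f w w = 0 →
      f (v + a • e + b • w) (v + a • e + b • w) = 0 := fun a b h => by
    simp only [hu.add_left, Transvec.Herm.add_right hu, hu.smul_left, Transvec.Herm.smul_right hu,
      hv, hee, hve, hev, hvw, hew, hwv, hwe, mul_zero, mul_one, add_zero, zero_add]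
    linear_combination h
  have hline : ∀ a : F, σ a = -a → φ a * l₂ = a * l₁ := fun a ha => by
    obtain ⟨l₃, hl₃⟩ := heig (v + a • e + (0 : F) • w) (hiso a 0 (by rw [ha, map_zero]; ring))
    rw [zero_smul, add_zero, hadd, hsmul, hl₁, hl₂, smul_smul] at hl₃
    have c1 := congrArg (fun x => f x e) hl₃
    have c2 := congrArg (fun x => f x v) hl₃
    simp only [hu.add_left, hu.smul_left, hv, hee, hve, hev, mul_zero, mul_one, add_zero, zero_add]
      at c1 c2
    rw [c2, c1]; ring
  have hfixφ : ∀ x, σ x = x → φ x = x := fun x hx => by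
    have e1 := hline t htσ
    have e2 := hline (x * t) (by rw [map_mul, hx, htσ]; ring)
    have hl20 : φ t * l₂ ≠ 0 := by rw [e1]; exact mul_ne_zero ht0 hl10
    rw [map_mul] at e2
    exact mul_right_cancel₀ hl20 (by linear_combination e2 - x * e1)
  have hφσ : ∀ x, φ x = σ x := by
    have hcase : ∀ x, φ x = x ∨ φ x = σ x := fun x => by
      have : (φ x - x) * (φ x - σ x) = 0 := by
        have hs := hfixφ (x + σ x) (by rw [map_add, hu.involutive, add_comm])
        have hp := hfixφ (x * σ x) (by rw [map_mul, hu.involutive, mul_comm])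
        rw [map_add] at hs
        rw [map_mul] at hp
        linear_combination φ x * hs - hp
      exact (mul_eq_zero.1 this).imp sub_eq_zero.1 sub_eq_zero.1
    intro x
    by_cases hσx : σ x = x
    · rw [hfixφ x hσx, hσx]
    refine (hcase x).resolve_left fun hx => hne (top_le_iff.1 fun y _ => (hφ y).2 ?_)
    rcases hcase y with h | h
    · exact h
    rcases hcase (x + y) with hxy | hxy
    · rw [map_add, hx] at hxy
      exact add_left_cancel hxy
    · rw [map_add, hx, h, map_add] at hxy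
      exact absurd (add_right_cancel hxy).symm hσx
  -- norm one elements
  obtain ⟨a, ha⟩ := Transvec.Herm.exists_trace hu.ne_refl hu.involutive (-f w w)
    (by rw [map_neg, Transvec.Herm.self_fixed hu])
  have key : ∀ b : F, b * σ b = 1 → σ b * f (θ w) w = b * (l₁ + σ b * f (θ w) e) * f w w := fun b hb => by
    obtain ⟨l₃, hl₃⟩ := heig (v + a • e + b • w) (hiso a b (by rw [hb]; linear_combination ha))
    rw [hadd, hadd, hsmul, hsmul, hφσ, hφσ, hl₁, hl₂, smul_smul] at hl₃
    have c1 := congrArg (fun x => f x e) hl₃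
    have c2 := congrArg (fun x => f x w) hl₃
    simp only [hu.add_left, hu.smul_left, hee, hve, hvw, hew, hwe, mul_zero, mul_one, add_zero,
      zero_add] at c1 c2
    rw [c2, c1]; ring
  have hξ : ∃ ξ η : F, ξ * σ ξ = 1 ∧ η * σ η = 1 ∧ ξ ≠ 1 ∧ η ≠ 1 ∧ ξ ≠ η := by
    have hnorm : ∀ z : F, z ≠ 0 → (σ z / z) * σ (σ z / z) = 1 := fun z hz => by
      rw [map_div₀, hu.involutive]
      have : σ z ≠ 0 := (map_ne_zero_iff σ σ.injective).2 hz
      field_simp
    obtain ⟨y, hy⟩ : ∃ y, σ y ≠ y := by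
      by_contra h; push Not at h; exact hu.ne_refl (RingEquiv.ext h)
    have hy0 : y ≠ 0 := fun h => hy (by rw [h, map_zero])
    have hy1 : y + 1 ≠ 0 := fun h => hy (by
      rw [eq_neg_of_add_eq_zero_left h, map_neg, map_one])
    refine ⟨_, _, hnorm y hy0, hnorm (y + 1) hy1, fun h => hy ((div_eq_one_iff_eq hy0).1 h),
      fun h => hy ?_, fun h => hy ?_⟩
    · have := (div_eq_one_iff_eq hy1).1 h
      rw [map_add, map_one] at this
      exact add_right_cancel this
    · rw [div_eq_div_iff hy0 hy1, map_add, map_one] at h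
      linear_combination h
  obtain ⟨ξ, η, hξ1, hη1, hξne, hηne, hξη⟩ := hξ
  have k0 := key 1 (by rw [map_one, mul_one])
  rw [map_one, one_mul, one_mul, one_mul] at k0
  have hrel : ∀ b : F, b * σ b = 1 → b ≠ 1 → f (θ w) w + b * l₁ * f w w = 0 := fun b hb hb1 => by
    have kb := key b hb
    have : (b - 1) * (f (θ w) w + b * l₁ * f w w) = 0 := by
      linear_combination b * k0 - b * kb + (f (θ w) w - b * f (θ w) e * f w w) * hb
    exact (mul_eq_zero.1 this).resolve_left (sub_ne_zero.2 hb1)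
  have := hrel ξ hξ1 hξne
  have h' : (ξ - η) * (l₁ * f w w) = 0 := by linear_combination this - hrel η hη1 hηne
  exact mul_ne_zero (sub_ne_zero.2 hξη) (mul_ne_zero hl10 hww) h'

/-- The hermitian transvections lie in no proper subfield group. -/
lemma not_htv_le_subfield (h3 : 3 ≤ Fintype.card ι) {F₀ : Subfield F} (hne : F₀ ≠ ⊤) (P : GL ι F) :
    ¬ ∀ v hv c, σ c = -c → Transvec.Herm.htv hu v hv c ∈ Geo.subfieldSubgroup F₀ P := by
  classical
  intro hle
  haveI := Fintype.ofFinite F
  obtain ⟨p, hp⟩ := CharP.exists F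
  haveI := Fact.mk (CharP.char_is_prime F p)
  haveI : Fintype F₀ := Fintype.ofFinite _
  haveI : CharP F₀ p := CharP.subring F p F₀.toSubring
  obtain ⟨a, -, ha⟩ := FiniteField.card F₀ p
  let φ : F →+* F := iterateFrobenius F p a
  have hφ : ∀ x : F, x ∈ F₀ ↔ φ x = x := fun x => by
    rw [mem_subfield_iff, Nat.card_eq_fintype_card, ha]; rfl
  obtain ⟨t, ht, ht'⟩ := Transvec.Herm.exists_anti hu.ne_refl hu.involutive
  let θ : (ι → F) → (ι → F) := fun x =>
    (P : Matrix ι ι F) *ᵥ (φ ∘ (((P⁻¹ : GL ι F) : Matrix ι ι F) *ᵥ x))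
  have hθadd : ∀ x y, θ (x + y) = θ x + θ y := fun x y => by
    simp only [θ]
    rw [← Matrix.mulVec_add, Matrix.mulVec_add]
    congr 1
    funext s
    simp
  have hθsmul : ∀ (c : F) x, θ (c • x) = φ c • θ x := fun c x => by
    simp only [θ]
    rw [Matrix.mulVec_smul, show ∀ y : ι → F, φ ∘ (c • y) = φ c • (φ ∘ y) from
      fun y => funext fun s => by simp, Matrix.mulVec_smul]
  -- the transvections commute with the semilinear map
  have hcomm : ∀ v hv x, θ (mv (Transvec.Herm.htv hu v hv t) x) =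
      mv (Transvec.Herm.htv hu v hv t) (θ x) := by
    intro v hv x
    set g := Transvec.Herm.htv hu v hv t with hg
    obtain ⟨X, hX, hX'⟩ := hle v hv t ht'
    obtain ⟨A, ⟨g₀, rfl⟩, z, hz, rfl⟩ := Subgroup.mem_sup_of_normal_right.1 hX
    obtain ⟨c, hc⟩ := (Geo.mem_scalars_iff z).1 hz
    set A := Matrix.GeneralLinearGroup.map (F₀.subtype : F₀ →+* F) g₀ with hA
    let Φ : GL ι F →* GL ι F := Matrix.GeneralLinearGroup.map φ
    have hΦA : Φ A = A := Units.ext (Matrix.ext fun i j => by
      simpa [Φ, hA] using (hφ _).1 (SetLike.coe_mem (g₀.val i j)))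
    have hcomm : ∀ y : GL ι F, y.val = (c : F) • 1 → Commute A y := fun y hy =>
      Units.ext (by rw [Units.val_mul, Units.val_mul, hy]; simp)
    have hgp : g ^ p = 1 := by
      have hpow : ∀ N : ℕ, g ^ N = Transvec.Herm.htv hu v hv (N * t) := by
        intro N
        induction N with
        | zero => rw [pow_zero, Nat.cast_zero, zero_mul, Transvec.Herm.htv_zero]
        | succ N ih =>
          rw [pow_succ, ih, hg, Transvec.Herm.htv_add, Nat.cast_succ, add_mul, one_mul]
      rw [hpow, CharP.cast_eq_zero, zero_mul, Transvec.Herm.htv_zero]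
    have hP : MulAut.conj P (A * z) = g := hX'
    have h1 : (A * z) ^ p = 1 := (MulAut.conj P).injective (by rw [map_pow, hP, hgp, map_one])
    have h2 : (A * Φ z) ^ p = 1 := by
      have h' := congrArg Φ h1
      rwa [map_pow, map_mul, hΦA, map_one] at h'
    have hΦz : (Φ z).val = φ c • 1 := by
      ext i j
      simp [Φ, hc, Matrix.one_apply, apply_ite φ]
    have hcz : z ^ p = Φ z ^ p := by
      rw [(hcomm z hc).mul_pow] at h1
      have hAz : Commute A (Φ z) := Units.ext (by
        rw [Units.val_mul, Units.val_mul, hΦz]; simp)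
      rw [hAz.mul_pow] at h2
      exact mul_left_cancel (h1.trans h2.symm)
    have hcφ : φ c = c := by
      have h' := congrArg (fun y : GL ι F => y.val) hcz
      simp only [Units.val_pow_eq_pow_val, hc, hΦz, smul_pow, one_pow] at h'
      obtain ⟨i⟩ : Nonempty ι := Fintype.card_pos_iff.1 (by omega)
      have h'' := congrFun (congrFun h' i) i
      simp only [Matrix.smul_apply, Matrix.one_apply_eq, smul_eq_mul, mul_one] at h''
      exact (frobenius_inj F p h''.symm)
    have hfix : φ.mapMatrix (A * z).val = (A * z).val := by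
      rw [Units.val_mul, map_mul, hc]
      have e1 : φ.mapMatrix A.val = A.val := congrArg Units.val hΦA
      have e2 : φ.mapMatrix ((c : F) • (1 : Matrix ι ι F)) = (c : F) • 1 := by
        ext i j
        simp [Matrix.one_apply, hcφ, apply_ite φ]
      rw [e1, e2]
    have hgx : ∀ y, mv g y =
        (P : Matrix ι ι F) *ᵥ ((A * z).val *ᵥ (((P⁻¹ : GL ι F) : Matrix ι ι F) *ᵥ y)) := fun y => by
      rw [← hP, MulAut.conj_apply]
      simp only [mv, Units.val_mul, Matrix.mulVec_mulVec, mul_assoc]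
    simp only [θ]
    have hinv : ∀ y : ι → F,
        ((P⁻¹ : GL ι F) : Matrix ι ι F) *ᵥ ((P : Matrix ι ι F) *ᵥ y) = y := fun y => by
      rw [Matrix.mulVec_mulVec, Units.inv_mul, Matrix.one_mulVec]
    rw [hgx, hgx, hinv, hinv]
    congr 1
    funext s
    rw [Function.comp_apply, RingHom.map_mulVec]
    have e3 : ((A * z).val).map φ = (A * z).val := hfix
    rw [e3]
  have heig : ∀ v : ι → F, f v v = 0 → ∃ l : F, θ v = l • v := by
    intro v hv
    by_cases hv0 : v = 0
    · refine ⟨0, ?_⟩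
      rw [hv0, smul_zero]
      have := hθsmul 0 0
      simpa using this
    obtain ⟨x, hx⟩ := exists_f_ne_zero hu hv0
    have h := hcomm v hv x
    rw [Transvec.Herm.mv_htv, Transvec.Herm.mv_htv, hθadd, hθsmul, add_right_inj] at h
    have hne : φ (t * f x v) ≠ 0 := (map_ne_zero φ).2 (mul_ne_zero ht hx)
    exact ⟨(φ (t * f x v))⁻¹ * (t * f (θ x) v), by
      rw [mul_smul, ← h, smul_smul, inv_mul_cancel₀ hne, one_smul]⟩
  have hθ0 : ∀ v : ι → F, θ v = 0 → v = 0 := by
    intro v hv
    have h1 := congrArg (fun y => ((P⁻¹ : GL ι F) : Matrix ι ι F) *ᵥ y) hv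
    simp only [θ, Matrix.mulVec_mulVec, Units.inv_mul, Matrix.one_mulVec, Matrix.mulVec_zero] at h1
    have h2 : ((P⁻¹ : GL ι F) : Matrix ι ι F) *ᵥ v = 0 := funext fun s =>
      (map_eq_zero φ).1 (congrFun h1 s)
    have h3 := congrArg (fun y => (P : Matrix ι ι F) *ᵥ y) h2
    simpa [Matrix.mulVec_mulVec] using h3
  -- two orthogonal isotropic vectors
  have htop := Transvec.Herm.nondeg_top hu
  obtain ⟨v, -, hv0, hv⟩ := Transvec.Herm.exists_isotropic hu htop
    (by rw [finrank_top, Module.finrank_pi]; omega)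
  obtain ⟨e, -, hve, hee⟩ := Transvec.Herm.exists_partner hu htop Submodule.mem_top hv0 hv
  obtain ⟨hPn, hP2⟩ := Transvec.Herm.nondeg_pair hu hv hee hve
  have hsum := Transvec.Herm.finrank_orth_add hu hPn
  rw [hP2, Module.finrank_pi] at hsum
  by_cases h4 : 4 ≤ Fintype.card ι
  swap
  · exact false_of_semilinear_three hu hne φ hφ θ hθadd hθsmul heig hθ0 hv0 hv hee hve hPn (by omega)
  obtain ⟨w, hwX, hw0, hw⟩ := Transvec.Herm.exists_isotropic hu (Transvec.Herm.nondeg_orth hu hPn)
    (by omega)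
  have hvw : f v w = 0 := hwX v (Submodule.subset_span (Set.mem_insert _ _))
  have hwe : f w e = 0 := (Transvec.Herm.f_eq_zero_comm hu).1
    (hwX e (Submodule.subset_span (Set.mem_insert_of_mem _ rfl)))
  have hind : ∀ a b : F, a • v + b • w = 0 → a = 0 ∧ b = 0 := by
    intro a b hab
    have h := congrArg (fun y => f y e) hab
    simp only [hu.add_left, hu.smul_left, hve, hwe, mul_one, mul_zero, add_zero,
      Transvec.Herm.zero_left hu] at h
    rw [h, zero_smul, zero_add, smul_eq_zero] at hab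
    exact ⟨h, hab.resolve_right hw0⟩
  have hiso : ∀ b : F, f (v + b • w) (v + b • w) = 0 := fun b => by
    rw [hu.add_left, Transvec.Herm.add_right hu, Transvec.Herm.add_right hu, hu.smul_left,
      hu.smul_left, Transvec.Herm.smul_right hu, Transvec.Herm.smul_right hu, hv, hw, hvw,
      (Transvec.Herm.f_eq_zero_comm hu).1 hvw]
    ring
  obtain ⟨l₁, hl₁⟩ := heig v hv
  obtain ⟨l₂, hl₂⟩ := heig w hw
  have key : ∀ b : F, φ b * l₂ = b * l₁ := by
    intro b
    obtain ⟨l₃, hl₃⟩ := heig _ (hiso b)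
    rw [hθadd, hθsmul, hl₁, hl₂, smul_add, smul_smul, smul_smul] at hl₃
    have := hind (l₁ - l₃) (φ b * l₂ - l₃ * b) (by
      rw [sub_smul, sub_smul]
      linear_combination (norm := module) hl₃)
    linear_combination this.2 - b * this.1
  have h12 : l₂ = l₁ := by simpa using key 1
  refine hne (top_le_iff.1 fun b _ => (hφ b).2 ?_)
  have hl0 : l₁ ≠ 0 := fun h => by
    rw [h, zero_smul] at hl₁
    exact hv0 (hθ0 v hl₁)
  have h := key b
  rw [h12] at h
  exact mul_right_cancel₀ hl0 h

/-- A group of similarities normalised by the special unitary group is scalar or contains it. -/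
lemma su_le_of_normal (h3 : 3 ≤ Fintype.card ι)
    (h32 : Fintype.card ι = 3 → 3 ≤ Nat.card (Transvec.Herm.fixedField σ)) {R : Subgroup (GL ι F)}
    (hn : ∀ g ∈ UnitarySimple.sug f, ∀ x ∈ R, g * x * g⁻¹ ∈ R)
    (hsim : R ≤ Geo.similarityGroup f) (hR : ¬ R ≤ Geo.scalars ι F) :
    UnitarySimple.sug f ≤ R := by
  haveI := UnitarySimple.isSimpleGroup_quotient hu h3 h32
  rw [← Subgroup.range_subtype (UnitarySimple.sug f)]
  refine range_le_of_normal (UnitarySimple.sug f).subtype (Subgroup.subtype_injective _)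
    (UnitarySimple.commutator_eq_top hu h3 h32) ?_ (fun s x hx => hn _ s.2 x hx)
    (fun r hr s => ?_) hR
  · intro x hx
    exact scalar_of_commute_htv hu (by omega) fun v hv c hc =>
      hx ⟨_, Transvec.Herm.htv_mem hu v hv hc, Transvec.Herm.htv_mem_specialLinear hu v hv c⟩
  · rw [Subgroup.range_subtype]
    obtain ⟨μ, hμ⟩ := hsim hr
    refine ⟨fun u v => ?_, ?_⟩
    · show f ((r * s.1 * r⁻¹).val *ᵥ u) ((r * s.1 * r⁻¹).val *ᵥ v) = f u v
      simp only [Units.val_mul, ← Matrix.mulVec_mulVec]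
      rw [hμ]
      have hs := s.2.1 (((r⁻¹ : GL ι F) : Matrix ι ι F) *ᵥ u) (((r⁻¹ : GL ι F) : Matrix ι ι F) *ᵥ v)
      change f (s.1.val *ᵥ _) (s.1.val *ᵥ _) = _ at hs
      rw [hs, ← hμ]
      simp only [Matrix.mulVec_mulVec, Units.mul_inv, Matrix.one_mulVec]
    · have hs : Matrix.GeneralLinearGroup.det (s.1 : GL ι F) = 1 := MonoidHom.mem_ker.1 s.2.2
      show r * s.1 * r⁻¹ ∈ (Matrix.GeneralLinearGroup.det : GL ι F →* Fˣ).ker
      rw [MonoidHom.mem_ker, map_mul, map_mul, hs, mul_one, map_inv, mul_inv_cancel]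

/-- The special unitary group normalises no group of symplectic type in coprime characteristic. -/
lemma not_su_le_symplType (h3 : 3 ≤ Fintype.card ι)
    (h32 : Fintype.card ι = 3 → 3 ≤ Nat.card (Transvec.Herm.fixedField σ)) {r p : ℕ}
    [CharP F p] (hrp : r ≠ p) {R : Subgroup (GL ι F)} (ht : Geo.IsSymplecticTypeGroup r R)
    (habs : Geo.ActsAbsolutelyIrreducibly (Geo.matrixSet R))
    (hsim : R ≤ Geo.similarityGroup f) :
    ¬ UnitarySimple.sug f ≤ Geo.subgroupNormalizer R := by
  intro hle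
  haveI : Nonempty ι := Fintype.card_pos_iff.1 (by omega)
  have hR := not_le_scalars_of_irred (H := R) (by omega) habs.1
  have hRt := su_le_of_normal hu h3 h32
    (fun g hg x hx => (Subgroup.mem_normalizer_iff.1 (hle hg) x).1 hx) hsim hR
  obtain ⟨v, -, hv0, hv⟩ := Transvec.Herm.exists_isotropic hu (Transvec.Herm.nondeg_top hu)
    (by rw [finrank_top, Module.finrank_pi]; omega)
  obtain ⟨t, ht0, ht'⟩ := Transvec.Herm.exists_anti hu.ne_refl hu.involutive
  obtain ⟨k, hk⟩ := ht.pGroup
    ⟨_, hRt ⟨Transvec.Herm.htv_mem hu v hv ht', Transvec.Herm.htv_mem_specialLinear hu v hv t⟩⟩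
  have hk' : Transvec.Herm.htv hu v hv t ^ r ^ k = 1 := congrArg Subtype.val hk
  have hpow : ∀ N : ℕ, Transvec.Herm.htv hu v hv t ^ N = Transvec.Herm.htv hu v hv (N * t) := by
    intro N
    induction N with
    | zero => rw [pow_zero, Nat.cast_zero, zero_mul, Transvec.Herm.htv_zero]
    | succ N ih => rw [pow_succ, ih, Transvec.Herm.htv_add, Nat.cast_succ, add_mul, one_mul]
  rw [hpow] at hk'
  obtain ⟨x, hx⟩ := exists_f_ne_zero hu hv0
  have h := congrArg (fun g : GL ι F => mv g x) hk'
  simp only [Transvec.Herm.mv_htv, Transvec.mv_one, add_eq_left, smul_eq_zero, hv0, or_false,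
    mul_eq_zero, hx, ht0] at h
  have hp : p.Prime := by haveI := Fintype.ofFinite F; exact CharP.char_is_prime F p
  exact hrp ((Nat.prime_dvd_prime_iff_eq hp ht.prime).1
    (hp.dvd_of_dvd_pow ((CharP.cast_eq_zero_iff F p _).1 h))).symm

end Cfsg.Agent.Aschbacher
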