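import Cfsg.Agent.Lib.Aschbacher.UnitMaximal

/-!
Numerical refinements for the classes of the unitary groups.
-/

set_option autoImplicit false

namespace Cfsg.Agent.Aschbacher

open scoped MatrixGroups Matrix
open Matrix

/-- The field of order `q ^ 2` as a minimal field: the parameters. -/
lemma minimal_field_data {F : Type*} [Field F] [Fintype F] {z p e q : ℕ}
    (hmin : Geo.IsMinimalFieldFor z p e F) (hF : Fintype.card F = q ^ 2) :
    ∃ j, 0 < j ∧ q = p ^ j ∧ e = 2 * j := by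
  obtain ⟨hp, -, hc, -, -⟩ := hmin
  have hd : q ∣ p ^ e := ⟨q, by rw [← hc, hF, sq]⟩
  obtain ⟨j, -, hj⟩ := (Nat.dvd_prime_pow hp).1 hd
  have he : e = 2 * j := Nat.pow_right_injective hp.two_le
    (show p ^ e = p ^ (2 * j) by rw [← hc, hF, hj, ← pow_mul, mul_comm])
  refine ⟨j, ?_, hj, he⟩
  rcases Nat.eq_zero_or_pos j with rfl | h
  · have := Fintype.one_lt_card (α := F)
    rw [hF, hj] at this
    simp at this
  · exact h

/-- Divisibility of a power minus one by residues. -/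
lemma dvd_pow_sub_one_iff_mod {r p d : ℕ} (hr : 1 < r) (hp : 0 < p) :
    r ∣ p ^ d - 1 ↔ (p % r) ^ d % r = 1 := by
  rw [← Nat.modEq_iff_dvd' (Nat.one_le_pow _ _ hp), Nat.ModEq, Nat.one_mod_eq_one.2 hr.ne',
    ← Nat.pow_mod, eq_comm]

/-- A group of exponent an odd prime r, of similarities of a hermitian form over the field of order
q ^ 2 with q ≡ -1 modulo r, consists of isometries. -/
lemma le_GU_of_coprime {F : Type*} [Field F] [Fintype F] {n q r : ℕ} (hn : 0 < n)
    (hF : Fintype.card F = q ^ 2) (hr : r.Prime) (hrq : ¬ r ∣ q - 1) {R : Subgroup (GL (Fin n) F)}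
    (hpg : IsPGroup r R) (hsim : R ≤ Geo.similarityGroup (hermForm n F q)) : R ≤ GU n F q := by
  obtain ⟨σ, -, hu, hfix⟩ := UnitaryStd.exists_setup (n := n) hF hn
  intro g hg
  obtain ⟨μ, hμ⟩ := hsim hg
  haveI : Nonempty (Fin n) := ⟨⟨0, hn⟩⟩
  have hpow : ∀ N : ℕ, ∀ u v, hermForm n F q ((g ^ N : GL (Fin n) F).val *ᵥ u)
      ((g ^ N : GL (Fin n) F).val *ᵥ v) = (μ : F) ^ N * hermForm n F q u v := by
    intro N
    induction N with
    | zero => simp
    | succ N ih =>
      intro u v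
      rw [pow_succ, Units.val_mul, ← Matrix.mulVec_mulVec, ← Matrix.mulVec_mulVec, ih, hμ, pow_succ,
        mul_assoc]
  obtain ⟨v₀, hv₀, hvv⟩ := Transvec.Herm.exists_anisotropic hu (Transvec.Herm.nondeg_top hu) (fun h => by
    have := congrArg (fun W : Submodule F (Fin n → F) => Module.finrank F W) h
    simp [finrank_top, Module.finrank_pi] at this
    omega)
  obtain ⟨k, hk⟩ := hpg ⟨g, hg⟩
  have hk' : g ^ r ^ k = 1 := congrArg Subtype.val hk
  have h1 := hpow (r ^ k) v₀ v₀
  rw [hk', Units.val_one, Matrix.one_mulVec] at h1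
  have hμk : (μ : F) ^ r ^ k = 1 := (mul_eq_right₀ hvv).1 h1.symm
  have hμf : σ (μ : F) = μ := by
    have h2 := Transvec.Herm.self_fixed hu (g.val *ᵥ v₀)
    rw [hμ, map_mul, Transvec.Herm.self_fixed hu] at h2
    exact mul_right_cancel₀ hvv h2
  haveI : Fintype (Transvec.Herm.fixedField σ) := Fintype.ofFinite _
  have hμq : (μ : F) ^ (q - 1) = 1 := by
    have h3 : (⟨(μ : F), hμf⟩ : Transvec.Herm.fixedField σ) ≠ 0 := fun h =>
      μ.ne_zero (congrArg Subtype.val h)
    have h4 := FiniteField.pow_card_sub_one_eq_one _ h3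
    rw [← Nat.card_eq_fintype_card, hfix] at h4
    exact congrArg Subtype.val h4
  have hcop : Nat.Coprime (r ^ k) (q - 1) := ((hr.coprime_iff_not_dvd).2 hrq).pow_left _
  have hμ1 : (μ : F) = 1 := by
    have h5 := Nat.dvd_gcd (orderOf_dvd_of_pow_eq_one hμk) (orderOf_dvd_of_pow_eq_one hμq)
    rw [hcop.gcd_eq_one, Nat.dvd_one, orderOf_eq_one_iff] at h5
    exact h5
  intro u v
  have h6 := hμ u v
  rw [hμ1, one_mul] at h6
  exact h6

end Cfsg.Agent.Aschbacher
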