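import Cfsg.Agent.Lib.Aschbacher.UnitSmall
import Cfsg.Agent.Lib.Aschbacher.UnitFiveData

/-!
The normaliser in `SU₆(2)` of a field of degree three lies in a subfield group of symplectic kind.
-/

set_option autoImplicit false
set_option linter.style.haveILetI false

namespace Cfsg.Agent.Aschbacher.UnitSix

open scoped MatrixGroups Matrix
open Matrix
open Cfsg.Agent.Transvec (mv mv_inj)

variable {F : Type*} [Field F] [Fintype F] {n : ℕ} {σ : F ≃+* F}
  {f : (Fin n → F) → (Fin n → F) → F}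

omit [Fintype F] in
/-- Adjoints in a commutative subalgebra closed under them form an involutive automorphism. -/
lemma exists_adjoint (hu : Geo.IsUnitaryForm σ f) {r : ℕ} {K : Subalgebra F (Matrix (Fin n) (Fin n) F)}
    (hK : Geo.IsFieldSubalgebra r K) (hadj : Geo.IsAdjointClosedFor f K) :
    ∃ τ : ↥K ≃+* ↥K, (∀ (k : ↥K) u v, f (k.1 *ᵥ u) v = f u ((τ k).1 *ᵥ v)) ∧
      (∀ k, τ (τ k) = k) ∧ ∀ c : F, τ (algebraMap F ↥K c) = algebraMap F ↥K (σ c) := by
  have hval : ∀ {a b : Matrix (Fin n) (Fin n) F}, (∀ u v, f u (a *ᵥ v) = f u (b *ᵥ v)) → a = b := by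
    intro a b h
    refine Matrix.ext_of_mulVec_single fun i => ?_
    by_contra hne
    obtain ⟨u, hu'⟩ := (hu.nondegenerate _ (sub_ne_zero.2 hne)).1
    refine hu' ?_
    rw [sub_eq_add_neg, Transvec.Herm.add_right hu, ← neg_one_smul F (b *ᵥ _),
      Transvec.Herm.smul_right hu, h, map_neg, map_one]
    ring
  choose θ hθK hθ using fun k : ↥K => hadj k k.2
  let θ' : ↥K → ↥K := fun k => ⟨θ k, hθK k⟩
  have hθ' : ∀ (k : ↥K) u v, f (k.1 *ᵥ u) v = f u ((θ' k).1 *ᵥ v) := fun k => hθ k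
  have huniq : ∀ (k k' : ↥K), (∀ u v, f (k.1 *ᵥ u) v = f u (k'.1 *ᵥ v)) → θ' k = k' :=
    fun k k' h => Subtype.ext (hval fun u v => (hθ' k u v).symm.trans (h u v))
  have hmul : ∀ a b, θ' (a * b) = θ' a * θ' b := fun a b => huniq _ _ fun u v => by
    show f ((a.1 * b.1) *ᵥ u) v = f u (((θ' a).1 * (θ' b).1) *ᵥ v)
    rw [hK.comm _ a.2 _ b.2, ← Matrix.mulVec_mulVec, ← Matrix.mulVec_mulVec, hθ' b, hθ' a]
  have hadd : ∀ a b, θ' (a + b) = θ' a + θ' b := fun a b => huniq _ _ fun u v => by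
    show f ((a.1 + b.1) *ᵥ u) v = f u (((θ' a).1 + (θ' b).1) *ᵥ v)
    rw [Matrix.add_mulVec, Matrix.add_mulVec, hu.add_left, Transvec.Herm.add_right hu, hθ', hθ']
  have hinv : ∀ a, θ' (θ' a) = a := fun a => huniq _ _ fun u v => by
    rw [hu.herm, ← hθ', ← hu.herm]
  let τ : ↥K ≃+* ↥K :=
    { toFun := θ', invFun := θ', left_inv := hinv, right_inv := hinv, map_mul' := hmul, map_add' := hadd }
  refine ⟨τ, hθ', hinv, fun c => huniq _ _ fun u v => ?_⟩
  show f (algebraMap F (Matrix (Fin n) (Fin n) F) c *ᵥ u) v =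
    f u (algebraMap F (Matrix (Fin n) (Fin n) F) (σ c) *ᵥ v)
  rw [Algebra.algebraMap_eq_smul_one, Algebra.algebraMap_eq_smul_one, Matrix.smul_mulVec,
    Matrix.smul_mulVec, Matrix.one_mulVec, Matrix.one_mulVec, hu.smul_left,
    Transvec.Herm.smul_right hu, hu.involutive]

/-- Over four elements the normaliser of a field of degree three lies in a symplectic subfield group. -/
theorem exists_skew_of_field {q : ℕ} (hF : Fintype.card F = q ^ 2) (hq : q = 2)
    {K : Subalgebra F (Matrix (Fin 6) (Fin 6) F)} (hK : Geo.IsFieldSubalgebra 3 K)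
    (hadj : Geo.IsAdjointClosedFor (hermForm 6 F q) K) :
    ∃ (F₀ : Subfield F) (P : GL (Fin 6) F), Fintype.card F = Nat.card F₀ ^ 2 ∧
      Geo.IsFormRationalStructure (hermForm 6 F q) F₀ 1 P ∧
      (∀ u : Fin 6 → F, (∀ i, u i ∈ F₀) → hermForm 6 F q (P.val *ᵥ u) (P.val *ᵥ u) = 0) ∧
      ∀ g ∈ Geo.subalgebraNormalizer K ⊓ (GU 6 F q ⊓ Geo.specialLinear (Fin 6) F),
        g ∈ Geo.subfieldSubgroup F₀ P := by
  classical
  subst hq
  have hF4 : Fintype.card F = 4 := by rw [hF]; norm_num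
  obtain ⟨σ, hσ, hu, hfix⟩ := UnitaryStd.exists_setup (n := 6) hF (by norm_num)
  obtain ⟨ω, hω, h2⟩ := UnitFive.exists_omega hF4
  have hω1 : ω ≠ 1 := fun h => one_ne_zero (α := F) (by rw [h] at hω; linear_combination hω - h2)
  have hσω : σ ω = ω + 1 := by rw [hσ]; linear_combination hω - (ω + 1) * h2
  set f := hermForm 6 F 2 with hf
  obtain ⟨τ, hτ, hτinv, hτF⟩ := exists_adjoint hu hK hadj
  -- K as a field
  haveI : Nontrivial ↥K := ⟨⟨0, 1, fun h => zero_ne_one (congrArg Subtype.val h)⟩⟩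
  have hfield : IsField ↥K :=
    { exists_pair_ne := exists_pair_ne _
      mul_comm := fun a b => Subtype.ext (hK.comm a a.2 b b.2)
      mul_inv_cancel := fun {a} ha => by
        obtain ⟨b, hb, hab⟩ := hK.inv a a.2 fun h => ha (Subtype.ext h)
        exact ⟨⟨b, hb⟩, Subtype.ext hab⟩ }
  letI : Field ↥K := hfield.toField
  haveI : Finite ↥K := Finite.of_injective (fun k : ↥K => (k : Matrix (Fin 6) (Fin 6) F))
    Subtype.val_injective
  haveI : Fintype ↥K := Fintype.ofFinite _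
  have hcardK : Fintype.card ↥K = 64 := by
    rw [Module.card_eq_pow_finrank (K := F) (V := ↥K), hF4, hK.finrank_eq]; norm_num
  have h2K : (2 : ↥K) = 0 := by
    rw [← map_ofNat (algebraMap F ↥K) 2, h2, map_zero]
  haveI : CharP ↥K 2 := CharTwo.of_one_ne_zero_of_two_eq_zero one_ne_zero h2K
  set w : ↥K := algebraMap F ↥K ω with hw
  have hww : w * w + w + 1 = 0 := by
    rw [hw, ← map_one (algebraMap F ↥K), ← map_mul, ← map_add, ← map_add, hω, map_zero]
  have hτw : τ w = w + 1 := by rw [hw, hτF, hσω, map_add, map_one]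
  have hτne : τ ≠ RingEquiv.refl ↥K := fun h => by
    rw [h, RingEquiv.refl_apply] at hτw
    exact one_ne_zero (α := ↥K) (by linear_combination -hτw)
  have hpow : ∀ k : ↥K, τ k = k ^ 8 := by
    have hc : Nat.card (Transvec.Herm.fixedField τ) = 8 := by
      have h := Transvec.Herm.card_eq_sq hτne hτinv
      rw [Nat.card_eq_fintype_card, hcardK] at h
      exact Nat.pow_left_injective two_ne_zero (show _ ^ 2 = 8 ^ 2 by rw [← h])
    intro k
    rw [← hc]
    exact Transvec.Herm.apply_eq_pow hτne hτinv k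
  -- a functional and the K-valued form
  have hmv : ∀ (a b : ↥K) (u : Fin 6 → F), (a * b).1 *ᵥ u = a.1 *ᵥ (b.1 *ᵥ u) := fun a b u => by
    rw [Matrix.mulVec_mulVec]; rfl
  obtain ⟨v₀, -, hv₀⟩ := Transvec.Herm.exists_anisotropic hu (Transvec.Herm.nondeg_top hu) (fun h => by
    have := congrArg (fun W : Submodule F (Fin 6 → F) => Module.finrank F W) h
    simp [finrank_top, Module.finrank_pi] at this)
  let φ : ↥K →ₗ[F] F :=
    { toFun := fun k => f (k.1 *ᵥ v₀) v₀
      map_add' := fun a b => by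
        show f ((a.1 + b.1) *ᵥ v₀) v₀ = _
        rw [Matrix.add_mulVec, hu.add_left]
      map_smul' := fun c a => by
        show f ((c • a.1) *ᵥ v₀) v₀ = _
        rw [Matrix.smul_mulVec, hu.smul_left]; rfl }
  have hφτ : ∀ k, φ (τ k) = σ (φ k) := fun k => by
    show f ((τ k).1 *ᵥ v₀) v₀ = σ (f (k.1 *ᵥ v₀) v₀)
    rw [hu.herm, ← hτ k]
  have hφne : ∀ x : ↥K, (∀ a, φ (a * x) = 0) → x = 0 := by
    intro x hx
    by_contra h0
    refine hv₀ ?_
    have h1 := hx x⁻¹
    rw [inv_mul_cancel₀ h0] at h1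
    simpa [φ] using h1
  let Φ : ↥K →ₗ[F] (↥K →ₗ[F] F) :=
    LinearMap.mk₂ F (fun x a => φ (a * x)) (fun x y a => by rw [mul_add, map_add])
      (fun c x a => by rw [mul_smul_comm, map_smul]) (fun x a b => by rw [add_mul, map_add])
      (fun c x a => by rw [smul_mul_assoc, map_smul])
  have hΦ : Function.Injective Φ := (injective_iff_map_eq_zero Φ).2 fun x hx =>
    hφne x fun a => LinearMap.congr_fun hx a
  have hΦs : Function.Surjective Φ := (LinearMap.injective_iff_surjective_of_finrank_eq_finrank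
    (Subspace.dual_finrank_eq).symm).1 hΦ
  have hT : ∀ u v, ∃ x : ↥K, ∀ a : ↥K, φ (a * x) = f (a.1 *ᵥ u) v := by
    intro u v
    let ψ : ↥K →ₗ[F] F :=
      { toFun := fun a => f (a.1 *ᵥ u) v
        map_add' := fun a b => by
          show f ((a.1 + b.1) *ᵥ u) v = _
          rw [Matrix.add_mulVec, hu.add_left]
        map_smul' := fun c a => by
          show f ((c • a.1) *ᵥ u) v = _
          rw [Matrix.smul_mulVec, hu.smul_left]; rfl }
    obtain ⟨x, hx⟩ := hΦs ψ
    exact ⟨x, fun a => LinearMap.congr_fun hx a⟩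
  choose T hTdef using hT
  have hTu : ∀ u v x, (∀ a : ↥K, φ (a * x) = f (a.1 *ᵥ u) v) → T u v = x := fun u v x h =>
    sub_eq_zero.1 (hφne _ fun a => by rw [mul_sub, map_sub, hTdef, h, sub_self])
  have hTl : ∀ u u' v, T (u + u') v = T u v + T u' v := fun u u' v => hTu _ _ _ fun a => by
    rw [mul_add, map_add, hTdef, hTdef, Matrix.mulVec_add, hu.add_left]
  have hTk : ∀ (k : ↥K) u v, T (k.1 *ᵥ u) v = k * T u v := fun k u v => hTu _ _ _ fun a => by
    rw [← mul_assoc, hTdef, hmv]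
  have hTh : ∀ u v, T v u = τ (T u v) := fun u v => hTu _ _ _ fun a => by
    have h1 : φ (a * τ (T u v)) = σ (φ (τ a * T u v)) := by
      rw [← hφτ]
      congr 1
      rw [map_mul, hτinv]
    rw [h1, hTdef, ← hu.herm, hτ a]
  have hTr : ∀ u v v', T u (v + v') = T u v + T u v' := fun u v v' => by
    rw [hTh, hTl, map_add, ← hTh, ← hTh]
  have hTkr : ∀ (k : ↥K) u v, T u (k.1 *ᵥ v) = τ k * T u v := fun k u v => by
    rw [hTh, hTk, map_mul, ← hTh]
  have hTnd : ∀ u, (∀ v, T u v = 0) → u = 0 := by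
    intro u h
    by_contra h0
    obtain ⟨v, hv⟩ := (hu.nondegenerate u h0).2
    refine hv ?_
    have h1 := hTdef u v 1
    rw [h v, mul_zero, map_zero, show ((1 : ↥K) : Matrix (Fin 6) (Fin 6) F) = 1 from rfl, Matrix.one_mulVec] at h1
    exact h1.symm
  have hT0 : T v₀ v₀ = 1 := hTu _ _ _ fun a => by rw [mul_one]; rfl
  -- a hyperbolic pair
  let ev : ↥K →ₗ[F] (Fin 6 → F) :=
    { toFun := fun k => k.1 *ᵥ v₀
      map_add' := fun a b => Matrix.add_mulVec a.1 b.1 v₀
      map_smul' := fun c a => Matrix.smul_mulVec c a.1 v₀ }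
  obtain ⟨z, hz⟩ : ∃ z, z ∉ LinearMap.range ev := by
    by_contra h
    push Not at h
    have := LinearMap.finrank_range_le ev
    rw [(Submodule.eq_top_iff'.2 h), finrank_top, Module.finrank_pi, Fintype.card_fin,
      hK.finrank_eq] at this
    omega
  set z' := z + (T z v₀).1 *ᵥ v₀ with hz'
  have hz0 : T z' v₀ = 0 := by
    rw [hz', hTl, hTk, hT0, mul_one, CharTwo.add_self_eq_zero]
  have hz'0 : z' ∉ LinearMap.range ev := by
    intro h
    refine hz ?_
    have h1 := Submodule.sub_mem _ h (LinearMap.mem_range_self ev (T z v₀))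
    rwa [hz', show ev (T z v₀) = (T z v₀).1 *ᵥ v₀ from rfl, add_sub_cancel_right] at h1
  have hindep : ∀ a b : ↥K, a.1 *ᵥ z' + b.1 *ᵥ v₀ = 0 → a = 0 ∧ b = 0 := by
    intro a b h
    have hb : b = 0 := by
      have h1 : T (a.1 *ᵥ z' + b.1 *ᵥ v₀) v₀ = 0 := by
        rw [h, ← Matrix.zero_mulVec v₀, show (0 : Matrix (Fin 6) (Fin 6) F) = ((0 : ↥K) : Matrix (Fin 6) (Fin 6) F) from rfl,
          hTk, zero_mul]
      rwa [hTl, hTk, hTk, hz0, hT0, mul_zero, zero_add, mul_one] at h1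
    refine ⟨?_, hb⟩
    by_contra ha
    refine hz'0 ?_
    subst hb
    rw [show ((0 : ↥K) : Matrix (Fin 6) (Fin 6) F) = 0 from rfl, Matrix.zero_mulVec, add_zero] at h
    have h2' := congrArg (fun x => (a⁻¹ : ↥K).1 *ᵥ x) h
    simp only [← hmv, inv_mul_cancel₀ ha, Matrix.mulVec_zero] at h2'
    rw [show ((1 : ↥K) : Matrix (Fin 6) (Fin 6) F) = 1 from rfl, Matrix.one_mulVec] at h2'
    rw [h2']
    exact Submodule.zero_mem _
  let Z : (↥K × ↥K) →ₗ[F] (Fin 6 → F) :=
    { toFun := fun p => p.1.1 *ᵥ z' + p.2.1 *ᵥ v₀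
      map_add' := fun p p' => by
        show (p.1.1 + p'.1.1) *ᵥ z' + (p.2.1 + p'.2.1) *ᵥ v₀ = _
        rw [Matrix.add_mulVec, Matrix.add_mulVec]; abel
      map_smul' := fun c p => by
        show (c • p.1.1) *ᵥ z' + (c • p.2.1) *ᵥ v₀ = c • (_ + _)
        rw [Matrix.smul_mulVec, Matrix.smul_mulVec, smul_add] }
  have hZs : Function.Surjective Z := (LinearMap.injective_iff_surjective_of_finrank_eq_finrank (by
      rw [Module.finrank_prod, hK.finrank_eq, Module.finrank_pi, Fintype.card_fin])).1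
    ((injective_iff_map_eq_zero Z).2 fun p hp =>
      Prod.ext (hindep p.1 p.2 hp).1 (hindep p.1 p.2 hp).2)
  set c := T z' z' with hc
  have hc0 : c ≠ 0 := by
    intro h0
    refine hz'0 ?_
    rw [hTnd z' fun v => ?_]
    · exact Submodule.zero_mem _
    obtain ⟨p, rfl⟩ := hZs v
    show T z' (p.1.1 *ᵥ z' + p.2.1 *ᵥ v₀) = 0
    rw [hTr, hTkr, hTkr, ← hc, h0, hz0, mul_zero, mul_zero, add_zero]
  have hc7 : c ^ 7 = 1 := by
    have h1 : c ^ 8 = c := by rw [← hpow, hc, ← hTh]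
    exact mul_left_cancel₀ hc0 (by rw [← pow_succ', h1, mul_one])
  set e' := ((c ^ 4 : ↥K)⁻¹).1 *ᵥ z' with he'
  have he'1 : T e' e' = 1 := by
    have h4 : (c ^ 4) * τ (c ^ 4) = c := by
      rw [hpow, ← pow_mul, ← pow_add, show 4 + 4 * 8 = 7 * 5 + 1 by norm_num, pow_succ, pow_mul, hc7,
        one_pow, one_mul]
    rw [he', hTk, hTkr, ← hc, map_inv₀, ← mul_assoc, ← mul_inv, h4, inv_mul_cancel₀ hc0]
  have he'0 : T e' v₀ = 0 := by rw [he', hTk, hz0, mul_zero]
  have h0e' : T v₀ e' = 0 := by rw [hTh, he'0, map_zero]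
  set e₁ := v₀ + e' with he₁
  set e₂ := v₀ + w.1 *ᵥ e₁ with he₂
  have t11 : T e₁ e₁ = 0 := by
    rw [he₁, hTl, hTr, hTr, hT0, h0e', he'0, he'1, add_zero, zero_add, CharTwo.add_self_eq_zero]
  have t10 : T e₁ v₀ = 1 := by rw [he₁, hTl, hT0, he'0, add_zero]
  have t01 : T v₀ e₁ = 1 := by rw [hTh, t10, map_one]
  have t12 : T e₁ e₂ = 1 := by rw [he₂, hTr, hTkr, t10, t11, mul_zero, add_zero]
  have t21 : T e₂ e₁ = 1 := by rw [hTh, t12, map_one]
  have t22 : T e₂ e₂ = 0 := by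
    rw [he₂, hTl, hTr, hTr, hTk, hTkr, hTkr, hTk, hT0, t01, t10, t11, hτw]
    linear_combination (w + 1) * h2K
  let E : (↥K × ↥K) →ₗ[F] (Fin 6 → F) :=
    { toFun := fun p => p.1.1 *ᵥ e₁ + p.2.1 *ᵥ e₂
      map_add' := fun p p' => by
        show (p.1.1 + p'.1.1) *ᵥ e₁ + (p.2.1 + p'.2.1) *ᵥ e₂ = _
        rw [Matrix.add_mulVec, Matrix.add_mulVec]; abel
      map_smul' := fun c p => by
        show (c • p.1.1) *ᵥ e₁ + (c • p.2.1) *ᵥ e₂ = c • (_ + _)
        rw [Matrix.smul_mulVec, Matrix.smul_mulVec, smul_add] }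
  have hTE : ∀ p p', T (E p) (E p') = p.1 * τ p'.2 + p.2 * τ p'.1 := fun p p' => by
    show T (p.1.1 *ᵥ e₁ + p.2.1 *ᵥ e₂) (p'.1.1 *ᵥ e₁ + p'.2.1 *ᵥ e₂) = _
    rw [hTl, hTr, hTr, hTk, hTk, hTk, hTk, hTkr, hTkr, hTkr, hTkr, t11, t12, t21, t22]
    ring
  have hEi : Function.Injective E := (injective_iff_map_eq_zero E).2 fun p hp => by
    have h1 : ∀ p' : ↥K × ↥K, p.1 * τ p'.2 + p.2 * τ p'.1 = 0 := fun p' => by
      rw [← hTE, hp, ← Matrix.zero_mulVec (E p'), show (0 : Matrix (Fin 6) (Fin 6) F) = ((0 : ↥K) : Matrix (Fin 6) (Fin 6) F) from rfl,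
        hTk, zero_mul]
    have ha := h1 (0, 1)
    have hb := h1 (1, 0)
    simp only [map_zero, map_one, mul_zero, mul_one, add_zero, zero_add] at ha hb
    exact Prod.ext ha hb
  have hEdim : Module.finrank F (↥K × ↥K) = Module.finrank F (Fin 6 → F) := by
    rw [Module.finrank_prod, hK.finrank_eq, Module.finrank_pi, Fintype.card_fin]
  have hEs : Function.Surjective E :=
    (LinearMap.injective_iff_surjective_of_finrank_eq_finrank hEdim).1 hEi
  have hEmul : ∀ (k : ↥K) a b, k.1 *ᵥ E (a, b) = E (k * a, k * b) := fun k a b => by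
    show k.1 *ᵥ (a.1 *ᵥ e₁ + b.1 *ᵥ e₂) = (k * a).1 *ᵥ e₁ + (k * b).1 *ᵥ e₂
    rw [Matrix.mulVec_add, hmv, hmv]
  -- a rational basis of the fixed field of τ
  set F₀ := Transvec.Herm.fixedField σ with hF₀
  have hmemF : ∀ x : F, x ∈ F₀ ↔ σ x = x := fun x => Transvec.Herm.mem_fixedField
  have h01 := fixed_zero_one hu hfix
  obtain ⟨r₁, hr₁, hr₁0, hr₁1⟩ : ∃ r : ↥K, τ r = r ∧ r ≠ 0 ∧ r ≠ 1 := by
    haveI : Fintype (Transvec.Herm.fixedField τ) := Fintype.ofFinite _
    have hc : Fintype.card (Transvec.Herm.fixedField τ) = 8 := by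
      have h := Transvec.Herm.card_eq_sq hτne hτinv
      rw [Nat.card_eq_fintype_card, hcardK, Nat.card_eq_fintype_card] at h
      exact Nat.pow_left_injective two_ne_zero (show _ ^ 2 = 8 ^ 2 by rw [← h])
    obtain ⟨r, -, hr⟩ := Finset.exists_mem_notMem_of_card_lt_card
      (s := ({0, 1} : Finset (Transvec.Herm.fixedField τ))) (t := Finset.univ) (by
        rw [Finset.card_univ, hc]; exact (Finset.card_le_two).trans_lt (by norm_num))
    simp only [Finset.mem_insert, Finset.mem_singleton, not_or] at hr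
    exact ⟨r.1, r.2, fun h => hr.1 (Subtype.ext h), fun h => hr.2 (Subtype.ext h)⟩
  let r : Fin 3 → ↥K := fun i => r₁ ^ i.val
  have hτr : ∀ i, τ (r i) = r i := fun i => by rw [map_pow, hr₁]
  have hrind : LinearIndependent F r := by
    refine Fintype.linearIndependent_iff.2 fun g hg => ?_
    -- split coefficients
    have hsplit : ∀ x : F, ∃ a b : F, σ a = a ∧ σ b = b ∧ x = a + b * ω := fun x => by
      refine ⟨x + (x + σ x) * ω, x + σ x, ?_, ?_, ?_⟩
      · rw [map_add, map_mul, map_add, hu.involutive, hσω]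
        linear_combination (σ x) * h2
      · rw [map_add, hu.involutive]; ring
      · linear_combination -((x + σ x) * ω) * h2
    choose A B hA hB hAB using hsplit
    have hreal : ∀ d : Fin 3 → F, (∀ i, σ (d i) = d i) → τ (∑ i, d i • r i) = ∑ i, d i • r i :=
      fun d hd => by
        simp only [Algebra.smul_def, map_sum, map_mul, hτF, hd, hτr]
    have hzero : ∀ d : Fin 3 → F, (∀ i, σ (d i) = d i) → ∑ i, d i • r i = 0 → ∀ i, d i = 0 := by
      intro d hd h
      simp only [Fin.sum_univ_three, r, Fin.val_zero, Fin.val_one, Fin.val_two, pow_zero, pow_one,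
        Algebra.smul_def, mul_one] at h
      rcases h01 _ (hd 0) with e0 | e0 <;> rcases h01 _ (hd 1) with e1 | e1 <;>
        rcases h01 _ (hd 2) with e2 | e2 <;> rw [e0, e1, e2] at h <;>
        simp only [map_zero, map_one, zero_mul, one_mul, add_zero, zero_add] at h
      · intro i; fin_cases i <;> assumption
      · exact absurd (pow_eq_zero_iff two_ne_zero |>.1 h) hr₁0
      · exact absurd h hr₁0
      · refine absurd (mul_left_cancel₀ hr₁0 ?_) hr₁1
        linear_combination h - r₁ * h2K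
      · exact absurd h one_ne_zero
      · have : (r₁ + 1) ^ 2 = 0 := by linear_combination h + r₁ * h2K
        refine absurd ?_ hr₁1
        linear_combination (pow_eq_zero_iff two_ne_zero).1 this - h2K
      · exact absurd (show r₁ = 1 by linear_combination h - h2K) hr₁1
      · -- a root of x² + x + 1 is no fixed point
        exfalso
        have hprod : (r₁ - w) * (r₁ - (w + 1)) = 0 := by
          linear_combination h + hww - (r₁ * w + r₁ + 1) * h2K
        rcases mul_eq_zero.1 hprod with e | e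
        · rw [sub_eq_zero.1 e, hτw] at hr₁
          exact one_ne_zero (α := ↥K) (by linear_combination hr₁)
        · rw [sub_eq_zero.1 e, map_add, map_one, hτw] at hr₁
          exact one_ne_zero (α := ↥K) (by linear_combination hr₁)
    have hsum : ∑ i, A (g i) • r i + w * ∑ i, B (g i) • r i = 0 := by
      rw [← hg, Finset.mul_sum, ← Finset.sum_add_distrib]
      refine Finset.sum_congr rfl fun i _ => ?_
      conv_rhs => rw [hAB (g i)]
      simp only [Algebra.smul_def, map_add, map_mul, ← hw]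
      ring
    have hB0 : ∑ i, B (g i) • r i = 0 := by
      have h1 := congrArg τ hsum
      rw [map_add, map_mul, hreal _ fun i => hA _, hreal _ fun i => hB _, hτw, map_zero] at h1
      linear_combination h1 - hsum
    have hA0 : ∑ i, A (g i) • r i = 0 := by linear_combination hsum - w * hB0
    intro i
    rw [hAB (g i), hzero _ (fun i => hA _) hA0 i, hzero _ (fun i => hB _) hB0 i]
    ring
  let bK : Module.Basis (Fin 3) F ↥K :=
    basisOfLinearIndependentOfCardEqFinrank hrind (by rw [Fintype.card_fin, hK.finrank_eq])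
  have hbK : ∀ i, bK i = r i := fun i => by simp [bK]
  have hcoord : ∀ k : ↥K, τ k = k → ∀ i, bK.repr k i ∈ F₀ := by
    intro k hk i
    have h1 : ∑ j, σ (bK.repr k j) • r j = k := by
      conv_rhs => rw [← hk, ← bK.sum_repr k]
      simp only [map_sum, Algebra.smul_def, map_mul, hτF, hbK, hτr]
    have h2' : bK.repr (∑ j, σ (bK.repr k j) • r j) i = σ (bK.repr k i) := by
      simp only [← hbK, bK.repr_sum_self]
    rw [h1] at h2'
    exact (hmemF _).2 h2'.symm
  have hcomb : ∀ d : Fin 3 → F, (∀ i, d i ∈ F₀) → τ (∑ i, d i • r i) = ∑ i, d i • r i := fun d hd => by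
    simp only [map_sum, Algebra.smul_def, map_mul, hτF, fun i => (hmemF _).1 (hd i), hτr]
  -- the frame
  let sf : Fin 3 ⊕ Fin 3 ≃ Fin 6 := finSumFinEquiv
  let bE : Module.Basis (Fin 3 ⊕ Fin 3) F (↥K × ↥K) := bK.prod bK
  let bV : Module.Basis (Fin 6) F (Fin 6 → F) :=
    (bE.map (LinearEquiv.ofBijective E ⟨hEi, hEs⟩)).reindex sf
  let Pm : Matrix (Fin 6) (Fin 6) F := Matrix.of fun x a => bV a x
  have hPmv : ∀ u : Fin 6 → F, Pm *ᵥ u = bV.equivFun.symm u := fun u => by
    rw [Module.Basis.equivFun_symm_apply]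
    funext x
    simp [Pm, Matrix.mulVec, dotProduct, Finset.sum_apply, mul_comm]
  have hPu : IsUnit Pm := (Matrix.mulVec_injective_iff_isUnit (A := Pm)).1 fun x y h => by
    rw [hPmv, hPmv] at h
    exact bV.equivFun.symm.injective h
  set P : GL (Fin 6) F := hPu.unit with hP
  have hPval : P.val = Pm := hPu.unit_spec
  have hPE : ∀ u : Fin 6 → F, P.val *ᵥ u =
      E (∑ i, u (sf (Sum.inl i)) • r i, ∑ i, u (sf (Sum.inr i)) • r i) := by
    intro u
    rw [hPval, hPmv, Module.Basis.equivFun_symm_apply, ← Equiv.sum_comp sf,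
      Fintype.sum_sum_type]
    simp only [bV, bE, Module.Basis.coe_reindex, Function.comp_apply, Equiv.symm_apply_apply,
      Module.Basis.map_apply, Module.Basis.prod_apply, LinearEquiv.ofBijective_apply, Sum.elim_inl,
      Sum.elim_inr, LinearMap.coe_inl, LinearMap.coe_inr, hbK]
    simp only [← map_smul, ← map_sum, ← map_add, Prod.smul_mk, smul_zero, Prod.mk_add_mk, add_zero,
      zero_add]
    refine congrArg E (Prod.ext ?_ ?_) <;> simp [Prod.fst_sum, Prod.snd_sum]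
  have hrat : ∀ u : Fin 6 → F, (∀ i, u i ∈ F₀) → ∃ a b : ↥K, τ a = a ∧ τ b = b ∧
      P.val *ᵥ u = E (a, b) := fun u hu' =>
    ⟨_, _, hcomb _ fun i => hu' _, hcomb _ fun i => hu' _, hPE u⟩
  have hrat' : ∀ a b : ↥K, τ a = a → τ b = b → ∃ u : Fin 6 → F, (∀ i, u i ∈ F₀) ∧
      P.val *ᵥ u = E (a, b) := fun a b ha hb => by
    refine ⟨fun i => Sum.elim (bK.repr a) (bK.repr b) (sf.symm i), fun i => ?_, ?_⟩
    · show Sum.elim (bK.repr a) (bK.repr b) (sf.symm i) ∈ F₀
      rcases sf.symm i with j | j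
      · exact hcoord a ha j
      · exact hcoord b hb j
    · rw [hPE]
      simp only [Equiv.symm_apply_apply, Sum.elim_inl, Sum.elim_inr, ← hbK, bK.sum_repr]
  have hfT : ∀ u v, f u v = φ (T u v) := fun u v => by
    have h1 := hTdef u v 1
    rw [one_mul, show ((1 : ↥K) : Matrix (Fin 6) (Fin 6) F) = 1 from rfl, Matrix.one_mulVec] at h1
    exact h1.symm
  refine ⟨F₀, P, by rw [hF₀, hfix, hF], fun u v hu' hv' => ?_, fun u hu' => ?_, ?_⟩
  · obtain ⟨a, b, ha, hb, e⟩ := hrat u hu'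
    obtain ⟨a', b', ha', hb', e'⟩ := hrat v hv'
    show 1 * f (P.val *ᵥ u) (P.val *ᵥ v) ∈ F₀
    rw [one_mul, hfT, e, e', hTE, hmemF, ← hφτ]
    simp only [map_add, map_mul, hτinv, ha, hb, ha', hb']
  · obtain ⟨a, b, ha, hb, e⟩ := hrat u hu'
    show f (P.val *ᵥ u) (P.val *ᵥ u) = 0
    rw [hfT, e, hTE]
    dsimp only
    rw [ha, hb, mul_comm b a, CharTwo.add_self_eq_zero, map_zero]
  -- the normaliser
  rintro g ⟨hgK, hgU, hgS⟩
  let ψ : ↥K → ↥K := fun k => ⟨g.val * k.1 * (g⁻¹).val, (hgK k.1).1 k.2⟩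
  have hψm : ∀ a b, ψ (a * b) = ψ a * ψ b := fun a b => Subtype.ext (by simp [ψ, mul_assoc])
  have hψp : ∀ (a : ↥K) (m : ℕ), ψ (a ^ m) = ψ a ^ m := fun a m => by
    induction m with
    | zero => exact Subtype.ext (by simp [ψ])
    | succ m ih => rw [pow_succ, pow_succ, hψm, ih]
  have hψτ : ∀ k, τ (ψ k) = ψ (τ k) := fun k => by rw [hpow, hpow, hψp]
  have hgk : ∀ (k : ↥K) u, g.val *ᵥ (k.1 *ᵥ u) = (ψ k).1 *ᵥ (g.val *ᵥ u) := fun k u => by
    simp [ψ, Matrix.mulVec_mulVec, mul_assoc]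
  have hiso : ∀ u, T u u = 0 → T (g.val *ᵥ u) (g.val *ᵥ u) = 0 := by
    intro u hu'
    refine hTu _ _ _ fun a => ?_
    have hak : (g⁻¹).val * a.1 * g.val ∈ K := by
      have h1 := ((Subgroup.inv_mem _ hgK : g⁻¹ ∈ Geo.subalgebraNormalizer K) a.1).1 a.2
      rwa [inv_inv] at h1
    rw [mul_zero, map_zero]
    have h1 := hTdef u u ⟨_, hak⟩
    rw [hu', mul_zero, map_zero] at h1
    rw [h1]
    have h2' := hgU (((g⁻¹).val * a.1 * g.val) *ᵥ u) u
    show _ = f (a.1 *ᵥ (g.val *ᵥ u)) (g.val *ᵥ u)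
    refine h2'.symm.trans ?_
    show f (g.val *ᵥ _) (g.val *ᵥ u) = _
    simp only [Matrix.mulVec_mulVec, ← mul_assoc, Units.mul_inv, one_mul]
  obtain ⟨⟨a, cc⟩, hge₁⟩ := hEs (g.val *ᵥ e₁)
  obtain ⟨⟨b, d⟩, hge₂⟩ := hEs (g.val *ᵥ e₂)
  have hgE : ∀ x y : ↥K, g.val *ᵥ E (x, y) = E (ψ x * a + ψ y * b, ψ x * cc + ψ y * d) := fun x y => by
    show g.val *ᵥ (x.1 *ᵥ e₁ + y.1 *ᵥ e₂) = _
    rw [Matrix.mulVec_add, hgk, hgk, ← hge₁, ← hge₂, hEmul, hEmul, ← map_add]
    rfl
  have r1 : a * τ cc + cc * τ a = 0 := by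
    have := hiso e₁ t11
    rwa [← hge₁, hTE] at this
  have r2 : b * τ d + d * τ b = 0 := by
    have := hiso e₂ t22
    rwa [← hge₂, hTE] at this
  have r3 : (a * τ d + b * τ cc) + (cc * τ b + d * τ a) = 0 := by
    have h1 : T (e₁ + e₂) (e₁ + e₂) = 0 := by
      rw [hTl e₁ e₂, hTr e₁ e₁ e₂, hTr e₂ e₁ e₂, t11, t12, t21, t22, add_zero, zero_add, CharTwo.add_self_eq_zero]
    have := hiso _ h1
    rw [Matrix.mulVec_add, ← hge₁, ← hge₂, ← map_add, hTE] at this
    simp only [Prod.fst_add, Prod.snd_add, map_add] at this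
    linear_combination this - r1 - r2
  have hdet0 : a * d + cc * b ≠ 0 := by
    intro h0
    have hz : ∀ x y : ↥K, E (x, y) = 0 → x = 0 ∧ y = 0 := fun x y h =>
      Prod.ext_iff.1 (hEi (h.trans (map_zero E).symm))
    -- the images of e₁ and e₂ are dependent
    have hinj : ∀ x y : ↥K, g.val *ᵥ E (x, y) = 0 → x = 0 ∧ y = 0 := fun x y h =>
      hz x y (mv_inj g (h.trans (Matrix.mulVec_zero _).symm))
    have hψs : ∀ k, ∃ k', ψ k' = k := fun k =>
      (Finite.injective_iff_surjective.1 (fun k k' h => Subtype.ext (by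
        have h1 := congrArg (fun x : ↥K => (g⁻¹).val * x.1 * g.val) h
        simpa [ψ, mul_assoc] using h1))) k
    obtain ⟨x, hx⟩ := hψs d
    obtain ⟨y, hy⟩ := hψs cc
    have e0 := hinj x y (by
      rw [hgE, hx, hy, mul_comm d a, h0, mul_comm d cc, CharTwo.add_self_eq_zero, Prod.mk_zero_zero,
        map_zero])
    have h00 : ψ 0 = 0 := Subtype.ext (by simp [ψ])
    obtain ⟨x', hx'⟩ := hψs b
    obtain ⟨y', hy'⟩ := hψs a
    have e1 := hinj x' y' (by
      rw [hgE, hx', hy', mul_comm b a, CharTwo.add_self_eq_zero, mul_comm b cc, add_comm (cc * b), h0,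
        Prod.mk_zero_zero, map_zero])
    rw [e0.2, h00] at hy
    rw [e1.2, h00] at hy'
    obtain ⟨hx0, -⟩ := hinj 1 0 (by rw [hgE, h00, ← hy, ← hy']; simp; exact map_zero E)
    exact one_ne_zero hx0
  -- all images are real multiples of one scalar
  obtain ⟨l, hl0, hlr⟩ : ∃ l : ↥K, l ≠ 0 ∧ ∀ x y : ↥K, τ x = x → τ y = y → ∃ x' y' : ↥K,
      τ x' = x' ∧ τ y' = y' ∧ g.val *ᵥ E (x, y) = l.1 *ᵥ E (x', y') := by
    have key : ∀ (a cc b d : ↥K), a ≠ 0 → a * τ cc + cc * τ a = 0 → b * τ d + d * τ b = 0 →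
        (a * τ d + b * τ cc) + (cc * τ b + d * τ a) = 0 → a * d + cc * b ≠ 0 →
        τ (cc / a) = cc / a ∧ τ (b / a) = b / a ∧ τ (d / a) = d / a := by
      intro a cc b d ha q1 q2 q3 hne
      obtain ⟨γ, rfl⟩ : ∃ γ, cc = a * γ := ⟨cc / a, by field_simp⟩
      obtain ⟨β, rfl⟩ : ∃ β, b = a * β := ⟨b / a, by field_simp⟩
      obtain ⟨δ, rfl⟩ : ∃ δ, d = a * δ := ⟨d / a, by field_simp⟩
      have hτa : τ a ≠ 0 := fun h => ha (τ.injective (h.trans (map_zero τ).symm))
      have haa : a * τ a ≠ 0 := mul_ne_zero ha hτa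
      simp only [map_mul] at q1 q2 q3
      have g1 : τ γ = γ := by
        have : (a * τ a) * (τ γ + γ) = 0 := by linear_combination q1
        exact CharTwo.add_eq_zero.1 ((mul_eq_zero.1 this).resolve_left haa)
      rw [g1] at q3
      have g2 : β * τ δ + δ * τ β = 0 :=
        (mul_eq_zero.1 (show (a * τ a) * (β * τ δ + δ * τ β) = 0 by linear_combination q2)).resolve_left haa
      have g3 : τ δ + δ + γ * (β + τ β) = 0 :=
        (mul_eq_zero.1 (show (a * τ a) * (τ δ + δ + γ * (β + τ β)) = 0 by linear_combination q3)).resolve_left haa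
      have hD : δ + γ * β ≠ 0 := fun h => hne (by linear_combination (a * a) * h)
      have g4 : τ β = β := by
        have : (δ + γ * β) * (β + τ β) = 0 := by
          linear_combination g2 - β * g3 + (β * δ + γ * (β * β + β * τ β)) * h2K
        exact (CharTwo.add_eq_zero.1 ((mul_eq_zero.1 this).resolve_left hD)).symm
      have g5 : τ δ = δ := by
        rw [g4, CharTwo.add_self_eq_zero, mul_zero, add_zero] at g3
        exact CharTwo.add_eq_zero.1 g3
      refine ⟨?_, ?_, ?_⟩ <;> rw [mul_div_cancel_left₀ _ ha] <;> assumption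
    by_cases ha : a = 0
    · have hcc : cc ≠ 0 := fun h => hdet0 (by rw [ha, h]; ring)
      obtain ⟨k1, k2, k3⟩ := key cc a d b hcc (by linear_combination r1) (by linear_combination r2)
        (by linear_combination r3) (fun h => hdet0 (by linear_combination h))
      refine ⟨cc, hcc, fun x y hx hy => ⟨ψ x * (a / cc) + ψ y * (b / cc), ψ x + ψ y * (d / cc), ?_, ?_, ?_⟩⟩
      · rw [map_add, map_mul, map_mul, k1, k3, hψτ, hψτ, hx, hy]
      · rw [map_add, map_mul, k2, hψτ, hψτ, hx, hy]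
      · rw [hgE, hEmul]
        congr 1
        ext1 <;> field_simp
    · obtain ⟨k1, k2, k3⟩ := key a cc b d ha r1 r2 r3 hdet0
      refine ⟨a, ha, fun x y hx hy => ⟨ψ x + ψ y * (b / a), ψ x * (cc / a) + ψ y * (d / a), ?_, ?_, ?_⟩⟩
      · rw [map_add, map_mul, k2, hψτ, hψτ, hx, hy]
      · rw [map_add, map_mul, map_mul, k1, k3, hψτ, hψτ, hx, hy]
      · rw [hgE, hEmul]
        congr 1
        ext1 <;> field_simp
  have hcols : ∀ j : Fin 6, ∃ u : Fin 6 → F, (∀ i, u i ∈ F₀) ∧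
      g.val *ᵥ (P.val *ᵥ Pi.single j 1) = l.1 *ᵥ (P.val *ᵥ u) := by
    intro j
    obtain ⟨x, y, hx, hy, e⟩ := hrat (Pi.single j 1) fun i => by
      by_cases h : i = j
      · subst h; simpa using F₀.one_mem
      · simpa [h] using F₀.zero_mem
    obtain ⟨x', y', hx', hy', e'⟩ := hlr x y hx hy
    obtain ⟨u, hu', e''⟩ := hrat' x' y' hx' hy'
    exact ⟨u, hu', by rw [e, e', e'']⟩
  choose u hu' hcol using hcols
  let M : Matrix (Fin 6) (Fin 6) F₀ := Matrix.of fun x j => ⟨u j x, hu' j x⟩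
  have hgP : g.val * P.val = l.1 * (P.val * M.map F₀.subtype) := by
    refine Matrix.ext_of_mulVec_single fun j => ?_
    rw [← Matrix.mulVec_mulVec, ← Matrix.mulVec_mulVec, ← Matrix.mulVec_mulVec, hcol]
    congr 2
    funext x
    simp [M]
  have hPdet : P.val.det ≠ 0 := ((Matrix.isUnit_iff_isUnit_det _).1 P.isUnit).ne_zero
  have hgdet : g.val.det = 1 := by
    rw [← Matrix.GeneralLinearGroup.val_det_apply, MonoidHom.mem_ker.1 hgS]; rfl
  have hd := congrArg Matrix.det hgP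
  rw [Matrix.det_mul, Matrix.det_mul, Matrix.det_mul, hgdet, one_mul,
    show (M.map F₀.subtype).det = F₀.subtype M.det from (RingHom.map_det _ _).symm] at hd
  have hMu : M.det ≠ 0 := fun h0 => hPdet (by rw [hd, h0, map_zero, mul_zero, mul_zero])
  have hM1 : F₀.subtype M.det = 1 := by
    refine (h01 _ ((hmemF _).1 M.det.2)).resolve_left fun h => hMu (Subtype.ext h)
  rw [hM1, mul_one] at hd
  have hldet : l.1.det = 1 := mul_right_cancel₀ hPdet (by rw [one_mul]; exact hd.symm)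
  -- the determinant is the square of the norm
  have hnorm : l.1.det = Algebra.norm F l * Algebra.norm F l := by
    let eE := LinearEquiv.ofBijective E ⟨hEi, hEs⟩
    have hL : Matrix.toLin' l.1 = (eE : (↥K × ↥K) →ₗ[F] (Fin 6 → F)) ∘ₗ
        ((Algebra.lmul F ↥K l).prodMap (Algebra.lmul F ↥K l)) ∘ₗ (eE.symm : (Fin 6 → F) →ₗ[F] (↥K × ↥K)) := by
      refine LinearMap.ext fun v => ?_
      obtain ⟨p, rfl⟩ := hEs v
      rw [LinearMap.comp_apply, LinearMap.comp_apply, LinearEquiv.coe_coe, LinearEquiv.coe_coe,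
        show eE.symm (E p) = p from eE.symm_apply_apply p, Matrix.toLin'_apply, hEmul]
      rfl
    rw [← LinearMap.det_toLin', hL, LinearMap.det_conj, LinearMap.det_prodMap, Algebra.norm_apply]
  have hN1 : Algebra.norm F l = 1 := by
    rw [hnorm] at hldet
    have : (Algebra.norm F l - 1) * (Algebra.norm F l - 1) = 0 := by
      linear_combination hldet - (Algebra.norm F l - 1) * h2
    exact sub_eq_zero.1 (mul_self_eq_zero.1 this)
  have hl21 : l ^ 21 = 1 := by
    have h1 := FiniteField.algebraMap_norm_eq_pow (K := F) (x := l)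
    rw [hN1, map_one, Nat.card_eq_fintype_card, Nat.card_eq_fintype_card, hcardK, hF4] at h1
    norm_num at h1
    exact h1.symm
  -- a scalar times a real element
  obtain ⟨s, hs⟩ : ∃ s : F, algebraMap F ↥K s = l ^ 7 := by
    have hprim : IsPrimitiveRoot w 3 := by
      refine IsPrimitiveRoot.map_of_injective ?_ (algebraMap F ↥K).injective
      haveI : Fact (Nat.Prime 3) := ⟨Nat.prime_three⟩
      have hω0 : ω ≠ 0 := fun h => by rw [h] at hω; simp at hω
      exact (orderOf_eq_prime (UnitFive.cube_eq_one hF4 hω0) hω1) ▸ IsPrimitiveRoot.orderOf ω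
    obtain ⟨i, -, hi⟩ := hprim.eq_pow_of_pow_eq_one (show (l ^ 7) ^ 3 = 1 by rw [← pow_mul]; exact hl21)
    exact ⟨ω ^ i, by rw [map_pow]; exact hi⟩
  have hs0 : s ≠ 0 := fun h => by
    rw [h, map_zero] at hs
    exact hl0 (pow_eq_zero_iff (by norm_num) |>.1 hs.symm)
  have hreal15 : τ (l ^ 15) = l ^ 15 := by
    rw [hpow, ← pow_mul, show 15 * 8 = 21 * 5 + 15 by norm_num, pow_add, pow_mul, hl21, one_pow, one_mul]
  have hls : l.1 = s • (l ^ 15).1 := by
    have : l = algebraMap F ↥K s * l ^ 15 := by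
      rw [hs, ← pow_add, show 7 + 15 = 21 + 1 by norm_num, pow_succ, hl21, one_mul]
    conv_lhs => rw [this]
    show algebraMap F (Matrix (Fin 6) (Fin 6) F) s * _ = _
    rw [Algebra.algebraMap_eq_smul_one, smul_mul_assoc, one_mul]
  have hcols' : ∀ j : Fin 6, ∃ u : Fin 6 → F, (∀ i, u i ∈ F₀) ∧
      g.val *ᵥ (P.val *ᵥ Pi.single j 1) = s • (P.val *ᵥ u) := by
    intro j
    obtain ⟨x, y, hx, hy, e⟩ := hrat (u j) (hu' j)
    obtain ⟨v, hv, e'⟩ := hrat' (l ^ 15 * x) (l ^ 15 * y)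
      (by rw [map_mul, hreal15, hx]) (by rw [map_mul, hreal15, hy])
    exact ⟨v, hv, by rw [hcol, hls, Matrix.smul_mulVec, e, hEmul, e']⟩
  choose v hv hcol' using hcols'
  let M' : Matrix (Fin 6) (Fin 6) F₀ := Matrix.of fun x j => ⟨v j x, hv j x⟩
  have hgP' : g.val * P.val = s • (P.val * M'.map F₀.subtype) := by
    refine Matrix.ext_of_mulVec_single fun j => ?_
    rw [← Matrix.mulVec_mulVec, Matrix.smul_mulVec, ← Matrix.mulVec_mulVec, hcol']
    congr 2
    funext x
    simp [M']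
  have hMu' : M'.det ≠ 0 := fun h0 => by
    have h1 := congrArg Matrix.det hgP'
    rw [Matrix.det_smul, Matrix.det_mul, Matrix.det_mul,
      show (M'.map F₀.subtype).det = F₀.subtype M'.det from (RingHom.map_det _ _).symm, h0, map_zero,
      mul_zero, mul_zero, hgdet, one_mul] at h1
    exact hPdet h1
  let g₀ : GL (Fin 6) F₀ := Matrix.GeneralLinearGroup.mkOfDetNeZero M' hMu'
  refine ⟨Matrix.GeneralLinearGroup.map (F₀.subtype : F₀ →+* F) g₀ * sc (Fin 6) (Units.mk0 s hs0),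
    Subgroup.mul_mem _ (Subgroup.mem_sup_left ⟨g₀, rfl⟩) (Subgroup.mem_sup_right (sc_mem _)),
    Units.ext ?_⟩
  show P.val * ((M'.map F₀.subtype) * (sc (Fin 6) (Units.mk0 s hs0)).val) * (P⁻¹).val = g.val
  rw [Units.mul_inv_eq_iff_eq_mul, hgP', sc_val]
  simp

end Cfsg.Agent.Aschbacher.UnitSix
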