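import Cfsg.Agent.Lib.Aschbacher.UnitSmall
import Cfsg.Agent.Lib.Aschbacher.UnitFiveData

/-!
The stabiliser of an orthonormal frame is not maximal in `SU₆(2)`: it fixes the 126 isotropic points of
weight two, and of weight six with product one, a set which a further transvection fixes too.
-/

set_option autoImplicit false
set_option linter.style.haveILetI false

namespace Cfsg.Agent.Aschbacher.UnitSix

open scoped MatrixGroups Matrix
open Matrix
open Cfsg.Agent.Transvec (mv mv_inj)
open Cfsg.Agent.Aschbacher.UnitFive (tAdd tMul dec dec_add dec_mul dec_inj)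

/-- The coded set: weight two, or weight six with product one. -/
def tS (u : Fin 6 → Fin 4) : Bool :=
  ((Finset.univ.filter fun i => u i ≠ 0).card == 2) ||
    (tMul (tMul (tMul (tMul (tMul (u 0) (u 1)) (u 2)) (u 3)) (u 4)) (u 5) == 1)

/-- The coded transvection with the all-one centre. -/
def tT (u : Fin 6 → Fin 4) : Fin 6 → Fin 4 := fun i =>
  tAdd (u i) (tAdd (tAdd (tAdd (tAdd (tAdd (u 0) (u 1)) (u 2)) (u 3)) (u 4)) (u 5))

set_option maxRecDepth 20000 in
lemma tS_tT : ∀ a b c d e f : Fin 4, tS ![a, b, c, d, e, f] = true →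
    tS (tT ![a, b, c, d, e, f]) = true := by decide +kernel

variable {F : Type*} [Field F]

/-- Weight two, or weight six with product one. -/
def roots : Set (Fin 6 → F) :=
  {u | ({i | u i ≠ 0} : Set (Fin 6)).ncard = 2 ∨ ∏ i, u i = 1}

variable {ω : F} (hω : ω * ω + ω + 1 = 0) (h2 : (2 : F) = 0)
include hω h2

lemma mem_roots_iff (a : Fin 6 → Fin 4) : dec ω ∘ a ∈ (roots : Set (Fin 6 → F)) ↔ tS a = true := by
  have h1 : dec ω (1 : Fin 4) = 1 := rfl
  have h0 : ({i | (dec ω ∘ a) i ≠ 0} : Set (Fin 6)) = ↑(Finset.univ.filter fun i => a i ≠ 0) := by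
    ext i
    have : dec ω (a i) = 0 ↔ a i = 0 :=
      ⟨fun h => dec_inj hω h2 (h.trans (rfl : (0 : F) = dec ω 0)), fun h => by rw [h]; rfl⟩
    simp [this]
  simp only [roots, Set.mem_ofPred_eq]
  rw [h0, Set.ncard_coe_finset]
  simp only [tS, Bool.or_eq_true, beq_iff_eq, Fin.prod_univ_six, Function.comp_apply, ← dec_mul hω h2]
  refine or_congr Iff.rfl ⟨fun h => dec_inj hω h2 (h.trans h1.symm), fun h => by rw [h, h1]⟩

variable [Fintype F]

lemma exists_codes (hF : Fintype.card F = 4) (u : Fin 6 → F) : ∃ a, dec ω ∘ a = u :=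
  ⟨fun i => (UnitFive.exists_code hF hω h2 (u i)).choose,
    funext fun i => (UnitFive.exists_code hF hω h2 (u i)).choose_spec⟩

omit hω h2 in
/-- A monomial matrix of determinant one preserves the set. -/
lemma roots_monomial (h2 : (2 : F) = 0) {g : GL (Fin 6) F} (π : Equiv.Perm (Fin 6))
    (c : Fin 6 → F) (hg : g.val = Matrix.diagonal c * π.permMatrix F) (hdet : g.val.det = 1)
    {u : Fin 6 → F} (hu : u ∈ (roots : Set (Fin 6 → F))) : mv g u ∈ (roots : Set (Fin 6 → F)) := by
  have happ : ∀ i, mv g u i = c i * u (π i) := fun i => by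
    show (g.val *ᵥ u) i = _
    rw [hg, ← Matrix.mulVec_mulVec, Matrix.permMatrix_mulVec, Matrix.mulVec_diagonal]
    rfl
  have hprod : ∏ i, c i = 1 := by
    rw [hg, Matrix.det_mul, Matrix.det_diagonal, Matrix.det_permutation] at hdet
    rcases Int.units_eq_one_or (Equiv.Perm.sign π) with h | h <;> rw [h] at hdet
    · simpa using hdet
    · have : ((-1 : ℤˣ) : F) = 1 := by
        push_cast
        linear_combination -h2
      rwa [this, mul_one] at hdet
  have hc : ∀ i, c i ≠ 0 := fun i h => by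
    rw [Finset.prod_eq_zero (Finset.mem_univ i) h] at hprod
    exact zero_ne_one hprod
  rcases hu with hu | hu
  · refine Or.inl ?_
    rw [show ({i | mv g u i ≠ 0} : Set (Fin 6)) = π ⁻¹' {i | u i ≠ 0} from Set.ext fun i => by
      simp [happ, hc i], Set.ncard_preimage_of_injective_subset_range π.injective (by simp)]
    exact hu
  · refine Or.inr ?_
    simp only [happ, Finset.prod_mul_distrib, hprod, one_mul, Equiv.prod_comp π u]
    exact hu

omit hω h2 in
/-- The stabiliser of the set. -/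
def rootStab : Subgroup (GL (Fin 6) F) where
  carrier := {g | mv g '' (roots : Set (Fin 6 → F)) = roots}
  one_mem' := by simp [Transvec.mv]
  mul_mem' {a b} ha hb := by
    simp only [Set.mem_ofPred_eq] at ha hb ⊢
    conv_rhs => rw [← ha, ← hb]
    rw [Set.image_image]
    simp [Transvec.mv, Matrix.mulVec_mulVec]
  inv_mem' {a} ha := by
    simp only [Set.mem_ofPred_eq] at ha ⊢
    conv_lhs => rw [← ha]
    rw [Set.image_image]
    simp [Transvec.mv, Matrix.mulVec_mulVec]

omit hω h2 in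
lemma mem_rootStab {g : GL (Fin 6) F} (h : ∀ u ∈ (roots : Set (Fin 6 → F)), mv g u ∈ roots) :
    g ∈ (rootStab : Subgroup (GL (Fin 6) F)) :=
  Set.eq_of_subset_of_ncard_le (Set.image_subset_iff.2 h)
    (by rw [Set.ncard_image_of_injective _ (fun a b h => mv_inj g h)]) (Set.toFinite _)

omit hω h2 in
/-- The stabiliser of a decomposition into six orthogonal lines is not maximal over four elements. -/
theorem frame_not_maximal {q : ℕ} (hF : Fintype.card F = q ^ 2) (hq : q = 2)
    {D : Fin 6 → Submodule F (Fin 6 → F)}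
    (hD : Geo.IsNondegenerateMDecomposition (hermForm 6 F q) 1 D) {H : Subgroup (GL (Fin 6) F)}
    (hH : Geo.IsMaximalIn (GU 6 F q ⊓ Geo.specialLinear (Fin 6) F) H)
    (he : H = Geo.decompositionStabilizer D ⊓ (GU 6 F q ⊓ Geo.specialLinear (Fin 6) F)) : False := by
  classical
  subst hq
  have hF4 : Fintype.card F = 4 := by rw [hF]; norm_num
  obtain ⟨σ, hσ, hu, hfix⟩ := UnitaryStd.exists_setup (n := 6) hF (by norm_num)
  have h01 := fixed_zero_one hu hfix
  obtain ⟨ω, hω, h2⟩ := UnitFive.exists_omega hF4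
  haveI : CharP F 2 := CharTwo.of_one_ne_zero_of_two_eq_zero one_ne_zero h2
  -- unit vectors on the lines
  have hunit : ∀ i, ∃ v ∈ D i, hermForm 6 F 2 v v = 1 := by
    intro i
    have h0 : D i ≠ ⊥ := fun h => by
      have := hD.decomp.finrank_eq i
      rw [h, finrank_bot] at this
      exact zero_ne_one this
    obtain ⟨v, hv, hvv⟩ := Transvec.Herm.exists_anisotropic hu
      (nondeg_of_isNondegenerateOn hu (hD.nondegenerate i)) h0
    exact ⟨v, hv, (h01 _ (Transvec.Herm.self_fixed hu v)).resolve_left hvv⟩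
  choose v hvD hv1 using hunit
  have hspan : ∀ i x, x ∈ D i → ∃ c : F, x = c • v i := by
    intro i x hx
    have hv0 : (⟨v i, hvD i⟩ : D i) ≠ 0 := fun h => by
      have h1 := hv1 i
      rw [show v i = 0 from congrArg Subtype.val h, Transvec.Herm.zero_left hu] at h1
      exact zero_ne_one h1
    obtain ⟨c, hc⟩ := (finrank_eq_one_iff_of_nonzero' _ hv0).1 (hD.decomp.finrank_eq i) ⟨x, hx⟩
    exact ⟨c, (congrArg Subtype.val hc).symm⟩
  have hvv : ∀ i j, hermForm 6 F 2 (v i) (v j) = if i = j then 1 else 0 := by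
    intro i j
    split_ifs with h
    · rw [h, hv1]
    · exact hD.orthogonal i j h _ (hvD i) _ (hvD j)
  let Q : Matrix (Fin 6) (Fin 6) F := Matrix.of fun x a => v a x
  have hQv : ∀ u : Fin 6 → F, Q *ᵥ u =
      u 0 • v 0 + u 1 • v 1 + u 2 • v 2 + u 3 • v 3 + u 4 • v 4 + u 5 • v 5 := by
    intro u
    funext x
    simp [Q, Matrix.mulVec, dotProduct, Fin.sum_univ_six, mul_comm]
  have hQf : ∀ x y, hermForm 6 F 2 (Q *ᵥ x) (Q *ᵥ y) = hermForm 6 F 2 x y := by
    intro x y
    rw [hQv, hQv]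
    simp only [hu.add_left, Transvec.Herm.add_right hu, hu.smul_left, Transvec.Herm.smul_right hu,
      hvv, Fin.reduceEq, if_true, if_false, mul_one, mul_zero, add_zero, zero_add]
    simp [hermForm, Fin.sum_univ_six, hσ]
  have hQu : IsUnit Q := (Matrix.mulVec_injective_iff_isUnit (A := Q)).1 fun x y h => by
    by_contra hne
    obtain ⟨z, hz⟩ := (hu.nondegenerate _ (sub_ne_zero.2 hne)).2
    rw [← hQf, Matrix.mulVec_sub, sub_eq_zero.2 h, Transvec.Herm.zero_left hu] at hz
    exact hz rfl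
  set P : GL (Fin 6) F := hQu.unit with hP
  have hPv : P.val = Q := hQu.unit_spec
  have hPG : P ∈ GU 6 F 2 := fun x y => by
    show hermForm 6 F 2 (P.val *ᵥ x) (P.val *ᵥ y) = _
    rw [hPv, hQf]
  have hPe : ∀ i, mv P (Pi.single i 1) = v i := fun i => by
    show P.val *ᵥ _ = _
    rw [hPv, Matrix.mulVec_single_one]
    rfl
  set G := GU 6 F 2 ⊓ Geo.specialLinear (Fin 6) F with hG
  have hconjG : ∀ g, g ∈ G → P⁻¹ * g * P ∈ G := fun g hg =>
    ⟨Subgroup.mul_mem _ (Subgroup.mul_mem _ (Subgroup.inv_mem _ hPG) hg.1) hPG,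
      MonoidHom.mem_ker.2 (by
        rw [map_mul, map_mul, MonoidHom.mem_ker.1 hg.2, map_inv, mul_one, inv_mul_cancel])⟩
  let X : Subgroup (GL (Fin 6) F) :=
    (rootStab.map (MulAut.conj P).toMonoidHom) ⊓ G
  have hmemX : ∀ g, g ∈ G → P⁻¹ * g * P ∈ (rootStab : Subgroup (GL (Fin 6) F)) → g ∈ X :=
    fun g hg h => ⟨⟨_, h, by simp [mul_assoc]⟩, hg⟩
  have hHX : H ≤ X := by
    intro g hg
    rw [he] at hg
    obtain ⟨⟨π, hπ⟩, hgG⟩ := hg
    refine hmemX g hgG (mem_rootStab ?_)
    have hcol : ∀ i, ∃ c : F, mv g (v i) = c • v (π i) := fun i =>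
      hspan _ _ (hπ i ▸ ⟨v i, hvD i, Matrix.toLin'_apply _ _⟩)
    choose c hc using hcol
    have hmat : (P⁻¹ * g * P).val = Matrix.diagonal (fun i => c (π.symm i)) * Equiv.Perm.permMatrix F π.symm := by
      refine Matrix.ext_of_mulVec_single fun j => ?_
      have h1 : (P⁻¹ * g * P).val *ᵥ Pi.single j 1 = mv P⁻¹ (mv g (mv P (Pi.single j 1))) := by
        simp only [Transvec.mv, Matrix.mulVec_mulVec, mul_assoc, Units.val_mul]
      rw [h1, hPe, hc, ← hPe (π j)]
      simp only [Transvec.mv, Matrix.mulVec_smul, Matrix.mulVec_mulVec, Units.inv_mul,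
        Matrix.one_mulVec]
      rw [← Matrix.mulVec_mulVec, Matrix.permMatrix_mulVec]
      funext i
      rw [Matrix.mulVec_diagonal, Pi.smul_apply, smul_eq_mul, Function.comp_apply]
      by_cases h : i = π j
      · subst h; simp
      · rw [Pi.single_eq_of_ne h, Pi.single_eq_of_ne fun h' => h (by rw [← h', Equiv.apply_symm_apply])]
        ring
    refine fun u hu' => roots_monomial h2 _ _ hmat ?_ hu'
    rw [← Matrix.GeneralLinearGroup.val_det_apply, MonoidHom.mem_ker.1 (hconjG g hgG).2]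
    rfl
  have hone : hermForm 6 F 2 (fun _ => (1 : F)) (fun _ => (1 : F)) = 0 := by
    simp [hermForm]
    linear_combination 3 * h2
  have hσ1 : σ (1 : F) = -1 := by rw [map_one]; linear_combination h2
  set T : GL (Fin 6) F := Transvec.Herm.htv hu _ hone 1 with hT
  have hTG : T ∈ G := ⟨Transvec.Herm.htv_mem hu _ hone hσ1, Transvec.Herm.htv_mem_specialLinear hu _ hone 1⟩
  have hTR : T ∈ (rootStab : Subgroup (GL (Fin 6) F)) := mem_rootStab fun u hu' => by
    obtain ⟨a, rfl⟩ := exists_codes hω h2 hF4 u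
    have ha : a = ![a 0, a 1, a 2, a 3, a 4, a 5] := by funext i; fin_cases i <;> rfl
    have hTa : mv T (dec ω ∘ a) = dec ω ∘ tT a := by
      rw [hT, Transvec.Herm.mv_htv]
      funext i
      simp [hermForm, Fin.sum_univ_six, tT, dec_add hω h2]
    rw [hTa, mem_roots_iff hω h2, ha]
    rw [mem_roots_iff hω h2, ha] at hu'
    exact tS_tT _ _ _ _ _ _ hu'
  have hPT : P * T * P⁻¹ ∈ G :=
    ⟨Subgroup.mul_mem _ (Subgroup.mul_mem _ hPG hTG.1) (Subgroup.inv_mem _ hPG),
      MonoidHom.mem_ker.2 (by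
        rw [map_mul, map_mul, MonoidHom.mem_ker.1 hTG.2, map_inv, mul_one, mul_inv_cancel])⟩
  rcases hH.2 X hHX inf_le_right with hX | hX
  · -- the transvection is not monomial
    have hm : P * T * P⁻¹ ∈ H := hX ▸ hmemX _ hPT (by simpa [mul_assoc] using hTR)
    rw [he] at hm
    obtain ⟨⟨π, hπ⟩, -⟩ := hm
    obtain ⟨c, hc⟩ := hspan _ _ (hπ 0 ▸ ⟨v 0, hvD 0, rfl⟩ :
      Matrix.toLin' (P * T * P⁻¹).val (v 0) ∈ D (π 0))
    rw [Matrix.toLin'_apply, ← hPe 0, ← hPe (π 0)] at hc
    have h1 : mv P (mv T (Pi.single 0 1)) = mv P (c • Pi.single (π 0) 1) := by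
      simp only [Transvec.mv] at hc ⊢
      rw [Matrix.mulVec_smul, ← hc, Matrix.mulVec_mulVec, Matrix.mulVec_mulVec]
      congr 1
      simp [mul_assoc]
    have h3 := mv_inj P h1
    rw [hT, Transvec.Herm.mv_htv] at h3
    have h4 : ∀ i : Fin 6, i ≠ 0 → i = π 0 := fun i hi => by
      by_contra h
      have := congrFun h3 i
      simp [hermForm, Pi.single_eq_of_ne h, Pi.single_eq_of_ne hi, Fin.sum_univ_six] at this
    exact absurd ((h4 1 (by decide)).trans (h4 2 (by decide)).symm) (by decide)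
  · -- the whole group does not preserve the set
    let z : Fin 6 → F := ![ω, ω + 1, 1, 1, 0, 0]
    have hz : hermForm 6 F 2 z z = 0 := by
      simp [z, hermForm, Fin.sum_univ_six]
      linear_combination (ω ^ 3) * h2 + 3 * hω
    set S : GL (Fin 6) F := Transvec.Herm.htv hu z hz 1 with hS
    have hSG : S ∈ G := ⟨Transvec.Herm.htv_mem hu _ hz hσ1, Transvec.Herm.htv_mem_specialLinear hu _ hz 1⟩
    have hSG' : P * S * P⁻¹ ∈ X := hX ▸
      ⟨Subgroup.mul_mem _ (Subgroup.mul_mem _ hPG hSG.1) (Subgroup.inv_mem _ hPG),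
        MonoidHom.mem_ker.2 (by
          rw [map_mul, map_mul, MonoidHom.mem_ker.1 hSG.2, map_inv, mul_one, mul_inv_cancel])⟩
    obtain ⟨S', hS', hSS⟩ := hSG'.1
    obtain rfl : S' = S := mul_left_cancel (mul_right_cancel (show P * S' * P⁻¹ = P * S * P⁻¹ from hSS))
    let x : Fin 6 → F := dec ω ∘ ![1, 1, 0, 0, 0, 0]
    have hx : x ∈ (roots : Set (Fin 6 → F)) := (mem_roots_iff hω h2 _).2 (by decide)
    have hSx : mv S x ∈ (roots : Set (Fin 6 → F)) := by
      rw [← (show mv S '' roots = roots from hS')]; exact ⟨x, hx, rfl⟩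
    have hval : mv S x = dec ω ∘ ![3, 2, 1, 1, 0, 0] := by
      rw [hS, Transvec.Herm.mv_htv]
      have hc : hermForm 6 F 2 x z = 1 := by
        simp [x, z, hermForm, Fin.sum_univ_six, dec]
        linear_combination (ω * ω + ω) * h2
      rw [hc]
      funext i
      fin_cases i <;> simp [x, z, dec]
      · ring
      · linear_combination h2
    rw [hval, mem_roots_iff hω h2] at hSx
    exact absurd hSx (by decide)

end Cfsg.Agent.Aschbacher.UnitSix
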