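import Cfsg.Agent.Lib.Aschbacher.UnitMaximal

/-!
The unitary groups over four elements: a non-degenerate plane has two anisotropic points only, so
some stabilisers lie in stabilisers of decompositions.
-/

set_option autoImplicit false
set_option linter.style.haveILetI false

namespace Cfsg.Agent.Aschbacher

open scoped MatrixGroups Matrix Kronecker
open Matrix
open Cfsg.Agent.Transvec (mv)

variable {ι : Type} [Fintype ι] [DecidableEq ι] {F : Type*} [Field F]
variable {σ : F ≃+* F} {f : (ι → F) → (ι → F) → F}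

lemma nondeg_of_isNondegenerateOn (hu : Geo.IsUnitaryForm σ f) {W : Submodule F (ι → F)}
    (hW : Geo.IsNondegenerateOn f W) : Transvec.Herm.Nondeg hu W :=
  (Transvec.Herm.nondeg_iff hu).2 fun u hu' h => by
    by_contra h0
    obtain ⟨⟨x, hx, hxu⟩, -⟩ := hW u hu' h0
    exact hxu (h x hx)

/-- Mutually orthogonal non-degenerate subspaces of full dimension form a decomposition. -/
lemma nondegDecomp_of_orth (hu : Geo.IsUnitaryForm σ f) {t k : ℕ}
    {E : Fin t → Submodule F (ι → F)} (ht : 2 ≤ t) (hk : 0 < k)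
    (hfr : ∀ i, Module.finrank F (E i) = k) (hn : t * k = Fintype.card ι)
    (hnd : ∀ i, Geo.IsNondegenerateOn f (E i))
    (horth : ∀ i j, i ≠ j → ∀ u ∈ E i, ∀ v ∈ E j, f u v = 0) :
    Geo.IsNondegenerateMDecomposition f k E := by
  classical
  have hle : ∀ (i : Fin t) (j : Fin t), j ≠ i → E j ≤ Transvec.Herm.orth hu (E i) :=
    fun i j hj v hv u hu' => horth i j hj.symm u hu' v hv
  have hbot : ∀ i, E i ⊓ Transvec.Herm.orth hu (E i) = ⊥ :=
    fun i => nondeg_of_isNondegenerateOn hu (hnd i)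
  have hindep : iSupIndep E := fun i =>
    (disjoint_iff.2 (hbot i)).mono_right (iSup₂_le fun j hj => hle i j hj)
  have hsum : ∀ s : Finset (Fin t), Module.finrank F (s.sup E : Submodule F (ι → F)) = s.card * k := by
    intro s
    induction s using Finset.induction_on with
    | empty => simp
    | insert i s hi ih =>
      have hd : E i ⊓ s.sup E = ⊥ := le_bot_iff.1 ((inf_le_inf_left _ (Finset.sup_le fun j hj =>
        hle i j fun h => hi (h ▸ hj))).trans (hbot i).le)
      have h := Submodule.finrank_sup_add_finrank_inf_eq (E i) (s.sup E)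
      rw [hd, finrank_bot, add_zero, hfr, ih] at h
      rw [Finset.sup_insert, h, Finset.card_insert_of_notMem hi]
      ring
  refine ⟨⟨ht, hk, hfr, hindep, ?_⟩, hnd, fun i j hij => horth i j hij⟩
  refine Submodule.eq_top_of_finrank_eq ?_
  rw [← Finset.sup_univ_eq_iSup, hsum, Finset.card_univ, Fintype.card_fin, hn,
    Module.finrank_pi]

variable (h01 : ∀ x : F, σ x = x → x = 0 ∨ x = 1)

include h01

/-- Over four elements a non-degenerate plane has two anisotropic points, and they are orthogonal. -/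
lemma exists_two_points [Finite F] (hu : Geo.IsUnitaryForm σ f) {X : Submodule F (ι → F)}
    (hX : Geo.IsNondegenerateOn f X) (h2 : Module.finrank F X = 2) :
    ∃ v : Fin 2 → (ι → F), (∀ s, v s ∈ X ∧ f (v s) (v s) = 1) ∧ f (v 0) (v 1) = 0 ∧
      ∀ x ∈ X, f x x ≠ 0 → ∃ (s : Fin 2) (c : F), c ≠ 0 ∧ x = c • v s := by
  classical
  have hnd := nondeg_of_isNondegenerateOn hu hX
  have hX0 : X ≠ ⊥ := fun h => by rw [h, finrank_bot] at h2; omega
  have h11 : (1 : F) + 1 = 0 := (h01 ((1 : F) + 1) (by rw [map_add, map_one])).resolve_right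
    (fun h : (1 : F) + 1 = 1 => one_ne_zero (add_eq_left.1 h))
  have hone : ∀ y : ι → F, f y y ≠ 0 → f y y = 1 :=
    fun y hy => (h01 _ (Transvec.Herm.self_fixed hu y)).resolve_left hy
  have hnorm : ∀ c : F, c ≠ 0 → c * σ c = 1 := fun c hc =>
    (h01 _ (by rw [map_mul, hu.involutive, mul_comm])).resolve_left
      (mul_ne_zero hc ((map_ne_zero_iff σ σ.injective).2 hc))
  obtain ⟨a, ha, haa⟩ := Transvec.Herm.exists_anisotropic hu hnd hX0
  have hsub : Submodule.span F {a} ≤ X := (Submodule.span_singleton_le_iff_mem _ _).2 ha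
  have hsum := Transvec.Herm.finrank_inf_orth_add hu (Transvec.Herm.nondeg_span_single hu haa) hsub
  rw [Transvec.Herm.finrank_span_single hu haa, h2] at hsum
  have hnY : Transvec.Herm.Nondeg hu (X ⊓ Transvec.Herm.orth hu (Submodule.span F {a})) := by
    exact Transvec.Herm.nondeg_inf_orth hu (Transvec.Herm.nondeg_span_single hu haa) hnd hsub
  obtain ⟨b, hb, hbb⟩ := Transvec.Herm.exists_anisotropic hu hnY
    (fun h => by rw [h, finrank_bot] at hsum; omega)
  have hab : f a b = 0 := hb.2 a (Submodule.mem_span_singleton_self a)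
  refine ⟨![a, b], fun s => ?_, hab, ?_⟩
  · fin_cases s
    · exact ⟨ha, hone _ haa⟩
    · exact ⟨hb.1, hone _ hbb⟩
  intro x hx hxx
  have hspan : X ≤ Submodule.span F {a, b} := by
    have hle : Submodule.span F ({a, b} : Set (ι → F)) ≤ X := Submodule.span_le.2 (by
      intro v hv
      rcases hv with rfl | hv
      · exact ha
      · rw [Set.mem_singleton_iff.1 hv]; exact hb.1)
    refine (Submodule.eq_of_le_of_finrank_le hle ?_).ge
    have hlt : Submodule.span F {a} < Submodule.span F {a, b} :=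
      lt_of_le_not_ge (Submodule.span_mono (by simp)) fun h => by
        obtain ⟨c, hc⟩ := Submodule.mem_span_singleton.1
          (h (Submodule.subset_span (Set.mem_insert_of_mem a rfl)))
        rw [← hc, Transvec.Herm.smul_right hu, mul_eq_zero] at hab
        have : c = 0 := (map_eq_zero_iff σ σ.injective).1 (hab.resolve_right haa)
        exact hbb (by rw [← hc, this, zero_smul]; exact Transvec.Herm.zero_left hu 0)
    have := Submodule.finrank_lt_finrank_of_lt hlt
    rw [Transvec.Herm.finrank_span_single hu haa] at this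
    omega
  obtain ⟨α, β, rfl⟩ := Submodule.mem_span_pair.1 (hspan hx)
  have hexp : f (α • a + β • b) (α • a + β • b) = α * σ α + β * σ β := by
    rw [hu.add_left, Transvec.Herm.add_right hu, Transvec.Herm.add_right hu, hu.smul_left,
      hu.smul_left, hu.smul_left, hu.smul_left, Transvec.Herm.smul_right hu,
      Transvec.Herm.smul_right hu, Transvec.Herm.smul_right hu, Transvec.Herm.smul_right hu, hab,
      (Transvec.Herm.f_eq_zero_comm hu).1 hab, hone _ haa, hone _ hbb]
    ring
  by_cases hα : α = 0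
  · refine ⟨1, β, fun h => hxx ?_, by simp [hα]⟩
    rw [hexp, hα, h, zero_mul, zero_add]
  by_cases hβ : β = 0
  · exact ⟨0, α, hα, by simp [hβ]⟩
  exact absurd (by rw [hexp, hnorm α hα, hnorm β hβ, h11]) hxx

/-- Over four elements a decomposition into planes refines to one into lines. -/
theorem lines_of_planes [Finite F] (hu : Geo.IsUnitaryForm σ f) {t : ℕ}
    {D : Fin t → Submodule F (ι → F)} (hD : Geo.IsNondegenerateMDecomposition f 2 D) :
    ∃ E : Fin (t * 2) → Submodule F (ι → F), Geo.IsNondegenerateMDecomposition f 1 E ∧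
      ∀ g ∈ Geo.decompositionStabilizer D,
        (∀ u v, f (mv g u) (mv g v) = f u v) → g ∈ Geo.decompositionStabilizer E := by
  classical
  choose w hw hw01 hwall using fun i => exists_two_points h01 hu (hD.nondegenerate i) (hD.decomp.finrank_eq i)
  let ε : Fin (t * 2) ≃ Fin t × Fin 2 := finProdFinEquiv.symm
  let V : Fin (t * 2) → ι → F := fun j => w (ε j).1 (ε j).2
  let E : Fin (t * 2) → Submodule F (ι → F) := fun j => Submodule.span F {V j}
  have hV1 : ∀ j, f (V j) (V j) = 1 := fun j => (hw _ _).2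
  have hV0 : ∀ j, f (V j) (V j) ≠ 0 := fun j => by rw [hV1]; exact one_ne_zero
  have hVorth : ∀ i j, i ≠ j → f (V i) (V j) = 0 := by
    intro i j hij
    by_cases h : (ε i).1 = (ε j).1
    · have h2 : (ε i).2 ≠ (ε j).2 := fun h' => hij (ε.injective (Prod.ext h h'))
      have h3 : ((ε i).2 = 0 ∧ (ε j).2 = 1) ∨ ((ε i).2 = 1 ∧ (ε j).2 = 0) := by omega
      show f (w _ _) (w _ _) = 0
      rw [h]
      rcases h3 with ⟨e1, e2⟩ | ⟨e1, e2⟩ <;> rw [e1, e2]
      · exact hw01 _
      · exact (Transvec.Herm.f_eq_zero_comm hu).1 (hw01 _)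
    · exact hD.orthogonal _ _ h _ (hw _ _).1 _ (hw _ _).1
  have hE : Geo.IsNondegenerateMDecomposition f 1 E := by
    refine nondegDecomp_of_orth hu ?_ one_pos (fun j => Transvec.Herm.finrank_span_single hu (hV0 j))
      ?_ (fun j x hx hx0 => ?_) fun i j hij u hu' v hv => ?_
    · have := hD.decomp.two_le; omega
    · rw [mul_one]; exact mdecomp_card hD.decomp
    · obtain ⟨c, rfl⟩ := Submodule.mem_span_singleton.1 hx
      have hc : c ≠ 0 := fun h => hx0 (by rw [h, zero_smul])
      refine ⟨⟨V j, Submodule.mem_span_singleton_self _, ?_⟩, ⟨V j, Submodule.mem_span_singleton_self _, ?_⟩⟩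
      · rw [Transvec.Herm.smul_right hu, hV1, mul_one]
        exact (map_ne_zero_iff σ σ.injective).2 hc
      · rw [hu.smul_left, hV1, mul_one]; exact hc
    · obtain ⟨a, rfl⟩ := Submodule.mem_span_singleton.1 hu'
      obtain ⟨b, rfl⟩ := Submodule.mem_span_singleton.1 hv
      rw [hu.smul_left, Transvec.Herm.smul_right hu, hVorth i j hij, mul_zero, mul_zero]
  refine ⟨E, hE, fun g hg hgf => ?_⟩
  obtain ⟨τ, hτ⟩ := hg
  have hmap : ∀ j, ∃ j', (E j).map (Matrix.toLin' (g : Matrix ι ι F)) = E j' := by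
    intro j
    have hmem : mv g (V j) ∈ D (τ (ε j).1) :=
      hτ _ ▸ ⟨V j, (hw _ _).1, Matrix.toLin'_apply _ _⟩
    obtain ⟨s, c, hc, hs⟩ := hwall _ _ hmem (by rw [hgf]; exact hV0 j)
    refine ⟨ε.symm (τ (ε j).1, s), ?_⟩
    show (Submodule.span F {V j}).map _ = Submodule.span F {V _}
    rw [Submodule.map_span, Set.image_singleton, Matrix.toLin'_apply]
    change F ∙ mv g (V j) = _
    rw [hs]
    simp only [V, Equiv.apply_symm_apply]
    exact Submodule.span_singleton_smul_eq hc.isUnit _
  choose r hr using hmap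
  have hrinj : Function.Injective r := fun i j hij => by
    by_contra hne
    have h : E i = E j := Submodule.map_injective_of_injective (f := Matrix.toLin' (g : Matrix ι ι F))
      (fun x y h => Transvec.mv_inj g (by simpa [Matrix.toLin'_apply] using h)) (by rw [hr, hr, hij])
    obtain ⟨c, hc⟩ := Submodule.mem_span_singleton.1
      ((le_of_eq h) (Submodule.mem_span_singleton_self (V i)))
    refine hV0 i ?_
    nth_rw 2 [← hc]
    rw [Transvec.Herm.smul_right hu, hVorth i j hne, mul_zero]
  exact ⟨Equiv.ofBijective r (Finite.injective_iff_bijective.1 hrinj), hr⟩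

/-- Over four elements a tensor decomposition with a plane factor refines to a decomposition into two
blocks. -/
theorem blocks_of_tensor_two [Finite F] (hu : Geo.IsUnitaryForm σ f) {n₂ : ℕ} (hn : 0 < n₂)
    {e : ι ≃ Fin 2 × Fin n₂} {P : GL ι F} {f₁ : (Fin 2 → F) → (Fin 2 → F) → F}
    {f₂ : (Fin n₂ → F) → (Fin n₂ → F) → F} (hf₁ : Geo.IsUnitaryForm σ f₁)
    (hf₂ : Geo.IsUnitaryForm σ f₂) (hstr : Geo.IsTensorFormStructure σ f f₁ f₂ e P) :
    ∃ E : Fin 2 → Submodule F (ι → F), Geo.IsNondegenerateMDecomposition f n₂ E ∧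
      ∀ g ∈ Geo.tensorProductSubgroup 2 n₂ e P,
        (∀ u v, f (mv g u) (mv g v) = f u v) → g ∈ Geo.decompositionStabilizer E := by
  classical
  haveI : NeZero n₂ := ⟨hn.ne'⟩
  obtain ⟨u, hu1, hu01, huall⟩ := exists_two_points h01 hf₁
    (X := ⊤) (fun w _ hw => ⟨(hf₁.nondegenerate w hw).1.imp fun x hx => ⟨trivial, hx⟩,
      (hf₁.nondegenerate w hw).2.imp fun x hx => ⟨trivial, hx⟩⟩)
    (by rw [finrank_top, Module.finrank_pi, Fintype.card_fin])
  obtain ⟨c₀, hc₀, hform⟩ := hstr
  set A := Geo.gramMatrix f₁ with hA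
  set B := Geo.gramMatrix f₂ with hB
  have hfA : f₁ = sesqOf σ A := exists_gram (σ := σ) hf₁.add_left hf₁.smul_left
    (Transvec.Herm.add_right hf₁) fun c v x => Transvec.Herm.smul_right hf₁ c v x
  have hfB : f₂ = sesqOf σ B := exists_gram (σ := σ) hf₂.add_left hf₂.smul_left
    (Transvec.Herm.add_right hf₂) fun c v x => Transvec.Herm.smul_right hf₂ c v x
  let L : (Fin 2 → F) → (Fin n₂ → F) →ₗ[F] ι → F := fun x => (Matrix.toLin' (P : Matrix ι ι F)).comp
    (LinearMap.pi fun p => x (e p).1 • LinearMap.proj (e p).2)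
  have hL : ∀ x z, L x z = (P : Matrix ι ι F) *ᵥ ((fun p => x p.1 * z p.2) ∘ e) := fun x z => rfl
  have hLf : ∀ x x' z z', f (L x z) (L x' z') = c₀ * (f₁ x x' * f₂ z z') := by
    intro x x' z z'
    rw [hL, hL, hform, hfA, hfB]
    congr 1
    have key : ∀ (α : Fin 2 → Fin 2 → F) (β : Fin n₂ → Fin n₂ → F),
        (∑ p : Fin 2 × Fin n₂, ∑ q : Fin 2 × Fin n₂, α p.1 q.1 * β p.2 q.2) =
          (∑ i, ∑ j, α i j) * ∑ k, ∑ l, β k l := fun α β => by
      rw [Finset.sum_mul_sum, Fintype.sum_prod_type]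
      refine Finset.sum_congr rfl fun i _ => Finset.sum_congr rfl fun k _ => ?_
      rw [Finset.sum_mul_sum, Fintype.sum_prod_type]
    have hs : ∀ {m : ℕ} (G : Matrix (Fin m) (Fin m) F) (x y : Fin m → F),
        sesqOf σ G x y = ∑ i, ∑ j, x i * (G i j * σ (y j)) := fun G x y => by
      simp [sesqOf, dotProduct, Matrix.mulVec, Finset.mul_sum]
    rw [hs, hs, ← key]
    simp only [Geo.formOfGram, Matrix.kroneckerMap_apply, map_mul]
    refine Finset.sum_congr rfl fun p _ => Finset.sum_congr rfl fun q _ => ?_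
    ring
  have hLinj : ∀ s, Function.Injective (L (u s)) := fun s => (injective_iff_map_eq_zero _).2 fun z hz => by
    by_contra hz0
    obtain ⟨-, y, hy⟩ := hf₂.nondegenerate z hz0
    have h := hLf (u s) (u s) z y
    rw [hz, Transvec.Herm.zero_left hu, (hu1 s).2, one_mul] at h
    exact mul_ne_zero hc₀ hy h.symm
  let E : Fin 2 → Submodule F (ι → F) := fun s => LinearMap.range (L (u s))
  have hfr : ∀ s, Module.finrank F (E s) = n₂ := fun s => by
    rw [LinearMap.finrank_range_of_inj (hLinj s), Module.finrank_fin_fun]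
  have hE : Geo.IsNondegenerateMDecomposition f n₂ E := by
    refine nondegDecomp_of_orth hu le_rfl hn hfr ?_ (fun s => ?_) fun i j hij => ?_
    · simp [Fintype.card_congr e]
    · rintro _ ⟨z, rfl⟩ hne
      have hz : z ≠ 0 := fun h => hne (by rw [h, map_zero])
      obtain ⟨⟨x, hx⟩, ⟨y, hy⟩⟩ := hf₂.nondegenerate z hz
      refine ⟨⟨L (u s) x, ⟨x, rfl⟩, ?_⟩, ⟨L (u s) y, ⟨y, rfl⟩, ?_⟩⟩ <;>
        rw [hLf, (hu1 s).2, one_mul]
      · exact mul_ne_zero hc₀ hx
      · exact mul_ne_zero hc₀ hy
    · rintro _ ⟨z, rfl⟩ _ ⟨z', rfl⟩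
      have h0 : f₁ (u i) (u j) = 0 := by
        fin_cases i <;> fin_cases j
        · exact absurd rfl hij
        · exact hu01
        · exact (Transvec.Herm.f_eq_zero_comm hf₁).1 hu01
        · exact absurd rfl hij
      rw [hLf, h0, zero_mul, mul_zero]
  refine ⟨E, hE, fun g hg hgf => ?_⟩
  obtain ⟨_, ⟨k, ⟨a, b, hk⟩, rfl⟩, rfl⟩ := hg
  set g := (MulAut.conj P).toMonoidHom ((Geo.glReindex e.symm).toMonoidHom k) with hg
  have hact : ∀ x z, mv g (L x z) = L (mv a x) (mv b z) := by
    intro x z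
    have hgv : (g : Matrix ι ι F) = cj P (k.val.submatrix e e) := by
      simp [hg, cj_apply, Geo.glReindex]
    show (g : Matrix ι ι F) *ᵥ L x z = _
    rw [hgv, hL, cj_apply, Matrix.mulVec_mulVec, Units.inv_mul_cancel_right, ← Matrix.mulVec_mulVec,
      Matrix.submatrix_mulVec_equiv, Function.comp_assoc, Equiv.self_comp_symm, Function.comp_id,
      hL, hk]
    congr 1
    funext p
    simp only [Function.comp_apply, Matrix.mulVec, dotProduct, Fintype.sum_prod_type,
      Matrix.kroneckerMap_apply, Finset.sum_mul_sum]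
    refine Finset.sum_congr rfl fun i _ => Finset.sum_congr rfl fun j _ => ?_
    ring
  obtain ⟨z₀, -, hz₀⟩ := Transvec.Herm.exists_anisotropic hf₂ (Transvec.Herm.nondeg_top hf₂) (fun h => by
    have := congrArg (fun W : Submodule F (Fin n₂ → F) => Module.finrank F W) h
    simp [finrank_top, Module.finrank_pi] at this
    omega)
  have hmap : ∀ s, ∃ s', (E s).map (Matrix.toLin' (g : Matrix ι ι F)) = E s' := by
    intro s
    have h := hgf (L (u s) z₀) (L (u s) z₀)
    rw [hact, hLf, hLf, (hu1 s).2, one_mul] at h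
    have hne : f₁ (mv a (u s)) (mv a (u s)) ≠ 0 := fun h0 => by
      rw [h0, zero_mul, mul_zero] at h
      exact mul_ne_zero hc₀ hz₀ h.symm
    obtain ⟨s', c, hc, hs⟩ := huall _ Submodule.mem_top hne
    refine ⟨s', Submodule.eq_of_le_of_finrank_le ?_ ?_⟩
    · rintro _ ⟨_, ⟨z, rfl⟩, rfl⟩
      refine ⟨c • mv b z, ?_⟩
      rw [Matrix.toLin'_apply]
      show _ = mv g (L (u s) z)
      rw [hact, hs, hL, hL]
      congr 1
      funext p
      simp only [Function.comp_apply, Pi.smul_apply, smul_eq_mul]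
      ring
    · rw [hfr]
      refine le_of_eq ?_
      rw [← hfr s]
      exact LinearEquiv.finrank_eq (Submodule.equivMapOfInjective _
        (fun x y h => Transvec.mv_inj g (by simpa [Matrix.toLin'_apply] using h)) _)
  choose r hr using hmap
  have hrinj : Function.Injective r := fun i j hij => by
    by_contra hne
    have h : E i = E j := Submodule.map_injective_of_injective (f := Matrix.toLin' (g : Matrix ι ι F))
      (fun x y h => Transvec.mv_inj g (by simpa [Matrix.toLin'_apply] using h)) (by rw [hr, hr, hij])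
    have hz0 : z₀ ≠ 0 := fun h0 => hz₀ (by rw [h0]; exact Transvec.Herm.zero_left hf₂ 0)
    obtain ⟨⟨x, hx, hxz⟩, -⟩ := hE.nondegenerate i (L (u i) z₀) ⟨z₀, rfl⟩
      fun h0 => hz0 (hLinj i (by rw [h0, map_zero]))
    exact hxz (hE.orthogonal i j hne x hx _ (h ▸ ⟨z₀, rfl⟩))
  exact ⟨Equiv.ofBijective r (Finite.injective_iff_bijective.1 hrinj), hr⟩

omit h01 in
/-- The fixed field of the involution has only zero and one over four elements. -/
lemma fixed_zero_one [Finite F] (hu : Geo.IsUnitaryForm σ f)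
    (hq : Nat.card (Transvec.Herm.fixedField σ) = 2) : ∀ x : F, σ x = x → x = 0 ∨ x = 1 := by
  intro x hx
  classical
  haveI : Fintype (Transvec.Herm.fixedField σ) := Fintype.ofFinite _
  rw [Nat.card_eq_fintype_card] at hq
  by_contra h
  push Not at h
  have h3 : ({0, 1, ⟨x, hx⟩} : Finset (Transvec.Herm.fixedField σ)).card = 3 := by
    rw [Finset.card_insert_of_notMem, Finset.card_pair]
    · exact fun e => h.2 (congrArg Subtype.val e).symm
    · simp only [Finset.mem_insert, Finset.mem_singleton, not_or]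
      exact ⟨zero_ne_one, fun e => h.1 (congrArg Subtype.val e).symm⟩
  have := Finset.card_le_univ ({0, 1, ⟨x, hx⟩} : Finset (Transvec.Herm.fixedField σ))
  omega

end Cfsg.Agent.Aschbacher
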