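import Cfsg.Agent.Lib.Aschbacher.UnitMaximal

/-!
Three by three matrices over the fields of nine and twenty-five elements, coded by natural numbers:
`a + b * p` stands for `a + b s` with `s ^ 2 = 2`.
-/

set_option autoImplicit false
set_option linter.style.haveILetI false

namespace Cfsg.Agent.Aschbacher.UnitThree

open scoped MatrixGroups Matrix
open Matrix
open Cfsg.Agent.Transvec (mv mv_inj)

/-- Addition of codes. -/
def cAdd (p x y : ℕ) : ℕ := (x + y) % p + p * ((x / p + y / p) % p)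

/-- Multiplication of codes. -/
def cMul (p x y : ℕ) : ℕ :=
  (x % p * (y % p) + 2 * (x / p) * (y / p)) % p + p * ((x % p * (y / p) + x / p * (y % p)) % p)

/-- Conjugation of codes. -/
def cConj (p x : ℕ) : ℕ := x % p + p * ((p - x / p % p) % p)

/-- Powers of codes. -/
def cPow (p x : ℕ) : ℕ → ℕ
  | 0 => 1
  | k + 1 => cMul p (cPow p x k) x

/-- Inverses of codes. -/
def cInv (p x : ℕ) : ℕ := cPow p x (p * p - 2)

/-- Coded vectors. -/
abbrev CV := ℕ × ℕ × ℕ

/-- Coded matrices, by rows. -/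
abbrev CM := CV × CV × CV

/-- Dot product. -/
def cDot (p : ℕ) (u v : CV) : ℕ :=
  cAdd p (cAdd p (cMul p u.1 v.1) (cMul p u.2.1 v.2.1)) (cMul p u.2.2 v.2.2)

/-- Matrix times vector. -/
def cMV (p : ℕ) (M : CM) (v : CV) : CV := (cDot p M.1 v, cDot p M.2.1 v, cDot p M.2.2 v)

/-- The transpose. -/
def cT (M : CM) : CM :=
  ((M.1.1, M.2.1.1, M.2.2.1), (M.1.2.1, M.2.1.2.1, M.2.2.2.1), (M.1.2.2, M.2.1.2.2, M.2.2.2.2))

/-- The matrix product. -/
def cMM (p : ℕ) (M N : CM) : CM :=
  cT (cMV p M (cT N).1, cMV p M (cT N).2.1, cMV p M (cT N).2.2)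

/-- Conjugation of a vector. -/
def cConjV (p : ℕ) (v : CV) : CV := (cConj p v.1, cConj p v.2.1, cConj p v.2.2)

/-- The conjugate transpose. -/
def cStar (p : ℕ) (M : CM) : CM :=
  (cConjV p (cT M).1, cConjV p (cT M).2.1, cConjV p (cT M).2.2)

/-- The identity. -/
def cOne : CM := ((1, 0, 0), (0, 1, 0), (0, 0, 1))

/-- Powers of matrices. -/
def cMPow (p : ℕ) (M : CM) : ℕ → CM
  | 0 => cOne
  | k + 1 => cMM p (cMPow p M k) M

/-- The determinant. -/
def cDet (p : ℕ) (M : CM) : ℕ :=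
  let m (x y z : ℕ) := cMul p (cMul p x y) z
  let neg (x : ℕ) := cMul p (p - 1) x
  cAdd p (cAdd p (cAdd p (cAdd p (cAdd p
    (m M.1.1 M.2.1.2.1 M.2.2.2.2) (m M.1.2.1 M.2.1.2.2 M.2.2.1))
    (m M.1.2.2 M.2.1.1 M.2.2.2.1)) (neg (m M.1.2.2 M.2.1.2.1 M.2.2.1)))
    (neg (m M.1.1 M.2.1.2.2 M.2.2.2.1))) (neg (m M.1.2.1 M.2.1.1 M.2.2.2.2))

/-- A scalar multiple. -/
def cSM (p c : ℕ) (v : CV) : CV := (cMul p c v.1, cMul p c v.2.1, cMul p c v.2.2)

/-- The leading non-zero coordinate. -/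
def cLead (v : CV) : ℕ := if v.1 = 0 then (if v.2.1 = 0 then v.2.2 else v.2.1) else v.1

/-- A matrix is special unitary. -/
def cSU (p : ℕ) (M : CM) : Bool := cMM p (cStar p M) M == cOne && cDet p M == 1

/-- A matrix carries the points of a list into the list. -/
def cCarries (p : ℕ) (M : CM) (L : List CV) : Bool :=
  L.all fun r => cInv p (cLead (cMV p M r)) != 0 &&
    L.contains (cSM p (cInv p (cLead (cMV p M r))) (cMV p M r))

/-- A matrix moves a point of a list out of the list. -/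
def cMoves (p : ℕ) (M : CM) (r : CV) (L : List CV) : Bool :=
  L.all fun r' => (List.range (p * p)).all fun c => cMV p M r != cSM p c r'

lemma cMPow_succ (p : ℕ) (M : CM) (k : ℕ) : cMPow p M (k + 1) = cMM p (cMPow p M k) M := by
  rw [cMPow]

lemma cMPow_zero (p : ℕ) (M : CM) : cMPow p M 0 = cOne := by
  rw [cMPow]

lemma cPow_succ (p x k : ℕ) : cPow p x (k + 1) = cMul p (cPow p x k) x := by
  rw [cPow]

lemma cPow_zero (p x : ℕ) : cPow p x 0 = 1 := by
  rw [cPow]

section Field

variable {F : Type*} [Field F]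

/-- The decoding of numbers. -/
def cd (p : ℕ) (s : F) (x : ℕ) : F := ((x % p : ℕ) : F) + ((x / p : ℕ) : F) * s

/-- The decoding of vectors. -/
def cv (p : ℕ) (s : F) (v : CV) : Fin 3 → F := ![cd p s v.1, cd p s v.2.1, cd p s v.2.2]

/-- The decoding of matrices. -/
def cm (p : ℕ) (s : F) (M : CM) : Matrix (Fin 3) (Fin 3) F :=
  Matrix.of ![cv p s M.1, cv p s M.2.1, cv p s M.2.2]

/-- The setting. -/
structure Setup (p : ℕ) (F : Type*) [Field F] [Fintype F] (s : F) : Prop where
  small : p = 3 ∨ p = 5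
  card : Fintype.card F = p ^ 2
  char : CharP F p
  sq : s * s = 2

variable [Fintype F] {p : ℕ} {s : F}

/-- A square root of two exists. -/
lemma exists_setup {p : ℕ} (hp : p = 3 ∨ p = 5) (hF : Fintype.card F = p ^ 2) :
    ∃ s : F, Setup p F s := by
  haveI : Fact p.Prime := ⟨by rcases hp with rfl | rfl <;> norm_num⟩
  haveI : CharP F p := charP_of_card_eq_prime_pow hF
  have h2 : (2 : F) ≠ 0 := fun h => by
    have : p ∣ 2 := (CharP.cast_eq_zero_iff F p 2).1 (by exact_mod_cast h)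
    rcases hp with rfl | rfl <;> norm_num at this
  have hc : ringChar F ≠ 2 := fun h => h2 (by
    have := ringChar.Nat.cast_ringChar (R := F)
    rw [h] at this
    exact_mod_cast this)
  obtain ⟨s, hs⟩ : IsSquare (2 : F) := by
    rw [FiniteField.isSquare_iff hc h2, hF]
    rcases hp with rfl | rfl
    · have h3 : (3 : F) = 0 := by exact_mod_cast CharP.cast_eq_zero F 3
      norm_num
      linear_combination 5 * h3
    · have h5 : (5 : F) = 0 := by exact_mod_cast CharP.cast_eq_zero F 5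
      norm_num
      linear_combination 819 * h5
  exact ⟨s, hp, hF, ‹_›, hs.symm⟩

variable (S : Setup p F s)
include S

lemma Setup.pos : 0 < p := by rcases S.small with rfl | rfl <;> norm_num

lemma Setup.cast_mod (x : ℕ) : ((x % p : ℕ) : F) = (x : F) := by
  haveI := S.char
  exact (CharP.natCast_eq_natCast' F p (Nat.mod_modEq x p))

lemma Setup.mk_eq (a b : ℕ) : cd p s (a % p + p * (b % p)) = (a : F) + (b : F) * s := by
  unfold cd
  rw [show (a % p + p * (b % p)) % p = a % p by rw [Nat.add_mul_mod_self_left, Nat.mod_mod],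
    show (a % p + p * (b % p)) / p = b % p by
      rw [Nat.add_mul_div_left _ _ S.pos, Nat.div_eq_of_lt (Nat.mod_lt _ S.pos), zero_add],
    S.cast_mod, S.cast_mod]

lemma Setup.cd_add (x y : ℕ) : cd p s (cAdd p x y) = cd p s x + cd p s y := by
  rw [cAdd, S.mk_eq, cd, cd, S.cast_mod, S.cast_mod]
  push_cast
  ring

lemma Setup.cd_mul (x y : ℕ) : cd p s (cMul p x y) = cd p s x * cd p s y := by
  rw [cMul, S.mk_eq, cd, cd]
  push_cast
  linear_combination -((x / p : ℕ) : F) * ((y / p : ℕ) : F) * S.sq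

lemma Setup.cd_zero : cd p s 0 = 0 := by simp [cd]

lemma Setup.cd_one : cd p s 1 = 1 := by
  rcases S.small with rfl | rfl <;> simp [cd]

lemma Setup.cd_conj (x : ℕ) : cd p s (cConj p x) = cd p s x ^ p := by
  haveI := S.char
  haveI : Fact p.Prime := ⟨by rcases S.small with rfl | rfl <;> norm_num⟩
  rw [cConj, S.mk_eq, cd, add_pow_char, mul_pow]
  have hnat : ∀ k : ℕ, ((k : F)) ^ p = k := fun k => by
    have := map_natCast (frobenius F p) k
    rwa [frobenius_def] at this
  have hs : s ^ p = -s := by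
    have h0 : ((p : ℕ) : F) = 0 := CharP.cast_eq_zero F p
    rcases S.small with rfl | rfl
    · push_cast at h0
      linear_combination s * S.sq + s * h0
    · push_cast at h0
      linear_combination (s ^ 3 + 2 * s) * S.sq + s * h0
  rw [hnat, hnat, hs, S.cast_mod, Nat.cast_sub (Nat.mod_lt _ S.pos).le, CharP.cast_eq_zero F p,
    S.cast_mod]
  ring

lemma Setup.cd_pow (x k : ℕ) : cd p s (cPow p x k) = cd p s x ^ k := by
  induction k with
  | zero => rw [cPow, pow_zero, S.cd_one]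
  | succ k ih => rw [cPow, S.cd_mul, ih, pow_succ]

lemma Setup.cd_inj {x y : ℕ} (hx : x < p * p) (hy : y < p * p) (h : cd p s x = cd p s y) : x = y := by
  haveI := S.char
  haveI : Fact p.Prime := ⟨by rcases S.small with rfl | rfl <;> norm_num⟩
  unfold cd at h
  have hsq : (((x % p + (p - y % p)) * (x % p + (p - y % p)) : ℕ) : F) =
      ((2 * ((y / p + (p - x / p)) * (y / p + (p - x / p))) : ℕ) : F) := by
    have hlt : x / p ≤ p := (Nat.div_lt_iff_lt_mul S.pos).2 hx |>.le
    push_cast [Nat.cast_sub (Nat.mod_lt y S.pos).le, Nat.cast_sub hlt, CharP.cast_eq_zero F p]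
    linear_combination ((((x % p : ℕ) : F) - ((y % p : ℕ) : F)) +
      ((((y / p : ℕ) : F)) - ((x / p : ℕ) : F)) * s) * h +
        ((((y / p : ℕ) : F)) - ((x / p : ℕ) : F)) ^ 2 * S.sq
  have hmod := (CharP.natCast_eq_natCast F p).1 hsq
  clear hsq h
  have key3 : ∀ x < 9, ∀ y < 9, (x % 3 + (3 - y % 3)) * (x % 3 + (3 - y % 3)) % 3 =
      2 * ((y / 3 + (3 - x / 3)) * (y / 3 + (3 - x / 3))) % 3 → x = y := by decide +kernel
  have key5 : ∀ x < 25, ∀ y < 25, (x % 5 + (5 - y % 5)) * (x % 5 + (5 - y % 5)) % 5 =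
      2 * ((y / 5 + (5 - x / 5)) * (y / 5 + (5 - x / 5))) % 5 → x = y := by decide +kernel
  rcases S.small with rfl | rfl
  · exact key3 x hx y hy hmod
  · exact key5 x hx y hy hmod

lemma Setup.exists_code (z : F) : ∃ x, x < p * p ∧ cd p s x = z := by
  have hb : Function.Bijective fun x : Fin (p * p) => cd p s x.val :=
    (Fintype.bijective_iff_injective_and_card _).2
      ⟨fun a b h => Fin.ext (S.cd_inj a.2 b.2 h), by rw [Fintype.card_fin, S.card, pow_two]⟩
  obtain ⟨x, hx⟩ := hb.2 z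
  exact ⟨x.val, x.2, hx⟩

lemma Setup.cd_ne_zero {x : ℕ} (hx : x < p * p) (h0 : x ≠ 0) : cd p s x ≠ 0 := fun h =>
  h0 (S.cd_inj hx (by have := S.pos; positivity) (h.trans S.cd_zero.symm))

lemma Setup.cAdd_lt (x y : ℕ) : cAdd p x y < p * p := by
  unfold cAdd
  have h1 := Nat.mod_lt (x + y) S.pos
  have h2 := Nat.mod_lt (x / p + y / p) S.pos
  nlinarith

lemma Setup.cMul_lt (x y : ℕ) : cMul p x y < p * p := by
  unfold cMul
  have h1 := Nat.mod_lt (x % p * (y % p) + 2 * (x / p) * (y / p)) S.pos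
  have h2 := Nat.mod_lt (x % p * (y / p) + x / p * (y % p)) S.pos
  nlinarith

lemma Setup.cDot_lt (u v : CV) : cDot p u v < p * p := S.cAdd_lt _ _

/-- A vector of codes. -/
def Small (p : ℕ) (v : CV) : Prop := v.1 < p * p ∧ v.2.1 < p * p ∧ v.2.2 < p * p

lemma Setup.cv_inj {u v : CV} (hu : Small p u) (hv : Small p v) (h : cv p s u = cv p s v) : u = v := by
  have e0 := congrFun h 0
  have e1 := congrFun h 1
  have e2 := congrFun h 2
  simp [cv] at e0 e1 e2
  exact Prod.ext (S.cd_inj hu.1 hv.1 e0) (Prod.ext (S.cd_inj hu.2.1 hv.2.1 e1) (S.cd_inj hu.2.2 hv.2.2 e2))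

lemma Setup.exists_cv (u : Fin 3 → F) : ∃ v, Small p v ∧ cv p s v = u := by
  obtain ⟨a, ha, ea⟩ := S.exists_code (u 0)
  obtain ⟨b, hb, eb⟩ := S.exists_code (u 1)
  obtain ⟨c, hc, ec⟩ := S.exists_code (u 2)
  exact ⟨(a, b, c), ⟨ha, hb, hc⟩, by funext i; fin_cases i <;> simp [cv, ea, eb, ec]⟩

lemma Setup.cMV_small (M : CM) (v : CV) : Small p (cMV p M v) :=
  ⟨S.cDot_lt _ _, S.cDot_lt _ _, S.cDot_lt _ _⟩

lemma Setup.cSM_small (c : ℕ) (v : CV) : Small p (cSM p c v) :=
  ⟨S.cMul_lt _ _, S.cMul_lt _ _, S.cMul_lt _ _⟩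

lemma Setup.cv_sm (c : ℕ) (v : CV) : cv p s (cSM p c v) = cd p s c • cv p s v := by
  funext i
  fin_cases i <;> simp [cv, cSM, S.cd_mul]

lemma Setup.cm_mv (M : CM) (v : CV) : cm p s M *ᵥ cv p s v = cv p s (cMV p M v) := by
  funext i
  fin_cases i <;> simp [cm, cv, cMV, cDot, Matrix.mulVec, dotProduct, Fin.sum_univ_three, S.cd_add,
    S.cd_mul]

lemma Setup.cm_mul (M N : CM) : cm p s M * cm p s N = cm p s (cMM p M N) := by
  ext i j
  fin_cases i <;> fin_cases j <;>
    simp [cm, cv, cMM, cMV, cT, cDot, Matrix.mul_apply, Fin.sum_univ_three, S.cd_add, S.cd_mul]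

lemma Setup.cm_one : cm p s cOne = 1 := by
  ext i j
  fin_cases i <;> fin_cases j <;> simp [cm, cv, cOne, S.cd_zero, S.cd_one]

lemma Setup.cm_star (M : CM) : cm p s (cStar p M) = (cm p s M).transpose.map (· ^ p) := by
  ext i j
  fin_cases i <;> fin_cases j <;> simp [cm, cv, cStar, cConjV, cT, S.cd_conj]

lemma Setup.cm_det (M : CM) : (cm p s M).det = cd p s (cDet p M) := by
  haveI := S.char
  have hneg : cd p s (p - 1) = -1 := by
    have h0 : ((p : ℕ) : F) = 0 := CharP.cast_eq_zero F p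
    rcases S.small with rfl | rfl <;> simp [cd] <;> push_cast at h0 <;> linear_combination h0
  rw [Matrix.det_fin_three]
  simp [cm, cv, cDet, S.cd_add, S.cd_mul, hneg]
  ring

/-- The decoded matrix in the general linear group. -/
noncomputable def Setup.gl (M : CM) (hM : cSU p M = true) : GL (Fin 3) F :=
  { val := cm p s M
    inv := cm p s (cStar p M)
    val_inv := mul_eq_one_comm.1 (by
      simp only [cSU, Bool.and_eq_true, beq_iff_eq] at hM
      rw [S.cm_mul, hM.1, S.cm_one])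
    inv_val := by
      simp only [cSU, Bool.and_eq_true, beq_iff_eq] at hM
      rw [S.cm_mul, hM.1, S.cm_one] }

lemma Setup.gl_coe (M : CM) (hM : cSU p M = true) : (S.gl M hM).val = cm p s M := rfl

lemma Setup.gl_mem (M : CM) (hM : cSU p M = true) :
    S.gl M hM ∈ GU 3 F p ⊓ Geo.specialLinear (Fin 3) F := by
  haveI := S.char
  haveI : Fact p.Prime := ⟨by rcases S.small with rfl | rfl <;> norm_num⟩
  have hM' := hM
  simp only [cSU, Bool.and_eq_true, beq_iff_eq] at hM'
  refine ⟨fun u v => ?_, MonoidHom.mem_ker.2 (Units.ext ?_)⟩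
  · show hermForm 3 F p (cm p s M *ᵥ u) (cm p s M *ᵥ v) = hermForm 3 F p u v
    have hdot : ∀ a b : Fin 3 → F, hermForm 3 F p a b = a ⬝ᵥ fun i => b i ^ p := fun a b => rfl
    have hfrob : (fun i => ((cm p s M *ᵥ v) i) ^ p) = (cm p s M).map (· ^ p) *ᵥ fun i => v i ^ p :=
      funext fun i => by simp [Matrix.mulVec, dotProduct, Fin.sum_univ_three, add_pow_char, mul_pow]
    have horth : (cm p s M).transpose * (cm p s M).map (· ^ p) = 1 := by
      have h1 : (cm p s M).transpose.map (· ^ p) * cm p s M = 1 := by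
        rw [← S.cm_star, S.cm_mul, hM'.1, S.cm_one]
      have h2 := congrArg (fun A : Matrix (Fin 3) (Fin 3) F => (frobenius F p).mapMatrix A) h1
      simp only [map_mul, map_one] at h2
      rw [show (frobenius F p).mapMatrix ((cm p s M).transpose.map (· ^ p)) = (cm p s M).transpose from
        Matrix.ext fun i j => by
          simp [frobenius_def, ← pow_mul, ← sq]
          have := FiniteField.pow_card ((cm p s M) j i)
          rwa [S.card, pow_two] at this] at h2
      exact h2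
    rw [hdot, hdot, hfrob, Matrix.dotProduct_mulVec, ← Matrix.vecMul_transpose, Matrix.vecMul_vecMul,
      horth, Matrix.vecMul_one]
  · rw [Matrix.GeneralLinearGroup.val_det_apply, Units.val_one, S.gl_coe, S.cm_det, hM'.2, S.cd_one]

/-- The union of the listed points. -/
def pts (p : ℕ) (s : F) (L : List CV) : Set (Fin 3 → F) :=
  {v | ∃ r ∈ L, ∃ c : F, v = c • cv p s r}

omit S in
/-- The stabiliser of the listed points. -/
def ptStab (p : ℕ) (s : F) (L : List CV) : Subgroup (GL (Fin 3) F) where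
  carrier := {g | mv g '' pts p s L = pts p s L}
  one_mem' := by simp [Transvec.mv]
  mul_mem' {a b} ha hb := by
    simp only [Set.mem_ofPred_eq] at ha hb ⊢
    conv_rhs => rw [← ha, ← hb]
    rw [Set.image_image]
    simp [Transvec.mv, Matrix.mulVec_mulVec]
  inv_mem' {a} ha := by
    simp only [Set.mem_ofPred_eq] at ha ⊢
    conv_lhs => rw [← ha]
    rw [Set.image_image]
    simp [Transvec.mv, Matrix.mulVec_mulVec]

omit S in
lemma mem_ptStab_of {L : List CV} {g : GL (Fin 3) F}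
    (h : ∀ v ∈ pts p s L, mv g v ∈ pts p s L) : g ∈ ptStab p s L :=
  Set.eq_of_subset_of_ncard_le (Set.image_subset_iff.2 h)
    (by rw [Set.ncard_image_of_injective _ (fun a b h => mv_inj g h)]) (Set.toFinite _)

omit S in
lemma scalar_mem_ptStab {L : List CV} {g : GL (Fin 3) F} {c : F}
    (h : g.val = c • 1) : g ∈ ptStab p s L := mem_ptStab_of fun v ⟨r, hr, d, hv⟩ =>
  ⟨r, hr, c * d, by simp [Transvec.mv, h, hv, Matrix.smul_mulVec, Matrix.mulVec_smul, smul_smul, mul_comm]⟩

lemma Setup.mem_ptStab {L : List CV} {M : CM} {g : GL (Fin 3) F} (hg : g.val = cm p s M)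
    (hc : cCarries p M L = true) : g ∈ ptStab p s L := by
  refine mem_ptStab_of fun v ⟨r, hr, d, hv⟩ => ?_
  simp only [cCarries, List.all_eq_true, Bool.and_eq_true, bne_iff_ne, List.contains_iff_mem] at hc
  obtain ⟨hc0, hmem⟩ := hc r hr
  set c := cInv p (cLead (cMV p M r)) with hc'
  refine ⟨_, hmem, d * (cd p s c)⁻¹, ?_⟩
  have hclt : c < p * p := by
    rw [hc', cInv]
    rcases S.small with rfl | rfl <;> exact S.cMul_lt _ _
  show g.val *ᵥ v = _
  rw [hv, Matrix.mulVec_smul, hg, S.cm_mv, S.cv_sm, smul_smul, mul_assoc,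
    inv_mul_cancel₀ (S.cd_ne_zero hclt hc0), mul_one]

lemma Setup.not_mem_ptStab {L : List CV} {M : CM} {g : GL (Fin 3) F} (hg : g.val = cm p s M)
    {r : CV} (hr : r ∈ L) (hm : cMoves p M r L = true) : g ∉ ptStab p s L := by
  intro h
  have h1 : mv g (cv p s r) ∈ pts p s L := by
    rw [← (show mv g '' pts p s L = pts p s L from h)]
    exact ⟨_, ⟨r, hr, 1, (one_smul _ _).symm⟩, rfl⟩
  obtain ⟨r', hr', d, hd⟩ := h1
  obtain ⟨c, hc, rfl⟩ := S.exists_code d
  simp only [cMoves, List.all_eq_true, List.mem_range, bne_iff_ne] at hm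
  refine hm r' hr' c hc (S.cv_inj (S.cMV_small _ _) (S.cSM_small _ _) ?_)
  rw [S.cv_sm, ← hd, ← S.cm_mv, ← hg]

end Field

end Cfsg.Agent.Aschbacher.UnitThree
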