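import Cfsg.Agent.Lib.Aschbacher.UnitThreeCode

/-!
Explicit overgroups in `SU₃(3)` and `SU₃(5)`: stabilisers of sets of points, with their generators.
-/

set_option autoImplicit false

namespace Cfsg.Agent.Aschbacher.UnitThree

set_option synthInstance.maxSize 1024
set_option synthInstance.maxHeartbeats 400000

/-- Twenty-one points. -/
def L9 : List CV :=
  [(0, 1, 1), (1, 0, 3), (1, 1, 8), (1, 2, 7), (1, 3, 4), (1, 3, 5),
   (1, 3, 7), (1, 3, 8), (1, 4, 2), (1, 4, 6), (1, 4, 8), (1, 5, 1),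
   (1, 5, 6), (1, 5, 7), (1, 6, 0), (1, 7, 4), (1, 7, 5), (1, 7, 6),
   (1, 8, 4), (1, 8, 5), (1, 8, 6)]

/-- An element of order seven. -/
def a9 : CM := ((0, 4, 5), (0, 4, 7), (1, 0, 0))

/-- An element of order three. -/
def b9 : CM := ((2, 4, 3), (3, 5, 1), (5, 0, 8))

/-- An element outside the normaliser. -/
def c9 : CM := ((1, 4, 6), (7, 0, 4), (3, 7, 1))

/-- An element moving the points. -/
def d9 : CM := ((8, 1, 1), (0, 4, 8), (7, 6, 6))

/-- A moved point. -/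
def r9 : CV := (0, 1, 1)

/-- A hundred and five points. -/
def L105 : List CV :=
  [(0, 0, 1), (0, 1, 0), (0, 1, 1), (0, 1, 4), (0, 1, 12), (0, 1, 13),
   (0, 1, 17), (0, 1, 18), (1, 0, 0), (1, 0, 1), (1, 0, 4), (1, 0, 12),
   (1, 0, 13), (1, 0, 17), (1, 0, 18), (1, 1, 0), (1, 1, 1), (1, 1, 2),
   (1, 1, 3), (1, 1, 4), (1, 1, 10), (1, 1, 15), (1, 2, 1), (1, 2, 2),
   (1, 2, 3), (1, 2, 4), (1, 3, 1), (1, 3, 2), (1, 3, 3), (1, 3, 4),
   (1, 4, 0), (1, 4, 1), (1, 4, 2), (1, 4, 3), (1, 4, 4), (1, 4, 10),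
   (1, 4, 15), (1, 5, 5), (1, 5, 20), (1, 6, 9), (1, 6, 13), (1, 6, 17),
   (1, 6, 21), (1, 7, 13), (1, 7, 17), (1, 8, 12), (1, 8, 18), (1, 9, 6),
   (1, 9, 12), (1, 9, 18), (1, 9, 24), (1, 10, 1), (1, 10, 4), (1, 11, 14),
   (1, 11, 16), (1, 12, 0), (1, 12, 8), (1, 12, 9), (1, 12, 13), (1, 12, 17),
   (1, 12, 21), (1, 12, 22), (1, 13, 0), (1, 13, 6), (1, 13, 7), (1, 13, 12),
   (1, 13, 18), (1, 13, 23), (1, 13, 24), (1, 14, 11), (1, 14, 19), (1, 15, 1),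
   (1, 15, 4), (1, 16, 11), (1, 16, 19), (1, 17, 0), (1, 17, 6), (1, 17, 7),
   (1, 17, 12), (1, 17, 18), (1, 17, 23), (1, 17, 24), (1, 18, 0), (1, 18, 8),
   (1, 18, 9), (1, 18, 13), (1, 18, 17), (1, 18, 21), (1, 18, 22), (1, 19, 14),
   (1, 19, 16), (1, 20, 5), (1, 20, 20), (1, 21, 6), (1, 21, 12), (1, 21, 18),
   (1, 21, 24), (1, 22, 12), (1, 22, 18), (1, 23, 13), (1, 23, 17), (1, 24, 9),
   (1, 24, 13), (1, 24, 17), (1, 24, 21)]

/-- An element of order seven. -/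
def a25 : CM := ((0, 5, 11), (5, 9, 6), (19, 24, 3))

/-- An element of order three. -/
def b25 : CM := ((3, 2, 5), (3, 2, 20), (20, 20, 0))

/-- An element outside the normaliser. -/
def c25 : CM := ((0, 0, 1), (0, 1, 0), (4, 0, 0))

/-- A rational rotation of order five. -/
def g5 : CM := ((1, 4, 3), (1, 3, 4), (2, 4, 4))

/-- An element moving the points. -/
def d105 : CM := ((1, 15, 19), (4, 14, 23), (6, 13, 4))

/-- A moved point. -/
def r105 : CV := (0, 0, 1)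

/-- Thirty-six points. -/
def L36 : List CV :=
  [(1, 1, 5), (1, 1, 14), (1, 1, 19), (1, 1, 20), (1, 5, 1), (1, 5, 12),
   (1, 7, 8), (1, 7, 15), (1, 8, 7), (1, 8, 8), (1, 10, 10), (1, 10, 22),
   (1, 11, 12), (1, 11, 17), (1, 12, 5), (1, 12, 11), (1, 12, 16), (1, 12, 19),
   (1, 14, 1), (1, 14, 17), (1, 15, 7), (1, 15, 15), (1, 16, 12), (1, 16, 17),
   (1, 17, 11), (1, 17, 14), (1, 17, 16), (1, 17, 20), (1, 19, 1), (1, 19, 12),
   (1, 20, 1), (1, 20, 17), (1, 22, 10), (1, 22, 23), (1, 23, 22), (1, 23, 23)]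

/-- The shift. -/
def xR : CM := ((0, 0, 1), (1, 0, 0), (0, 1, 0))

/-- The diagonal element. -/
def zR : CM := ((1, 0, 0), (0, 12, 0), (0, 0, 17))

/-- Representatives of a quaternion quotient. -/
def qR : List CM :=
  [((13, 0, 0), (0, 0, 13), (0, 13, 0)), ((0, 0, 12), (1, 0, 0), (0, 17, 0)), ((23, 10, 22), (10, 10, 10), (22, 10, 23)), ((8, 7, 8), (8, 15, 15), (15, 15, 8)), ((15, 7, 15), (8, 8, 15), (15, 8, 8)), ((22, 22, 23), (23, 22, 22), (23, 10, 23)),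
   ((7, 7, 7), (7, 15, 8), (7, 8, 15)), ((23, 22, 23), (23, 10, 10), (10, 10, 23))]

/-- A diagonal element of determinant a cube root of unity. -/
def tR : CM := ((1, 0, 0), (0, 1, 0), (0, 0, 12))

/-- An element outside the normaliser. -/
def cR : CM := ((18, 21, 1), (1, 12, 21), (21, 4, 12))

/-- An element moving the points. -/
def d36 : CM := ((7, 24, 0), (20, 2, 3), (17, 19, 22))

/-- A moved point. -/
def r36 : CV := (1, 1, 14)

/-- A diagonal coded matrix. -/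
def cDiag (a b c : ℕ) : CM := ((a, 0, 0), (0, b, 0), (0, 0, c))

/-- A signed permutation matrix of determinant one. -/
def cPerm (k : Fin 6) : CM :=
  ([((1, 0, 0), (0, 1, 0), (0, 0, 1)), ((0, 1, 0), (0, 0, 1), (1, 0, 0)),
    ((0, 0, 1), (1, 0, 0), (0, 1, 0)), ((0, 4, 0), (4, 0, 0), (0, 0, 4)),
    ((4, 0, 0), (0, 0, 4), (0, 4, 0)), ((0, 0, 4), (0, 4, 0), (4, 0, 0))] : List CM).getD k.val cOne

/-- The elements of norm one in the field of twenty-five elements. -/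
def units25 : List ℕ := [1, 4, 12, 13, 17, 18]

/-- The twenty-seven elements of the extraspecial group. -/
def listR : List CM :=
  (List.range 27).map fun i =>
    cMM 5 (cDiag (cPow 5 12 (i / 9)) (cPow 5 12 (i / 9)) (cPow 5 12 (i / 9)))
      (cMM 5 (cMPow 5 xR (i / 3 % 3)) (cMPow 5 zR (i % 3)))

/-- Representatives of the unitary normaliser modulo scalars, with the exponent of `tR`. -/
def listN : List (CM × ℕ) :=
  (List.range 3).flatMap fun i => qR.flatMap fun q =>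
    ((List.range 9).map fun j =>
      (cMM 5 (cMM 5 (cMM 5 (cMPow 5 xR (j / 3)) (cMPow 5 zR (j % 3))) q) (cMPow 5 tR i), i))

/-- Conjugates of the two generators. -/
def listImg : List (CM × CM) :=
  listN.map fun g => (cMM 5 (cMM 5 g.1 xR) (cStar 5 g.1), cMM 5 (cMM 5 g.1 zR) (cStar 5 g.1))

lemma su9 : cSU 3 a9 = true ∧ cSU 3 b9 = true ∧ cSU 3 c9 = true ∧ cSU 3 d9 = true := by decide +kernel

lemma carries9 : cCarries 3 a9 L9 = true ∧ cCarries 3 b9 L9 = true ∧ cCarries 3 c9 L9 = true := by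
  decide +kernel

lemma moves9 : r9 ∈ L9 ∧ cMoves 3 d9 r9 L9 = true := by decide +kernel

lemma rel9 : cMPow 3 a9 7 = cOne ∧ a9 ≠ cOne ∧ cMPow 3 b9 3 = cOne ∧ b9 ≠ cOne ∧
    cMM 3 b9 a9 = cMM 3 (cMPow 3 a9 2) b9 ∧ cMM 3 b9 a9 ≠ cMM 3 a9 b9 ∧
    ∀ k < 7, cMM 3 c9 a9 ≠ cMM 3 (cMPow 3 a9 k) c9 := by decide +kernel

lemma su25 : cSU 5 a25 = true ∧ cSU 5 b25 = true ∧ cSU 5 c25 = true ∧ cSU 5 d105 = true ∧
    cSU 5 g5 = true := by decide +kernel

lemma carries25 : cCarries 5 a25 L105 = true ∧ cCarries 5 b25 L105 = true ∧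
    cCarries 5 c25 L105 = true ∧ cCarries 5 g5 L105 = true := by decide +kernel

lemma moves105 : r105 ∈ L105 ∧ cMoves 5 d105 r105 L105 = true := by decide +kernel

lemma rel25 : cMPow 5 a25 7 = cOne ∧ a25 ≠ cOne ∧ cMPow 5 b25 3 = cOne ∧ b25 ≠ cOne ∧
    cMM 5 b25 a25 = cMM 5 (cMPow 5 a25 2) b25 ∧ cMM 5 b25 a25 ≠ cMM 5 a25 b25 ∧
    ∀ k < 7, cMM 5 c25 a25 ≠ cMM 5 (cMPow 5 a25 k) c25 := by decide +kernel

lemma carriesPerm : ∀ k, cSU 5 (cPerm k) = true ∧ cCarries 5 (cPerm k) L105 = true := by decide +kernel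

lemma carriesDiag : ∀ u ∈ units25,
    cSU 5 (cDiag u (cConj 5 u) 1) = true ∧ cSU 5 (cDiag 1 u (cConj 5 u)) = true ∧
    cCarries 5 (cDiag u (cConj 5 u) 1) L105 = true ∧ cCarries 5 (cDiag 1 u (cConj 5 u)) L105 = true := by
  decide +kernel

lemma units25_spec : ∀ u < 25, cMul 5 u (cConj 5 u) = 1 → u ∈ units25 := by decide +kernel

lemma suR : cSU 5 xR = true ∧ cSU 5 zR = true ∧ cSU 5 cR = true ∧ cSU 5 d36 = true ∧
    (∀ q ∈ qR, cSU 5 q = true) := by decide +kernel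

lemma carriesR : cCarries 5 xR L36 = true ∧ cCarries 5 zR L36 = true ∧ cCarries 5 cR L36 = true ∧
    (∀ q ∈ qR, cCarries 5 q L36 = true) := by decide +kernel

lemma moves36 : r36 ∈ L36 ∧ cMoves 5 d36 r36 L36 = true := by decide +kernel

lemma listR_nodup : listR.Nodup := by decide +kernel

lemma cR_out : cMM 5 (cMM 5 cR xR) (cStar 5 cR) ∉ listR ∨ cMM 5 (cMM 5 cR zR) (cStar 5 cR) ∉ listR := by
  decide +kernel

lemma tR_unitary : cMM 5 (cStar 5 tR) tR = cOne ∧ cDet 5 tR = 12 := by decide +kernel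

lemma pairs_covered : ∀ A ∈ listR, ∀ B ∈ listR, cMM 5 B A = cMM 5 (cDiag 12 12 12) (cMM 5 A B) →
    (A, B) ∈ listImg := by decide +kernel

lemma det_not_cube : ∀ c < 25, cMul 5 (cPow 5 c 3) 12 ≠ 1 ∨ cMul 5 c (cConj 5 c) ≠ 1 := by
  decide +kernel

lemma det_not_cube' : ∀ c < 25, cMul 5 (cPow 5 c 3) (cMul 5 12 12) ≠ 1 ∨
    cMul 5 c (cConj 5 c) ≠ 1 := by decide +kernel

end Cfsg.Agent.Aschbacher.UnitThree
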