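import Cfsg.Agent.Lib.Aschbacher.UnitThreeData
import Cfsg.Agent.Lib.Aschbacher.UnitSmall

/-!
Monomial and orthogonal subgroups of `SU₃(3)` and `SU₃(5)` in larger ones.
-/

set_option autoImplicit false
set_option linter.style.haveILetI false

namespace Cfsg.Agent.Aschbacher.UnitThree

open scoped MatrixGroups Matrix
open Matrix
open Cfsg.Agent.Transvec (mv mv_inj)

set_option synthInstance.maxSize 2048
set_option synthInstance.maxHeartbeats 800000

/-- The coded unit vectors. -/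
def cE (i : ℕ) : CV := (if i = 0 then 1 else 0, if i = 1 then 1 else 0, if i = 2 then 1 else 0)

/-- A coded monomial matrix, by columns. -/
def cMon (p : ℕ) (i j k a b c : ℕ) : CM := cT (cSM p a (cE i), cSM p b (cE j), cSM p c (cE k))

/-- Coded rational vectors. -/
def realVecs (p : ℕ) : List CV :=
  (List.range (p * p * p)).map fun i => (i / (p * p), i / p % p, i % p)

/-- Coded rational vectors of norm one. -/
def unitVecs (p : ℕ) : List CV := (realVecs p).filter fun v => cDot p v v == 1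

/-- The even sign changes. -/
def cSigns : List CM := [cDiag 1 1 1, cDiag 1 4 4, cDiag 4 1 4, cDiag 4 4 1]

/-- Products generating the rotations. -/
def listSO : List CM :=
  (List.finRange 6).flatMap fun k => cSigns.flatMap fun d => (List.range 5).map fun i =>
    cMM 5 (cMM 5 (cPerm k) d) (cMPow 5 g5 i)

/-- Products of the monomial generators. -/
def monList : List CM :=
  (List.finRange 6).flatMap fun t => units25.flatMap fun x => units25.map fun y =>
    cMM 5 (cMM 5 (cPerm t) (cDiag x (cConj 5 x) 1)) (cDiag 1 y (cConj 5 y))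

lemma mon_covered : ∀ i < 3, ∀ j < 3, ∀ k < 3, i ≠ j → i ≠ k → j ≠ k →
    ∀ a ∈ units25, ∀ b ∈ units25, ∀ c ∈ units25, cDet 5 (cMon 5 i j k a b c) = 1 →
    monList.contains (cMon 5 i j k a b c) = true := by decide +kernel

lemma rot_covered_five : ∀ a ∈ unitVecs 5, ∀ b ∈ unitVecs 5, cDot 5 a b = 0 → ∀ c ∈ unitVecs 5,
    cDot 5 a c = 0 → cDot 5 b c = 0 → cDet 5 (cT (a, b, c)) = 1 → cT (a, b, c) ∈ listSO := by
  decide +kernel

lemma rot_mono_three : ∀ a ∈ unitVecs 3, ∃ i < 3, ∃ x < 3, x ≠ 0 ∧ a = cSM 3 x (cE i) := by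
  decide +kernel

lemma signs_carry : ∀ d ∈ cSigns, cSU 5 d = true ∧ cCarries 5 d L105 = true := by decide +kernel

lemma g5_not_mon : cMV 5 g5 (cE 0) ∉ (List.range 75).map fun i => cSM 5 (i / 3) (cE (i % 3)) := by
  decide +kernel

/-- An equalising change of three orthogonal rational vectors exists. -/
def equalised (p a b c : ℕ) : Bool :=
  let B (x y : CV) := cDot p (cMul p a x.1, cMul p b x.2.1, cMul p c x.2.2) y
  (List.range p).any fun d => d != 0 &&
    (realVecs p).any fun x => B x x == d && (realVecs p).any fun y => B y y == d && B x y == 0 &&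
      (realVecs p).any fun z => B z z == d && B x z == 0 && B y z == 0

lemma equalised_three : ∀ a < 3, ∀ b < 3, ∀ c < 3, a ≠ 0 → b ≠ 0 → c ≠ 0 → equalised 3 a b c = true := by
  decide +kernel

lemma equalised_five : ∀ a < 5, ∀ b < 5, ∀ c < 5, a ≠ 0 → b ≠ 0 → c ≠ 0 → equalised 5 a b c = true := by
  decide +kernel

section Field

variable {F : Type*} [Field F] [Fintype F] {p : ℕ} {s : F}

lemma Setup.fixed_code (S : Setup p F s) {x : ℕ} (hx : x < p * p) (h : cd p s x ^ p = cd p s x) :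
    x < p := by
  rw [← S.cd_conj] at h
  have hlt : cConj p x < p * p := by
    unfold cConj
    have h1 := Nat.mod_lt x S.pos
    have h2 := Nat.mod_lt (p - x / p % p) S.pos
    nlinarith
  have h' := S.cd_inj hlt hx h
  clear h hlt
  have k3 : ∀ x < 9, cConj 3 x = x → x < 3 := by decide +kernel
  have k5 : ∀ x < 25, cConj 5 x = x → x < 5 := by decide +kernel
  rcases S.small with rfl | rfl
  · exact k3 x hx h'
  · exact k5 x hx h'

lemma Setup.fixed_of_lt (S : Setup p F s) {x : ℕ} (hx : x < p) : cd p s x ^ p = cd p s x := by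
  rw [← S.cd_conj]
  have k3 : ∀ x < 3, cConj 3 x = x := by decide +kernel
  have k5 : ∀ x < 5, cConj 5 x = x := by decide +kernel
  rcases S.small with rfl | rfl
  · rw [k3 x hx]
  · rw [k5 x hx]

lemma Setup.exists_norm (S : Setup p F s) {d : F} (hd : d ^ p = d) : ∃ l : F, l * l ^ p = d := by
  obtain ⟨x, hx, rfl⟩ := S.exists_code d
  have hxp := S.fixed_code hx hd
  have k3 : ∀ x < 3, ∃ l < 9, cMul 3 l (cConj 3 l) = x := by decide +kernel
  have k5 : ∀ x < 5, ∃ l < 25, cMul 5 l (cConj 5 l) = x := by decide +kernel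
  obtain ⟨l, hl⟩ : ∃ l, cMul p l (cConj p l) = x := by
    rcases S.small with rfl | rfl
    · obtain ⟨l, -, hl⟩ := k3 x hxp; exact ⟨l, hl⟩
    · obtain ⟨l, -, hl⟩ := k5 x hxp; exact ⟨l, hl⟩
  exact ⟨cd p s l, by rw [← S.cd_conj, ← S.cd_mul, hl]⟩

variable {σ : F ≃+* F}

omit [Fintype F] in
/-- A change of basis by three orthonormal vectors. -/
lemma exists_frame_gl (hu : Geo.IsUnitaryForm σ (hermForm 3 F p)) (hσ : ∀ x, σ x = x ^ p) (v : Fin 3 → Fin 3 → F)
    (hv : ∀ i j, hermForm 3 F p (v i) (v j) = if i = j then 1 else 0) :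
    ∃ P : GL (Fin 3) F, P ∈ GU 3 F p ∧ (∀ i, mv P (Pi.single i 1) = v i) ∧
      ∀ (g : GL (Fin 3) F) (i j : Fin 3),
        (P⁻¹ * g * P).val i j = hermForm 3 F p (mv g (v j)) (v i) := by
  let Q : Matrix (Fin 3) (Fin 3) F := Matrix.of fun x a => v a x
  have hQv : ∀ u : Fin 3 → F, Q *ᵥ u = u 0 • v 0 + u 1 • v 1 + u 2 • v 2 := by
    intro u
    funext x
    simp [Q, Matrix.mulVec, dotProduct, Fin.sum_univ_three, mul_comm]
  have hQf : ∀ x y, hermForm 3 F p (Q *ᵥ x) (Q *ᵥ y) = hermForm 3 F p x y := by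
    intro x y
    rw [hQv, hQv]
    simp only [hu.add_left, Transvec.Herm.add_right hu, hu.smul_left, Transvec.Herm.smul_right hu,
      hv, Fin.reduceEq, if_true, if_false, mul_one, mul_zero, add_zero, zero_add]
    simp [hermForm, Fin.sum_univ_three, hσ]
  have hQu : IsUnit Q := (Matrix.mulVec_injective_iff_isUnit (A := Q)).1 fun x y h => by
    by_contra hne
    obtain ⟨z, hz⟩ := (hu.nondegenerate _ (sub_ne_zero.2 hne)).2
    rw [← hQf, Matrix.mulVec_sub, sub_eq_zero.2 h, Transvec.Herm.zero_left hu] at hz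
    exact hz rfl
  have hPG : hQu.unit ∈ GU 3 F p := fun x y => by
    show hermForm 3 F p (Q *ᵥ x) (Q *ᵥ y) = _
    rw [hQf]
  have hPe : ∀ i, mv hQu.unit (Pi.single i 1) = v i := fun i => by
    show Q *ᵥ _ = _
    rw [Matrix.mulVec_single_one]
    rfl
  refine ⟨hQu.unit, hPG, hPe, fun g i j => ?_⟩
  set P := hQu.unit
  set z := mv (P⁻¹ * g * P) (Pi.single j 1) with hz
  have h1 : (P⁻¹ * g * P).val i j = z i := by simp [hz, Transvec.mv]
  have h2 : mv P z = mv g (v j) := by
    rw [← hPe j, hz]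
    simp only [Transvec.mv, Units.val_mul, Matrix.mulVec_mulVec, ← mul_assoc, Units.mul_inv, one_mul]
  have h3 : hermForm 3 F p (mv P z) (mv P (Pi.single i 1)) = hermForm 3 F p z (Pi.single i 1) :=
    hPG z (Pi.single i 1)
  rw [h1, ← h2, ← hPe i, h3]
  have : hermForm 3 F p z (Pi.single i 1) = z i := by
    simp only [hermForm]
    rw [Finset.sum_eq_single i]
    · simp
    · intro k _ hk
      have hp0 : p ≠ 0 := fun h => by
        have h0 := hσ 0
        rw [h, pow_zero, map_zero] at h0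
        exact zero_ne_one h0
      simp [Pi.single_eq_of_ne hk, zero_pow hp0]
    · simp
  exact this.symm

omit [Fintype F] in
lemma conj_mem_G {P g : GL (Fin 3) F} (hP : P ∈ GU 3 F p)
    (hg : g ∈ GU 3 F p ⊓ Geo.specialLinear (Fin 3) F) :
    P⁻¹ * g * P ∈ GU 3 F p ⊓ Geo.specialLinear (Fin 3) F :=
  ⟨Subgroup.mul_mem _ (Subgroup.mul_mem _ (Subgroup.inv_mem _ hP) hg.1) hP,
    MonoidHom.mem_ker.2 (by
      rw [map_mul, map_mul, MonoidHom.mem_ker.1 hg.2, map_inv, mul_one, inv_mul_cancel])⟩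

omit [Fintype F] in
lemma conj_mem_G' {P g : GL (Fin 3) F} (hP : P ∈ GU 3 F p)
    (hg : g ∈ GU 3 F p ⊓ Geo.specialLinear (Fin 3) F) :
    P * g * P⁻¹ ∈ GU 3 F p ⊓ Geo.specialLinear (Fin 3) F := by
  simpa using conj_mem_G (Subgroup.inv_mem _ hP) hg

omit [Fintype F] in
/-- A maximal subgroup conjugate into a proper overgroup having an element outside is absurd. -/
lemma false_of_overgroup {H L : Subgroup (GL (Fin 3) F)} {P e d : GL (Fin 3) F} (hP : P ∈ GU 3 F p)
    (hH : Geo.IsMaximalIn (GU 3 F p ⊓ Geo.specialLinear (Fin 3) F) H)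
    (hle : ∀ g ∈ H, P⁻¹ * g * P ∈ L) (he : e ∈ L ⊓ (GU 3 F p ⊓ Geo.specialLinear (Fin 3) F))
    (heH : P * e * P⁻¹ ∉ H) (hd : d ∈ GU 3 F p ⊓ Geo.specialLinear (Fin 3) F) (hdL : d ∉ L) :
    False := by
  let X := L.map (MulAut.conj P).toMonoidHom ⊓ (GU 3 F p ⊓ Geo.specialLinear (Fin 3) F)
  have hX : ∀ g, g ∈ L → P * g * P⁻¹ ∈ L.map (MulAut.conj P).toMonoidHom :=
    fun g hg => ⟨g, hg, rfl⟩
  rcases hH.2 X (fun g hg => ⟨⟨_, hle g hg, by simp [mul_assoc]⟩, hH.1.le hg⟩) inf_le_right with h | h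
  · exact heH (h ▸ ⟨hX e he.1, conj_mem_G' hP he.2⟩)
  · obtain ⟨x, hx, hxd⟩ := (h.ge (conj_mem_G' hP hd)).1
    obtain rfl : x = d := mul_left_cancel (mul_right_cancel (show P * x * P⁻¹ = P * d * P⁻¹ from hxd))
    exact hdL hx

/-- A frame stabiliser over twenty-five elements is not maximal. -/
theorem frame_not_maximal_five (hF : Fintype.card F = 5 ^ 2)
    {D : Fin 3 → Submodule F (Fin 3 → F)}
    (hD : Geo.IsNondegenerateMDecomposition (hermForm 3 F 5) 1 D) {H : Subgroup (GL (Fin 3) F)}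
    (hH : Geo.IsMaximalIn (GU 3 F 5 ⊓ Geo.specialLinear (Fin 3) F) H)
    (he : H = Geo.decompositionStabilizer D ⊓ (GU 3 F 5 ⊓ Geo.specialLinear (Fin 3) F)) : False := by
  classical
  obtain ⟨s, S⟩ := exists_setup (Or.inr rfl) hF
  obtain ⟨σ, hσ, hu, -⟩ := UnitaryStd.exists_setup (n := 3) hF (by norm_num)
  have hunit : ∀ i, ∃ v ∈ D i, hermForm 3 F 5 v v = 1 := by
    intro i
    have h0 : D i ≠ ⊥ := fun h => by
      have := hD.decomp.finrank_eq i
      rw [h, finrank_bot] at this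
      exact zero_ne_one this
    obtain ⟨v, hv, hvv⟩ := Transvec.Herm.exists_anisotropic hu
      (nondeg_of_isNondegenerateOn hu (hD.nondegenerate i)) h0
    obtain ⟨l, hl⟩ := S.exists_norm (show (hermForm 3 F 5 v v) ^ 5 = hermForm 3 F 5 v v by
      rw [← hσ]; exact Transvec.Herm.self_fixed hu v)
    refine ⟨l⁻¹ • v, Submodule.smul_mem _ _ hv, ?_⟩
    rw [hu.smul_left, Transvec.Herm.smul_right hu, map_inv₀, hσ, ← mul_assoc, ← mul_inv, hl,
      inv_mul_cancel₀ hvv]
  choose v hvD hv1 using hunit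
  have hspan : ∀ i x, x ∈ D i → ∃ c : F, x = c • v i := by
    intro i x hx
    have hv0 : (⟨v i, hvD i⟩ : D i) ≠ 0 := fun h => by
      have h1 := hv1 i
      rw [show v i = 0 from congrArg Subtype.val h, Transvec.Herm.zero_left hu] at h1
      exact zero_ne_one h1
    obtain ⟨c, hc⟩ := (finrank_eq_one_iff_of_nonzero' _ hv0).1 (hD.decomp.finrank_eq i) ⟨x, hx⟩
    exact ⟨c, (congrArg Subtype.val hc).symm⟩
  have hvv : ∀ i j, hermForm 3 F 5 (v i) (v j) = if i = j then 1 else 0 := by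
    intro i j
    split_ifs with h
    · rw [h, hv1]
    · exact hD.orthogonal i j h _ (hvD i) _ (hvD j)
  obtain ⟨P, hPG, hPe, hPm⟩ := exists_frame_gl hu hσ v hvv
  refine false_of_overgroup (L := ptStab 5 s L105) (e := S.gl g5 su25.2.2.2.2)
    (d := S.gl d105 su25.2.2.2.1) hPG hH ?_
    ⟨S.mem_ptStab (S.gl_coe _ _) carries25.2.2.2, S.gl_mem _ _⟩ ?_ (S.gl_mem _ _)
    (S.not_mem_ptStab (S.gl_coe _ _) moves105.1 moves105.2)
  · intro g hg
    rw [he] at hg
    obtain ⟨⟨π, hπ⟩, hgG⟩ := hg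
    have hgG' := conj_mem_G hPG hgG
    have hcol : ∀ i, ∃ c : F, mv g (v i) = c • v (π i) := fun i =>
      hspan _ _ (hπ i ▸ ⟨v i, hvD i, Matrix.toLin'_apply _ _⟩)
    choose c hc using hcol
    have hnorm : ∀ i, c i * c i ^ 5 = 1 := fun i => by
      have h1 : hermForm 3 F 5 (mv g (v i)) (mv g (v i)) = hermForm 3 F 5 (v i) (v i) := hgG.1 _ _
      rwa [hc, hu.smul_left, Transvec.Herm.smul_right hu, hv1, mul_one, hσ, hv1] at h1
    have hcode : ∀ i, ∃ a ∈ units25, cd 5 s a = c i := fun i => by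
      obtain ⟨a, ha, e⟩ := S.exists_code (c i)
      refine ⟨a, units25_spec a ha (S.cd_inj (S.cMul_lt _ _) (by norm_num) ?_), e⟩
      rw [S.cd_mul, S.cd_conj, e, S.cd_one, hnorm]
    choose a ha hca using hcode
    have hent : ∀ i j, (P⁻¹ * g * P).val i j = if i = π j then c j else 0 := fun i j => by
      rw [hPm, hc, hu.smul_left, hvv]
      by_cases h : π j = i
      · simp [h]
      · simp [h, Ne.symm h]
    have hM : (P⁻¹ * g * P).val =
        cm 5 s (cMon 5 (π 0).val (π 1).val (π 2).val (a 0) (a 1) (a 2)) := by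
      ext i j
      rw [hent]
      have hcE : ∀ m : Fin 3, cd 5 s (if m.val = i.val then 1 else 0) = if i = m then 1 else 0 := fun m => by
        by_cases h : i = m
        · subst h; simp [S.cd_one]
        · have : m.val ≠ i.val := fun h' => h (Fin.ext h'.symm)
          simp [h, this, S.cd_zero]
      fin_cases i <;> fin_cases j <;>
        simp [cm, cv, cMon, cT, cSM, cE, S.cd_mul, hca, Fin.ext_iff, apply_ite (cd 5 s), S.cd_zero,
          S.cd_one, eq_comm]
    have hdet : cDet 5 (cMon 5 (π 0).val (π 1).val (π 2).val (a 0) (a 1) (a 2)) = 1 := by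
      refine S.cd_inj (S.cAdd_lt _ _) (by norm_num) ?_
      rw [← S.cm_det, ← hM, ← Matrix.GeneralLinearGroup.val_det_apply, MonoidHom.mem_ker.1 hgG'.2,
        S.cd_one, Units.val_one]
    have hne : ∀ i j : Fin 3, i ≠ j → (π i).val ≠ (π j).val := fun i j h h' => h (π.injective (Fin.ext h'))
    have hmem := mon_covered _ (π 0).2 _ (π 1).2 _ (π 2).2
      (hne _ _ (by decide)) (hne _ _ (by decide)) (hne _ _ (by decide))
      _ (ha 0) _ (ha 1) _ (ha 2) hdet
    simp only [List.contains_iff_mem, monList, List.mem_flatMap, List.mem_map, List.mem_finRange,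
      true_and] at hmem
    obtain ⟨t, x, hx, y, hy, e⟩ := hmem
    replace e := e.symm
    obtain ⟨hp1, hp2⟩ := carriesPerm t
    obtain ⟨hx1, -, hx2, -⟩ := carriesDiag x hx
    obtain ⟨-, hy1, -, hy2⟩ := carriesDiag y hy
    have : P⁻¹ * g * P = S.gl _ hp1 * S.gl _ hx1 * S.gl _ hy1 := Units.ext (by
      rw [hM, e, Units.val_mul, Units.val_mul, S.gl_coe, S.gl_coe, S.gl_coe, S.cm_mul, S.cm_mul])
    rw [this]
    exact Subgroup.mul_mem _ (Subgroup.mul_mem _ (S.mem_ptStab (S.gl_coe _ _) hp2)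
      (S.mem_ptStab (S.gl_coe _ _) hx2)) (S.mem_ptStab (S.gl_coe _ _) hy2)
  · intro hmem
    rw [he] at hmem
    obtain ⟨⟨π, hπ⟩, -⟩ := hmem
    obtain ⟨c, hc⟩ := hspan _ _ (hπ 0 ▸ ⟨v 0, hvD 0, rfl⟩ :
      Matrix.toLin' (P * S.gl g5 su25.2.2.2.2 * P⁻¹).val (v 0) ∈ D (π 0))
    rw [Matrix.toLin'_apply, ← hPe 0, ← hPe (π 0)] at hc
    have h1 : mv P (mv (S.gl g5 su25.2.2.2.2) (Pi.single 0 1)) = mv P (c • Pi.single (π 0) 1) := by
      simp only [Transvec.mv] at hc ⊢
      rw [Matrix.mulVec_smul, ← hc, Matrix.mulVec_mulVec, Matrix.mulVec_mulVec]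
      congr 1
      simp [mul_assoc]
    have h3 := mv_inj P h1
    obtain ⟨a, ha, rfl⟩ := S.exists_code c
    have hcv : ∀ i : Fin 3, (Pi.single i 1 : Fin 3 → F) = cv 5 s (cE i.val) := fun i => by
      funext j
      fin_cases i <;> fin_cases j <;> simp [cv, cE, S.cd_zero, S.cd_one]
    rw [hcv, hcv] at h3
    change cm 5 s g5 *ᵥ _ = _ at h3
    rw [S.cm_mv, ← S.cv_sm] at h3
    refine g5_not_mon (List.mem_map.2 ⟨3 * a + (π 0).val, List.mem_range.2 (by have := (π 0).2; omega), ?_⟩)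
    rw [show (3 * a + (π 0).val) / 3 = a by have := (π 0).2; omega,
      show (3 * a + (π 0).val) % 3 = (π 0).val by have := (π 0).2; omega]
    exact (S.cv_inj (S.cMV_small _ _) (S.cSM_small _ _) h3).symm

/-- Rational orthonormal coordinates for a subfield subgroup of orthogonal type. -/
theorem exists_real_frame (S : Setup p F s) (hu : Geo.IsUnitaryForm σ (hermForm 3 F p))
    (hσ : ∀ x, σ x = x ^ p) {F₀ : Subfield F} {P : GL (Fin 3) F}
    (hc : Fintype.card F = Nat.card F₀ ^ 2)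
    (hP : Geo.IsFormRationalStructure (hermForm 3 F p) F₀ 1 P) :
    ∃ (w : Fin 3 → Fin 3 → F) (Q : GL (Fin 3) F), Q ∈ GU 3 F p ∧
      (∀ i j, hermForm 3 F p (w i) (w j) = if i = j then 1 else 0) ∧
      (∀ i, mv Q (Pi.single i 1) = w i) ∧
      ∀ g ∈ Geo.subfieldSubgroup F₀ P, ∃ (c : F) (M : CM),
        (∀ i ∈ [M.1.1, M.1.2.1, M.1.2.2, M.2.1.1, M.2.1.2.1, M.2.1.2.2, M.2.2.1, M.2.2.2.1, M.2.2.2.2],
          i < p) ∧
        (Q⁻¹ * g * Q).val = c • cm p s M := by
  classical
  haveI : Fintype F₀ := Fintype.ofFinite _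
  have hcard0 : Nat.card F₀ = p := Nat.pow_left_injective two_ne_zero (hc.symm.trans S.card)
  have hreal : ∀ x ∈ F₀, x ^ p = x := by
    intro x hx
    have := FiniteField.pow_card (⟨x, hx⟩ : F₀)
    rw [← Nat.card_eq_fintype_card, hcard0] at this
    exact congrArg Subtype.val this
  set f := hermForm 3 F p with hf
  let R : Set (Fin 3 → F) := {x | ∃ u : Fin 3 → F, (∀ i, u i ∈ F₀) ∧ x = mv P u}
  have hRf : ∀ x ∈ R, ∀ y ∈ R, f x y ∈ F₀ := by
    rintro x ⟨u, hu', rfl⟩ y ⟨v, hv', rfl⟩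
    have h1 := hP u v hu' hv'
    rwa [one_mul] at h1
  have hR0 : (0 : Fin 3 → F) ∈ R := ⟨0, fun i => F₀.zero_mem, (Matrix.mulVec_zero _).symm⟩
  have hRs : ∀ a ∈ F₀, ∀ x ∈ R, a • x ∈ R := by
    rintro a ha x ⟨u, hu', rfl⟩
    exact ⟨a • u, fun i => F₀.mul_mem ha (hu' i), (Matrix.mulVec_smul _ _ _).symm⟩
  have hRa : ∀ x ∈ R, ∀ y ∈ R, x + y ∈ R := by
    rintro x ⟨u, hu', rfl⟩ y ⟨v, hv', rfl⟩
    exact ⟨u + v, fun i => F₀.add_mem (hu' i) (hv' i), (Matrix.mulVec_add _ _ _).symm⟩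
  have hsym : ∀ x ∈ R, ∀ y ∈ R, f y x = f x y := fun x hx y hy => by
    rw [hu.herm, hσ, hreal _ (hRf x hx y hy)]
  let bP : Fin 3 → Fin 3 → F := fun i => mv P (Pi.single i 1)
  have hbR : ∀ i, bP i ∈ R := fun i => ⟨_, fun j => by
    by_cases h : j = i
    · subst h; simpa using F₀.one_mem
    · simpa [h] using F₀.zero_mem, rfl⟩
  have h2ne : (2 : F) ≠ 0 := fun h => by
    haveI := S.char
    have : p ∣ 2 := (CharP.cast_eq_zero_iff F p 2).1 (by exact_mod_cast h)
    rcases S.small with rfl | rfl <;> norm_num at this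
  -- the next vector
  have next' : ∀ u ∈ R, ∀ u' ∈ R, f u u' = 0 → (u = 0 ∨ f u u ≠ 0) → (u' = 0 ∨ f u' u' ≠ 0) →
      ∃ x ∈ R, f x u = 0 ∧ f x u' = 0 ∧ f x x ≠ 0 := by
    intro u hu' u' hu'' horth hn hn'
    let π : (Fin 3 → F) → (Fin 3 → F) := fun x => x + (-(f x u / f u u)) • u + (-(f x u' / f u' u')) • u'
    have hπR : ∀ x ∈ R, π x ∈ R := fun x hx => hRa _ (hRa _ hx _
      (hRs _ (F₀.neg_mem (F₀.div_mem (hRf x hx u hu') (hRf u hu' u hu'))) u hu')) _
      (hRs _ (F₀.neg_mem (F₀.div_mem (hRf x hx u' hu'') (hRf u' hu'' u' hu''))) u' hu'')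
    have horth' : f u' u = 0 := (Transvec.Herm.f_eq_zero_comm hu).1 horth
    have hπu : ∀ x, f (π x) u = 0 ∧ f (π x) u' = 0 := by
      intro x
      constructor
      · rcases hn with h | h
        · rw [h, Transvec.Herm.zero_right hu]
        · simp only [π, hu.add_left, hu.smul_left, horth', mul_zero, add_zero]
          field_simp
          ring
      · rcases hn' with h | h
        · rw [h, Transvec.Herm.zero_right hu]
        · simp only [π, hu.add_left, hu.smul_left, horth, mul_zero, add_zero]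
          field_simp
          ring
    by_contra hno
    push Not at hno
    have hz : ∀ x ∈ R, ∀ y ∈ R, f (π x) (π y) = 0 := by
      intro x hx y hy
      have e1 := hno _ (hπR x hx) (hπu x).1 (hπu x).2
      have e2 := hno _ (hπR y hy) (hπu y).1 (hπu y).2
      have e3 := hno _ (hRa _ (hπR x hx) _ (hπR y hy))
        (by rw [hu.add_left, (hπu x).1, (hπu y).1, add_zero])
        (by rw [hu.add_left, (hπu x).2, (hπu y).2, add_zero])
      have e4 : f (π x) (π x + π y) = f (π x) (π x) + f (π x) (π y) := Transvec.Herm.add_right hu _ _ _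
      have e5 : f (π y) (π x + π y) = f (π y) (π x) + f (π y) (π y) := Transvec.Herm.add_right hu _ _ _
      rw [hu.add_left (π x) (π y), e4, e5, e1, e2,
        hsym _ (hπR x hx) _ (hπR y hy), zero_add, add_zero] at e3
      exact (mul_eq_zero.1 (by linear_combination e3 : (2 : F) * f (π x) (π y) = 0)).resolve_left h2ne
    have hspan : ∀ i, bP i ∈ Submodule.span F {u, u'} := by
      intro i
      have h0 : π (bP i) = 0 := by
        by_contra hne
        obtain ⟨y, hy⟩ := (hu.nondegenerate _ hne).2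
        refine hy ?_
        have hy' : y = mv P (mv P⁻¹ y) := by simp [Transvec.mv, Matrix.mulVec_mulVec]
        have hcomb : mv P (mv P⁻¹ y) = ∑ j, (mv P⁻¹ y) j • bP j := by
          funext k
          simp [bP, Transvec.mv, Matrix.mulVec, dotProduct, Finset.sum_apply, mul_comm]
        have hzero : ∀ j, f (π (bP i)) (bP j) = 0 := by
          intro j
          have hj : bP j = π (bP j) + (f (bP j) u / f u u) • u + (f (bP j) u' / f u' u') • u' := by
            simp only [π, neg_smul]; abel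
          rw [hj, Transvec.Herm.add_right hu, Transvec.Herm.add_right hu, Transvec.Herm.smul_right hu,
            Transvec.Herm.smul_right hu, hz _ (hbR i) _ (hbR j), (hπu _).1, (hπu _).2]
          ring
        rw [hy', hcomb, Fin.sum_univ_three, Transvec.Herm.add_right hu, Transvec.Herm.add_right hu,
          Transvec.Herm.smul_right hu, Transvec.Herm.smul_right hu, Transvec.Herm.smul_right hu,
          hzero, hzero, hzero]
        ring
      have hj : bP i = π (bP i) + (f (bP i) u / f u u) • u + (f (bP i) u' / f u' u') • u' := by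
        simp only [π, neg_smul]; abel
      rw [hj, h0, zero_add]
      exact Submodule.add_mem _ (Submodule.smul_mem _ _ (Submodule.subset_span (Set.mem_insert _ _)))
        (Submodule.smul_mem _ _ (Submodule.subset_span (Set.mem_insert_of_mem _ rfl)))
    have hlin : LinearIndependent F bP := by
      refine Fintype.linearIndependent_iff.2 fun g hg => ?_
      have h1 : mv P g = 0 := by
        rw [← hg]
        funext k
        simp [bP, Transvec.mv, Matrix.mulVec, dotProduct, Finset.sum_apply, mul_comm]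
      exact congrFun (mv_inj P (h1.trans (Matrix.mulVec_zero _).symm))
    have h3 := finrank_span_eq_card hlin
    have hle : Module.finrank F (Submodule.span F (Set.range bP)) ≤
        Module.finrank F (Submodule.span F ({u, u'} : Set (Fin 3 → F))) :=
      Submodule.finrank_mono (Submodule.span_le.2 (by rintro _ ⟨i, rfl⟩; exact hspan i))
    have h4 : Module.finrank F (Submodule.span F ({u, u'} : Set (Fin 3 → F))) ≤ 2 := by
      refine (finrank_span_le_card _).trans ?_
      rw [Set.toFinset_card]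
      simp only [Fintype.card_ofFinset]
      exact (Finset.card_insert_le _ _).trans (by simp)
    rw [Fintype.card_fin] at h3
    omega
  obtain ⟨u₁, hu₁, -, -, hn₁⟩ := next' 0 hR0 0 hR0 (Transvec.Herm.zero_left hu _) (Or.inl rfl) (Or.inl rfl)
  obtain ⟨u₂, hu₂, h21, -, hn₂⟩ := next' u₁ hu₁ 0 hR0 (Transvec.Herm.zero_right hu _) (Or.inr hn₁) (Or.inl rfl)
  obtain ⟨u₃, hu₃, h31, h32, hn₃⟩ := next' u₁ hu₁ u₂ hu₂
    ((Transvec.Herm.f_eq_zero_comm hu).1 h21) (Or.inr hn₁) (Or.inr hn₂)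
  -- equal norms
  obtain ⟨a, ha, ea⟩ := S.exists_code (f u₁ u₁)
  obtain ⟨b, hb, eb⟩ := S.exists_code (f u₂ u₂)
  obtain ⟨c, hc', ec⟩ := S.exists_code (f u₃ u₃)
  have hap := S.fixed_code ha (by rw [ea]; exact hreal _ (hRf _ hu₁ _ hu₁))
  have hbp := S.fixed_code hb (by rw [eb]; exact hreal _ (hRf _ hu₂ _ hu₂))
  have hcp := S.fixed_code hc' (by rw [ec]; exact hreal _ (hRf _ hu₃ _ hu₃))
  have hne0 : a ≠ 0 ∧ b ≠ 0 ∧ c ≠ 0 :=
    ⟨fun h => hn₁ (by rw [← ea, h, S.cd_zero]), fun h => hn₂ (by rw [← eb, h, S.cd_zero]),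
      fun h => hn₃ (by rw [← ec, h, S.cd_zero])⟩
  have heq : equalised p a b c = true := by
    rcases S.small with rfl | rfl
    · exact equalised_three a hap b hbp c hcp hne0.1 hne0.2.1 hne0.2.2
    · exact equalised_five a hap b hbp c hcp hne0.1 hne0.2.1 hne0.2.2
  simp only [equalised, List.any_eq_true, Bool.and_eq_true, bne_iff_ne, beq_iff_eq, List.mem_range] at heq
  obtain ⟨d, hd, hd0, x, hx, hxx, y, hy, ⟨hyy, hxy⟩, z, hz, ⟨hzz, hxz⟩, hyz⟩ := heq
  have hvlt : ∀ v ∈ realVecs p, v.1 < p ∧ v.2.1 < p ∧ v.2.2 < p := by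
    intro v hv
    simp only [realVecs, List.mem_map, List.mem_range] at hv
    obtain ⟨i, hi, rfl⟩ := hv
    exact ⟨(Nat.div_lt_iff_lt_mul (Nat.mul_pos S.pos S.pos)).2 (by rwa [← mul_assoc]),
      Nat.mod_lt _ S.pos, Nat.mod_lt _ S.pos⟩
  have hF0 : ∀ i < p, cd p s i ∈ F₀ := fun i hi => by
    rw [cd, Nat.mod_eq_of_lt hi, Nat.div_eq_of_lt hi, Nat.cast_zero, zero_mul, add_zero]
    exact natCast_mem F₀ i
  let comb : CV → (Fin 3 → F) := fun v => cd p s v.1 • u₁ + cd p s v.2.1 • u₂ + cd p s v.2.2 • u₃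
  have hcR : ∀ v ∈ realVecs p, comb v ∈ R := fun v hv =>
    hRa _ (hRa _ (hRs _ (hF0 _ (hvlt v hv).1) _ hu₁) _ (hRs _ (hF0 _ (hvlt v hv).2.1) _ hu₂)) _
      (hRs _ (hF0 _ (hvlt v hv).2.2) _ hu₃)
  have hcf : ∀ v w, w ∈ realVecs p → f (comb v) (comb w) =
      cd p s (cDot p (cMul p a v.1, cMul p b v.2.1, cMul p c v.2.2) w) := by
    intro v w hw
    have e12 := (Transvec.Herm.f_eq_zero_comm hu).1 h21
    have e13 := (Transvec.Herm.f_eq_zero_comm hu).1 h31
    have e23 := (Transvec.Herm.f_eq_zero_comm hu).1 h32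
    simp only [comb, hu.add_left, Transvec.Herm.add_right hu, hu.smul_left,
      Transvec.Herm.smul_right hu, h21, h31, h32, e12, e13, e23, ← ea, ← eb, ← ec, hσ,
      S.fixed_of_lt (hvlt w hw).1, S.fixed_of_lt (hvlt w hw).2.1, S.fixed_of_lt (hvlt w hw).2.2,
      mul_zero, add_zero, zero_add, cDot, S.cd_add, S.cd_mul]
    ring
  obtain ⟨l, hl⟩ := S.exists_norm (S.fixed_of_lt hd)
  have hdne : cd p s d ≠ 0 := S.cd_ne_zero (by have := S.pos; nlinarith) hd0
  let V : Fin 3 → Fin 3 → F := ![comb x, comb y, comb z]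
  have hVR : ∀ i, V i ∈ R := fun i => by fin_cases i <;> simp [V] <;> exact hcR _ ‹_›
  have hVf : ∀ i j, f (V i) (V j) = if i = j then cd p s d else 0 := by
    have exy : f (comb x) (comb y) = 0 := by rw [hcf x y hy, hxy, S.cd_zero]
    have exz : f (comb x) (comb z) = 0 := by rw [hcf x z hz, hxz, S.cd_zero]
    have eyz : f (comb y) (comb z) = 0 := by rw [hcf y z hz, hyz, S.cd_zero]
    have exx : f (comb x) (comb x) = cd p s d := by rw [hcf x x hx, hxx]
    have eyy : f (comb y) (comb y) = cd p s d := by rw [hcf y y hy, hyy]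
    have ezz : f (comb z) (comb z) = cd p s d := by rw [hcf z z hz, hzz]
    intro i j
    fin_cases i <;> fin_cases j <;>
      simp [V, exx, eyy, ezz, exy, exz, eyz, (Transvec.Herm.f_eq_zero_comm hu).1 exy,
        (Transvec.Herm.f_eq_zero_comm hu).1 exz, (Transvec.Herm.f_eq_zero_comm hu).1 eyz]
  let w : Fin 3 → Fin 3 → F := fun i => l⁻¹ • V i
  have hll : l⁻¹ * σ l⁻¹ = (cd p s d)⁻¹ := by rw [map_inv₀, hσ, ← mul_inv, hl]
  have hww : ∀ i j, f (w i) (w j) = if i = j then 1 else 0 := fun i j => by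
    rw [hu.smul_left, Transvec.Herm.smul_right hu, hVf, ← mul_assoc, hll]
    split_ifs
    · exact inv_mul_cancel₀ hdne
    · exact mul_zero _
  obtain ⟨Q, hQG, hQe, hQm⟩ := exists_frame_gl hu hσ w hww
  refine ⟨w, Q, hQG, hww, hQe, fun g hg => ?_⟩
  obtain ⟨_, hy', rfl⟩ := hg
  obtain ⟨A, ⟨g₀, rfl⟩, zz, hzz', rfl⟩ := Subgroup.mem_sup_of_normal_right.1 hy'
  obtain ⟨cc, hcc⟩ := (Geo.mem_scalars_iff zz).1 hzz'
  set A := Matrix.GeneralLinearGroup.map (F₀.subtype : F₀ →+* F) g₀ with hA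
  set g := (MulAut.conj P).toMonoidHom (A * zz) with hg
  have himg : ∀ x ∈ R, ∃ y ∈ R, mv g x = (cc : F) • y := by
    rintro x ⟨u, hu', rfl⟩
    refine ⟨mv P (A.val *ᵥ u), ⟨_, fun i => ?_, rfl⟩, ?_⟩
    · show ∑ j, A.val i j * u j ∈ F₀
      exact F₀.sum_mem fun j _ => F₀.mul_mem (g₀.val i j).2 (hu' j)
    · simp [hg, Transvec.mv, Matrix.mulVec_mulVec, mul_assoc, hcc, Matrix.smul_mulVec]
  have hent : ∀ i j, ∃ r, r < p ∧ f (mv g (w j)) (w i) = (cc : F) * cd p s r := by
    intro i j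
    obtain ⟨Y, hY, hgY⟩ := himg _ (hVR j)
    obtain ⟨r, hr, er⟩ := S.exists_code (f Y (V i) / cd p s d)
    have hmem : f Y (V i) / cd p s d ∈ F₀ := F₀.div_mem (hRf _ hY _ (hVR i)) (hF0 _ hd)
    refine ⟨r, S.fixed_code hr (by rw [er]; exact hreal _ hmem), ?_⟩
    show f (g.val *ᵥ (l⁻¹ • V j)) (l⁻¹ • V i) = _
    rw [Matrix.mulVec_smul, show g.val *ᵥ V j = (cc : F) • Y from hgY, hu.smul_left, hu.smul_left,
      Transvec.Herm.smul_right hu, er, div_eq_inv_mul, ← hll]
    ring
  choose r hr hre using hent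
  refine ⟨cc, ((r 0 0, r 0 1, r 0 2), (r 1 0, r 1 1, r 1 2), (r 2 0, r 2 1, r 2 2)), ?_, ?_⟩
  · intro i hi
    simp only [List.mem_cons, List.mem_nil_iff, or_false] at hi
    rcases hi with rfl | rfl | rfl | rfl | rfl | rfl | rfl | rfl | rfl <;> exact hr _ _
  · ext i j
    rw [hQm, Matrix.smul_apply, smul_eq_mul]
    refine (hre i j).trans ?_
    fin_cases i <;> fin_cases j <;> rfl

/-- A rational matrix times a scalar in the special unitary group is a rotation times a scalar. -/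
theorem rot_of_real (S : Setup p F s) {g : GL (Fin 3) F}
    (hgG : g ∈ GU 3 F p ⊓ Geo.specialLinear (Fin 3) F) {c : F} {M : CM}
    (hM : ∀ i ∈ [M.1.1, M.1.2.1, M.1.2.2, M.2.1.1, M.2.1.2.1, M.2.1.2.2, M.2.2.1, M.2.2.2.1, M.2.2.2.2],
      i < p) (hg : g.val = c • cm p s M) :
    ∃ (μ : F) (a b d : CV), a ∈ unitVecs p ∧ b ∈ unitVecs p ∧ d ∈ unitVecs p ∧ cDot p a b = 0 ∧
      cDot p a d = 0 ∧ cDot p b d = 0 ∧ cDet p (cT (a, b, d)) = 1 ∧
      g.val = μ • cm p s (cT (a, b, d)) := by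
  classical
  haveI := S.char
  haveI : Fact p.Prime := ⟨by rcases S.small with rfl | rfl <;> norm_num⟩
  set A := cm p s M with hA
  have hreal : ∀ i j, A i j ^ p = A i j := by
    intro i j
    simp only [List.mem_cons, List.mem_nil_iff, or_false] at hM
    fin_cases i <;> fin_cases j <;> simp [hA, cm, cv] <;> apply S.fixed_of_lt <;> apply hM <;> simp
  have hcol : ∀ i j, hermForm 3 F p (g.val *ᵥ Pi.single i 1) (g.val *ᵥ Pi.single j 1) =
      if i = j then 1 else 0 := fun i j => by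
    refine (hgG.1 _ _).trans ?_
    have hp0 := S.pos.ne'
    fin_cases i <;> fin_cases j <;> simp [hermForm, Fin.sum_univ_three, hp0]
  have horth : (c * c ^ p) • (A.transpose * A) = 1 := by
    ext i j
    have h1 := hcol i j
    simp only [hg, Matrix.smul_mulVec, Matrix.mulVec_single_one, hermForm, Pi.smul_apply, smul_eq_mul,
      Matrix.col_apply, Matrix.smul_apply, mul_pow, hreal, Fin.sum_univ_three] at h1
    simp only [Matrix.smul_apply, Matrix.mul_apply, Matrix.transpose_apply, Matrix.one_apply,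
      Fin.sum_univ_three, smul_eq_mul]
    linear_combination h1
  have hdet : c ^ 3 * A.det = 1 := by
    have h1 : g.val.det = 1 := by
      rw [← Matrix.GeneralLinearGroup.val_det_apply, MonoidHom.mem_ker.1 hgG.2, Units.val_one]
    rwa [hg, Matrix.det_smul, Fintype.card_fin] at h1
  set lam := c * c ^ p with hlam
  have hlamp : lam ^ p = lam := by
    rw [hlam, mul_pow, ← pow_mul c p p, ← sq, show c ^ p ^ 2 = c by rw [← S.card]; exact FiniteField.pow_card c]
    ring
  have hsq : lam ^ 3 * A.det ^ 2 = 1 := by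
    have h1 := congrArg Matrix.det horth
    rw [Matrix.det_smul, Matrix.det_mul, Matrix.det_transpose, Matrix.det_one, Fintype.card_fin] at h1
    linear_combination h1
  set r := A.det * lam with hr
  have hdetp : A.det ^ p = A.det := by
    have := RingHom.map_det (frobenius F p) A
    rw [frobenius_def] at this
    rw [this]
    congr 1
    exact Matrix.ext fun i j => by simp [frobenius_def, hreal]
  have hrp : r ^ p = r := by rw [hr, mul_pow, hdetp, hlamp]
  have hr2 : lam * r ^ 2 = 1 := by rw [hr]; linear_combination hsq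
  have hr0 : r ≠ 0 := fun h => by rw [h] at hr2; simp at hr2
  set O := r⁻¹ • A with hO
  have hOorth : O.transpose * O = 1 := by
    rw [hO, Matrix.transpose_smul, Matrix.smul_mul, Matrix.mul_smul, smul_smul, ← horth]
    congr 1
    field_simp
    linear_combination -hr2
  set ε := O.det with hε
  have hε2 : ε * ε = 1 := by
    have h1 := congrArg Matrix.det hOorth
    rwa [Matrix.det_mul, Matrix.det_transpose, Matrix.det_one] at h1
  set O' := ε • O with hO'
  have hO'orth : O'.transpose * O' = 1 := by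
    rw [hO', Matrix.transpose_smul, Matrix.smul_mul, Matrix.mul_smul, smul_smul, hOorth, hε2, one_smul]
  have hO'det : O'.det = 1 := by
    rw [hO', Matrix.det_smul, Fintype.card_fin, ← hε]
    linear_combination (ε * ε + 1) * hε2
  have hεp : ε ^ p = ε := by
    rw [hε, hO, Matrix.det_smul, Fintype.card_fin, mul_pow, hdetp, ← pow_mul, mul_comm 3 p, pow_mul,
      inv_pow, hrp]
  have hO'p : ∀ i j, O' i j ^ p = O' i j := fun i j => by
    simp [hO', hO, Matrix.smul_apply, mul_pow, inv_pow, hεp, hrp, hreal]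
  have hcode : ∀ i j, ∃ x, x < p ∧ cd p s x = O' i j := fun i j => by
    obtain ⟨x, hx, ex⟩ := S.exists_code (O' i j)
    exact ⟨x, S.fixed_code hx (by rw [ex]; exact hO'p i j), ex⟩
  choose x hx ex using hcode
  let col : Fin 3 → CV := fun j => (x 0 j, x 1 j, x 2 j)
  have hmat : cm p s (cT (col 0, col 1, col 2)) = O' := by
    ext i j
    fin_cases i <;> fin_cases j <;> simp [cm, cv, cT, col, ex]
  have hdot : ∀ i j, cd p s (cDot p (col i) (col j)) = (1 : Matrix (Fin 3) (Fin 3) F) i j := fun i j => by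
    rw [← hO'orth]
    simp [col, cDot, S.cd_add, S.cd_mul, ex, Matrix.mul_apply, Fin.sum_univ_three]
  have hpp : p < p * p := by rcases S.small with rfl | rfl <;> norm_num
  have hd1 : ∀ i, cDot p (col i) (col i) = 1 := fun i =>
    S.cd_inj (S.cDot_lt _ _) (by linarith [S.pos]) (by rw [hdot, Matrix.one_apply_eq, S.cd_one])
  have hd0 : ∀ i j, i ≠ j → cDot p (col i) (col j) = 0 := fun i j h =>
    S.cd_inj (S.cDot_lt _ _) (by linarith [S.pos]) (by rw [hdot, Matrix.one_apply_ne h, S.cd_zero])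
  have hmem : ∀ i, col i ∈ unitVecs p := fun i => by
    refine List.mem_filter.2 ⟨List.mem_map.2 ⟨x 0 i * (p * p) + x 1 i * p + x 2 i, List.mem_range.2 ?_, ?_⟩, ?_⟩
    · have := hx 0 i; have := hx 1 i; have := hx 2 i; nlinarith
    · have h0 := hx 0 i; have h1 := hx 1 i; have h2 := hx 2 i
      have k : ∀ a b c n : ℕ, a < n → b < n → c < n → (n = 3 ∨ n = 5) →
          ((a * (n * n) + b * n + c) / (n * n) = a ∧ (a * (n * n) + b * n + c) / n % n = b ∧
            (a * (n * n) + b * n + c) % n = c) := by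
        intro a b c n ha hb hc hn
        rcases hn with rfl | rfl <;> omega
      obtain ⟨k0, k1, k2⟩ := k _ _ _ _ h0 h1 h2 S.small
      simp [col, k0, k1, k2]
    · simp [hd1]
  refine ⟨c * (r * ε), col 0, col 1, col 2, hmem 0, hmem 1, hmem 2, hd0 0 1 (by decide),
    hd0 0 2 (by decide), hd0 1 2 (by decide), ?_, ?_⟩
  · refine S.cd_inj (S.cAdd_lt _ _) (by linarith [S.pos]) ?_
    rw [← S.cm_det, hmat, hO'det, S.cd_one]
  · rw [hg, hmat, hO', hO, smul_smul, smul_smul]
    congr 1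
    field_simp
    linear_combination -(c * hε2)

/-- Over nine elements an orthogonal subfield group fixes a frame. -/
theorem exists_decomp_of_subTwo_three (hF : Fintype.card F = 3 ^ 2) {F₀ : Subfield F}
    {P : GL (Fin 3) F} (hc : Fintype.card F = Nat.card F₀ ^ 2)
    (hP : Geo.IsFormRationalStructure (hermForm 3 F 3) F₀ 1 P) :
    ∃ D : Fin 3 → Submodule F (Fin 3 → F), Geo.IsNondegenerateMDecomposition (hermForm 3 F 3) 1 D ∧
      ∀ g ∈ GU 3 F 3 ⊓ Geo.specialLinear (Fin 3) F, g ∈ Geo.subfieldSubgroup F₀ P →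
        g ∈ Geo.decompositionStabilizer D := by
  classical
  obtain ⟨s, S⟩ := exists_setup (Or.inl rfl) hF
  obtain ⟨σ, hσ, hu, -⟩ := UnitaryStd.exists_setup (n := 3) hF (by norm_num)
  obtain ⟨w, Q, hQG, hww, hQe, hQ⟩ := exists_real_frame S hu hσ hc hP
  have hw0 : ∀ i, hermForm 3 F 3 (w i) (w i) ≠ 0 := fun i => by simp [hww]
  refine ⟨fun i => Submodule.span F {w i}, nondegDecomp_of_orth hu (by norm_num) one_pos
    (fun i => Transvec.Herm.finrank_span_single hu (hw0 i)) (by simp) (fun i x hx hx0 => ?_)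
    (fun i j hij u hu' v hv => ?_), fun g hgG hg => ?_⟩
  · obtain ⟨c, rfl⟩ := Submodule.mem_span_singleton.1 hx
    have hc : c ≠ 0 := fun h => hx0 (by rw [h, zero_smul])
    refine ⟨⟨w i, Submodule.mem_span_singleton_self _, ?_⟩, ⟨w i, Submodule.mem_span_singleton_self _, ?_⟩⟩
    · rw [Transvec.Herm.smul_right hu, hww, if_pos rfl, mul_one]
      exact (map_ne_zero_iff σ σ.injective).2 hc
    · rw [hu.smul_left, hww, if_pos rfl, mul_one]; exact hc
  · obtain ⟨a, rfl⟩ := Submodule.mem_span_singleton.1 hu'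
    obtain ⟨b, rfl⟩ := Submodule.mem_span_singleton.1 hv
    rw [hu.smul_left, Transvec.Herm.smul_right hu, hww, if_neg hij, mul_zero, mul_zero]
  obtain ⟨c, M, hM, hgM⟩ := hQ g hg
  obtain ⟨μ, a, b, d, ha, hb, hd, -, -, -, -, he⟩ := rot_of_real S (conj_mem_G hQG hgG) hM hgM
  have himg : ∀ j : Fin 3, ∃ i : Fin 3, ∃ l : F, mv g (w j) = l • w i := by
    intro j
    obtain ⟨i, hi, x, -, -, hx⟩ := rot_mono_three ((![a, b, d] : Fin 3 → CV) j)
      (by fin_cases j <;> simp [ha, hb, hd])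
    have hcol : mv (Q⁻¹ * g * Q) (Pi.single j 1) = (μ * cd 3 s x) • Pi.single (⟨i, hi⟩ : Fin 3) 1 := by
      show (Q⁻¹ * g * Q).val *ᵥ _ = _
      rw [he, Matrix.smul_mulVec, Matrix.mulVec_single_one, ← smul_smul]
      congr 1
      have hcv : cv 3 s ((![a, b, d] : Fin 3 → CV) j) = (cm 3 s (cT (a, b, d))).col j := by
        funext k
        fin_cases j <;> fin_cases k <;> simp [cm, cv, cT]
      rw [← hcv, hx, S.cv_sm]
      congr 1
      funext k
      interval_cases i <;> fin_cases k <;> simp [cv, cE, S.cd_zero, S.cd_one]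
    refine ⟨⟨i, hi⟩, μ * cd 3 s x, ?_⟩
    have h1 := congrArg (mv Q) hcol
    simp only [Transvec.mv, Matrix.mulVec_smul, Matrix.mulVec_mulVec] at h1
    rw [← hQe, ← hQe]
    simp only [Transvec.mv, Matrix.mulVec_mulVec]
    simpa [mul_assoc] using h1
  choose ρ l hρ using himg
  have hl : ∀ j, l j ≠ 0 := fun j h => by
    have h1 := hρ j
    rw [h, zero_smul] at h1
    exact hw0 j (by rw [mv_inj g (h1.trans (Matrix.mulVec_zero _).symm), Transvec.Herm.zero_left hu])
  have hinj : Function.Injective ρ := fun j j' h => by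
    by_contra hne
    have h1 : hermForm 3 F 3 (mv g (w j)) (mv g (w j')) = hermForm 3 F 3 (w j) (w j') := hgG.1 _ _
    rw [hρ, hρ, h, hu.smul_left, Transvec.Herm.smul_right hu, hww, hww, if_pos rfl, if_neg hne,
      mul_one] at h1
    exact mul_ne_zero (hl j) ((map_ne_zero_iff σ σ.injective).2 (hl j')) h1
  refine ⟨Equiv.ofBijective ρ (Finite.injective_iff_bijective.1 hinj), fun j => ?_⟩
  show (Submodule.span F {w j}).map _ = Submodule.span F {w (ρ j)}
  rw [Submodule.map_span, Set.image_singleton, Matrix.toLin'_apply]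
  change F ∙ mv g (w j) = _
  rw [hρ]
  exact Submodule.span_singleton_smul_eq (hl j).isUnit _

/-- Over twenty-five elements an orthogonal subfield group is not maximal. -/
theorem subTwo_not_maximal_five (hF : Fintype.card F = 5 ^ 2) {F₀ : Subfield F}
    {P : GL (Fin 3) F} (hc : Fintype.card F = Nat.card F₀ ^ 2)
    (hP : Geo.IsFormRationalStructure (hermForm 3 F 5) F₀ 1 P) {H : Subgroup (GL (Fin 3) F)}
    (hH : Geo.IsMaximalIn (GU 3 F 5 ⊓ Geo.specialLinear (Fin 3) F) H)
    (he : H = Geo.subfieldSubgroup F₀ P ⊓ (GU 3 F 5 ⊓ Geo.specialLinear (Fin 3) F)) : False := by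
  classical
  obtain ⟨s, S⟩ := exists_setup (Or.inr rfl) hF
  obtain ⟨σ, hσ, hu, -⟩ := UnitaryStd.exists_setup (n := 3) hF (by norm_num)
  obtain ⟨w, Q, hQG, hww, hQe, hQ⟩ := exists_real_frame S hu hσ hc hP
  have h12 : (12 : ℕ) ∈ units25 := by decide
  obtain ⟨hd1, -, hd2, -⟩ := carriesDiag 12 h12
  refine false_of_overgroup (L := ptStab 5 s L105) (e := S.gl _ hd1)
    (d := S.gl d105 su25.2.2.2.1) hQG hH ?_ ⟨S.mem_ptStab (S.gl_coe _ _) hd2, S.gl_mem _ _⟩ ?_
    (S.gl_mem _ _) (S.not_mem_ptStab (S.gl_coe _ _) moves105.1 moves105.2)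
  · intro g hg
    rw [he] at hg
    obtain ⟨c, M, hM, hgM⟩ := hQ g hg.1
    obtain ⟨μ, a, b, d, ha, hb, hd, hab, had, hbd, hdet, hgO⟩ :=
      rot_of_real S (conj_mem_G hQG hg.2) hM hgM
    have hmem := rot_covered_five a ha b hb hab d hd had hbd hdet
    simp only [listSO, List.mem_flatMap, List.mem_map, List.mem_finRange, true_and, List.mem_range] at hmem
    obtain ⟨k, t, ht, i, -, hkt⟩ := hmem
    obtain ⟨hp1, hp2⟩ := carriesPerm k
    obtain ⟨ht1, ht2⟩ := signs_carry t ht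
    set O := S.gl _ hp1 * S.gl _ ht1 * S.gl g5 su25.2.2.2.2 ^ i with hO
    have hpow : ∀ j, (S.gl g5 su25.2.2.2.2 ^ j).val = cm 5 s (cMPow 5 g5 j) := fun j => by
      induction j with
      | zero => rw [pow_zero, Units.val_one, cMPow, S.cm_one]
      | succ j ih => rw [pow_succ, Units.val_mul, ih, S.gl_coe, S.cm_mul]; rfl
    have hOv : O.val = cm 5 s (cT (a, b, d)) := by
      rw [hO, Units.val_mul, Units.val_mul, hpow, S.gl_coe, S.gl_coe, S.cm_mul, S.cm_mul, hkt]
    have hOL : O ∈ ptStab 5 s L105 := Subgroup.mul_mem _ (Subgroup.mul_mem _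
      (S.mem_ptStab (S.gl_coe _ _) hp2) (S.mem_ptStab (S.gl_coe _ _) ht2))
      (Subgroup.pow_mem _ (S.mem_ptStab (S.gl_coe _ _) carries25.2.2.2) _)
    have hz : (Q⁻¹ * g * Q * O⁻¹) ∈ ptStab 5 s L105 := scalar_mem_ptStab (c := μ) (by
      rw [Units.val_mul, hgO, ← hOv, Matrix.smul_mul, Units.mul_inv])
    have h2 := Subgroup.mul_mem _ hz hOL
    rwa [inv_mul_cancel_right] at h2
  · intro hmem
    rw [he] at hmem
    obtain ⟨c, M, hM, hgM⟩ := hQ _ hmem.1
    simp only [mul_assoc, inv_mul_cancel_left, inv_mul_cancel, mul_one, S.gl_coe] at hgM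
    simp only [List.mem_cons, List.mem_nil_iff, or_false] at hM
    have h00 := congrFun (congrFun hgM 0) 0
    have h22 := congrFun (congrFun hgM 2) 2
    simp [cm, cv, cDiag, S.cd_one] at h00 h22
    have r00 := S.fixed_of_lt (hM M.1.1 (by simp))
    have r22 := S.fixed_of_lt (hM M.2.2.2.2 (by simp))
    have hc5 : c ^ 5 = c := by
      have hne : cd 5 s M.2.2.2.2 ≠ 0 := fun h => by
        rw [h, mul_zero] at h22; exact one_ne_zero h22
      have h1 := congrArg (· ^ 5) h22
      simp only [one_pow, mul_pow, r22] at h1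
      exact mul_right_cancel₀ hne (h1.symm.trans h22)
    have h12' : cd 5 s 12 ^ 5 = cd 5 s 12 := by rw [h00, mul_pow, hc5, r00]
    exact absurd (S.fixed_code (by norm_num) h12') (by norm_num)

end Field

end Cfsg.Agent.Aschbacher.UnitThree
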