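import Cfsg.Agent.Lib.Aschbacher.UnitThreeField
import Cfsg.Agent.Lib.Aschbacher.UnitThreeFrame
import Cfsg.Agent.Lib.Aschbacher.UnitRefine

/-!
The normaliser of an extraspecial group of order 27 is not maximal in `SU₃(5)`.
-/

set_option autoImplicit false
set_option linter.style.haveILetI false

namespace Cfsg.Agent.Aschbacher.UnitThree

open scoped MatrixGroups Matrix
open Matrix
open Cfsg.Agent.Transvec (mv mv_inj)

set_option synthInstance.maxSize 2048
set_option synthInstance.maxHeartbeats 800000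

lemma listN_unitary : (listN.all fun n => cMM 5 (cStar 5 n.1) n.1 == cOne &&
    cDet 5 n.1 == cPow 5 12 n.2 && Nat.blt n.2 3 &&
    (n.2 != 0 || (cSU 5 n.1 && cCarries 5 n.1 L36))) = true := by decide +kernel

lemma cube_roots : ∀ c < 25, cPow 5 c 3 = 1 → c = 1 ∨ c = 12 ∨ c = cMul 5 12 12 := by decide +kernel

lemma listR_small : (listR.all fun A => [A.1.1, A.1.2.1, A.1.2.2, A.2.1.1, A.2.1.2.1, A.2.1.2.2,
    A.2.2.1, A.2.2.2.1, A.2.2.2.2].all fun x => Nat.blt x 25) = true := by decide +kernel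

section Field

variable {F : Type*} [Field F] [Fintype F]

/-- The normaliser of an extraspecial group of order 27 is not maximal over twenty-five elements. -/
theorem symplType_not_maximal_five (hF : Fintype.card F = 5 ^ 2) {R : Subgroup (GL (Fin 3) F)}
    (htype : Geo.IsSymplecticTypeGroup 3 R) (habs : Geo.ActsAbsolutelyIrreducibly (Geo.matrixSet R))
    (hsim : R ≤ Geo.similarityGroup (hermForm 3 F 5)) (hR : Nat.card R = 27)
    (hC : Nat.card (Subgroup.center R) = 3) {H : Subgroup (GL (Fin 3) F)}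
    (hH : Geo.IsMaximalIn (GU 3 F 5 ⊓ Geo.specialLinear (Fin 3) F) H)
    (he : H = Geo.subgroupNormalizer R ⊓ (GU 3 F 5 ⊓ Geo.specialLinear (Fin 3) F)) : False := by
  classical
  obtain ⟨s, S⟩ := exists_setup (Or.inr rfl) hF
  obtain ⟨σ, hσ, hu, -⟩ := UnitaryStd.exists_setup (n := 3) hF (by norm_num)
  set f := hermForm 3 F 5 with hf
  haveI : Fact (Nat.Prime 3) := ⟨Nat.prime_three⟩
  have hRU : R ≤ GU 3 F 5 := le_GU_of_coprime (by norm_num) hF Nat.prime_three (by norm_num) htype.pGroup hsim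
  have hexp : ∀ x ∈ R, x ^ 3 = 1 := fun x hx => by
    have h1 := Monoid.pow_exponent_eq_one (⟨x, hx⟩ : R)
    rw [htype.exponent_eq] at h1
    exact congrArg Subtype.val h1
  have hscal : ∀ z ∈ R, (∀ y ∈ R, z * y = y * z) → ∃ c : F, z.val = c • 1 := fun z _ h =>
    habs.2 z.val (by
      rintro _ ⟨y, hy, rfl⟩
      exact congrArg Units.val (h y hy))
  -- two generators
  obtain ⟨x, hx, y, hy, hxy⟩ : ∃ x ∈ R, ∃ y ∈ R, y * x ≠ x * y := by
    by_contra h
    push Not at h
    have htop : Subgroup.center R = ⊤ := eq_top_iff.2 fun a _ =>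
      Subgroup.mem_center_iff.2 fun b => Subtype.ext (h a a.2 b b.2)
    rw [htop, Subgroup.card_top, hR] at hC
    norm_num at hC
  have hcomm : ∃ c : F, (y * x * y⁻¹ * x⁻¹).val = c • 1 := by
    have hq : Nat.card (↥R ⧸ Subgroup.center ↥R) = 3 ^ 2 := by
      have := Subgroup.card_eq_card_quotient_mul_card_subgroup (Subgroup.center ↥R)
      rw [hR, hC] at this
      omega
    have hcom := IsPGroup.commutative_of_card_eq_prime_sq hq
    have hmem : ((⟨y, hy⟩ : R) * ⟨x, hx⟩ * (⟨y, hy⟩ : R)⁻¹ * (⟨x, hx⟩ : R)⁻¹) ∈ Subgroup.center ↥R := by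
      rw [← QuotientGroup.eq_one_iff, QuotientGroup.mk_mul, QuotientGroup.mk_mul, QuotientGroup.mk_mul,
        QuotientGroup.mk_inv, QuotientGroup.mk_inv,
        hcom ((⟨y, hy⟩ : R) : ↥R ⧸ Subgroup.center ↥R) ((⟨x, hx⟩ : R) : ↥R ⧸ Subgroup.center ↥R)]
      group
    refine hscal _ (R.mul_mem (R.mul_mem (R.mul_mem hy hx) (R.inv_mem hy)) (R.inv_mem hx)) fun b hb => ?_
    exact (congrArg Subtype.val (Subgroup.mem_center_iff.1 hmem ⟨b, hb⟩)).symm
  obtain ⟨c, hc⟩ := hcomm
  have hyx : (y.val * x.val : Matrix (Fin 3) (Fin 3) F) = c • (x.val * y.val) := by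
    have : y * x = (y * x * y⁻¹ * x⁻¹) * (x * y) := by group
    have h1 := congrArg Units.val this
    rw [Units.val_mul, Units.val_mul _ (x * y), hc, Matrix.smul_mul, one_mul, Units.val_mul] at h1
    exact h1
  set w := cd 5 s 12 with hw
  have hw3 : w ^ 3 = 1 := by
    rw [hw, ← S.cd_pow, show cPow 5 12 3 = 1 by decide +kernel, S.cd_one]
  have hw1 : w ≠ 1 := fun h => absurd (S.cd_inj (x := 12) (y := 1) (by norm_num) (by norm_num)
    (h.trans S.cd_one.symm)) (by norm_num)
  have hsum : 1 + w + w ^ 2 = 0 := mul_left_cancel₀ (sub_ne_zero.2 hw1) (by linear_combination hw3)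
  have hw0 : w ≠ 0 := fun h => by rw [h] at hw3; norm_num at hw3
  -- the relation with the chosen root
  obtain ⟨X, hX, Z, hZ, hZX⟩ : ∃ X ∈ R, ∃ Z ∈ R,
      (Z.val * X.val : Matrix (Fin 3) (Fin 3) F) = w • (X.val * Z.val) := by
    have hc3 : c ^ 3 = 1 := by
      have h1 : (y * x * y⁻¹) ^ 3 = 1 := by rw [conj_pow, hexp x hx]; group
      have h2 : (y * x * y⁻¹).val = c • x.val := by
        have : y * x * y⁻¹ = (y * x * y⁻¹ * x⁻¹) * x := by group
        rw [this, Units.val_mul, hc, Matrix.smul_mul, one_mul]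
      have h3 := congrArg Units.val h1
      rw [Units.val_pow_eq_pow_val, h2, smul_pow, ← Units.val_pow_eq_pow_val, hexp x hx, Units.val_one] at h3
      simpa using congrFun (congrFun h3 0) 0
    obtain ⟨a, ha, rfl⟩ := S.exists_code c
    have ha3 : cPow 5 a 3 = 1 := by
      refine S.cd_inj ?_ (by norm_num) (by rw [S.cd_pow, hc3, S.cd_one])
      exact S.cMul_lt _ _
    rcases cube_roots a ha ha3 with rfl | rfl | rfl
    · rw [S.cd_one, one_smul] at hyx
      exact absurd (Units.ext (by rw [Units.val_mul, Units.val_mul, hyx])) hxy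
    · exact ⟨x, hx, y, hy, hyx⟩
    · refine ⟨y, hy, x, hx, ?_⟩
      rw [hyx, S.cd_mul, ← hw, smul_smul, show w * (w * w) = w ^ 3 by ring, hw3, one_smul]
  have hXv : ∀ u, Z.val *ᵥ (X.val *ᵥ u) = w • (X.val *ᵥ (Z.val *ᵥ u)) := fun u => by
    rw [Matrix.mulVec_mulVec, hZX, Matrix.smul_mulVec, Matrix.mulVec_mulVec]
  have hZ3 : ∀ u, Z.val *ᵥ (Z.val *ᵥ (Z.val *ᵥ u)) = u := fun u => by
    have h1 := congrArg Units.val (hexp Z hZ)
    rw [Units.val_pow_eq_pow_val, Units.val_one] at h1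
    rw [Matrix.mulVec_mulVec, Matrix.mulVec_mulVec, ← pow_three', h1, Matrix.one_mulVec]
  have h3ne : (3 : F) ≠ 0 := by
    haveI := S.char
    intro h
    have : (5 : ℕ) ∣ 3 := (CharP.cast_eq_zero_iff F 5 3).1 (by exact_mod_cast h)
    norm_num at this
  obtain ⟨v, hv0, hvZ⟩ : ∃ v : Fin 3 → F, v ≠ 0 ∧ Z.val *ᵥ v = v := by
    have hXne : ∀ u, u ≠ 0 → X.val *ᵥ u ≠ 0 := fun u hu' h =>
      hu' (mv_inj X (h.trans (Matrix.mulVec_zero _).symm))
    by_contra hno
    push Not at hno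
    have hfix : ∀ u, Z.val *ᵥ u = u → u = 0 := fun u h => by_contra fun h0 => hno u h0 h
    let u : Fin 3 → F := Pi.single 0 1
    have e0 : u + Z.val *ᵥ u + Z.val *ᵥ (Z.val *ᵥ u) = 0 := hfix _ (by
      rw [Matrix.mulVec_add, Matrix.mulVec_add, hZ3]; abel)
    have hz1 : ∀ z, Z.val *ᵥ z = w • z → z = 0 := fun z hz => by
      by_contra hne
      refine hXne _ (hXne z hne) (hfix _ ?_)
      rw [hXv, hXv, hz]
      simp only [Matrix.mulVec_smul, smul_smul]
      rw [show w * (w * w) = w ^ 3 by ring, hw3, one_smul]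
    have hz2 : ∀ z, Z.val *ᵥ z = (w * w) • z → z = 0 := fun z hz => by
      by_contra hne
      refine hXne z hne (hfix _ ?_)
      rw [hXv, hz, Matrix.mulVec_smul, smul_smul, show w * (w * w) = w ^ 3 by ring, hw3, one_smul]
    have e1 : u + (w * w) • (Z.val *ᵥ u) + w • (Z.val *ᵥ (Z.val *ᵥ u)) = 0 := hz1 _ (by
      simp only [Matrix.mulVec_add, Matrix.mulVec_smul, hZ3, smul_add, smul_smul]
      rw [show w * (w * w) = 1 by linear_combination hw3, one_smul]
      abel)
    have e2 : u + w • (Z.val *ᵥ u) + (w * w) • (Z.val *ᵥ (Z.val *ᵥ u)) = 0 := hz2 _ (by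
      simp only [Matrix.mulVec_add, Matrix.mulVec_smul, hZ3, smul_add, smul_smul]
      rw [show w * w * w = 1 by linear_combination hw3, one_smul,
        show w * w * (w * w) = w by linear_combination w * hw3]
      abel)
    have := congrFun e0 0
    have h1 := congrFun e1 0
    have h2 := congrFun e2 0
    have hu0 : u 0 = 1 := by simp [u]
    simp only [Pi.add_apply, Pi.smul_apply, smul_eq_mul, Pi.zero_apply] at this h1 h2
    exact h3ne (by linear_combination this + h1 + h2 -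
      ((Z.val *ᵥ u) 0 + (Z.val *ᵥ (Z.val *ᵥ u)) 0) * hsum - 3 * hu0)
  let vs : Fin 3 → Fin 3 → F := fun i => (X.val ^ i.val) *ᵥ v
  have hX3 : X.val ^ 3 = 1 := by
    rw [← Units.val_pow_eq_pow_val, hexp X hX, Units.val_one]
  have hvsZ : ∀ i, Z.val *ᵥ vs i = w ^ i.val • vs i := by
    have key : ∀ k : ℕ, Z.val *ᵥ ((X.val ^ k) *ᵥ v) = w ^ k • ((X.val ^ k) *ᵥ v) := fun k => by
      induction k with
      | zero => simp [hvZ]
      | succ k ih =>
        rw [pow_succ', ← Matrix.mulVec_mulVec, hXv, ih, Matrix.mulVec_smul, smul_smul, pow_succ' w]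
    exact fun i => key i.val
  have hiso : ∀ g ∈ R, ∀ a b, f (g.val *ᵥ a) (g.val *ᵥ b) = f a b := fun g hg a b => hRU hg a b
  have horth : ∀ i j, i ≠ j → f (vs i) (vs j) = 0 := by
    intro i j hij
    have h1 := hiso Z hZ (vs i) (vs j)
    rw [hvsZ, hvsZ, hu.smul_left, Transvec.Herm.smul_right hu, hσ, ← pow_mul] at h1
    have h2 : (w ^ i.val * w ^ (j.val * 5) - 1) * f (vs i) (vs j) = 0 := by linear_combination h1
    refine (mul_eq_zero.1 h2).resolve_left fun h => ?_
    rw [← pow_add, sub_eq_zero] at h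
    have h3 : orderOf w = 3 := orderOf_eq_prime hw3 hw1
    have h4 := orderOf_dvd_of_pow_eq_one h
    rw [h3] at h4
    have := i.2; have := j.2
    exact hij (Fin.ext (by omega))
  have hind : Function.Injective fun a : Fin 3 → F => a 0 • vs 0 + a 1 • vs 1 + a 2 • vs 2 := by
    intro a b h
    have key : ∀ d : Fin 3 → F, d 0 • vs 0 + d 1 • vs 1 + d 2 • vs 2 = 0 → d = 0 := by
      intro d h0
      have h1 := congrArg (fun z => Z.val *ᵥ z) h0
      have h2 := congrArg (fun z => Z.val *ᵥ z) h1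
      simp only [Matrix.mulVec_add, Matrix.mulVec_smul, hvsZ, Matrix.mulVec_zero, smul_smul] at h1 h2
      simp only [Fin.val_zero, Fin.val_one, Fin.val_two, pow_zero, pow_one, mul_one] at h1 h2
      have hvne : ∀ i, vs i ≠ 0 := fun i h => by
        refine hv0 ?_
        have := congrArg (fun z => (X.val ^ (3 - i.val)) *ᵥ z) h
        simpa [vs, Matrix.mulVec_mulVec, ← pow_add, Nat.sub_add_cancel i.2.le, hX3] using this
      funext i
      have hvi : ∀ k : Fin 3, (3 : F) • (d k • vs k) = 0 → d k = 0 := fun k hk =>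
        ((smul_eq_zero.1 ((smul_eq_zero.1 hk).resolve_left h3ne)).resolve_right (hvne k))
      fin_cases i
      · refine hvi 0 ?_
        funext k
        have a0 := congrFun h0 k; have a1 := congrFun h1 k; have a2 := congrFun h2 k
        simp only [Pi.add_apply, Pi.smul_apply, Pi.zero_apply, smul_eq_mul] at a0 a1 a2 ⊢
        linear_combination a0 + a1 + a2 - (d 1 * vs 1 k + d 2 * vs 2 k) * hsum - d 2 * w * vs 2 k * hw3
      · refine hvi 1 ?_
        funext k
        have a0 := congrFun h0 k; have a1 := congrFun h1 k; have a2 := congrFun h2 k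
        simp only [Pi.add_apply, Pi.smul_apply, Pi.zero_apply, smul_eq_mul] at a0 a1 a2 ⊢
        linear_combination a0 + w ^ 2 * a1 + w * a2 - (d 0 * vs 0 k) * hsum -
          (2 * (d 1 * vs 1 k) + d 2 * w * vs 2 k * (1 + w)) * hw3 - (d 2 * vs 2 k) * hsum - d 2 * vs 2 k * w ^ 2 * hw3 + d 2 * vs 2 k * w ^ 2 * hw3
      · refine hvi 2 ?_
        funext k
        have a0 := congrFun h0 k; have a1 := congrFun h1 k; have a2 := congrFun h2 k
        simp only [Pi.add_apply, Pi.smul_apply, Pi.zero_apply, smul_eq_mul] at a0 a1 a2 ⊢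
        linear_combination a0 + w * a1 + w ^ 2 * a2 - (d 0 * vs 0 k + d 1 * vs 1 k) * hsum -
          (d 1 * vs 1 k * w + d 2 * vs 2 k * (2 + w ^ 3)) * hw3
    refine sub_eq_zero.1 (key (a - b) ?_)
    simp only [Pi.sub_apply, sub_smul]
    rw [show (a 0 • vs 0 - b 0 • vs 0) + (a 1 • vs 1 - b 1 • vs 1) + (a 2 • vs 2 - b 2 • vs 2) =
      (a 0 • vs 0 + a 1 • vs 1 + a 2 • vs 2) - (b 0 • vs 0 + b 1 • vs 1 + b 2 • vs 2) by abel]
    exact sub_eq_zero.2 h
  set d₀ := f v v with hd₀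
  have hdiag : ∀ i, f (vs i) (vs i) = d₀ := by
    have key : ∀ k : ℕ, f ((X.val ^ k) *ᵥ v) ((X.val ^ k) *ᵥ v) = d₀ := fun k => by
      induction k with
      | zero => simp [hd₀]
      | succ k ih => rw [pow_succ', ← Matrix.mulVec_mulVec, hiso X hX, ih]
    exact fun i => key i.val
  have hd0 : d₀ ≠ 0 := by
    intro h0
    obtain ⟨z, hz⟩ := (hu.nondegenerate v hv0).2
    obtain ⟨a, ha⟩ := (Finite.injective_iff_surjective.1 hind) z
    refine hz ?_
    have hvz : ∀ j, f (vs 0) (vs j) = 0 := fun j => by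
      by_cases h : (0 : Fin 3) = j
      · rw [← h, hdiag, h0]
      · exact horth 0 j h
    have hv' : vs 0 = v := by simp [vs]
    rw [← ha, ← hv']
    simp only [Transvec.Herm.add_right hu, Transvec.Herm.smul_right hu, hvz, mul_zero, add_zero]
  obtain ⟨l, hl⟩ := S.exists_norm (show d₀ ^ 5 = d₀ by rw [← hσ]; exact Transvec.Herm.self_fixed hu v)
  let ws : Fin 3 → Fin 3 → F := fun i => l⁻¹ • vs i
  have hll : l⁻¹ * σ l⁻¹ = d₀⁻¹ := by rw [map_inv₀, hσ, ← mul_inv, hl]
  have hww : ∀ i j, f (ws i) (ws j) = if i = j then 1 else 0 := fun i j => by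
    rw [hu.smul_left, Transvec.Herm.smul_right hu, ← mul_assoc, hll]
    by_cases h : i = j
    · rw [if_pos h, h, hdiag, inv_mul_cancel₀ hd0]
    · rw [if_neg h, horth i j h, mul_zero]
  obtain ⟨Q, hQG, hQe, hQm⟩ := exists_frame_gl hu hσ ws hww
  have hXQ : (Q⁻¹ * X * Q).val = cm 5 s xR := by
    ext i j
    rw [hQm]
    have hXw : mv X (ws j) = ws (j + 1) := by
      show X.val *ᵥ (l⁻¹ • ((X.val ^ j.val) *ᵥ v)) = l⁻¹ • ((X.val ^ (j + 1).val) *ᵥ v)
      rw [Matrix.mulVec_smul, Matrix.mulVec_mulVec, ← pow_succ']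
      fin_cases j
      · rfl
      · rfl
      · show l⁻¹ • ((X.val ^ 3) *ᵥ v) = l⁻¹ • ((X.val ^ 0) *ᵥ v)
        rw [hX3, pow_zero]
    show f (mv X (ws j)) (ws i) = _
    rw [hXw, hww]
    fin_cases i <;> fin_cases j <;> simp [cm, cv, xR, S.cd_zero, S.cd_one]
  have hZQ : (Q⁻¹ * Z * Q).val = cm 5 s zR := by
    ext i j
    rw [hQm]
    have hZw : mv Z (ws j) = w ^ j.val • ws j := by
      show Z.val *ᵥ (l⁻¹ • vs j) = _
      rw [Matrix.mulVec_smul, hvsZ, smul_comm]
    have hz2 : cd 5 s zR.2.2.2.2 = w ^ 2 := by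
      rw [hw, ← S.cd_pow]
      exact congrArg (cd 5 s) (by decide +kernel)
    have hz1 : cd 5 s zR.2.1.2.1 = w := by rw [hw]; exact congrArg (cd 5 s) (by decide +kernel)
    show f (mv Z (ws j)) (ws i) = _
    rw [hZw, hu.smul_left, hww]
    fin_cases i <;> fin_cases j <;> simp [cm, cv] <;>
      first | exact hz2.symm | exact hz1.symm | exact S.cd_one.symm | exact S.cd_zero.symm |
        simp [zR, S.cd_zero, S.cd_one]
  -- the group in the new coordinates
  set R' : Subgroup (GL (Fin 3) F) := R.map (MulAut.conj Q⁻¹).toMonoidHom with hR'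
  have hR'mem : ∀ g, g ∈ R → Q⁻¹ * g * Q ∈ R' := fun g hg => ⟨g, hg, by simp⟩
  have hsmallR : ∀ A ∈ listR, Small 5 A.1 ∧ Small 5 A.2.1 ∧ Small 5 A.2.2 := by
    intro A hA
    have h := listR_small
    simp only [List.all_eq_true, List.mem_cons, List.mem_nil_iff, or_false, Nat.blt_eq] at h
    have h' := h A hA
    exact ⟨⟨h' _ (by simp), h' _ (by simp), h' _ (by simp)⟩, ⟨h' _ (by simp), h' _ (by simp), h' _ (by simp)⟩,
      ⟨h' _ (by simp), h' _ (by simp), h' _ (by simp)⟩⟩
  have hpowX : ∀ (g : GL (Fin 3) F) (M : CM), g.val = cm 5 s M → ∀ k, (g ^ k).val = cm 5 s (cMPow 5 M k) :=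
    fun g M h k => by
      induction k with
      | zero => rw [pow_zero, Units.val_one, cMPow, S.cm_one]
      | succ k ih => rw [pow_succ, Units.val_mul, ih, h, S.cm_mul]; rfl
  set X' := Q⁻¹ * X * Q
  set Z' := Q⁻¹ * Z * Q
  have hW : ∃ g ∈ R', g.val = cm 5 s (cDiag 12 12 12) := by
    refine ⟨Z' * X' * Z'⁻¹ * X'⁻¹, R'.mul_mem (R'.mul_mem (R'.mul_mem (hR'mem Z hZ) (hR'mem X hX))
      (R'.inv_mem (hR'mem Z hZ))) (R'.inv_mem (hR'mem X hX)), ?_⟩
    have h1 : Z'.val * X'.val = cm 5 s (cDiag 12 12 12) * (X'.val * Z'.val) := by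
      rw [hXQ, hZQ, S.cm_mul, S.cm_mul, S.cm_mul]
      exact congrArg (cm 5 s) (by decide +kernel)
    rw [Units.val_mul, Units.val_mul, Units.val_mul, h1, mul_assoc, mul_assoc, ← Units.val_mul X' Z',
      ← Units.val_mul, ← Units.val_mul, show X' * Z' * (Z'⁻¹ * X'⁻¹) = 1 by group, Units.val_one, mul_one]
  obtain ⟨W', hW', hWv⟩ := hW
  have hin : ∀ A ∈ listR, ∃ g ∈ R', g.val = cm 5 s A := by
    intro A hA
    simp only [listR, List.mem_map, List.mem_range] at hA
    obtain ⟨i, hi, rfl⟩ := hA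
    refine ⟨W' ^ (i / 9) * (X' ^ (i / 3 % 3) * Z' ^ (i % 3)), R'.mul_mem (R'.pow_mem hW' _)
      (R'.mul_mem (R'.pow_mem (hR'mem X hX) _) (R'.pow_mem (hR'mem Z hZ) _)), ?_⟩
    rw [Units.val_mul, Units.val_mul, hpowX _ _ hWv, hpowX _ _ hXQ, hpowX _ _ hZQ, S.cm_mul, S.cm_mul]
    have hdiag : ∀ k < 3, cMPow 5 (cDiag 12 12 12) k = cDiag (cPow 5 12 k) (cPow 5 12 k) (cPow 5 12 k) := by
      decide +kernel
    rw [hdiag _ (by omega)]
  have hlist : ∀ g ∈ R', ∃ A ∈ listR, g.val = cm 5 s A := by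
    choose G hG hGv using hin
    let φ : {A // A ∈ listR} → R' := fun A => ⟨G A.1 A.2, hG A.1 A.2⟩
    have hinj : Function.Injective φ := fun A B h => Subtype.ext (S.cm_inj (hsmallR _ A.2) (hsmallR _ B.2) (by
      rw [← hGv A.1 A.2, ← hGv B.1 B.2]
      exact congrArg (fun g : R' => g.1.val) h))
    haveI : Fintype {A // A ∈ listR} := Fintype.subtype listR.toFinset (fun _ => List.mem_toFinset)
    have hcard : Nat.card R' = Nat.card {A // A ∈ listR} := by
      rw [hR', Subgroup.card_map_of_injective (MulEquiv.injective _), hR, Nat.card_eq_fintype_card,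
        Fintype.card_of_subtype listR.toFinset (fun _ => List.mem_toFinset),
        List.toFinset_card_of_nodup listR_nodup]
      rfl
    have hbij := (Nat.bijective_iff_injective_and_card φ).2 ⟨hinj, hcard.symm⟩
    intro g hg
    obtain ⟨⟨A, hA⟩, hA'⟩ := hbij.2 ⟨g, hg⟩
    refine ⟨A, hA, ?_⟩
    rw [← hGv A hA]
    exact congrArg (fun z : R' => z.1.val) hA'.symm
  have hnorm : ∀ g ∈ Geo.subgroupNormalizer R, ∀ r ∈ R', (Q⁻¹ * g * Q) * r * (Q⁻¹ * g * Q)⁻¹ ∈ R' := by
    rintro g hg _ ⟨r, hr, rfl⟩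
    refine ⟨g * r * g⁻¹, (Subgroup.mem_normalizer_iff.1 hg r).1 hr, ?_⟩
    simp [mul_assoc]
  refine false_of_overgroup (L := ptStab 5 s L36) (e := S.gl cR suR.2.2.1) (d := S.gl d36 suR.2.2.2.1)
    hQG hH ?_ ⟨S.mem_ptStab (S.gl_coe _ _) carriesR.2.2.1, S.gl_mem _ _⟩ ?_ (S.gl_mem _ _)
    (S.not_mem_ptStab (S.gl_coe _ _) moves36.1 moves36.2)
  · intro g hg
    rw [he] at hg
    set g' := Q⁻¹ * g * Q
    have hgG' := conj_mem_G hQG hg.2
    obtain ⟨A, hA, eA⟩ := hlist _ (hnorm g hg.1 _ (hR'mem X hX))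
    obtain ⟨B, hB, eB⟩ := hlist _ (hnorm g hg.1 _ (hR'mem Z hZ))
    have hrel : cMM 5 B A = cMM 5 (cDiag 12 12 12) (cMM 5 A B) := by
      refine S.cm_inj (S.cMM_small _ _) (S.cMM_small _ _) ?_
      rw [← S.cm_mul, ← S.cm_mul, ← S.cm_mul, ← eA, ← eB]
      have hw' : ∀ M : Matrix (Fin 3) (Fin 3) F, cm 5 s (cDiag 12 12 12) * M = w • M := fun M => by
        have : cm 5 s (cDiag 12 12 12) = w • (1 : Matrix (Fin 3) (Fin 3) F) := by
          ext i j
          fin_cases i <;> fin_cases j <;> simp [cm, cv, cDiag, S.cd_zero, hw]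
        rw [this, Matrix.smul_mul, one_mul]
      rw [hw', ← Units.val_mul, ← Units.val_mul]
      have h1 : Z'.val * X'.val = w • (X'.val * Z'.val) := by
        rw [← hw', hXQ, hZQ, S.cm_mul, S.cm_mul, S.cm_mul]
        exact congrArg (cm 5 s) (by decide +kernel)
      rw [show g' * Z' * g'⁻¹ * (g' * X' * g'⁻¹) = g' * (Z' * X') * g'⁻¹ by group,
        show g' * X' * g'⁻¹ * (g' * Z' * g'⁻¹) = g' * (X' * Z') * g'⁻¹ by group]
      simp only [Units.val_mul, h1, Matrix.mul_smul, Matrix.smul_mul]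
    have himg := pairs_covered A hA B hB hrel
    simp only [listImg, List.mem_map, Prod.mk.injEq] at himg
    obtain ⟨⟨N, i⟩, hN, eNA, eNB⟩ := himg
    have hNp := listN_unitary
    simp only [List.all_eq_true, Bool.and_eq_true, beq_iff_eq, Nat.blt_eq, Bool.or_eq_true, bne_iff_ne] at hNp
    obtain ⟨⟨⟨hNu, hNd⟩, hi3⟩, hNL⟩ := hNp _ hN
    have hNu' : cm 5 s (cStar 5 N) * cm 5 s N = 1 := by rw [S.cm_mul, hNu, S.cm_one]
    set z : Matrix (Fin 3) (Fin 3) F := cm 5 s (cStar 5 N) * g'.val with hz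
    have hcomm : ∀ (K : GL (Fin 3) F) (M : CM), K.val = cm 5 s M →
        (g' * K * g'⁻¹).val = cm 5 s (cMM 5 (cMM 5 N M) (cStar 5 N)) → z * cm 5 s M = cm 5 s M * z := by
      intro K M hK h
      rw [Units.val_mul, Units.val_mul, Units.mul_inv_eq_iff_eq_mul, hK, ← S.cm_mul, ← S.cm_mul] at h
      rw [hz, mul_assoc, h]
      simp only [← mul_assoc, hNu', one_mul]
    have hzX := hcomm X' xR hXQ (eA.trans (congrArg (cm 5 s) eNA.symm))
    have hzZ := hcomm Z' zR hZQ (eB.trans (congrArg (cm 5 s) eNB.symm))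
    have hzs : z = z 0 0 • 1 := by
      have hzx : cd 5 s zR.1.1 = 1 ∧ cd 5 s zR.2.1.2.1 = w ∧ cd 5 s zR.2.2.2.2 = w * w := by
        refine ⟨?_, congrArg (cd 5 s) (by decide +kernel), ?_⟩
        · rw [← S.cd_one (s := s)]; exact congrArg (cd 5 s) (by decide +kernel)
        · rw [hw, ← S.cd_mul]; exact congrArg (cd 5 s) (by decide +kernel)
      have hzd : cm 5 s zR = Matrix.diagonal ![1, w, w * w] := by
        ext i j
        obtain ⟨e0, e1, e2⟩ := hzx
        fin_cases i <;> fin_cases j <;> simp [cm, cv] <;>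
          first | exact e0 | exact e1 | exact e2 | simp [zR, S.cd_zero]
      rw [hzd] at hzZ
      have hoff : ∀ i j, z i j * (![1, w, w * w] j - ![1, w, w * w] i) = 0 := fun i j => by
        have h1 := congrFun (congrFun hzZ i) j
        rw [Matrix.mul_diagonal, Matrix.diagonal_mul] at h1
        linear_combination h1
      have hne2 : w * w ≠ 1 := fun h => hw1 (by linear_combination hw3 - w * h)
      have hne3 : w * w ≠ w := fun h => hw1 (mul_left_cancel₀ hw0 (by rw [h, mul_one]))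
      have hx01 := congrFun (congrFun hzX 1) 0
      have hx12 := congrFun (congrFun hzX 2) 1
      simp [cm, cv, xR, Matrix.mul_apply, Fin.sum_univ_three, S.cd_zero, S.cd_one] at hx01 hx12
      ext i j
      fin_cases i <;> fin_cases j <;> simp
      all_goals first
        | exact hx01 | exact (hx12.trans hx01)
        | (have := hoff 0 1; simp [sub_eq_zero, hw1] at this; exact this)
        | (have := hoff 0 2; simp [sub_eq_zero, hne2] at this; exact this)
        | (have := hoff 1 0; simp [sub_eq_zero, Ne.symm hw1] at this; exact this)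
        | (have := hoff 1 2; simp [sub_eq_zero, hne3] at this; exact this)
        | (have := hoff 2 0; simp [sub_eq_zero, Ne.symm hne2] at this; exact this)
        | (have := hoff 2 1; simp [sub_eq_zero, Ne.symm hne3] at this; exact this)
    set c := z 0 0 with hc'
    have hgN : g'.val = c • cm 5 s N := by
      have : cm 5 s N * z = g'.val := by
        rw [hz, ← mul_assoc, mul_eq_one_comm.1 hNu', one_mul]
      rw [← this, hzs, Matrix.mul_smul, mul_one]
    have hcn : c * c ^ 5 = 1 := by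
      have h1 : f (g'.val *ᵥ Pi.single 0 1) (g'.val *ᵥ Pi.single 0 1) = f (Pi.single 0 1) (Pi.single 0 1) :=
        hgG'.1 _ _
      rw [hgN, Matrix.smul_mulVec, hu.smul_left, Transvec.Herm.smul_right hu, hσ] at h1
      have h2 : f (cm 5 s N *ᵥ Pi.single 0 1) (cm 5 s N *ᵥ Pi.single 0 1) = 1 := by
        have h3 := congrFun (congrFun hNu' 0) 0
        rw [S.cm_star] at h3
        simp only [Matrix.mul_apply, Matrix.map_apply, Matrix.transpose_apply, Matrix.one_apply_eq,
          Fin.sum_univ_three] at h3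
        simp only [hf, hermForm, Matrix.mulVec_single_one, Matrix.col_apply, Fin.sum_univ_three]
        linear_combination h3
      rw [h2, mul_one] at h1
      rw [h1]
      simp [hf, hermForm, Fin.sum_univ_three]
    have hdet : c ^ 3 * cd 5 s (cPow 5 12 i) = 1 := by
      have h1 : g'.val.det = 1 := by
        rw [← Matrix.GeneralLinearGroup.val_det_apply, MonoidHom.mem_ker.1 hgG'.2, Units.val_one]
      rwa [hgN, Matrix.det_smul, Fintype.card_fin, S.cm_det, hNd] at h1
    obtain ⟨a, ha, hca⟩ := S.exists_code c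
    have hi0 : i = 0 := by
      have hn1 : cMul 5 a (cConj 5 a) = 1 := S.cd_inj (S.cMul_lt _ _) (by norm_num)
        (by rw [S.cd_mul, S.cd_conj, hca, hcn, S.cd_one])
      have hd1 : cMul 5 (cPow 5 a 3) (cPow 5 12 i) = 1 := S.cd_inj (S.cMul_lt _ _) (by norm_num)
        (by rw [S.cd_mul, S.cd_pow, hca, hdet, S.cd_one])
      interval_cases i
      · rfl
      · exact absurd hd1 ((det_not_cube a ha).resolve_right (fun h => h hn1))
      · exact absurd hd1 ((det_not_cube' a ha).resolve_right (fun h => h hn1))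
    obtain ⟨hNsu, hNc⟩ := hNL.resolve_left (fun h => h hi0)
    have hsc : (g' * (S.gl N hNsu)⁻¹).val = c • (1 : Matrix (Fin 3) (Fin 3) F) := by
      rw [Units.val_mul, hgN, ← S.gl_coe N hNsu, Matrix.smul_mul, Units.mul_inv]
    have h2 := Subgroup.mul_mem _ (scalar_mem_ptStab (p := 5) (s := s) (L := L36) hsc)
      (S.mem_ptStab (S.gl_coe N hNsu) hNc)
    rwa [inv_mul_cancel_right] at h2
  · intro hmem
    rw [he] at hmem
    have key : ∀ (K : GL (Fin 3) F) (M : CM), K ∈ R' → K.val = cm 5 s M →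
        cMM 5 (cMM 5 cR M) (cStar 5 cR) ∈ listR := by
      intro K M hK hKv
      have h1 := hnorm _ hmem.1 K hK
      simp only [mul_assoc, inv_mul_cancel_left, inv_mul_cancel, mul_one] at h1
      obtain ⟨A, hA, eA⟩ := hlist _ h1
      have : cMM 5 (cMM 5 cR M) (cStar 5 cR) = A := by
        refine S.cm_inj (S.cMM_small _ _) (hsmallR A hA) ?_
        rw [← eA, ← S.cm_mul, ← S.cm_mul, ← hKv]
        show (S.gl cR suR.2.2.1).val * K.val * ((S.gl cR suR.2.2.1)⁻¹).val = _
        simp [mul_assoc]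
      rw [this]; exact hA
    rcases cR_out with h | h
    · exact h (key X' xR (hR'mem X hX) hXQ)
    · exact h (key Z' zR (hR'mem Z hZ) hZQ)

end Field

end Cfsg.Agent.Aschbacher.UnitThree
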