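import Cfsg.Agent.Lib.Aschbacher.UnitThreeData
import Cfsg.Agent.Lib.Aschbacher.UnitFive
import Cfsg.Agent.Lib.Aschbacher.UnitSixField

/-!
The normalisers of cubic fields are not maximal in `SU₃(3)` and `SU₃(5)`.
-/

set_option autoImplicit false
set_option linter.style.haveILetI false

namespace Cfsg.Agent.Aschbacher.UnitThree

open scoped MatrixGroups Matrix
open Matrix

variable {F : Type*} [Field F] [Fintype F] {p : ℕ} {s : F}

/-- The centraliser of a cubic field closed under adjoints is cyclic of known order, and the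
normaliser is three times as large at most. -/
theorem field_data (S : Setup p F s) {K : Subalgebra F (Matrix (Fin 3) (Fin 3) F)}
    (hK : Geo.IsFieldSubalgebra 3 K) (hadj : Geo.IsAdjointClosedFor (hermForm 3 F p) K) :
    ∃ x : GL (Fin 3) F, orderOf x = p * p - p + 1 ∧
      x ∈ Geo.subalgebraNormalizer K ⊓ (GU 3 F p ⊓ Geo.specialLinear (Fin 3) F) ∧
      (∀ h ∈ Geo.subalgebraNormalizer K ⊓ (GU 3 F p ⊓ Geo.specialLinear (Fin 3) F),
        h * x * h⁻¹ ∈ Subgroup.zpowers x) ∧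
      Nat.card ↥(Geo.subalgebraNormalizer K ⊓ (GU 3 F p ⊓ Geo.specialLinear (Fin 3) F)) ∣
        3 * (p * p - p + 1) := by
  classical
  obtain ⟨σ, hσ, hu, -⟩ := UnitaryStd.exists_setup (n := 3) (q := p) S.card (by norm_num)
  obtain ⟨τ, hτ, hτinv, hτF⟩ := UnitSix.exists_adjoint hu hK hadj
  haveI : Nontrivial ↥K := ⟨⟨0, 1, fun h => zero_ne_one (congrArg Subtype.val h)⟩⟩
  have hfield : IsField ↥K :=
    { exists_pair_ne := exists_pair_ne _
      mul_comm := fun a b => Subtype.ext (hK.comm a a.2 b b.2)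
      mul_inv_cancel := fun {a} ha => by
        obtain ⟨b, hb, hab⟩ := hK.inv a a.2 fun h => ha (Subtype.ext h)
        exact ⟨⟨b, hb⟩, Subtype.ext hab⟩ }
  letI : Field ↥K := hfield.toField
  haveI : Finite ↥K := Finite.of_injective (fun k : ↥K => (k : Matrix (Fin 3) (Fin 3) F))
    Subtype.val_injective
  haveI : Fintype ↥K := Fintype.ofFinite _
  have hcardK : Fintype.card ↥K = (p ^ 3) ^ 2 := by
    rw [Module.card_eq_pow_finrank (K := F) (V := ↥K), S.card, hK.finrank_eq, ← pow_mul, ← pow_mul]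
  have hτne : τ ≠ RingEquiv.refl ↥K := by
    intro h
    obtain ⟨y, hy⟩ : ∃ y, σ y ≠ y := by
      by_contra h'; push Not at h'; exact hu.ne_refl (RingEquiv.ext h')
    have h1 := hτF y
    rw [h, RingEquiv.refl_apply] at h1
    exact hy ((algebraMap F ↥K).injective h1).symm
  have hpow : ∀ k : ↥K, τ k = k ^ p ^ 3 := by
    have hc : Nat.card (Transvec.Herm.fixedField τ) = p ^ 3 := by
      have h := Transvec.Herm.card_eq_sq hτne hτinv
      rw [Nat.card_eq_fintype_card, hcardK] at h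
      exact (Nat.pow_left_injective two_ne_zero h).symm
    intro k
    rw [← hc]
    exact Transvec.Herm.apply_eq_pow hτne hτinv k
  have hval : ∀ {a b : Matrix (Fin 3) (Fin 3) F}, (∀ u v, hermForm 3 F p u (a *ᵥ v) =
      hermForm 3 F p u (b *ᵥ v)) → a = b := by
    intro a b h
    refine Matrix.ext_of_mulVec_single fun i => ?_
    by_contra hne
    obtain ⟨u, hu'⟩ := (hu.nondegenerate _ (sub_ne_zero.2 hne)).1
    refine hu' ?_
    rw [sub_eq_add_neg, Transvec.Herm.add_right hu, ← neg_one_smul F (b *ᵥ _),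
      Transvec.Herm.smul_right hu, h, map_neg, map_one]
    ring
  have hiso : ∀ (g : GL (Fin 3) F) (k : ↥K), g.val = k.1 →
      (g ∈ GU 3 F p ↔ k ^ (p ^ 3 + 1) = 1) := by
    intro g k hg
    have h1 : k ^ (p ^ 3 + 1) = τ k * k := by rw [hpow]; exact pow_succ k _
    constructor
    · intro h
      rw [h1]
      refine Subtype.ext (hval fun u v => ?_)
      show hermForm 3 F p u (((τ k).1 * k.1) *ᵥ v) = hermForm 3 F p u ((1 : Matrix _ _ F) *ᵥ v)
      rw [← Matrix.mulVec_mulVec, ← hτ, Matrix.one_mulVec, ← hg]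
      exact h u v
    · intro h u v
      show hermForm 3 F p (g.val *ᵥ u) (g.val *ᵥ v) = hermForm 3 F p u v
      rw [hg, hτ, Matrix.mulVec_mulVec]
      rw [h1] at h
      rw [show (τ k).1 * k.1 = 1 from congrArg Subtype.val h, Matrix.one_mulVec]
  -- the whole space as a line over K
  let v₀ : Fin 3 → F := Pi.single 0 1
  let ev : ↥K →ₗ[F] (Fin 3 → F) :=
    { toFun := fun k => k.1 *ᵥ v₀
      map_add' := fun a b => Matrix.add_mulVec a.1 b.1 v₀
      map_smul' := fun c a => Matrix.smul_mulVec c a.1 v₀ }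
  have hevinj : Function.Injective ev := by
    refine (injective_iff_map_eq_zero ev).2 fun k hk => ?_
    by_contra hne
    have h1 : (k⁻¹ : ↥K).1 *ᵥ (k.1 *ᵥ v₀) = v₀ := by
      rw [Matrix.mulVec_mulVec, show (k⁻¹ : ↥K).1 * k.1 = 1 from
        congrArg Subtype.val (inv_mul_cancel₀ hne), Matrix.one_mulVec]
    rw [show k.1 *ᵥ v₀ = 0 from hk, Matrix.mulVec_zero] at h1
    exact one_ne_zero (α := F) (by simpa [v₀] using (congrFun h1 0).symm)
  have hevsurj : Function.Surjective ev :=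
    (LinearMap.injective_iff_surjective_of_finrank_eq_finrank
      (by rw [hK.finrank_eq, Module.finrank_pi, Fintype.card_fin])).1 hevinj
  have hdet : ∀ k : ↥K, k.1.det = Algebra.norm F k := by
    intro k
    let eE := LinearEquiv.ofBijective ev ⟨hevinj, hevsurj⟩
    have hL : Matrix.toLin' k.1 = (eE : ↥K →ₗ[F] (Fin 3 → F)) ∘ₗ (Algebra.lmul F ↥K k) ∘ₗ
        (eE.symm : (Fin 3 → F) →ₗ[F] ↥K) := by
      refine LinearMap.ext fun v => ?_
      obtain ⟨k', rfl⟩ := hevsurj v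
      rw [LinearMap.comp_apply, LinearMap.comp_apply, LinearEquiv.coe_coe, LinearEquiv.coe_coe,
        show eE.symm (ev k') = k' from eE.symm_apply_apply k', Matrix.toLin'_apply]
      show k.1 *ᵥ (k'.1 *ᵥ v₀) = (k.1 * k'.1) *ᵥ v₀
      rw [Matrix.mulVec_mulVec]
    rw [← LinearMap.det_toLin', hL, LinearMap.det_conj, Algebra.norm_apply]
  set N := ((p ^ 3) ^ 2 - 1) / (p ^ 2 - 1) with hN
  have hnorm : ∀ k : ↥K, algebraMap F ↥K k.1.det = k ^ N := fun k => by
    rw [hdet, FiniteField.algebraMap_norm_eq_pow, Nat.card_eq_fintype_card, Nat.card_eq_fintype_card,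
      hcardK, S.card]
  set m := p * p - p + 1 with hm
  have hnum : Nat.gcd (p ^ 3 + 1) N = m ∧ m ∣ (p ^ 3) ^ 2 - 1 ∧ 0 < m ∧ m ∣ p ^ 3 + 1 ∧ m ∣ N := by
    rcases S.small with rfl | rfl <;> norm_num [hN, hm]
  obtain ⟨hgcd, hmdvd, hm0, hm1, hm2⟩ := hnum
  obtain ⟨γ, hγ⟩ := IsCyclic.exists_generator (α := (↥K)ˣ)
  have hoγ : orderOf γ = (p ^ 3) ^ 2 - 1 := by
    rw [orderOf_eq_card_of_forall_mem_zpowers hγ, Nat.card_units, Nat.card_eq_fintype_card, hcardK]
  let em : (↥K)ˣ →* GL (Fin 3) F := Units.map K.val.toRingHom.toMonoidHom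
  have heminj : Function.Injective em := fun a b h =>
    Units.ext (Subtype.ext (congrArg Units.val h))
  set ξ : (↥K)ˣ := γ ^ (((p ^ 3) ^ 2 - 1) / m) with hξ
  have hoξ : orderOf ξ = m := by
    rw [hξ, orderOf_pow_of_dvd (by
      intro h0
      have h1 := Nat.div_mul_cancel hmdvd
      rw [h0, zero_mul] at h1
      rcases S.small with rfl | rfl <;> norm_num at h1) (by rw [hoγ]; exact Nat.div_dvd_of_dvd hmdvd), hoγ]
    exact Nat.div_div_self hmdvd (by rcases S.small with rfl | rfl <;> norm_num)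
  set x : GL (Fin 3) F := em ξ with hx
  have hox : orderOf x = m := by rw [hx, orderOf_injective em heminj, hoξ]
  have hξm : ∀ j, m ∣ j → (ξ : ↥K) ^ j = 1 := fun j hj => by
    rw [← Units.val_pow_eq_pow_val, orderOf_dvd_iff_pow_eq_one.1 (hoξ ▸ hj), Units.val_one]
  have hxG : x ∈ GU 3 F p ⊓ Geo.specialLinear (Fin 3) F := by
    refine ⟨(hiso x ξ.val rfl).2 (hξm _ hm1), MonoidHom.mem_ker.2 (Units.ext ?_)⟩
    rw [Matrix.GeneralLinearGroup.val_det_apply, Units.val_one]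
    refine (algebraMap F ↥K).injective ?_
    rw [map_one, show x.val = (ξ : ↥K).1 from rfl, hnorm, hξm _ hm2]
  -- elements commuting with K
  have hcent : ∀ z ∈ GU 3 F p ⊓ Geo.specialLinear (Fin 3) F,
      (∀ k : ↥K, z.val * k.1 = k.1 * z.val) → z ∈ Subgroup.zpowers x := by
    intro z hz hzc
    obtain ⟨k, hk⟩ := hevsurj (z.val *ᵥ v₀)
    have hzk : z.val = k.1 := by
      refine Matrix.ext_of_mulVec_single fun i => ?_
      obtain ⟨k', hk'⟩ := hevsurj (Pi.single i 1)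
      rw [← hk']
      show z.val *ᵥ (k'.1 *ᵥ v₀) = k.1 *ᵥ (k'.1 *ᵥ v₀)
      calc z.val *ᵥ (k'.1 *ᵥ v₀) = k'.1 *ᵥ (z.val *ᵥ v₀) := by
            rw [Matrix.mulVec_mulVec, hzc, Matrix.mulVec_mulVec]
        _ = k'.1 *ᵥ (k.1 *ᵥ v₀) := congrArg _ hk.symm
        _ = k.1 *ᵥ (k'.1 *ᵥ v₀) := by
            rw [Matrix.mulVec_mulVec, Matrix.mulVec_mulVec, hK.comm _ k.2 _ k'.2]
    have h1 := (hiso z k hzk).1 hz.1
    have h2 : k ^ N = 1 := by
      rw [← hnorm, ← hzk, ← Matrix.GeneralLinearGroup.val_det_apply, MonoidHom.mem_ker.1 hz.2,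
        Units.val_one, map_one]
    have hkm : k ^ m = 1 := hgcd ▸ pow_gcd_eq_one.2 ⟨h1, h2⟩
    haveI : NeZero m := ⟨hm0.ne'⟩
    have hpr : IsPrimitiveRoot ((ξ : (↥K)ˣ) : ↥K) m :=
      (hoξ ▸ IsPrimitiveRoot.orderOf ξ).map_of_injective (f := Units.coeHom ↥K) Units.val_injective
    obtain ⟨j, -, hj⟩ := hpr.eq_pow_of_pow_eq_one hkm
    refine ⟨(j : ℤ), ?_⟩
    show x ^ (j : ℤ) = z
    rw [zpow_natCast]
    refine Units.ext ?_
    rw [Units.val_pow_eq_pow_val, hzk, ← hj]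
    rfl
  -- the normaliser
  have hconjK : ∀ h ∈ Geo.subalgebraNormalizer K, ∀ k : ↥K, h.val * k.1 * (h⁻¹).val ∈ K :=
    fun h hh k => (hh k.1).1 k.2
  have hxK : ∀ k : ↥K, x.val * k.1 = k.1 * x.val := fun k => hK.comm _ ξ.val.2 _ k.2
  have hxH : x ∈ Geo.subalgebraNormalizer K := fun k => by
    constructor
    · intro hk
      rw [hxK ⟨k, hk⟩, mul_assoc, ← Units.val_mul, mul_inv_cancel, Units.val_one, mul_one]
      exact hk
    · intro hk
      have h2' := hxK ⟨_, hk⟩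
      simp only [mul_assoc, Units.inv_mul, mul_one] at h2'
      have h3 : (x.val * k * (x⁻¹).val : Matrix (Fin 3) (Fin 3) F) = k := by
        have h4 := congrArg (fun M => (x⁻¹).val * M) h2'
        simp only [← mul_assoc, Units.inv_mul, one_mul] at h4
        exact h4
      rwa [h3] at hk
  refine ⟨x, hox, ⟨hxH, hxG⟩, fun h hh => ?_, ?_⟩
  · refine hcent _ (Subgroup.mul_mem _ (Subgroup.mul_mem _ hh.2 hxG) (Subgroup.inv_mem _ hh.2))
      fun k => ?_
    rw [Units.val_mul, Units.val_mul]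
    exact hK.comm _ (hconjK h hh.1 ξ.val) _ k.2
  · set H := Geo.subalgebraNormalizer K ⊓ (GU 3 F p ⊓ Geo.specialLinear (Fin 3) F) with hHdef
    let mkAut : ↥H → (↥K ≃ₐ[F] ↥K) := fun h =>
      { toFun := fun k => ⟨h.1.val * k.1 * (h.1⁻¹).val, hconjK h.1 h.2.1 k⟩
        invFun := fun k => ⟨(h.1⁻¹).val * k.1 * h.1.val, by
          have := hconjK h.1⁻¹ (Subgroup.inv_mem _ h.2.1) k; rwa [inv_inv] at this⟩
        left_inv := fun k => Subtype.ext (by simp [mul_assoc])
        right_inv := fun k => Subtype.ext (by simp [mul_assoc])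
        map_mul' := fun a b => Subtype.ext (by simp [mul_assoc])
        map_add' := fun a b => Subtype.ext (by simp [mul_add, add_mul])
        commutes' := fun c => Subtype.ext (by
          simp [Algebra.algebraMap_eq_smul_one, Matrix.smul_mul, Matrix.mul_smul]) }
    let φ : ↥H →* (↥K ≃ₐ[F] ↥K) := MonoidHom.mk' mkAut fun a b =>
      AlgEquiv.ext fun k => Subtype.ext (by simp [mkAut, mul_assoc, Units.val_inv_eq_inv_val, Matrix.mul_inv_rev])
    have hker : φ.ker.map H.subtype ≤ Subgroup.zpowers x := by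
      rintro _ ⟨h, hh, rfl⟩
      refine hcent _ h.2.2 fun k => ?_
      have h1 := congrArg Subtype.val (DFunLike.congr_fun (MonoidHom.mem_ker.1 hh) k)
      change h.1.val * k.1 * (h.1⁻¹).val = k.1 at h1
      calc h.1.val * k.1 = h.1.val * k.1 * (h.1⁻¹).val * h.1.val := by
            rw [mul_assoc (h.1.val * k.1), Units.inv_mul, mul_one]
        _ = _ := by rw [h1]; rfl
    have hkerm : Nat.card φ.ker ∣ m := by
      rw [← Subgroup.card_map_of_injective (K := φ.ker) (f := H.subtype) H.subtype_injective, ← hox,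
        ← Nat.card_zpowers]
      exact Subgroup.card_dvd_of_le hker
    have hrange : Nat.card φ.range ∣ 3 := by
      exact (Subgroup.card_subgroup_dvd_card _).trans
        (dvd_of_eq ((IsGalois.card_aut_eq_finrank F ↥K).trans hK.finrank_eq))
    rw [Subgroup.card_eq_card_quotient_mul_card_subgroup φ.ker,
      Nat.card_congr (QuotientGroup.quotientKerEquivRange φ).toEquiv]
    exact Nat.mul_dvd_mul hrange hkerm

/-- An overgroup witness excludes a cubic field normaliser as a maximal subgroup. -/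
theorem field_not_maximal (S : Setup p F s) {K : Subalgebra F (Matrix (Fin 3) (Fin 3) F)}
    (hK : Geo.IsFieldSubalgebra 3 K) (hadj : Geo.IsAdjointClosedFor (hermForm 3 F p) K)
    {H : Subgroup (GL (Fin 3) F)}
    (hH : Geo.IsMaximalIn (GU 3 F p ⊓ Geo.specialLinear (Fin 3) F) H)
    (he : H = Geo.subalgebraNormalizer K ⊓ (GU 3 F p ⊓ Geo.specialLinear (Fin 3) F))
    (L : Subgroup (GL (Fin 3) F)) {a b c u : GL (Fin 3) F}
    (ha : a ∈ L ⊓ (GU 3 F p ⊓ Geo.specialLinear (Fin 3) F))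
    (hb : b ∈ L ⊓ (GU 3 F p ⊓ Geo.specialLinear (Fin 3) F))
    (hc : c ∈ L ⊓ (GU 3 F p ⊓ Geo.specialLinear (Fin 3) F))
    (hu : u ∈ L ⊓ (GU 3 F p ⊓ Geo.specialLinear (Fin 3) F))
    (hnle : ¬ GU 3 F p ⊓ Geo.specialLinear (Fin 3) F ≤ L)
    (hoa : orderOf a = 7) (hou : orderOf u = p * p - p + 1) (hua : u * a = a * u)
    (hba : b * a * b⁻¹ ∈ Subgroup.zpowers a) (hbu : b * u ≠ u * b)
    (hca : c * a * c⁻¹ ∉ Subgroup.zpowers a) : False := by
  classical
  obtain ⟨x₀, hox₀, hx₀H, hnorm₀, hcard⟩ := field_data S hK hadj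
  rw [← he] at hx₀H hnorm₀ hcard
  set m := p * p - p + 1 with hm
  have hm7 : 7 ∣ m ∧ 0 < m := by rcases S.small with rfl | rfl <;> norm_num [hm]
  set x := x₀ ^ (m / 7) with hx
  have hox : orderOf x = 7 := by
    rw [hx, orderOf_pow_of_dvd (by intro h0; have := Nat.div_mul_cancel hm7.1; rw [h0] at this; omega)
      (by rw [hox₀]; exact Nat.div_dvd_of_dvd hm7.1), hox₀]
    exact Nat.div_div_self hm7.1 (by omega)
  have hxH : x ∈ H := Subgroup.pow_mem _ hx₀H _
  have hnorm : ∀ h ∈ H, h * x * h⁻¹ ∈ Subgroup.zpowers x := by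
    intro h hh
    obtain ⟨j, hj⟩ := hnorm₀ h hh
    rw [hx, ← conj_pow, ← hj]
    show (x₀ ^ j) ^ (m / 7) ∈ _
    rw [← zpow_natCast (x₀ ^ j), ← _root_.zpow_mul, mul_comm, _root_.zpow_mul, zpow_natCast]
    exact Subgroup.zpow_mem _ (Subgroup.mem_zpowers _) _
  set G := GU 3 F p ⊓ Geo.specialLinear (Fin 3) F with hG
  have hxG : x ∈ G := hH.1.le hxH
  haveI : Fact (Nat.Prime 7) := ⟨by norm_num⟩
  have hsyl : ¬ 7 ^ 2 ∣ Nat.card (GL (Fin 3) F) := by
    rw [Matrix.card_GL_field, S.card]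
    rcases S.small with rfl | rfl <;> simp [Fin.prod_univ_three]
  obtain ⟨g, hg⟩ := UnitFive.zpowers_conj (G := ↥G) (p := 7)
    (fun h => hsyl (h.trans (Subgroup.card_subgroup_dvd_card G)))
    (x := ⟨x, hxG⟩) (a := ⟨a, ha.2⟩) (by rw [← hox, Subgroup.orderOf_mk]) (by rw [← hoa, Subgroup.orderOf_mk])
  set e : GL (Fin 3) F ≃* GL (Fin 3) F := MulAut.conj (g : GL (Fin 3) F) with he'
  have hea : ∀ y, y ∈ Subgroup.zpowers x ↔ e y ∈ Subgroup.zpowers a := by
    intro y
    have hg' : (Subgroup.zpowers x).map e.toMonoidHom = Subgroup.zpowers a := by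
      have h1 := congrArg (Subgroup.map G.subtype) hg
      rw [Subgroup.map_map, MonoidHom.map_zpowers, MonoidHom.map_zpowers] at h1
      rw [MonoidHom.map_zpowers]
      exact h1
    rw [← hg']
    exact (Subgroup.mem_map_iff_mem e.injective).symm
  have heG : ∀ y, y ∈ G ↔ e y ∈ G := fun y => by
    rw [he', MulAut.conj_apply, Subgroup.mul_mem_cancel_right _ (Subgroup.inv_mem _ g.2),
      Subgroup.mul_mem_cancel_left _ g.2]
  let N : Subgroup (GL (Fin 3) F) := Subgroup.normalizer (Subgroup.zpowers x : Set _) ⊓ G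
  have hconj : ∀ y ∈ G, y * x * y⁻¹ ∈ Subgroup.zpowers x → y ∈ N := by
    intro y hy hyx
    refine ⟨Subgroup.mem_normalizer_iff_map_conj_eq.2 ?_, hy⟩
    refine Subgroup.eq_of_le_of_card_ge ?_ ?_
    · rw [MonoidHom.map_zpowers, Subgroup.zpowers_le]
      exact hyx
    · rw [Subgroup.card_map_of_injective (MulEquiv.injective _)]
  have hxa : e.symm a ∈ Subgroup.zpowers x :=
    (hea _).2 (by rw [e.apply_symm_apply]; exact Subgroup.mem_zpowers a)
  rcases hH.2 N (fun h hh => hconj h (hH.1.le hh) (hnorm h hh)) inf_le_right with hN | hN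
  swap
  · have hc' : e.symm c ∈ N := hN ▸ (heG _).2 (by rw [e.apply_symm_apply]; exact hc.2)
    refine hca ?_
    have := (hea _).1 ((Subgroup.mem_normalizer_iff.1 hc'.1 _).1 hxa)
    simpa using this
  have hzH : ∀ y ∈ G, e y * a * (e y)⁻¹ ∈ Subgroup.zpowers a → y ∈ H := by
    intro y hy hya
    rw [← hN]
    refine hconj y hy ((hea _).2 ?_)
    obtain ⟨k, hk⟩ := (hea x).1 (Subgroup.mem_zpowers x)
    have hk' : a ^ k = e x := hk
    rw [map_mul, map_mul, map_inv, ← hk', ← conj_zpow]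
    exact Subgroup.zpow_mem _ hya k
  let L' : Subgroup (GL (Fin 3) F) := L.comap e.toMonoidHom ⊓ G
  have hmem : ∀ y : GL (Fin 3) F, y ∈ L → y ∈ G → e.symm y ∈ L' := fun y hyL hyG =>
    ⟨show e (e.symm y) ∈ L by rw [e.apply_symm_apply]; exact hyL,
      (heG _).2 (by rw [e.apply_symm_apply]; exact hyG)⟩
  have huH : e.symm u ∈ H := hzH _ ((heG _).2 (by rw [e.apply_symm_apply]; exact hu.2)) (by
    rw [e.apply_symm_apply, hua, mul_inv_cancel_right]; exact Subgroup.mem_zpowers a)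
  have hbH : e.symm b ∈ H := hzH _ ((heG _).2 (by rw [e.apply_symm_apply]; exact hb.2)) (by
    rw [e.apply_symm_apply]; exact hba)
  set I := H ⊓ L' with hI
  have hord : orderOf (e.symm u) = m := by rw [MulEquiv.orderOf_eq, hou]
  have hmI : m ∣ Nat.card ↥I := by
    rw [← hord, ← Subgroup.orderOf_mk (e.symm u) (show e.symm u ∈ I from ⟨huH, hmem u hu.1 hu.2⟩)]
    exact orderOf_dvd_natCard _
  have hI3 : Nat.card ↥I ∣ 3 * m :=
    (Subgroup.card_dvd_of_le inf_le_left).trans hcard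
  have hIne : Nat.card ↥I ≠ m := by
    intro hIm
    have hle : Subgroup.zpowers (e.symm u) ≤ I := Subgroup.zpowers_le.2 ⟨huH, hmem u hu.1 hu.2⟩
    have heq := Subgroup.eq_of_le_of_card_ge hle (by rw [hIm, Nat.card_zpowers, hord])
    have hbI : e.symm b ∈ Subgroup.zpowers (e.symm u) := heq ▸ ⟨hbH, hmem b hb.1 hb.2⟩
    obtain ⟨j, hj⟩ := hbI
    refine hbu (e.symm.injective ?_)
    rw [map_mul, map_mul, ← hj]
    exact (Commute.zpow_self _ j).eq
  have hH3 : Nat.card ↥H ≤ Nat.card ↥I := by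
    obtain ⟨j, hj⟩ := hmI
    have hj3 : j ∣ 3 := Nat.dvd_of_mul_dvd_mul_left hm7.2 (by rw [← hj, mul_comm m 3]; exact hI3)
    rcases (Nat.dvd_prime Nat.prime_three).1 hj3 with rfl | rfl
    · exact absurd (by rw [hj, mul_one]) hIne
    · rw [hj, mul_comm]
      exact Nat.le_of_dvd (Nat.mul_pos three_pos hm7.2) hcard
  have hHL : H ≤ L' := inf_eq_left.1 (Subgroup.eq_of_le_of_card_ge inf_le_left hH3)
  rcases hH.2 L' hHL inf_le_right with hL | hL
  · have hcH : e.symm c ∈ N := hN.symm ▸ (hL ▸ hmem c hc.1 hc.2)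
    refine hca ?_
    have := (hea _).1 ((Subgroup.mem_normalizer_iff.1 hcH.1 _).1 hxa)
    simpa using this
  · refine hnle fun y hy => ?_
    have : e.symm y ∈ L' := hL.symm ▸ (heG _).2 (by rw [e.apply_symm_apply]; exact hy)
    have h1 : e (e.symm y) ∈ L := this.1
    rwa [e.apply_symm_apply] at h1

lemma gl_zpow_witness (S : Setup p F s) {A B : CM} (hA : cSU p A = true) (hB : cSU p B = true) {k : ℕ}
    (h : cMM p B A = cMM p (cMPow p A k) B) :
    S.gl B hB * S.gl A hA * (S.gl B hB)⁻¹ ∈ Subgroup.zpowers (S.gl A hA) := by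
  refine ⟨(k : ℤ), ?_⟩
  show S.gl A hA ^ (k : ℤ) = _
  rw [zpow_natCast, eq_mul_inv_iff_mul_eq]
  refine Units.ext ?_
  have hpow : ∀ j, (S.gl A hA ^ j).val = cm p s (cMPow p A j) := fun j => by
    induction j with
    | zero => rw [pow_zero, Units.val_one, cMPow, S.cm_one]
    | succ j ih => rw [pow_succ, Units.val_mul, ih, S.gl_coe, S.cm_mul]; rfl
  rw [Units.val_mul, Units.val_mul, hpow, S.gl_coe, S.gl_coe, S.cm_mul, S.cm_mul, h]

lemma Setup.cm_inj (S : Setup p F s) {A B : CM}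
    (hA : Small p A.1 ∧ Small p A.2.1 ∧ Small p A.2.2)
    (hB : Small p B.1 ∧ Small p B.2.1 ∧ Small p B.2.2) (h : cm p s A = cm p s B) : A = B := by
  have e := fun i => congrFun h i
  have e0 := e 0; have e1 := e 1; have e2 := e 2
  simp [cm] at e0 e1 e2
  exact Prod.ext (S.cv_inj hA.1 hB.1 e0)
    (Prod.ext (S.cv_inj hA.2.1 hB.2.1 e1) (S.cv_inj hA.2.2 hB.2.2 e2))

lemma Setup.cMM_small (S : Setup p F s) (A B : CM) :
    Small p (cMM p A B).1 ∧ Small p (cMM p A B).2.1 ∧ Small p (cMM p A B).2.2 :=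
  ⟨⟨S.cDot_lt _ _, S.cDot_lt _ _, S.cDot_lt _ _⟩, ⟨S.cDot_lt _ _, S.cDot_lt _ _, S.cDot_lt _ _⟩,
    ⟨S.cDot_lt _ _, S.cDot_lt _ _, S.cDot_lt _ _⟩⟩

lemma gl_order (S : Setup p F s) {A : CM} (hA : cSU p A = true) {r : ℕ} [Fact r.Prime]
    (hs : Small p A.1 ∧ Small p A.2.1 ∧ Small p A.2.2)
    (h : cMPow p A r = cOne) (hne : A ≠ cOne) : orderOf (S.gl A hA) = r := by
  have hpow : ∀ j, (S.gl A hA ^ j).val = cm p s (cMPow p A j) := fun j => by
    induction j with
    | zero => rw [pow_zero, Units.val_one, cMPow, S.cm_one]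
    | succ j ih => rw [pow_succ, Units.val_mul, ih, S.gl_coe, S.cm_mul]; rfl
  refine orderOf_eq_prime (Units.ext (by rw [hpow, h, S.cm_one]; rfl)) fun h1 => hne ?_
  refine S.cm_inj hs ?_ (by rw [S.cm_one]; exact congrArg Units.val h1)
  rcases S.small with rfl | rfl <;> unfold Small <;> decide

lemma gl_not_zpow (S : Setup p F s) {A C : CM} (hA : cSU p A = true) (hC : cSU p C = true) {r : ℕ}
    (hr : orderOf (S.gl A hA) = r) (hr0 : 0 < r)
    (h : ∀ k < r, cMM p C A ≠ cMM p (cMPow p A k) C) :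
    S.gl C hC * S.gl A hA * (S.gl C hC)⁻¹ ∉ Subgroup.zpowers (S.gl A hA) := by
  intro hmem
  have hpow : ∀ j, (S.gl A hA ^ j).val = cm p s (cMPow p A j) := fun j => by
    induction j with
    | zero => rw [pow_zero, Units.val_one, cMPow, S.cm_one]
    | succ j ih => rw [pow_succ, Units.val_mul, ih, S.gl_coe, S.cm_mul]; rfl
  rw [← mem_powers_iff_mem_zpowers, Submonoid.mem_powers_iff] at hmem
  obtain ⟨k, hk⟩ := hmem
  rw [← pow_mod_orderOf, hr, eq_mul_inv_iff_mul_eq] at hk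
  have h1 := congrArg Units.val hk
  rw [Units.val_mul, Units.val_mul, hpow, S.gl_coe, S.gl_coe, S.cm_mul, S.cm_mul] at h1
  exact h _ (Nat.mod_lt _ hr0) (S.cm_inj (S.cMM_small _ _) (S.cMM_small _ _) h1).symm

/-- No cubic field normaliser is maximal in the special unitary group over nine elements. -/
theorem field_not_maximal_three (hF : Fintype.card F = 3 ^ 2)
    {K : Subalgebra F (Matrix (Fin 3) (Fin 3) F)} (hK : Geo.IsFieldSubalgebra 3 K)
    (hadj : Geo.IsAdjointClosedFor (hermForm 3 F 3) K) {H : Subgroup (GL (Fin 3) F)}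
    (hH : Geo.IsMaximalIn (GU 3 F 3 ⊓ Geo.specialLinear (Fin 3) F) H)
    (he : H = Geo.subalgebraNormalizer K ⊓ (GU 3 F 3 ⊓ Geo.specialLinear (Fin 3) F)) : False := by
  obtain ⟨s, S⟩ := exists_setup (Or.inl rfl) hF
  haveI : Fact (Nat.Prime 7) := ⟨by norm_num⟩
  have hA := su9.1
  have hB := su9.2.1
  have hC := su9.2.2.1
  have hD := su9.2.2.2
  have hord := gl_order S (r := 7) hA (by unfold Small; decide) rel9.1 rel9.2.1
  refine field_not_maximal S hK hadj hH he (ptStab 3 s L9) (a := S.gl a9 hA) (b := S.gl b9 hB)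
    (c := S.gl c9 hC) (u := S.gl a9 hA)
    ⟨S.mem_ptStab (S.gl_coe _ _) carries9.1, S.gl_mem _ _⟩
    ⟨S.mem_ptStab (S.gl_coe _ _) carries9.2.1, S.gl_mem _ _⟩
    ⟨S.mem_ptStab (S.gl_coe _ _) carries9.2.2, S.gl_mem _ _⟩
    ⟨S.mem_ptStab (S.gl_coe _ _) carries9.1, S.gl_mem _ _⟩
    (fun hle => S.not_mem_ptStab (S.gl_coe _ hD) moves9.1 moves9.2 (hle (S.gl_mem _ _)))
    hord hord rfl (gl_zpow_witness S hA hB rel9.2.2.2.2.1) ?_
    (gl_not_zpow S hA hC hord (by norm_num) rel9.2.2.2.2.2.2)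
  intro h
  refine rel9.2.2.2.2.2.1 (S.cm_inj (S.cMM_small _ _) (S.cMM_small _ _) ?_)
  rw [← S.cm_mul, ← S.cm_mul]
  exact congrArg Units.val h

/-- No cubic field normaliser is maximal in the special unitary group over twenty-five elements. -/
theorem field_not_maximal_five (hF : Fintype.card F = 5 ^ 2)
    {K : Subalgebra F (Matrix (Fin 3) (Fin 3) F)} (hK : Geo.IsFieldSubalgebra 3 K)
    (hadj : Geo.IsAdjointClosedFor (hermForm 3 F 5) K) {H : Subgroup (GL (Fin 3) F)}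
    (hH : Geo.IsMaximalIn (GU 3 F 5 ⊓ Geo.specialLinear (Fin 3) F) H)
    (he : H = Geo.subalgebraNormalizer K ⊓ (GU 3 F 5 ⊓ Geo.specialLinear (Fin 3) F)) : False := by
  obtain ⟨s, S⟩ := exists_setup (Or.inr rfl) hF
  haveI : Fact (Nat.Prime 7) := ⟨by norm_num⟩
  haveI : Fact (Nat.Prime 3) := ⟨Nat.prime_three⟩
  have hA := su25.1
  have hB := su25.2.1
  have hC := su25.2.2.1
  have hD := su25.2.2.2.1
  have hW : cSU 5 (cDiag 12 12 12) = true := by decide +kernel
  have hord := gl_order S (r := 7) hA (by unfold Small; decide) rel25.1 rel25.2.1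
  have hordW := gl_order S (r := 3) hW (by unfold Small; decide) (by decide +kernel) (by decide)
  have hWsc : (S.gl _ hW).val = cd 5 s 12 • (1 : Matrix (Fin 3) (Fin 3) F) := by
    rw [S.gl_coe]
    ext i j
    fin_cases i <;> fin_cases j <;> simp [cm, cv, cDiag, S.cd_zero]
  have hWc : ∀ g : GL (Fin 3) F, Commute (S.gl _ hW) g := fun g => Units.ext (by
    rw [Units.val_mul, Units.val_mul, hWsc]; simp)
  refine field_not_maximal S hK hadj hH he (ptStab 5 s L105) (a := S.gl a25 hA) (b := S.gl b25 hB)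
    (c := S.gl c25 hC) (u := S.gl a25 hA * S.gl _ hW)
    ⟨S.mem_ptStab (S.gl_coe _ _) carries25.1, S.gl_mem _ _⟩
    ⟨S.mem_ptStab (S.gl_coe _ _) carries25.2.1, S.gl_mem _ _⟩
    ⟨S.mem_ptStab (S.gl_coe _ _) carries25.2.2.1, S.gl_mem _ _⟩
    (Subgroup.mul_mem _ ⟨S.mem_ptStab (S.gl_coe _ _) carries25.1, S.gl_mem _ _⟩
      ⟨scalar_mem_ptStab hWsc, S.gl_mem _ _⟩)
    (fun hle => S.not_mem_ptStab (S.gl_coe _ hD) moves105.1 moves105.2 (hle (S.gl_mem _ _)))
    hord ?_ ?_ (gl_zpow_witness S hA hB rel25.2.2.2.2.1) ?_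
    (gl_not_zpow S hA hC hord (by norm_num) rel25.2.2.2.2.2.2)
  · rw [(hWc _).symm.orderOf_mul_eq_mul_orderOf_of_coprime (by rw [hord, hordW]; norm_num), hord, hordW]
  · rw [mul_assoc, (hWc _).eq]
  intro h
  refine rel25.2.2.2.2.2.1 (S.cm_inj (S.cMM_small _ _) (S.cMM_small _ _) ?_)
  rw [← S.cm_mul, ← S.cm_mul]
  refine congrArg Units.val (mul_right_cancel (b := S.gl _ hW) ?_ : S.gl b25 hB * S.gl a25 hA = S.gl a25 hA * S.gl b25 hB)
  rw [mul_assoc, h, mul_assoc, mul_assoc, (hWc _).eq]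

end Cfsg.Agent.Aschbacher.UnitThree
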